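import Cfsg.Agent.H46.J1Defs
import Cfsg.Agent.H46.TKit

/-! A standard subgroup of type `J₁`: the piece `JG0`. -/

set_option autoImplicit false
open scoped Pointwise commutatorElement
open Subgroup

namespace Cfsg.Agent.H12.S94G
open Cfsg.Agent.H8 Cfsg.Agent.H23.D2 Cfsg.Agent.H46.S94

universe u

local notation "C[" A "]" => Subgroup.centralizer (SetLike.coe A)
local notation "N[" A "]" => Subgroup.normalizer (SetLike.coe A)

variable {Γ : Type} [Group Γ] {G : Type u} [Group G] {φ : Γ →* G} {t : G} {O : Subgroup G}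
  {V : Subgroup Γ}

/-- the elements of `V⟨t⟩` -/
theorem mem_St (h : Cx φ t O) {x : G} (hx : x ∈ St1 (V.map φ) t) :
    ∃ v ∈ V, x = φ v ∨ x = t * φ v := by
  let S : Subgroup G :=
    { carrier := {x | ∃ v ∈ V, x = φ v ∨ x = t * φ v}
      one_mem' := ⟨1, V.one_mem, .inl (map_one φ).symm⟩
      mul_mem' := by
        rintro _ _ ⟨a, ha, rfl | rfl⟩ ⟨b, hb, rfl | rfl⟩ <;> refine ⟨a * b, V.mul_mem ha hb, ?_⟩
        · exact .inl (map_mul φ a b).symm
        · exact .inr (by rw [map_mul, ← mul_assoc, h.AC, mul_assoc])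
        · exact .inr (by rw [map_mul, mul_assoc])
        · exact .inl (by
            rw [map_mul, mul_assoc, ← mul_assoc (φ a), h.AC, ← mul_assoc, ← mul_assoc, h.tt,
              one_mul])
      inv_mem' := by
        rintro _ ⟨a, ha, rfl | rfl⟩ <;> refine ⟨a⁻¹, V.inv_mem ha, ?_⟩
        · exact .inl (map_inv φ a).symm
        · exact .inr (by rw [mul_inv_rev, h.tinv, ← map_inv, h.AC]) }
  have : St1 (V.map φ) t ≤ S := sup_le (by rintro _ ⟨v, hv, rfl⟩; exact ⟨v, hv, .inl rfl⟩)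
    (zpowers_le.2 ⟨1, V.one_mem, .inr (by rw [map_one, mul_one])⟩)
  exact this hx

/-- `N(V⟨t⟩)` normalises `V` -/
theorem N_le [Finite G] {F : Subgroup G} {z σ ρ : Γ} {L : Subgroup Γ}
    (c : C1 φ F t O z σ ρ V L) : N[St1 (V.map φ) t] ≤ N[V.map φ] := fun n hn =>
  mem_N_of (by
    rintro _ ⟨v, hv, rfl⟩
    obtain ⟨w, hw, e | e⟩ := mem_St c.cx (norm_conj hn (mem_sup_left (mem_map_of_mem φ hv)))
    · exact ⟨w, hw, e.symm⟩
    · obtain ⟨m, -, em⟩ := c.tr w hw
      refine absurd (isConj_iff.2 ⟨n⁻¹ * m, ?_⟩) (c.nc v)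
      calc n⁻¹ * m * t * (n⁻¹ * m)⁻¹ = n⁻¹ * (m * t * m⁻¹) * n := by group
        _ = φ v := by rw [em, ← e]; group)

theorem map_le [Finite G] (h : Cx φ t O) :
    (N[V]).map φ ≤ N[St1 (V.map φ) t] ⊓ centralizer {t} := by
  rintro _ ⟨a, ha, rfl⟩
  refine ⟨mem_N_of fun x hx => ?_, mem_centralizer_singleton_iff.2 (h.AC a)⟩
  obtain ⟨v, hv, rfl | rfl⟩ := mem_St h hx
  · rw [← map_inv, ← map_mul, ← map_mul]
    exact mem_sup_left (mem_map_of_mem φ (norm_conj ha hv))
  · rw [← mul_assoc, h.AC, mul_assoc, mul_assoc, ← map_inv, ← map_mul, ← map_mul, ← mul_assoc]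
    exact mul_mem (mem_sup_right (mem_zpowers t))
      (mem_sup_left (mem_map_of_mem φ (norm_conj ha hv)))

/-- **JG0** -/
theorem jg0 (hGL : GLStmt.{u}) : JG0Stmt.{u} := by
  intro Γ _ G _ _ φ F t O z σ ρ V L c hG
  have := c.jf.base.fin
  set H := N[St1 (V.map φ) t] with hH
  refine (hGL G H (V.map φ) ?_ (by rw [card_map_of_injective c.cx.inj, c.jf.cV]) (N_le c)).1 ?_
  · rintro _ ⟨v, hv, rfl⟩
    rw [← map_mul, c.jf.el v hv, map_one]
  have l1 : H ⊓ C[V.map φ] ≤ H ⊓ centralizer {t} := fun n hn =>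
    ⟨hn.1, mem_centralizer_singleton_iff.2 (hG n hn.1 hn.2)⟩
  have a1 : 21 ≤ (H ⊓ C[V.map φ]).relIndex (H ⊓ centralizer {t}) := by
    refine le_trans ?_ (relIndex_le_of_le_right (map_le c.cx) index_ne_zero_of_finite)
    rw [← relIndex_comap]
    have k : (H ⊓ C[V.map φ]).comap φ ≤ V := fun a ha => c.jf.CV (mem_C.2 fun v hv => c.cx.inj (by
      rw [map_mul, map_mul]
      exact mem_C.1 ha.2 _ (mem_map_of_mem φ hv)))
    refine le_trans ?_ (relIndex_le_of_le_left k index_ne_zero_of_finite)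
    have := card_eq_card_mul_relIndex (le_normalizer (H := V))
    rw [c.jf.cN, c.jf.cV] at this
    omega
  have a2 : 8 ≤ (H ⊓ centralizer {t}).relIndex H := by
    choose n hn en using c.tr
    rw [← c.jf.cV, relIndex, index]
    refine Nat.card_le_card_of_injective
      (fun v : V => (QuotientGroup.mk ⟨n v v.2, hn v v.2⟩ :
        H ⧸ (H ⊓ centralizer {t}).subgroupOf H)) fun v w e => Subtype.ext (c.cx.inj ?_)
    have k := mem_centralizer_singleton_iff.1 (QuotientGroup.eq.1 e).2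
    change (n v v.2)⁻¹ * n w w.2 * t = t * ((n v v.2)⁻¹ * n w w.2) at k
    refine mul_left_cancel (a := t) ?_
    rw [← en v v.2, ← en w w.2]
    calc n v v.2 * t * (n v v.2)⁻¹
        = n v v.2 * (t * ((n v v.2)⁻¹ * n w w.2)) * (n w w.2)⁻¹ := by group
      _ = _ := by rw [← k]; group
  rw [← relIndex_mul_relIndex _ _ _ l1 inf_le_left]
  exact Nat.mul_le_mul a1 a2

end Cfsg.Agent.H12.S94G
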