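import Mathlib
import Cfsg.Agent.H9.C3Defs
import Cfsg.Agent.H28.PSL2Small
import Cfsg.Agent.S0262

/-!
F1 of the project C3: `L₂(q)` with the order conditions has `q = 9`.
-/

set_option autoImplicit false

namespace Cfsg.Agent.H12.C3F1

open Subgroup Cfsg.Agent.H9.C3

universe u

/-- A group with the order conditions has no cyclic Sylow 3-subgroup. -/
theorem not_cyc {G : Type u} [Group G] [Finite G] (h : Cfsg.Agent.H9.C3.Ord G) (P : Sylow 3 G) :
    ¬ IsCyclic (P : Subgroup G) := by
  have : Fact (Nat.Prime 3) := ⟨Nat.prime_three⟩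
  intro hc
  obtain ⟨g, hg⟩ := hc.exists_generator
  have h1 : orderOf g = Nat.card (P : Subgroup G) := orderOf_eq_card_of_forall_mem_zpowers hg
  have h9 : 9 ∣ Nat.card (P : Subgroup G) := by
    rw [P.card_eq_multiplicity]
    have : 2 ≤ (Nat.card G).factorization 3 :=
      (Nat.prime_three.pow_dvd_iff_le_factorization Nat.card_pos.ne').1 (by simpa using h.d9)
    exact (pow_dvd_pow 3 this : 3 ^ 2 ∣ _)
  have h2 : orderOf (g : G) = orderOf g := Subgroup.orderOf_coe g
  have h3 : 9 ∣ orderOf (g : G) := by rw [h2, h1]; exact h9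
  rcases h.o6 g (dvd_trans (by norm_num) h3) with h4 | h4 <;> rw [h4] at h3 <;> omega

/-- The image of a group with cyclic Sylow 3-subgroups does not satisfy the order conditions. -/
theorem not_ord_of_surj {G : Type u} [Group G] [Finite G] (h : Cfsg.Agent.H9.C3.Ord G) {H : Type*} [Group H]
    [Finite H] (f : H →* G) (hf : Function.Surjective f)
    (hc : ∀ R : Sylow 3 H, IsCyclic (R : Subgroup H)) : False := by
  have : Fact (Nat.Prime 3) := ⟨Nat.prime_three⟩
  obtain ⟨R⟩ : Nonempty (Sylow 3 H) := inferInstance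
  apply not_cyc h (R.mapSurjective hf)
  have := hc R
  rw [Sylow.coe_mapSurjective]
  exact isCyclic_of_surjective (f.subgroupMap R) (f.subgroupMap_surjective R)

theorem f1 : F1Stmt.{u} := by
  intro G _ _ h F _ _ ⟨e⟩
  have : Fact (Nat.Prime 3) := ⟨Nat.prime_three⟩
  obtain ⟨p, hp⟩ := CharP.exists F
  obtain ⟨n, hpp, hn⟩ := FiniteField.card F p
  have : Fact p.Prime := ⟨hpp⟩
  by_cases h3 : p = 3
  · subst h3
    have hc := Cfsg.Agent.H28.card_PSL2 (F := F) rfl
    rw [← Nat.card_congr e.toEquiv] at hc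
    set q := Fintype.card F with hq
    have hq1 : 1 ≤ q := Fintype.card_pos
    have h3q : 3 ∣ q := by rw [hn]; exact dvd_pow_self 3 n.pos.ne'
    have hco : Nat.Coprime 3 (q ^ 2 - 1) := by
      rw [Nat.Prime.coprime_iff_not_dvd Nat.prime_three]
      intro hd
      have h1 : 3 ∣ q ^ 2 := dvd_pow h3q (by norm_num)
      have h2 : 1 ≤ q ^ 2 := Nat.one_le_pow _ _ hq1
      omega
    have hg : Nat.Coprime 3 (Nat.gcd 2 (q - 1)) :=
      Nat.Coprime.coprime_dvd_right (Nat.gcd_dvd_left _ _) (by norm_num)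
    have h9 : 3 ^ 2 ∣ q := by
      have : 3 ^ 2 ∣ q * (q ^ 2 - 1) := by
        rw [← hc]; exact Dvd.dvd.mul_left (by simpa using h.d9) _
      exact (Nat.Coprime.pow_left 2 hco).dvd_of_dvd_mul_right this
    have h27 : ¬ 3 ^ 3 ∣ q := by
      intro hd
      have : 3 ^ 3 ∣ Nat.gcd 2 (q - 1) * Nat.card G := by
        rw [hc]; exact Dvd.dvd.mul_right hd _
      exact h.n27 (by simpa using (Nat.Coprime.pow_left 3 hg).dvd_of_dvd_mul_left this)
    rw [hn] at h9 h27 ⊢
    rw [Nat.pow_dvd_pow_iff_le_right (by norm_num)] at h9 h27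
    have : (n : ℕ) = 2 := by omega
    rw [this]; norm_num
  · exfalso
    refine not_ord_of_surj h (H := Matrix.SpecialLinearGroup (Fin 2) F)
      (e.symm.toMonoidHom.comp (QuotientGroup.mk' _))
      (e.symm.surjective.comp (QuotientGroup.mk'_surjective _)) ?_
    exact Cfsg.Agent.S0262.result p 3 (by norm_num) (Ne.symm h3)

end Cfsg.Agent.H12.C3F1
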