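import Cfsg.Agent.H73.CVDefs

/-! Groups generated by an irreducible class of transvections: the basic tools (port of the quasisimple case). -/

set_option autoImplicit false
set_option linter.unusedSectionVars false
set_option linter.unusedSimpArgs false
set_option linter.style.haveILetI false

namespace Cfsg.Agent.H12.CvTp

open Matrix Cfsg.Geo H26 H25 H25.L45
open scoped MatrixGroups commutatorElement

universe u

variable {F : Type u} [Field F] {n : ℕ} {P : Subgroup (GL (Fin n) F)}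

/-- the standing hypotheses -/
structure CT (P : Subgroup (GL (Fin n) F)) : Prop where
  c : C6.CoreT P
  nine : (2 : F) = 0 → H73.CV.Pr P

namespace CT

section

variable (h : CT P) {T : (Fin n → F) → (Fin n → F) → Prop}
include h

theorem two_le : 2 ≤ n := h.c.two

theorem sl : P ≤ specialLinear (Fin n) F := h.c.sl

theorem irr : Irr P := irr_of_galg_eq_top h.c.top

theorem le_of_inv (hT : Inv P T) {Y : Subgroup (GL (Fin n) F)}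
    (hY : ∀ v φ, T v φ → Tv Y v φ) : P ≤ Y := h.c.gen T hT Y hY

theorem mem_scalars_of_mon {C : GL (Fin n) F}
    (hm : ∀ g ∈ P, IsMon (L45.cj C⁻¹ (g : Matrix (Fin n) (Fin n) F))) {g : GL (Fin n) F}
    (hg : g ∈ Xt P) {d : Fin n → F} (hd : L45.cj C⁻¹ g.1 = diagonal d) : g ∈ scalars (Fin n) F :=
  h.c.mon C hm g hg d hd

/-- subspaces invariant under the transvections -/
theorem eq_of_inv (hT : Inv P T) (W : Submodule F (Fin n → F))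
    (hW : ∀ v φ, T v φ → ∀ x ∈ W, φ ⬝ᵥ x ≠ 0 → v ∈ W) : W = ⊥ ∨ W = ⊤ := by
  have : P ≤ subspaceStabilizer W := h.le_of_inv hT fun v φ h1 =>
    Tv.of_mem (hT.tt v φ h1).2.2.1 (mem_stab_of_mapsTo fun x hx => by
      rw [tvGL_coe, tv_mulVec]
      by_cases e : φ ⬝ᵥ x = 0
      · simpa [e] using hx
      · exact W.add_mem hx (W.smul_mem _ (hW v φ h1 x hx e)))
  exact h.irr W fun g hg v hv => (mem_subspaceStabilizer.1 (this hg) v).1 hv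

theorem exists_centre (hT : Inv P T) {φ : Fin n → F} (hφ : φ ≠ 0) : ∃ x ξ, T x ξ ∧ φ ⬝ᵥ x ≠ 0 := by
  by_contra H
  push Not at H
  obtain ⟨v, ψ, h1⟩ := hT.ne
  rcases h.eq_of_inv hT (LinearMap.ker (dotProductBilin F F φ)) (fun x ξ h2 _ _ _ => H x ξ h2)
    with e | e
  · exact (hT.tt v ψ h1).1 ((Submodule.mem_bot F).1 (e ▸ H v ψ h1))
  · exact hφ (dotProduct_eq_zero _ fun x =>
      (e ▸ Submodule.mem_top : x ∈ LinearMap.ker (dotProductBilin F F φ)))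

theorem exists_axis (hT : Inv P T) {w : Fin n → F} (hw : w ≠ 0) : ∃ x ξ, T x ξ ∧ ξ ⬝ᵥ w ≠ 0 := by
  by_contra H
  push Not at H
  rcases h.eq_of_inv hT (F ∙ w) (fun x ξ h2 y hy e => by
    obtain ⟨c, rfl⟩ := Submodule.mem_span_singleton.1 hy
    simp [H x ξ h2] at e) with e | e
  · exact hw (Submodule.span_singleton_eq_bot.1 e)
  · have := finrank_span_singleton (K := F) hw
    have h2 := h.two_le
    rw [e] at this
    simp at this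
    omega

/-- there are opposite transvections -/
theorem opp (hT : Inv P T) {w φ : Fin n → F} (hw : w ≠ 0) (hφ : φ ≠ 0) :
    ∃ x ξ, T x ξ ∧ φ ⬝ᵥ x ≠ 0 ∧ ξ ⬝ᵥ w ≠ 0 := by
  by_contra H
  push Not at H
  obtain ⟨x, ξ, h1, h2⟩ := h.exists_centre hT hφ
  let S : Set (Fin n → F) := {y | y = w ∨ ∃ η, T y η ∧ η ⬝ᵥ w ≠ 0}
  have k1 : ∀ x ξ, T x ξ → φ ⬝ᵥ x ≠ 0 → ∀ y ∈ Submodule.span F S, ξ ⬝ᵥ y = 0 := by
    intro x ξ h1 h2
    refine Submodule.span_le (p := LinearMap.ker (dotProductBilin F F ξ)).2 ?_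
    rintro y (rfl | ⟨η, h3, h4⟩)
    · exact H x ξ h1 h2
    · have h5 : φ ⬝ᵥ y = 0 := by
        by_contra e
        exact h4 (H y η h3 e)
      have := H _ _ (hT.conj_tv h1 (hT.tt _ _ h3).2.2) (by simpa [h5] using h2)
      simpa [H x ξ h1 h2, h4] using this
  rcases h.eq_of_inv hT (Submodule.span F S) (fun z ζ h3 y hy e => by
    by_cases e1 : ζ ⬝ᵥ w = 0
    · obtain ⟨y, hy, e⟩ : ∃ y ∈ S, ζ ⬝ᵥ y ≠ 0 := by
        by_contra H'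
        push Not at H'
        exact e (Submodule.span_le (p := LinearMap.ker (dotProductBilin F F ζ)).2 H' hy)
      rcases hy with rfl | ⟨η, h4, h5⟩
      · exact absurd e1 e
      have h6 : y + (ζ ⬝ᵥ y) • z ∈ Submodule.span F S := Submodule.subset_span
        (Or.inr ⟨_, hT.conj_tv h4 (hT.tt _ _ h3).2.2, by simpa [e1] using h5⟩)
      have h7 : y ∈ Submodule.span F S := Submodule.subset_span (Or.inr ⟨η, h4, h5⟩)
      exact (Submodule.smul_mem_iff _ e).1 ((Submodule.add_mem_iff_right _ h7).1 h6)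
    · exact Submodule.subset_span (Or.inr ⟨ζ, h3, e1⟩)) with e | e
  · exact hw ((Submodule.mem_bot F).1 (e ▸ Submodule.subset_span (Or.inl rfl)))
  · exact (hT.tt _ _ h1).2.1 (dotProduct_eq_zero _ fun y => k1 x ξ h1 h2 y (e ▸ trivial))

end

section

variable (h : CT P)
include h

theorem rtg_axis {v v' φ : Fin n → F} (h1 : TT P v φ) (h2 : TT P v' φ) :
    Relation.ReflTransGen (Op P) (v, φ) (v', φ) := by
  have hT := inv_tt ⟨v, φ, h1⟩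
  obtain ⟨x, ξ, a1, a2, a3⟩ := h.opp hT h1.1 h1.2.1
  obtain ⟨y, η, b1, b2, b3⟩ := h.opp hT h2.1 h1.2.1
  by_cases e1 : ξ ⬝ᵥ v' = 0
  swap
  · exact .tail (.single (b := (x, ξ)) ⟨h1.2.2, a1.2.2, a2, a3⟩) ⟨a1.2.2, h2.2.2, e1, a2⟩
  by_cases e2 : η ⬝ᵥ v = 0
  swap
  · exact .tail (.single (b := (y, η)) ⟨h1.2.2, b1.2.2, b2, e2⟩) ⟨b1.2.2, h2.2.2, b3, b2⟩
  obtain ⟨x', c1, c2, c3⟩ : ∃ x', Tv P x' ξ ∧ φ ⬝ᵥ x' ≠ 0 ∧ η ⬝ᵥ x' ≠ 0 := by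
    by_cases e : η ⬝ᵥ x = 0
    · exact ⟨_, by simpa [e1] using a1.2.2.conj_tv h2.2.2, by simpa [h2.2.2.1] using a2,
        by simp [e, a2, b3]⟩
    · exact ⟨x, a1.2.2, a2, e⟩
  obtain ⟨y', d1, d2, d3⟩ : ∃ y', Tv P y' η ∧ φ ⬝ᵥ y' ≠ 0 ∧ ξ ⬝ᵥ y' ≠ 0 := by
    by_cases e : ξ ⬝ᵥ y = 0
    · exact ⟨_, by simpa [e2] using b1.2.2.conj_tv h1.2.2, by simpa [h1.2.2.1] using b2,
        by simp [e, b2, a3]⟩
    · exact ⟨y, b1.2.2, b2, e⟩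
  exact .tail (.tail (.single (b := (x', ξ)) ⟨h1.2.2, c1, c2, a3⟩) (c := (y', η))
    ⟨c1, d1, d3, c3⟩) ⟨d1, h2.2.2, b3, d2⟩

theorem rtg_centre {v φ φ' : Fin n → F} (h1 : TT P v φ) (h2 : TT P v φ') :
    Relation.ReflTransGen (Op P) (v, φ) (v, φ') := by
  have hT := inv_tt ⟨v, φ, h1⟩
  obtain ⟨x, ξ, a1, a2, a3⟩ := h.opp hT h1.1 h1.2.1
  obtain ⟨y, η, b1, b2, b3⟩ := h.opp hT h1.1 h2.2.1
  by_cases e1 : φ' ⬝ᵥ x = 0
  swap
  · exact .tail (.single (b := (x, ξ)) ⟨h1.2.2, a1.2.2, a2, a3⟩) ⟨a1.2.2, h2.2.2, a3, e1⟩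
  by_cases e2 : φ ⬝ᵥ y = 0
  swap
  · exact .tail (.single (b := (y, η)) ⟨h1.2.2, b1.2.2, e2, b3⟩) ⟨b1.2.2, h2.2.2, b3, b2⟩
  obtain ⟨ξ', c1, c2, c3⟩ : ∃ ξ', Tv P x ξ' ∧ ξ' ⬝ᵥ v ≠ 0 ∧ ξ' ⬝ᵥ y ≠ 0 := by
    by_cases e : ξ ⬝ᵥ y = 0
    · exact ⟨_, by simpa [e1] using a1.2.2.conj_tv h2.2.2, by simpa [h2.2.2.1] using a3,
        by simp [e, a3, b2]⟩
    · exact ⟨ξ, a1.2.2, a3, e⟩
  obtain ⟨η', d1, d2, d3⟩ : ∃ η', Tv P y η' ∧ η' ⬝ᵥ v ≠ 0 ∧ η' ⬝ᵥ x ≠ 0 := by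
    by_cases e : η ⬝ᵥ x = 0
    · exact ⟨_, by simpa [e2] using b1.2.2.conj_tv h1.2.2, by simpa [h1.2.2.1] using b3,
        by simp [e, a2, b3]⟩
    · exact ⟨η, b1.2.2, b3, e⟩
  exact .tail (.tail (.single (b := (x, ξ')) ⟨h1.2.2, c1, a2, c2⟩) (c := (y, η'))
    ⟨c1, d1, c3, d3⟩) ⟨d1, h2.2.2, d2, b2⟩

/-- the graph of opposite transvections is connected -/
theorem rtg {v φ w ψ : Fin n → F} (h1 : TT P v φ) (h2 : TT P w ψ) :
    Relation.ReflTransGen (Op P) (v, φ) (w, ψ) := by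
  let Y : Subgroup (GL (Fin n) F) :=
    { carrier := {g | g ∈ P ∧ Relation.ReflTransGen (Op P) (v, φ) (act g (v, φ))}
      mul_mem' := fun {a b} ha hb => ⟨mul_mem ha.1 hb.1, ha.2.trans (act_mul a b _ ▸ rtg_act hb.2 ha.1)⟩
      one_mem' := ⟨one_mem _, by rw [act_one]⟩
      inv_mem' := fun {a} ha => ⟨inv_mem ha.1, rtg_symm (by
        have := rtg_act ha.2 (inv_mem ha.1)
        rwa [← act_mul, inv_mul_cancel, act_one] at this)⟩ }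
  have hY : P ≤ Y := h.le_of_inv (inv_tt ⟨v, φ, h1⟩) fun x ξ hx => Tv.of_mem hx.2.2.1 ⟨hx.2.2.mem, by
    have hT := (inv_tt ⟨v, φ, h1⟩).conj_tv h1 hx.2.2
    have e : act (tvGL x ξ hx.2.2.1) (v, φ) = (v + (ξ ⬝ᵥ v) • x, φ - (φ ⬝ᵥ x) • ξ) := by
      simp only [act, tvGL_coe, tvGL_inv_coe, tv_mulVec, vecMul_tv, dotProduct_neg, neg_smul,
        ← sub_eq_add_neg]
    rw [e]
    by_cases e1 : φ ⬝ᵥ x = 0
    · simp only [e1, zero_smul, sub_zero] at hT ⊢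
      exact h.rtg_axis h1 hT
    by_cases e2 : ξ ⬝ᵥ v = 0
    · simp only [e2, zero_smul, add_zero] at hT ⊢
      exact h.rtg_centre h1 hT
    exact .tail (.single (b := (x, ξ)) ⟨h1.2.2, hx.2.2, e1, e2⟩)
      ⟨hx.2.2, hT.2.2, by simpa [hx.2.2.1] using e2, by simpa [hx.2.2.1] using e1⟩⟩
  obtain ⟨x, ξ, a1, a2, a3⟩ := h.opp (T := fun x ξ => TT P x ξ ∧
      Relation.ReflTransGen (Op P) (v, φ) (x, ξ)) ⟨fun _ _ h => h.1, fun g hg x ξ hx =>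
    ⟨hx.1.conj hg, (hY hg).2.trans (rtg_act hx.2 hg)⟩, v, φ, h1, .refl⟩ h2.1 h2.2.1
  exact a1.2.tail ⟨a1.1.2.2, h2.2.2, a3, a2⟩

theorem conn {Q : (Fin n → F) → (Fin n → F) → Prop} {v φ : Fin n → F} (h1 : TT P v φ) (h0 : Q v φ)
    (step : ∀ x ξ y η, Tv P x ξ → Tv P y η → ξ ⬝ᵥ y ≠ 0 → η ⬝ᵥ x ≠ 0 → Q x ξ → Q y η)
    {w ψ : Fin n → F} (h2 : TT P w ψ) : Q w ψ := by
  have key : ∀ b, Relation.ReflTransGen (Op P) (v, φ) b → Q b.1 b.2 := fun b hb => by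
    induction hb with
    | refl => exact h0
    | tail _ h3 ih => exact step _ _ _ _ h3.1 h3.2.1 h3.2.2.1 h3.2.2.2 ih
  exact key _ (h.rtg h1 h2)

/-- a transvection and its opposites generate -/
theorem le_of_opp {v φ : Fin n → F} (h1 : TT P v φ) {Y : Subgroup (GL (Fin n) F)} (h0 : Tv Y v φ)
    (hY : ∀ x ξ, Tv P x ξ → φ ⬝ᵥ x ≠ 0 → ξ ⬝ᵥ v ≠ 0 → Tv Y x ξ) : P ≤ Y := by
  refine h.le_of_inv (inv_tt ⟨v, φ, h1⟩) fun w ψ h2 => (h.conn (Q := fun v φ => Tv Y v φ ∧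
    ∀ x ξ, Tv P x ξ → φ ⬝ᵥ x ≠ 0 → ξ ⬝ᵥ v ≠ 0 → Tv Y x ξ) h1 ⟨h0, hY⟩ ?_ h2).1
  rintro v φ x ξ hv hx c1 c2 ⟨h0, hY⟩
  have hr := hY x ξ hx c1 c2
  refine ⟨hr, fun w ψ hw d1 d2 => ?_⟩
  by_cases e : φ ⬝ᵥ w + ξ ⬝ᵥ w * φ ⬝ᵥ x ≠ 0 ∧ ψ ⬝ᵥ v - ψ ⬝ᵥ x * ξ ⬝ᵥ v ≠ 0
  · exact tv_of_conj hr (hY _ _ (hw.conj_tv hx) (by simpa using e.1) (by simpa using e.2))
  by_cases e1 : φ ⬝ᵥ w ≠ 0 ∧ ψ ⬝ᵥ v ≠ 0
  · exact hY w ψ hw e1.1 e1.2
  refine tv_of_conj h0 (tv_of_conj hr (hY _ _ ((hw.conj_tv hv).conj_tv hx) ?_ ?_)) <;>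
    simp only [dotProduct_add, dotProduct_smul, sub_dotProduct, smul_dotProduct, smul_eq_mul,
      hv.1] <;> grind

end

section

variable (h : CT P) {v₀ φ₀ : Fin n → F} (h0 : TT P v₀ φ₀)
include h h0

theorem le_of_nbs {Y : Subgroup (GL (Fin n) F)}
    (hY : ∀ v θ (a : F), Nb P v₀ φ₀ v θ → Tv P (a • v) θ → Tv Y (a • v) θ) : P ≤ Y := by
  refine h.le_of_opp h0 (by simpa using hY v₀ φ₀ 1 (Or.inl ⟨rfl, rfl⟩) (by simpa using h0.2.2))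
    fun x ξ hx c1 c2 => ?_
  have e : ∀ Z : Subgroup (GL (Fin n) F), Tv Z ((-(ξ ⬝ᵥ v₀) * φ₀ ⬝ᵥ x) • (φ₀ ⬝ᵥ x)⁻¹ • x)
      ((-(ξ ⬝ᵥ v₀))⁻¹ • ξ) ↔ Tv Z x ξ := fun Z => by
    rw [← Tv.smul_iff, smul_smul, smul_smul, show (-(ξ ⬝ᵥ v₀))⁻¹ * (-(ξ ⬝ᵥ v₀) * φ₀ ⬝ᵥ x) *
      (φ₀ ⬝ᵥ x)⁻¹ = 1 by field_simp, one_smul]
  exact (e Y).1 (hY _ _ _ (Or.inr ⟨by simp [c1], by simp [c2], _, by simp [c1, c2], (e P).2 hx⟩)
    ((e P).2 hx))

theorem span_centres : Submodule.span F {v | ∃ θ, Nb P v₀ φ₀ v θ} = ⊤ := by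
  have : P ≤ subspaceStabilizer (Submodule.span F {v | ∃ θ, Nb P v₀ φ₀ v θ}) :=
    h.le_of_nbs h0 fun v θ a h1 h2 => Tv.of_mem h2.1 (mem_stab_of_mapsTo fun x hx => by
      rw [tvGL_coe, tv_mulVec]
      exact Submodule.add_mem _ hx (Submodule.smul_mem _ _ (Submodule.smul_mem _ _
        (Submodule.subset_span ⟨θ, h1⟩))))
  refine (h.irr _ fun g hg v hv => (mem_subspaceStabilizer.1 (this hg) v).1 hv).resolve_left
    fun e => h0.1 ((Submodule.mem_bot F).1 (e ▸ Submodule.subset_span ⟨φ₀, Or.inl ⟨rfl, rfl⟩⟩))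

theorem eq_zero_of_axes (x : Fin n → F) (hx : ∀ θ ∈ {θ | ∃ v, Nb P v₀ φ₀ v θ}, θ ⬝ᵥ x = 0) :
    x = 0 := by
  have : P ≤ subspaceStabilizer (F ∙ x) :=
    h.le_of_nbs h0 fun v θ a h1 h2 => Tv.of_mem h2.1 (mem_stab_of_mapsTo fun y hy => by
      obtain ⟨c, rfl⟩ := Submodule.mem_span_singleton.1 hy
      rw [tvGL_coe, tv_mulVec, dotProduct_smul, hx θ ⟨v, h1⟩]
      simpa using hy)
  by_contra hw
  rcases h.irr _ fun g hg v hv => (mem_subspaceStabilizer.1 (this hg) v).1 hv with e | e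
  · exact hw (Submodule.span_singleton_eq_bot.1 e)
  · have := finrank_span_singleton (K := F) hw
    have h2 := h.two_le
    rw [e] at this
    simp at this
    omega

/-- the invariant form -/
theorem exists_form {σ : F ≃+* F} (hσ : ∀ a, σ (σ a) = a)
    (hS : ∀ v θ w η, Nb P v₀ φ₀ v θ → Nb P v₀ φ₀ w η → θ ⬝ᵥ w = -σ (η ⬝ᵥ v))
    (ha : ∀ v θ (a : F), Nb P v₀ φ₀ v θ → Tv P (a • v) θ → σ a = a) :
    ∃ f, Sq σ (-1) f ∧ P ≤ isom f ∧ ∀ v θ, Nb P v₀ φ₀ v θ → ∀ x, f x v = θ ⬝ᵥ x := by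
  obtain ⟨b, hb, hu⟩ := exists_li_of_span (h.span_centres h0)
  choose β hβ using hb
  let B := (Matrix.of b)ᵀ
  have hB : IsUnit B := (isUnit_iff_isUnit_det _).2 (by rwa [det_transpose])
  have hB' : IsUnit (B.map σ).det := by
    have := RingHom.map_det (σ : F →+* F) B
    exact this ▸ ((isUnit_iff_isUnit_det _).1 hB).map (σ : F →+* F)
  let f := form σ ((Matrix.of β)ᵀ * (B.map σ)⁻¹)
  have hf : Sesq σ f := sesq_form _ _
  have sj : ∀ x, ∃ y, B *ᵥ y = x := mulVec_surjective_iff_isUnit.2 hB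
  have f1 : ∀ x y, f x (B *ᵥ y) = ∑ k, σ (y k) * β k ⬝ᵥ x := fun x y => by
    simp only [f]
    rw [form_mulVec_right, Matrix.mul_assoc, nonsing_inv_mul _ hB', Matrix.mul_one, form,
      mulVec_transpose, dotProduct_comm, ← dotProduct_mulVec]
    rfl
  have f2 : ∀ (θ y : Fin n → F), θ ⬝ᵥ B *ᵥ y = ∑ k, y k * θ ⬝ᵥ b k := fun θ y => by
    rw [dotProduct_mulVec, vecMul_transpose, dotProduct_comm]
    exact Finset.sum_congr rfl fun k _ => by rw [dotProduct_comm θ]; rfl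
  have f3 : ∀ v θ, Nb P v₀ φ₀ v θ → ∀ x, f x v = θ ⬝ᵥ x := fun v θ hv x => by
    obtain ⟨x, rfl⟩ := sj x
    obtain ⟨y, e⟩ := sj v
    rw [f2, ← e, f1]
    simp only [f2, Finset.mul_sum]
    rw [Finset.sum_comm]
    refine Finset.sum_congr rfl fun k _ => ?_
    rw [hS _ _ _ _ hv (hβ k), ← e, f2, map_sum, mul_neg, Finset.mul_sum, ← Finset.sum_neg_distrib]
    refine Finset.sum_congr rfl fun i _ => ?_
    rw [hS _ _ _ _ (hβ i) (hβ k), map_mul]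
    ring
  have f4 : ∀ x y, f x y = -1 * σ (f y x) := fun x y => by
    obtain ⟨x, rfl⟩ := sj x
    obtain ⟨y, rfl⟩ := sj y
    rw [f1, f1]
    simp only [f2, Finset.mul_sum, map_sum, map_mul, hσ]
    rw [Finset.sum_comm]
    refine Finset.sum_congr rfl fun k _ => Finset.sum_congr rfl fun i _ => ?_
    rw [hS _ _ _ _ (hβ i) (hβ k)]
    ring
  refine ⟨f, ⟨hσ, hf, f4, fun x hx => h.eq_zero_of_axes h0 x fun θ ⟨v, hv⟩ =>
    (f3 v θ hv x).symm.trans (hx v)⟩, h.le_of_nbs h0 fun v θ a h1 h2 =>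
      Tv.of_mem h2.1 (mem_isom.2 fun x y => ?_), f3⟩
  have e : a * θ ⬝ᵥ v = 0 := by simpa using h2.1
  simp only [tvGL_coe, tv_mulVec, hf.add_left, hf.add_right, hf.smul_left, hf.smul_right,
    f3 v θ h1, f4 v y, ha v θ a h1 h2]
  linear_combination (θ ⬝ᵥ x * σ (θ ⬝ᵥ y) * a) * e

/-- the rational structure -/
theorem realisable_of_nbs {F₁ : Subfield F}
    (hS : ∀ v θ w η, Nb P v₀ φ₀ v θ → Nb P v₀ φ₀ w η → θ ⬝ᵥ w ∈ F₁)
    (ha : ∀ v θ (a : F), Nb P v₀ φ₀ v θ → Tv P (a • v) θ → a ∈ F₁) :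
    RealisableOver F₁ (matrixSet P) := by
  obtain ⟨b, hb, hu⟩ := exists_li_of_span (h.span_centres h0)
  obtain ⟨β, hβ, hu'⟩ := exists_li_of_span (span_eq_top_of_dot (h.eq_zero_of_axes h0))
  choose b' hb' using hb
  choose β' hβ' using hβ
  let B : GL (Fin n) F := ((isUnit_iff_isUnit_det _).2 hu').unit
  let G : Matrix (Fin n) (Fin n) F₁ := Matrix.of fun i k => ⟨β i ⬝ᵥ b k, hS _ _ _ _ (hβ' i) (hb' k)⟩
  have hG : G.map F₁.subtype = B.1 * (Matrix.of b)ᵀ := rfl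
  have hG1 : IsUnit G.det := Ne.isUnit fun e => by
    have := RingHom.map_det F₁.subtype G
    rw [e, map_zero, RingHom.mapMatrix_apply, hG, det_mul, det_transpose] at this
    exact (hu'.mul hu).ne_zero this.symm
  have hG2 : (B⁻¹ : GL (Fin n) F).1 = (Matrix.of b)ᵀ * G⁻¹.map F₁.subtype := by
    rw [← Matrix.mul_one (B⁻¹ : GL (Fin n) F).1, ← Matrix.map_one F₁.subtype (map_zero _) (map_one _),
      ← mul_nonsing_inv G hG1, Matrix.map_mul, hG, ← Matrix.mul_assoc, ← Matrix.mul_assoc,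
      Units.inv_mul, Matrix.one_mul]
  have : P ≤ (emb F₁.subtype B⁻¹).range := h.le_of_nbs h0 fun v θ a h1 h2 => by
    let x : Fin n → F₁ := fun i => ⟨a * β i ⬝ᵥ v, mul_mem (ha _ _ _ h1 h2) (hS _ _ _ _ (hβ' i) h1)⟩
    let ξ : Fin n → F₁ := (fun k => ⟨θ ⬝ᵥ b k, hS _ _ _ _ h1 (hb' k)⟩) ᵥ* G⁻¹
    have e1 : F₁.subtype ∘ x = B.1 *ᵥ (a • v) := by
      funext i
      rw [mulVec_smul]
      rfl
    have e2 : F₁.subtype ∘ ξ = θ ᵥ* (B⁻¹ : GL (Fin n) F).1 := by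
      funext i
      rw [hG2, ← vecMul_vecMul, vecMul_transpose, Function.comp, RingHom.map_vecMul]
      exact congrArg (fun z => (z ᵥ* G⁻¹.map F₁.subtype) i) (funext fun k => dotProduct_comm θ (b k))
    have e3 : ξ ⬝ᵥ x = 0 := F₁.subtype.injective (by
      rw [RingHom.map_dotProduct, e1, e2, dot_conj, h2.1, map_zero])
    refine Tv.of_mem h2.1 ⟨tvGL x ξ e3, Units.ext ?_⟩
    have e4 : (GeneralLinearGroup.map F₁.subtype (tvGL x ξ e3)).1 =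
        1 + vecMulVec (F₁.subtype ∘ x) (F₁.subtype ∘ ξ) := by
      ext i j
      simp [tvGL_coe, vecMulVec_apply, one_apply, apply_ite]
    rw [emb_apply, Units.val_mul, Units.val_mul, e4, conj_tv _ _ (Units.mul_inv _), e1, e2,
      inv_mulVec_mulVec, inv_inv, vecMul_vecMul, Units.inv_mul, vecMul_one, tvGL_coe]
  refine ⟨B, ?_⟩
  rintro _ ⟨g, hg, rfl⟩ i j
  obtain ⟨x, rfl⟩ := this hg
  simp only [emb_apply, ← Units.val_mul, inv_inv, ← mul_assoc, mul_inv_cancel, one_mul,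
    mul_inv_cancel_right]
  exact (x i j).2

end

end CT

end Cfsg.Agent.H12.CvTp
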