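import Cfsg.Agent.H96.D4Defs

/-!
Rigidity of the reflection acting on `E` (Sylow subgroup of `³D₄(q)`).
-/

set_option autoImplicit false

namespace Cfsg.Agent.H12.D4R

open Cfsg.Agent.H97 Cfsg.Agent.H96.VB Cfsg.Agent.H96.CP Cfsg.Agent.H96.DF Subgroup
open scoped commutatorElement

universe u

variable {F K : Type u} [Field F] [Field K] [Algebra F K] {C : Tri F K}

/-- the norm is not additive -/
theorem N_nadd [Finite K] {c : F} (h : ∀ l l', C.N (l + l') * c = C.N l * c + C.N l' * c) :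
    c = 0 := by
  have : Finite F := Finite.of_injective _ (algebraMap F K).injective
  by_contra hc
  have hi : Function.Injective C.N := fun l l' e => by
    have h1 := h l (-l')
    rw [C.N_neg, e, ← add_mul, add_neg_cancel, zero_mul] at h1
    have h2 := C.N_eq_zero.1 ((mul_eq_zero.1 h1).resolve_right hc)
    rwa [add_neg_eq_zero] at h2
  have h1 := Nat.card_le_card_of_injective _ hi
  have h2 : 1 < Nat.card F := Finite.one_lt_card
  rw [C.card] at h1
  exact absurd h1 (not_le.2 (lt_self_pow₀ h2 (by norm_num)))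

theorem sh_nadd [Finite K] {x : K} (h : ∀ l l', C.sh (l + l') * x = C.sh l * x + C.sh l' * x) :
    x = 0 := by
  obtain ⟨f, hf⟩ := C.exists_not_fix
  by_contra hx
  have h1 := h 1 f
  rw [C.sh_add] at h1
  have h2 : C.cr 1 f = 0 := mul_right_cancel₀ hx (by linear_combination h1)
  obtain ⟨c, rfl, -⟩ := C.cr_eq_zero one_ne_zero h2
  exact hf (by simp)

theorem exists_norm_one [Finite K] : ∃ l : K, C.N l = 1 ∧ C.sh l ≠ 1 := by
  obtain ⟨f, hf⟩ := C.exists_not_fix
  have h0 : f ≠ 0 := fun e => hf (by simp [e])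
  have h1 : C.σ f ≠ 0 := by simpa using h0
  have h2 : C.σ (C.σ f) ≠ 0 := by simpa using h0
  refine ⟨C.σ f / f, Tri.inj (K := K) ?_, fun e => hf ?_⟩
  · rw [C.hN]
    simp only [map_div₀, C.σ3, map_one]
    field_simp
  · simp only [Tri.sh, map_div₀, C.σ3] at e
    field_simp at e
    exact e.symm

theorem W_comm {w g : U C} (hw : w ∈ W C) (hg : g ∈ E C) : w * g = g * w := by
  obtain ⟨_, _, _, _, _, _⟩ := g
  obtain ⟨_, _, _, _, _, _⟩ := w
  obtain rfl := mem_E.1 hg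
  obtain ⟨rfl, rfl, rfl, rfl⟩ := mem_W.1 hw
  d4e

theorem wb_tmap (l : K) {g : U C} (hg : g ∈ E C) : wb (tmap C l 1 g) = tmap C l 1 (wb g) := by
  obtain ⟨_, _, _, _, _, _⟩ := g
  obtain rfl := mem_E.1 hg
  simp only [wb, tmap]; d4e

theorem tmap_E (l : K) (m : F) {g : U C} (hg : g ∈ E C) : tmap C l m g ∈ E C := by
  simp [mem_E, tmap, mem_E.1 hg]

theorem wb4 {g : U C} (hg : g ∈ E C) : wb (wb (wb (wb g))) = g := by
  rw [wb_wb (wb_mem _), wb_wb hg, tmap_tmap]
  simpa using tmap_one C g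

/-- `f` preserves `Y` and is trivial on `Y / W` -/
def TY (f : U C → U C) : Prop := ∀ y ∈ Y C, f y ∈ Y C ∧ (f y).x = y.x

theorem TY.comp {f k : U C → U C} (hf : TY f) (hk : TY k) : TY fun g => f (k g) := fun y hy =>
  ⟨(hf _ (hk y hy).1).1, (hf _ (hk y hy).1).2.trans (hk y hy).2⟩

theorem ty_wb : TY (wb (C := C)) := fun y ⟨h1, h2, h3⟩ => by
  have h1 : y.t = 0 := h1
  simp [mem_Y, wb, h1, h3]

theorem ty_conj {e : U C} (he : e ∈ E C) : TY fun g => e * g * e⁻¹ := fun y hy => by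
  refine ⟨(nY (C := C)).conj_mem y hy e, ?_⟩
  obtain ⟨h1, h2, h3⟩ := mem_Y.1 hy
  simp [h1, h2, h3, mem_E.1 he]
  ring

theorem ty_of {n : MulAut (E C)} (h : TrY n) : TY (ext n) := fun y hy => by
  obtain ⟨h1, h2, h3⟩ := mem_Y.1 hy
  obtain ⟨k1, k2, k3, k4⟩ := mem_W.1 (h y hy)
  simp [h1, h2, h3] at k1 k2 k3 k4
  refine ⟨mem_Y.2 ⟨k1, k2, k3⟩, ?_⟩
  linear_combination k4

theorem mem_W_of {g k : U C} (hg : g.u = 0) (hk : k.u = 0) (ht : k.t = g.t) (hy : k.y = g.y)
    (hx : k.x = g.x) : g⁻¹ * k ∈ W C := by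
  simp [mem_W, hg, hk, ht, hy, hx]

/-- an endomorphism of `E` trivial on `W` and `Y / W` and commuting with the torus is trivial -/
theorem core [Finite K] {ζ : U C → U C} (hm : ∀ g ∈ E C, ∀ k ∈ E C, ζ (g * k) = ζ g * ζ k)
    (he : ∀ g ∈ E C, ζ g ∈ E C) (hw : ∀ w ∈ W C, ζ w = w) (hy : TY ζ)
    (ht : ∀ l : K, l ≠ 0 → ∀ g ∈ E C, ζ (tmap C l 1 g) = tmap C l 1 (ζ g)) :
    ∀ g ∈ E C, ζ g = g := by
  have xE : ∀ x, xx C x ∈ E C := fun _ => rfl
  have xY : ∀ x, xx C x ∈ Y C := fun _ => ⟨rfl, rfl, rfl⟩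
  have ht' : ∀ l : K, ∀ g ∈ E C, ζ (tmap C l 1 g) = tmap C l 1 (ζ g) := fun l g hg => by
    by_cases h0 : l = 0
    · have e : ∀ g ∈ E C, tmap C 0 1 g = 1 := fun g hg => by
        ext <;> simp [tmap, mem_E.1 hg]
      rw [h0, e g hg, e _ (he g hg), hw 1 (one_mem _)]
    · exact ht l h0 g hg
  -- trivial on `Y`
  have hx : ∀ x, ζ (xx C x) = xx C x := by
    obtain ⟨l, hN, hs⟩ := exists_norm_one (C := C)
    intro x
    have hs' : C.sh l - 1 ≠ 0 := sub_ne_zero.2 hs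
    have e1 : tmap C l 1 (xx C (x / (C.sh l - 1))) = xx C x * xx C (x / (C.sh l - 1)) := by
      ext <;> simp [tmap, xx]
      field_simp
      ring
    have e2 := ht' l _ (xE (x / (C.sh l - 1)))
    rw [e1, hm _ (xE _) _ (xE _)] at e2
    obtain ⟨⟨h1, h2, h3⟩, h4⟩ := hy _ (xY x)
    obtain ⟨⟨k1, k2, k3⟩, -⟩ := hy _ (xY (x / (C.sh l - 1)))
    have h1 : (ζ (xx C x)).t = 0 := h1
    have ea := congrArg U.a e2
    have ez := congrArg U.z e2
    simp [tmap, hN, h1, k2, k3] at ea ez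
    exact U.ext h1 h2 h3 h4 ea ez
  -- trivial on `E / Y`
  have hty : ∀ g ∈ E C, (ζ g).t = g.t ∧ (ζ g).y = g.y := fun g hg => by
    have key : ∀ x, C.T ((ζ g).t * x) = C.T (g.t * x) ∧ C.T (x * (ζ g).y) = C.T (x * g.y) := by
      intro x
      have e1 : g * xx C x = xw C (C.T (g.t * x)) (C.T (x * g.y)) * (xx C x * g) := by
        have := mem_E.1 hg
        ext <;> simp [xx, xw, this] <;> ring
      have wW : xw C (C.T (g.t * x)) (C.T (x * g.y)) ∈ W C := ⟨rfl, rfl, rfl, rfl⟩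
      have e2 := congrArg ζ e1
      rw [hm _ hg _ (xE x), hm (xw C _ _) rfl _ (mul_mem (xE x) hg), hm _ (xE x) _ hg, hx,
        hw _ wW] at e2
      have ea := congrArg U.a e2
      have ez := congrArg U.z e2
      have := mem_E.1 (he g hg)
      simp [xx, xw, this] at ea ez
      exact ⟨by linear_combination ea, by linear_combination ez⟩
    constructor
    · rw [← sub_eq_zero]
      exact C.T_nd fun b => by rw [sub_mul, map_sub, (key b).1, sub_self]
    · rw [← sub_eq_zero]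
      exact C.T_nd fun b => by rw [mul_comm, mul_sub, map_sub, (key b).2, sub_self]
  have hxt : ∀ t, ζ (xt C t) = xt C t := by
    obtain ⟨h1, h2⟩ := hty (xt C 1) rfl
    have h3 := mem_E.1 (he (xt C 1) rfl)
    have e : ∀ l, ζ (xt C l) = tmap C l 1 (ζ (xt C 1)) := fun l => by
      rw [← ht' l (xt C 1) rfl]
      congr 1
      ext <;> simp [tmap, xt]
    have e2 : ∀ l l', tmap C (l + l') 1 (ζ (xt C 1)) =
        tmap C l 1 (ζ (xt C 1)) * tmap C l' 1 (ζ (xt C 1)) := fun l l' => by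
      rw [← e, ← e, ← e, ← hm (xt C l) rfl (xt C l') rfl]
      congr 1
      ext <;> simp [xt]
    generalize ζ (xt C 1) = G at h1 h2 h3 e e2
    have h1 : G.t = 1 := h1
    have h2 : G.y = 0 := h2
    have h4 : G.x = 0 := sh_nadd (C := C) fun l l' => by
      simpa [tmap, h1, h2, h3] using congrArg U.x (e2 l l')
    have h5 : G.a = 0 := N_nadd (C := C) fun l l' => by
      simpa [tmap, h1, h2, h3, h4] using congrArg U.a (e2 l l')
    have h6 : G.z = 0 := N_nadd (C := C) fun l l' => by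
      simpa [tmap, h1, h2, h3, h4] using congrArg U.z (e2 l l')
    intro t
    rw [e]
    ext <;> simp [tmap, xt, h1, h2, h3, h4, h5, h6]
  have hxy : ∀ t, ζ (xy C t) = xy C t := by
    obtain ⟨h1, h2⟩ := hty (xy C 1) rfl
    have h3 := mem_E.1 (he (xy C 1) rfl)
    have e : ∀ l, ζ (xy C l) = tmap C l 1 (ζ (xy C 1)) := fun l => by
      rw [← ht' l (xy C 1) rfl]
      congr 1
      ext <;> simp [tmap, xy]
    have e2 : ∀ l l', tmap C (l + l') 1 (ζ (xy C 1)) =
        tmap C l 1 (ζ (xy C 1)) * tmap C l' 1 (ζ (xy C 1)) := fun l l' => by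
      rw [← e, ← e, ← e, ← hm (xy C l) rfl (xy C l') rfl]
      congr 1
      ext <;> simp [xy]
    generalize ζ (xy C 1) = G at h1 h2 h3 e e2
    have h1 : G.t = 0 := h1
    have h2 : G.y = 1 := h2
    have h4 : G.x = 0 := sh_nadd (C := C) fun l l' => by
      simpa [tmap, h1, h2, h3] using congrArg U.x (e2 l l')
    have h5 : G.a = 0 := N_nadd (C := C) fun l l' => by
      simpa [tmap, h1, h2, h3, h4] using congrArg U.a (e2 l l')
    have h6 : G.z = 0 := N_nadd (C := C) fun l l' => by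
      simpa [tmap, h1, h2, h3, h4] using congrArg U.z (e2 l l')
    intro t
    rw [e]
    ext <;> simp [tmap, xy, h1, h2, h3, h4, h5, h6]
  intro g hg
  have e1 : g = xw C g.a (g.z + C.T (g.x * g.y)) * (xx C g.x * (xy C g.y * xt C g.t)) := by
    have := mem_E.1 hg
    ext <;> simp [xx, xw, xy, xt, this]
  have yE : xy C g.y ∈ E C := rfl
  have tE : xt C g.t ∈ E C := rfl
  have wW : xw C g.a (g.z + C.T (g.x * g.y)) ∈ W C := ⟨rfl, rfl, rfl, rfl⟩
  conv_lhs => rw [e1]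
  rw [hm (xw C _ _) rfl _ (mul_mem (xE _) (mul_mem yE tE)), hm _ (xE _) _ (mul_mem yE tE),
    hm _ yE _ tE, hw _ wW, hx, hxy, hxt, ← e1]

theorem rigE [Finite K] {p : ℕ} (h : ChS C) : RigEStmt C p := by
  rintro B A hB hL hK ⟨n, hn, hn1, hn2⟩
  obtain ⟨l, hl⟩ := IsCyclic.exists_monoid_generator (α := Kˣ)
  have hs : C.sh l ≠ 1 := fun e => by
    obtain ⟨f, hN, hf⟩ := exists_norm_one (C := C)
    have h0 : f ≠ 0 := fun e => by simp [e] at hN
    obtain ⟨k, hk⟩ := hl (Units.mk0 f h0)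
    have hk' : (l : K) ^ k = f := by simpa using congrArg Units.val hk
    apply hf
    rw [← hk']
    clear hk hk'
    induction k with
    | zero => simp
    | succ k ih => rw [pow_succ, C.sh_mul, ih, e, one_mul]
  have hl1 : (l : K) ≠ 1 := fun e => hs (by rw [e, C.sh_one])
  let η : MulAut (E C) :=
    { toFun := fun x => ⟨tor C (l, 1) x, h.e _ _ x.2⟩
      invFun := fun x => ⟨(tor C (l, 1))⁻¹ x, h.e _ _ x.2⟩
      left_inv := fun x => Subtype.ext (by simp)
      right_inv := fun x => Subtype.ext (by simp)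
      map_mul' := fun x y => Subtype.ext (by simp) }
  have hη0 : ∀ x ∈ E C, ext η x = tor C (l, 1) x := fun x hx => by rw [ext_apply η hx]; rfl
  have hη : ∀ x ∈ E C, ext η x = tmap C l 1 x := hη0
  have ηA : η ∈ A := hL.res _ (hB _) η hη0
  have tn := ty_of hn1
  set α := n⁻¹ * η⁻¹ * n * η with hα
  have eα : ∀ g ∈ E C, tmap C l 1 (ext n (ext α g)) = ext n (tmap C l 1 g) := fun g hg => by
    rw [← hη _ (ext_mem _ (ext_mem _ hg)), ← hη g hg, ← ext_mul, ← ext_mul, ← ext_mul, hα]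
    congr 1
    group
  have YE : ∀ y ∈ Y C, y ∈ E C := h.ey.1
  have WE : ∀ y ∈ W C, y ∈ E C := h.ew.1
  obtain ⟨e0, he0, hc0⟩ := hK α
    (mul_mem (mul_mem (mul_mem (inv_mem hn) (inv_mem ηA)) hn) ηA) (fun y hy => by
      have y' := h.ey.2 α y (YE y hy) hy
      have ty : tmap C l 1 y ∈ Y C := h.y (tor C (l, 1)) y hy
      have e := congrArg U.x (eα y (YE y hy))
      rw [(tn _ ty).2] at e
      simp only [tmap, one_smul, (tn _ y').2] at e
      obtain ⟨h1, h2, h3⟩ := mem_Y.1 hy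
      obtain ⟨k1, k2, k3⟩ := mem_Y.1 y'
      exact mem_W_of h2 k2 (k1.trans h1.symm) (k3.trans h3.symm)
        (mul_left_cancel₀ (by simp) e)) (fun w hw => by
      have w' := h.ew.2 α w (WE w hw) hw
      have tw : tmap C l 1 w ∈ W C := h.w (tor C (l, 1)) w hw
      have e := eα w (WE w hw)
      rw [hn2 _ w', hn2 _ tw, wb_tmap _ (WE w hw)] at e
      have e2 : wb (ext α w) = wb w := (tor C (l, 1)).injective e
      rw [← wb4 (WE _ w'), e2, wb4 (WE w hw)])
  -- solve the Lang equation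
  have hl2 : (l : K) - 1 ≠ 0 := sub_ne_zero.2 hl1
  have hs2 : C.sh l - 1 ≠ 0 := sub_ne_zero.2 hs
  let d : U C := ⟨e0.t / (l - 1), 0, e0.y / (l - 1),
    (e0.x + C.cr e0.t (e0.y / (l - 1))) / (C.sh l - 1), 0, 0⟩
  have dE : d ∈ E C := rfl
  have eE : tmap C l 1 d ∈ E C := tmap_E _ _ dE
  have hd : (tmap C l 1 d)⁻¹ * (e0 * d) ∈ W C := by
    refine mem_W_of eE (mul_mem he0 dE) ?_ ?_ ?_ <;> simp [tmap, d] <;> field_simp <;> ring
  obtain ⟨γ, hγ⟩ := exists_cj (P := E C) (s := tmap C l 1 d) (le_normalizer eE)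
  have eν : ∀ g ∈ E C, ext (n * γ) g = ext n (tmap C l 1 d * g * (tmap C l 1 d)⁻¹) :=
    fun g hg => by rw [ext_mul, hγ g hg]
  have c1 : ∀ g ∈ E C, ext (n * γ) (tmap C l 1 g) = tmap C l 1 (ext (n * γ) g) := fun g hg => by
    have gE : d * g * d⁻¹ ∈ E C := mul_mem (mul_mem dE hg) (inv_mem dE)
    have e1 : tmap C l 1 d * tmap C l 1 g * (tmap C l 1 d)⁻¹ = tmap C l 1 (d * g * d⁻¹) := by
      show tor C (l, 1) d * tor C (l, 1) g * (tor C (l, 1) d)⁻¹ = tor C (l, 1) (d * g * d⁻¹)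
      rw [map_mul, map_mul, map_inv]
    rw [eν _ (tmap_E _ _ hg), eν g hg, e1, ← eα _ gE, hc0 _ gE]
    congr 2
    have := W_comm hd hg
    generalize tmap C l 1 d = e at this
    calc e0 * (d * g * d⁻¹) * e0⁻¹ = e * (e⁻¹ * (e0 * d) * g) * (e0 * d)⁻¹ := by group
      _ = _ := by rw [this]; group
  have c2 : ∀ k : ℕ, ∀ g ∈ E C,
      ext (n * γ) (tmap C (l ^ k) 1 g) = tmap C (l ^ k) 1 (ext (n * γ) g) := fun k => by
    induction k with
    | zero => intro g _; rw [pow_zero, tmap_one, tmap_one]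
    | succ k ih =>
      intro g hg
      have e : ∀ g, tmap C ((l : K) ^ (k + 1)) 1 g = tmap C l 1 (tmap C (l ^ k) 1 g) := fun g => by
        rw [tmap_tmap, pow_succ', mul_one]
      rw [e, e, c1 _ (tmap_E _ _ hg), ih g hg]
  refine ⟨n * γ, mul_mem hn (hL.cj γ _ hγ), fun g hg => ?_⟩
  have := core (ζ := fun g => wb (wb (wb (ext (n * γ) g)))) (fun g hg k hk => by
      rw [ext_map_mul _ hg hk, wb_mul (ext_mem _ hg) (ext_mem _ hk),
        wb_mul (wb_mem _) (wb_mem _), wb_mul (wb_mem _) (wb_mem _)])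
    (fun _ _ => wb_mem _) (fun w hw => by
      rw [eν w (WE w hw), ← W_comm hw eE, mul_inv_cancel_right, hn2 w hw, wb4 (WE w hw)])
    (ty_wb.comp (ty_wb.comp (ty_wb.comp fun y hy => by
      rw [eν y (YE y hy)]
      exact tn.comp (ty_conj eE) y hy)))
    (fun m hm g hg => by
      obtain ⟨k, hk⟩ := hl (Units.mk0 m hm)
      have hk' : (l : K) ^ k = m := by simpa using congrArg Units.val hk
      rw [← hk', c2 k g hg, wb_tmap _ (ext_mem _ hg), wb_tmap _ (wb_mem _), wb_tmap _ (wb_mem _)])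
    g hg
  rw [← wb4 (ext_mem (n * γ) hg)]
  exact congrArg wb this

end Cfsg.Agent.H12.D4R
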