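import Mathlib
import Cfsg.Agent.H23.X3c
import Cfsg.Agent.H99.F22Defs

/-! The centralizer `3^{1+6} . 2^7 . X`: factors, their permutation, coordinates in `SL₂(3)`. -/

set_option autoImplicit false
set_option synthInstance.maxSize 4096
set_option maxRecDepth 20000
set_option linter.style.haveILetI false

universe u

namespace Cfsg.Agent.H12.F22

open Cfsg Subgroup Matrix H23 H95.L3 H99.F22

/-- `SL₂(3)` -/
abbrev S2 : Type := SpecialLinearGroup (Fin 2) (ZMod 3)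

theorem s_sq : ∀ u : S2, u ^ 2 = 1 → u = 1 ∨ u = -1 := by decide +kernel
theorem s_q8 : ∀ u : S2, u ^ 4 = 1 → ∀ v : S2, v ^ 4 = 1 → (u * v) ^ 4 = 1 := by decide +kernel
theorem s_exp : ∀ u : S2, u ^ 12 = 1 := by decide +kernel
theorem s_card : Nat.card S2 = 24 := by rw [Nat.card_eq_fintype_card]; decide +kernel
theorem s_sum : ∀ u : S2, u ^ 3 = 1 → ∀ v : S2, v ^ 3 = 1 → u * v = v * u → ∀ w : S2, w ^ 3 = 1 →
    u * w = w * u → v * w = w * v → u = 1 ∨ v = 1 ∨ w = 1 ∨ u * v = 1 ∨ u * w = 1 ∨ v * w = 1 ∨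
      u * v * w = 1 := by decide +kernel
theorem s_uni : ∀ u : S2, (∀ v, (u ^ 3).1 *ᵥ v = v) → (¬ ∀ v, u.1 *ᵥ v = v) →
    (∀ v, u.1 *ᵥ (v - u.1 *ᵥ v) = v - u.1 *ᵥ v) ∧ (∀ w, u.1 *ᵥ w = w → ∃ v, w = v - u.1 *ᵥ v) ∧
      (Finset.univ.filter fun w => u.1 *ᵥ w = w).card = 3 := by decide +kernel
theorem s_comm : ∀ p : S2, p ^ 4 = 1 → p ^ 2 ≠ 1 → ∀ a : S2, a ^ 3 = 1 → a ≠ 1 →
    (p * a * p⁻¹ * a⁻¹) ^ 2 ≠ 1 := by decide +kernel
theorem s_gen : ∀ p : S2, p ^ 4 = 1 → p ^ 2 ≠ 1 → ∀ a : S2, a ^ 3 = 1 → a ≠ 1 → ∀ v : S2, v ^ 4 = 1 →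
    ∃ i j : Fin 4, v = p ^ i.val * (a * p * a⁻¹) ^ j.val := by decide +kernel
theorem s_c4 : (Finset.univ.filter fun v : S2 => v ^ 4 = 1).card = 8 := by decide +kernel
theorem s_c2 : (Finset.univ.filter fun v : S2 => v ^ 2 = 1).card = 2 := by decide +kernel
theorem s_two : ∀ u : S2, u ^ 3 = 1 → ∀ v : S2, v ^ 3 = 1 → (u * v) ^ 3 = 1 ∨
    ((u * v) ^ 4 = 1 ∧ (u * v) ^ 2 ≠ 1) ∨ ((u * v⁻¹) ^ 4 = 1 ∧ (u * v⁻¹) ^ 2 ≠ 1) := by decide +kernel
theorem s_nc : ∀ p : S2, p ^ 4 = 1 → p ^ 2 ≠ 1 → ∀ p' : S2, p' ^ 4 = 1 → p' ^ 2 ≠ 1 → ∀ a : S2,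
    a ^ 3 = 1 → a ≠ 1 → p * p' * p⁻¹ * p'⁻¹ = -1 ∨
      p * (a * p' * a⁻¹) * p⁻¹ * (a * p' * a⁻¹)⁻¹ = -1 := by decide +kernel
theorem s_ord : ∀ u : S2, u ^ 4 = 1 ∨ ((u ^ 4) ^ 3 = 1 ∧ u ^ 4 ≠ 1) := by decide +kernel
theorem s_neg : (-1 : S2) ≠ 1 := by decide +kernel

theorem ne_succ : ∀ i : Fin 3, i + 1 ≠ i := by decide
theorem p3 : ∀ s : Equiv.Perm (Fin 3), s ^ 3 = 1 → s ≠ 1 → ∀ i j, ∃ n : Fin 3, (s ^ n.val) i = j := by
  decide +kernel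

theorem s_three {u : S2} {k : ℕ} (h : u ^ 3 ^ k = 1) : u ^ 3 = 1 := by
  have h1 := Nat.dvd_gcd (orderOf_dvd_of_pow_eq_one h) (orderOf_dvd_of_pow_eq_one (s_exp u))
  rw [show 12 = 4 * 3 from rfl, Nat.Coprime.gcd_mul_left_cancel_right _
    (Nat.Coprime.pow_right k (by norm_num))] at h1
  exact orderOf_dvd_iff_pow_eq_one.1 (h1.trans (Nat.gcd_dvd_right _ _))

theorem s_four {u : S2} {k : ℕ} (h : u ^ 2 ^ k = 1) : u ^ 4 = 1 := by
  have h1 := Nat.dvd_gcd (orderOf_dvd_of_pow_eq_one h) (orderOf_dvd_of_pow_eq_one (s_exp u))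
  rw [show 12 = 3 * 4 from rfl, Nat.Coprime.gcd_mul_left_cancel_right _
    (Nat.Coprime.pow_right k (by norm_num))] at h1
  exact orderOf_dvd_iff_pow_eq_one.1 (h1.trans (Nat.gcd_dvd_right _ _))

variable {G : Type u} [Group G] {z : G} {Q : Fin 3 → Subgroup G} {P : Subgroup G}

theorem card_inf_mul (T K : Subgroup G) : Nat.card ↥(T ⊓ K) * K.relIndex T = Nat.card T := by
  rw [← (K.subgroupOf T).card_mul_index, ← inf_subgroupOf_left K T, ← Nat.card_congr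
    (subgroupOfEquivOfLe (inf_le_left : T ⊓ K ≤ T)).toEquiv, inf_subgroupOf_left, relIndex]

/-- the kernel of a map to a group of order prime to `9` has index dividing `3` on `3`-subgroups -/
theorem cut3 [Finite G] {X : Type*} [Group X] [Finite X] {N K T : Subgroup G} (f : N →* X)
    (hX : ¬ 9 ∣ Nat.card X) (hK : ∀ g : N, (g : G) ∈ K ↔ f g = 1) (hT : T ≤ N)
    (h3 : IsPGroup 3 T) : K.relIndex T ∣ 3 := by
  haveI : Fact (Nat.Prime 3) := ⟨by norm_num⟩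
  have e : K.subgroupOf T = (f.comp (inclusion hT)).ker := by
    ext t; rw [mem_subgroupOf, MonoidHom.mem_ker]; exact hK ⟨t, hT t.2⟩
  obtain ⟨n, hn⟩ := (h3.of_surjective _ (f.comp (inclusion hT)).rangeRestrict_surjective).exists_card_eq
  have h1 := card_subgroup_dvd_card (f.comp (inclusion hT)).range
  rw [relIndex, e, index_ker, hn]
  rw [hn] at h1
  rcases n with _ | _ | n
  · simp
  · simp
  · exact absurd (Dvd.dvd.trans ⟨3 ^ n, by ring⟩ h1) hX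

/-- `h` acts trivially on `A` modulo the centre -/
def Tr (A : Subgroup G) (z h : G) : Prop := ∀ q ∈ A, h * q * h⁻¹ * q⁻¹ ∈ zpowers z

/-- a unipotent element acting on a group of order `27` -/
theorem uni [Finite G] {A : Subgroup G} (hA : X3 A z) (h27 : Nat.card A = 27) {h : G}
    (hh : h ∈ NC A z) (h3 : Tr A z (h ^ 3)) (hn : ¬ Tr A z h) :
    Nat.card (Fx A z h) = 9 ∧ (∀ q ∈ A, q * h * q⁻¹ * h⁻¹ ∈ Fx A z h) ∧
      ∀ w ∈ Fx A z h, ∃ q ∈ A, ∃ c ∈ zpowers z, w = c * (q * h * q⁻¹ * h⁻¹) := by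
  obtain ⟨d⟩ := hA.exists_V3 (m := 2) h27
  obtain ⟨π, hπ⟩ := d.exists_SL2 hA
  obtain ⟨s1, s2, s3⟩ := s_uni (π ⟨h, hh⟩) (fun v => by
      rw [← map_pow, ← hπ]
      exact LinearMap.congr_fun ((d.ρ_eq_one_iff (pow_mem hh 3)).2 h3) v)
    (fun e => hn ((d.ρ_eq_one_iff hh).1 (LinearMap.ext fun v => by rw [hπ]; exact e v)))
  have hm : ∀ q ∈ A, q * h * q⁻¹ * h⁻¹ ∈ A := fun q hq => by
    simpa [mul_assoc] using A.mul_mem hq (NC.cj_mem hh (A.inv_mem hq))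
  have hp : ∀ q ∈ A, d.p (q * h * q⁻¹ * h⁻¹) = d.p q - (π ⟨h, hh⟩).1 *ᵥ d.p q := fun q hq => by
    rw [show q * h * q⁻¹ * h⁻¹ = q * (h * q⁻¹ * h⁻¹) by group, d.add _ hq _
      (NC.cj_mem hh (A.inv_mem hq)), d.act h hh _ (A.inv_mem hq), d.p_inv hq, map_neg, hπ,
      sub_eq_add_neg]
  refine ⟨?_, fun q hq => (d.mem_Fx hA hh).2 ⟨hm q hq, by rw [hp q hq, hπ]; exact s1 _⟩,
    fun w hw => ?_⟩
  · rw [d.Fx_eq hA hh, d.card_pre, ← show 3 * 3 = 9 from rfl]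
    congr 1
    refine Eq.trans ?_ s3
    rw [← Fintype.card_subtype, ← Nat.card_eq_fintype_card]
    exact Nat.card_congr (Equiv.subtypeEquivRight fun v => by
      rw [LinearMap.mem_ker, LinearMap.sub_apply, sub_eq_zero, hπ]; rfl)
  · obtain ⟨hw, e⟩ := (d.mem_Fx hA hh).1 hw
    obtain ⟨v, hv⟩ := s2 _ (hπ _ _ ▸ e)
    obtain ⟨q, hq, rfl⟩ := d.onto v
    exact ⟨q, hq, _, (d.p_eq_iff hw (hm q hq)).1 (hv.trans (hp q hq).symm), by group⟩

theorem nine_le [Finite G] {W K : Subgroup G} (hz : orderOf z = 3) (h9 : Nat.card W = 9) (h1 : z ∈ W)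
    (h2 : z ∈ K) {w : G} (h3 : w ∈ W) (h4 : w ∈ K) (hw : w ∉ zpowers z) : W ≤ K := by
  have a1 : Nat.card ↥(W ⊓ K) ∣ 3 ^ 2 := by
    have := card_dvd_of_le (inf_le_left : W ⊓ K ≤ W); rwa [h9] at this
  have hle : zpowers z ≤ W ⊓ K := zpowers_le.2 ⟨h1, h2⟩
  have a2 := card_dvd_of_le hle
  rw [Nat.card_zpowers, hz] at a2
  obtain ⟨i, hi, e⟩ := (Nat.dvd_prime_pow (by norm_num)).1 a1
  interval_cases i
  · rw [e] at a2; omega
  · exact absurd (eq_of_le_of_card_ge hle (by rw [e, Nat.card_zpowers, hz]; rfl) ▸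
      (⟨h3, h4⟩ : w ∈ W ⊓ K)) hw
  · exact inf_eq_left.1 (eq_of_le_of_card_ge inf_le_left (by rw [e, h9]; rfl))

theorem comm_nine {W : Subgroup G} (h9 : Nat.card W = 9) {a b : G} (ha : a ∈ W) (hb : b ∈ W) :
    Commute a b := by
  haveI : Fact (Nat.Prime 3) := ⟨by norm_num⟩
  exact congrArg Subtype.val
    ((IsPGroup.isMulCommutative_of_card_eq_prime_sq (p := 3) (G := W) h9).is_comm.comm ⟨a, ha⟩ ⟨b, hb⟩)

theorem exists_not_mem {W : Subgroup G} (hz : orderOf z = 3) (h : 3 < Nat.card W) :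
    ∃ w ∈ W, w ∉ zpowers z := by
  by_contra hc
  push Not at hc
  haveI : Finite (zpowers z) := Nat.finite_of_card_ne_zero (by rw [Nat.card_zpowers, hz]; omega)
  have := Nat.card_le_card_of_injective (inclusion (show W ≤ zpowers z from hc))
    (inclusion_injective _)
  rw [Nat.card_zpowers, hz] at this
  omega

/-- abelian subgroups of an extraspecial group -/
theorem ab_sq [Finite G] {A T : Subgroup G} (hA : X3 A z) (hT : T ≤ A) (hz : z ∈ T)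
    (hc : ∀ a ∈ T, ∀ b ∈ T, Commute a b) : Nat.card T * Nat.card T ≤ Nat.card A * 3 := by
  rw [← hA.card_cent_mul hT hz]
  exact Nat.mul_le_mul_right _ (card_le_of_le (le_inf hT fun a ha b hb => (hc b hb a ha).eq))

/-- the product of the other two factors -/
def Oth (Q : Fin 3 → Subgroup G) (i : Fin 3) : Subgroup G := ⨆ (j : Fin 3) (_ : j ≠ i), Q j

theorem Oth_le {i : Fin 3} {K : Subgroup G} (h : ∀ j, j ≠ i → Q j ≤ K) : Oth Q i ≤ K :=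
  iSup_le fun j => iSup_le fun hj => h j hj

theorem le_Oth {i j : Fin 3} (h : j ≠ i) : Q j ≤ Oth Q i :=
  le_iSup_of_le j (le_iSup_of_le h le_rfl)

theorem Oth_le_QQ (i : Fin 3) : Oth Q i ≤ ⨆ i, Q i := Oth_le fun j _ => le_iSup Q j

theorem sup_Oth (i : Fin 3) : Q i ⊔ Oth Q i = ⨆ i, Q i :=
  le_antisymm (sup_le (le_iSup Q i) (Oth_le_QQ i)) (iSup_le fun j => by
    by_cases e : j = i
    · exact e ▸ le_sup_left
    · exact (le_Oth e).trans le_sup_right)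

theorem Oth_zero : Oth Q 0 = Q 1 ⊔ Q 2 :=
  le_antisymm (Oth_le fun j hj => by
    fin_cases j
    · exact absurd rfl hj
    · exact le_sup_left
    · exact le_sup_right) (sup_le (le_Oth (by decide)) (le_Oth (by decide)))

theorem iSup3 : ⨆ i, Q i = Q 0 ⊔ (Q 1 ⊔ Q 2) := by rw [← Oth_zero, sup_Oth]

/-- the subgroup of `C(z)` normalizing the factors -/
def Bs (z : G) (Q : Fin 3 → Subgroup G) : Subgroup G := ⨅ i, NC (Q i) z

theorem Bs_le (i : Fin 3) : Bs z Q ≤ NC (Q i) z := iInf_le _ i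

theorem Bs_cen : Bs z Q ≤ centralizer {z} := (Bs_le 0).trans inf_le_right

/-- `g` moves the factor `i` to the factor `j` -/
def Mv (Q : Fin 3 → Subgroup G) (g : G) (i j : Fin 3) : Prop := ∀ q ∈ Q i, g * q * g⁻¹ ∈ Q j

theorem Mv.mul {g k : G} {i j l : Fin 3} (h1 : Mv Q k j l) (h2 : Mv Q g i j) : Mv Q (k * g) i l :=
  fun q hq => by simpa [mul_assoc] using h1 _ (h2 q hq)

theorem cen_iff {g : G} : g ∈ centralizer ({z} : Set G) ↔ Commute g z := mem_centralizer_singleton_iff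

theorem cj_zp {g c : G} (hg : g ∈ centralizer ({z} : Set G)) (hc : c ∈ zpowers z) :
    g * c * g⁻¹ = c := by
  obtain ⟨k, rfl⟩ := mem_zpowers_iff.1 hc
  rw [((cen_iff.1 hg).zpow_right k).eq, mul_inv_cancel_right]

variable [Finite G] (h : Hyp22 z Q P)
include h

theorem x3 (i : Fin 3) : X3 (Q i) z :=
  X3.of_card (h.card i) (h.nab i) (h.mem i)
    (fun e => by have := h.ord; rw [e, orderOf_one] at this; omega)
    fun q hq => h.comm i (i + 1) (ne_succ i).symm q hq z (h.mem _)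

omit [Finite G] in
theorem comm_Oth (i : Fin 3) : ∀ a ∈ Q i, ∀ b ∈ Oth Q i, Commute a b := fun a ha _ hb =>
  (cen_iff.1 (Oth_le (K := centralizer {a})
    (fun j hj q hq => cen_iff.2 (h.comm j i hj q hq a ha)) hb)).symm

omit [Finite G] in
theorem z_Oth (i : Fin 3) : z ∈ Oth Q i := le_Oth (ne_succ i) (h.mem _)

theorem x12 : X3 (Q 1 ⊔ Q 2) z := (x3 h 1).sup (x3 h 2) (h.comm 1 2 (by decide))

theorem card12 : Nat.card ↥(Q 1 ⊔ Q 2) = 243 := by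
  have := (x3 h 1).card_sup (x3 h 2) (h.comm 1 2 (by decide))
  rw [h.card, h.card] at this; omega

theorem xQ : X3 (⨆ i, Q i) z := by
  rw [iSup3]; exact (x3 h 0).sup (x12 h) (Oth_zero (Q := Q) ▸ comm_Oth h 0)

theorem cardQ : Nat.card ↥(⨆ i, Q i) = 2187 := by
  have := (x3 h 0).card_sup (x12 h) (Oth_zero (Q := Q) ▸ comm_Oth h 0)
  rw [h.card, card12 h] at this
  rw [iSup3]; omega

omit [Finite G] in
theorem nc {g : G} (hg : g ∈ centralizer ({z} : Set G)) : g ∈ NC (⨆ i, Q i) z := ⟨h.norm hg, hg⟩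

theorem QQ_cen : ⨆ i, Q i ≤ centralizer {z} := fun q hq => cen_iff.2 ((xQ h).cen q hq)

omit [Finite G] in
theorem cjQ {g q : G} (hg : g ∈ centralizer ({z} : Set G)) (hq : q ∈ ⨆ i, Q i) :
    g * q * g⁻¹ ∈ ⨆ i, Q i := NC.cj_mem (nc h hg) hq

theorem ab_le {T : Subgroup G} (hT : T ≤ ⨆ i, Q i) (hz : z ∈ T)
    (hc : ∀ a ∈ T, ∀ b ∈ T, Commute a b) : Nat.card T ≤ 81 := by
  have := ab_sq (xQ h) hT hz hc
  rw [cardQ h] at this
  nlinarith

theorem ab_self {T : Subgroup G} (hT : T ≤ ⨆ i, Q i) (hz : z ∈ T)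
    (hc : ∀ a ∈ T, ∀ b ∈ T, Commute a b) (h81 : Nat.card T = 81) {q : G} (hq : q ∈ ⨆ i, Q i)
    (hqc : ∀ a ∈ T, Commute a q) : q ∈ T := by
  have := (xQ h).card_cent_mul hT hz
  rw [cardQ h, h81] at this
  have e := eq_of_le_of_card_ge (le_inf hT fun a ha b hb => (hc b hb a ha).eq :
    T ≤ (⨆ i, Q i) ⊓ centralizer (T : Set G)) (by omega)
  rw [e]; exact ⟨hq, fun a ha => (hqc a ha).eq⟩

omit [Finite G] in
theorem split (i : Fin 3) {q : G} (hq : q ∈ ⨆ i, Q i) : ∃ a ∈ Q i, ∃ b ∈ Oth Q i, q = a * b :=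
  (mem_sup_of_commute (comm_Oth h i)).1 (sup_Oth (Q := Q) i ▸ hq)

theorem inf_Oth {i : Fin 3} {a : G} (h1 : a ∈ Q i) (h2 : a ∈ Oth Q i) : a ∈ zpowers z :=
  (x3 h i).nd a h1 fun b hb => (comm_Oth h i b hb a h2).symm

theorem mem_Oth {i : Fin 3} {q : G} (hq : q ∈ ⨆ i, Q i) (hc : ∀ a ∈ Q i, Commute a q) :
    q ∈ Oth Q i := by
  obtain ⟨a, ha, b, hb, rfl⟩ := split h i hq
  refine mul_mem (zpowers_le.2 (z_Oth h i) ((x3 h i).nd a ha fun c hc' => ?_)) hb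
  have := (hc c hc').mul_right (comm_Oth h i c hc' b hb).inv_right
  rw [mul_inv_cancel_right] at this
  exact this.symm

theorem mem_Q_of {i : Fin 3} {q : G} (hq : q ∈ ⨆ i, Q i) (hc : ∀ a ∈ Oth Q i, Commute a q) :
    q ∈ Q i := by
  obtain ⟨a, ha, b, hb, rfl⟩ := split h i hq
  refine mul_mem ha ((x3 h i).zp_le ((xQ h).nd b (Oth_le_QQ i hb) fun c hc' => ?_))
  obtain ⟨c, hc1, e, he, rfl⟩ := split h i hc'
  have := (comm_Oth h i a ha e he).symm.inv_right.mul_right (hc e he)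
  rw [inv_mul_cancel_left] at this
  exact (comm_Oth h i c hc1 b hb).symm.mul_right this.symm

theorem zp_of_all {q : G} (hq : q ∈ ⨆ i, Q i) (hc : ∀ i, ∀ a ∈ Q i, Commute a q) :
    q ∈ zpowers z :=
  (xQ h).nd q hq fun _ hb => (cen_iff.1
    (iSup_le (f := Q) (a := centralizer {q}) (fun i a ha => cen_iff.2 (hc i a ha)) hb)).symm

omit [Finite G] in
theorem split3 {q : G} (hq : q ∈ ⨆ i, Q i) :
    ∃ a ∈ Q 0, ∃ b ∈ Q 1, ∃ c ∈ Q 2, q = a * b * c := by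
  obtain ⟨a, ha, b, hb, rfl⟩ := split h 0 hq
  rw [Oth_zero] at hb
  obtain ⟨b, hb', c, hc, rfl⟩ := (mem_sup_of_commute (h.comm 1 2 (by decide))).1 hb
  exact ⟨a, ha, b, hb', c, hc, by group⟩

theorem tr_all {g : G} (hg : g ∈ centralizer ({z} : Set G)) (ht : ∀ i, Tr (Q i) z g) :
    Tr (⨆ i, Q i) z g := fun _ hq =>
  (((xQ h).mem_Fx (nc h hg)).1 (iSup_le (f := Q) (a := Fx (⨆ i, Q i) z g)
    (fun i a ha => ((xQ h).mem_Fx (nc h hg)).2 ⟨le_iSup Q i ha, ht i a ha⟩) hq)).2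

theorem faith {g : G} (hg : g ∈ centralizer ({z} : Set G)) (ht : ∀ i, Tr (Q i) z g) :
    g ∈ ⨆ i, Q i := by
  obtain ⟨q, hq, e⟩ := (xQ h).inner (nc h hg) (tr_all h hg ht)
  have : q⁻¹ * g ∈ ⨆ i, Q i := h.self fun a ha => by
    calc a * (q⁻¹ * g) = q⁻¹ * (q * a * q⁻¹) * g := by group
      _ = q⁻¹ * g * a := by rw [← e a ha]; group
  simpa using mul_mem hq this

theorem tr_of_mem {g : G} (hg : g ∈ ⨆ i, Q i) (i : Fin 3) : Tr (Q i) z g := fun q hq =>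
  (xQ h).comm g hg q (le_iSup Q i hq)

omit [Finite G] in
theorem P_le : P ≤ Bs z Q := le_iInf fun i => le_inf (h.pn i) h.cen

theorem exp3 {q : G} (hq : q ∈ ⨆ i, Q i) : q ^ 3 = 1 := by
  have key : ∀ i, ∀ a ∈ Q i, a ^ 3 = 1 := fun i a ha => by
    obtain ⟨x, hx, h1, -⟩ := h.inv i
    have hn := Bs_le i (P_le h hx)
    exact (x3 h i).pow_Ng hn (((x3 h i).mem_Ng hn).2 ⟨ha, h1 a ha⟩)
  obtain ⟨a, ha, b, hb, c, hc, rfl⟩ := split3 h hq
  rw [((h.comm 0 2 (by decide) a ha c hc).mul_left (h.comm 1 2 (by decide) b hb c hc)).mul_pow,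
    (h.comm 0 1 (by decide) a ha b hb).mul_pow, key 0 a ha, key 1 b hb, key 2 c hc, one_mul, one_mul]

theorem zp_of_sq {q : G} (hq : q ∈ ⨆ i, Q i) {K : Subgroup G} (h2 : q * q ∈ K) : q ∈ K := by
  have : q = (q * q) ^ 2 := by
    calc q = q ^ 3 * q := by rw [exp3 h hq, one_mul]
      _ = _ := by simp only [pow_succ, pow_zero, one_mul, mul_assoc]
  rw [this]; exact pow_mem h2 2

omit [Finite G] in
theorem Mv.unique {g : G} {i j k : Fin 3} (h1 : Mv Q g i j) (h2 : Mv Q g i k) : j = k := by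
  by_contra hne
  obtain ⟨a, ha, b, hb, hab⟩ := h.nab i
  have := (h.comm j k hne _ (h1 a ha) _ (h2 b hb)).eq
  apply hab
  calc a * b = g⁻¹ * (g * a * g⁻¹ * (g * b * g⁻¹)) * g := by group
    _ = b * a := by rw [this]; group

theorem exists_mv' {g : G} (hg : g ∈ centralizer ({z} : Set G)) (i : Fin 3) : ∃ j, Mv Q g j i := by
  obtain ⟨x, hx, h1, h2⟩ := h.inv i
  have hxc := h.cen hx
  have hxn := nc h hxc
  have hx' : g⁻¹ * x * g⁻¹⁻¹ ∈ P := (mem_normalizer_iff.1 (h.nP (inv_mem hg)) x).1 hx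
  have hF : Oth Q i ≤ Fx (⨆ i, Q i) z x := Oth_le fun j hj q hq =>
    ((xQ h).mem_Fx hxn).2 ⟨le_iSup Q j hq, h2 j hj q hq⟩
  have hN : Q i ≤ Ng (⨆ i, Q i) z x := fun q hq => ((xQ h).mem_Ng hxn).2 ⟨le_iSup Q i hq, h1 q hq⟩
  have both : ∀ q ∈ Fx (⨆ i, Q i) z x, q ∈ Ng (⨆ i, Q i) z x → q ∈ zpowers z := fun q e1 e2 => by
    refine zp_of_sq h (Fx_le x e1) ?_
    have := mul_mem (inv_mem (((xQ h).mem_Fx hxn).1 e1).2) (((xQ h).mem_Ng hxn).1 e2).2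
    simpa [mul_assoc] using this
  have hN' : Ng (⨆ i, Q i) z x ≤ Q i := fun q hq => by
    obtain ⟨a, ha, b, hb, rfl⟩ := split h i (Ng_le x hq)
    exact mul_mem ha ((x3 h i).zp_le (both b (hF hb) (by simpa using mul_mem (inv_mem (hN ha)) hq)))
  have sq : x * x ∈ ⨆ i, Q i := by
    obtain ⟨m, ⟨d⟩⟩ := (xQ h).exists_V3'
    refine faith h (mul_mem hxc hxc) fun j q hq => ?_
    have hq' := le_iSup Q j hq
    rw [← d.ρ_fix_iff (mul_mem hxn hxn) hq',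
      show (⟨x * x, mul_mem hxn hxn⟩ : NC _ z) = ⟨x, hxn⟩ * ⟨x, hxn⟩ from rfl, map_mul,
      Module.End.mul_apply]
    by_cases e : j = i
    · subst e
      rw [(d.ρ_neg_iff hxn hq').2 (h1 q hq), map_neg, (d.ρ_neg_iff hxn hq').2 (h1 q hq), neg_neg]
    · rw [(d.ρ_fix_iff hxn hq').2 (h2 j e q hq), (d.ρ_fix_iff hxn hq').2 (h2 j e q hq)]
  have sq' : g⁻¹ * x * g⁻¹⁻¹ * (g⁻¹ * x * g⁻¹⁻¹) ∈ ⨆ i, Q i := by
    simpa [mul_assoc] using cjQ h (inv_mem hg) sq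
  by_contra hc
  push Not at hc
  have ht : ∀ j, Tr (Q j) z (g⁻¹ * x * g⁻¹⁻¹) := fun j =>
    ((x3 h j).triv_or_neg (h.card j) (Bs_le j (P_le h hx')) (tr_of_mem h sq' j)).resolve_right
      fun e => hc j fun q hq => hN' (by
        have := (xQ h).cj_mem_Ng (nc h (h.cen hx')) (nc h hg)
          (((xQ h).mem_Ng (nc h (h.cen hx'))).2 ⟨le_iSup Q j hq, e q hq⟩)
        simpa [mul_assoc] using this)
  have hxQ : x ∈ ⨆ i, Q i := by simpa [mul_assoc] using cjQ h hg (faith h (h.cen hx') ht)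
  obtain ⟨a, ha, b, hb, hab⟩ := h.nab i
  exact hab ((x3 h i).commute_zp hb (both a (((xQ h).mem_Fx hxn).2
    ⟨le_iSup Q i ha, tr_of_mem h hxQ i a ha⟩) (hN ha))).symm

theorem exists_mv {g : G} (hg : g ∈ centralizer ({z} : Set G)) (i : Fin 3) : ∃ j, Mv Q g i j := by
  choose f hf using exists_mv' h hg
  have hi : Function.Injective f := fun a b e => Mv.unique h (hf a) (e ▸ hf b)
  obtain ⟨j, rfl⟩ := Finite.injective_iff_surjective.1 hi i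
  exact ⟨j, hf j⟩

theorem exists_sig : ∃ σ : centralizer ({z} : Set G) →* Equiv.Perm (Fin 3),
    ∀ g : centralizer ({z} : Set G), ∀ i, Mv Q g i (σ g i) := by
  choose s hs using fun g : centralizer ({z} : Set G) => exists_mv h g.2
  letI : MulAction (centralizer ({z} : Set G)) (Fin 3) :=
    { smul := s
      one_smul := fun i => Mv.unique h (hs 1 i) fun q hq => by simpa using hq
      mul_smul := fun g k i => Mv.unique h (hs (g * k) i) ((hs g _).mul (hs k i)) }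
  exact ⟨MulAction.toPermHom _ _, hs⟩

omit h in
theorem mem_Bs {g : G} : g ∈ Bs z Q ↔ g ∈ centralizer ({z} : Set G) ∧ ∀ i, Mv Q g i i :=
  ⟨fun hg => ⟨Bs_cen hg, fun i _ hq => NC.cj_mem (Bs_le i hg) hq⟩,
    fun hg => mem_iInf.2 fun i => ⟨mem_normalizer_of_cj (hg.2 i), hg.1⟩⟩

theorem Mv.inv {g : G} (hg : g ∈ centralizer ({z} : Set G)) {i j : Fin 3} (h1 : Mv Q g i j) :
    Mv Q g⁻¹ j i := by
  obtain ⟨k, hk⟩ := exists_mv h (inv_mem hg) j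
  rwa [Mv.unique h (hk.mul h1) fun q hq => by simpa using hq] at hk

theorem cj_Bs {g a : G} (hg : g ∈ centralizer ({z} : Set G)) (ha : a ∈ Bs z Q) :
    g * a * g⁻¹ ∈ Bs z Q := by
  refine mem_Bs.2 ⟨mul_mem (mul_mem hg (Bs_cen ha)) (inv_mem hg), fun i => ?_⟩
  obtain ⟨j, hj⟩ := exists_mv' h hg i
  exact (hj.mul ((mem_Bs.1 ha).2 j)).mul (hj.inv h hg)

omit [Finite G] in
theorem QQ_le : ⨆ i, Q i ≤ Bs z Q := h.le.trans (P_le h)

theorem cutB {T : Subgroup G} (hT : T ≤ centralizer {z}) (h3 : IsPGroup 3 T) :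
    (Bs z Q).relIndex T ∣ 3 := by
  obtain ⟨σ, hσ⟩ := exists_sig h
  refine cut3 σ (by rw [Nat.card_eq_fintype_card]; decide) (fun g => ?_) hT h3
  rw [mem_Bs]
  exact ⟨fun e => Equiv.ext fun i => Mv.unique h (hσ g i) (e.2 i),
    fun e => ⟨g.2, fun i => by simpa [e] using hσ g i⟩⟩

/-- a `3`-element outside the base group permutes the factors transitively -/
theorem cyc {c : G} (hc : c ∈ centralizer ({z} : Set G)) {k : ℕ} (h3 : c ^ 3 ^ k = 1)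
    (hn : c ∉ Bs z Q) (i j : Fin 3) : ∃ n : ℕ, Mv Q (c ^ n) i j := by
  obtain ⟨σ, hσ⟩ := exists_sig h
  have e1 : σ ⟨c, hc⟩ ^ 3 = 1 := by
    have a1 : σ ⟨c, hc⟩ ^ 3 ^ k = 1 := by
      rw [← map_pow, show (⟨c, hc⟩ : centralizer ({z} : Set G)) ^ 3 ^ k = 1 from Subtype.ext h3,
        map_one]
    have a2 := Nat.dvd_gcd (orderOf_dvd_of_pow_eq_one a1) (orderOf_dvd_natCard (σ ⟨c, hc⟩))
    rw [show Nat.card (Equiv.Perm (Fin 3)) = 2 * 3 by rw [Nat.card_eq_fintype_card]; decide,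
      Nat.Coprime.gcd_mul_left_cancel_right _ (Nat.Coprime.pow_right k (by norm_num))] at a2
    exact orderOf_dvd_iff_pow_eq_one.1 (a2.trans (Nat.gcd_dvd_right _ _))
  obtain ⟨n, hn'⟩ := p3 _ e1 (fun e => hn (mem_Bs.2 ⟨hc, fun i => by simpa [e] using hσ ⟨c, hc⟩ i⟩))
    i j
  refine ⟨n, ?_⟩
  have := hσ (⟨c, hc⟩ ^ n.val) i
  rwa [map_pow, hn'] at this

end Cfsg.Agent.H12.F22
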