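import Mathlib
import Cfsg.Agent.H12.F22A

/-! The centralizer `3^{1+6} . 2^7 . X`: the `3`-subgroups of `C(z) / Q` have order at most `9`. -/

set_option autoImplicit false
set_option linter.style.haveILetI false

universe u

namespace Cfsg.Agent.H12.F22

open Cfsg Subgroup Matrix H23 H95.L3 H99.F22

theorem comm_of_dvd9 {X : Type*} [Group X] (h9 : Nat.card X ∣ 9) (a b : X) : a * b = b * a := by
  haveI : Fact (Nat.Prime 3) := ⟨by norm_num⟩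
  obtain ⟨i, hi, e⟩ := (Nat.dvd_prime_pow (p := 3) (m := 2) (by norm_num)).1 h9
  interval_cases i
  · haveI := (Nat.card_eq_one_iff_unique.1 e).1
    exact Subsingleton.elim _ _
  · haveI := isCyclic_of_prime_card (p := 3) e
    letI := IsCyclic.commGroup (α := X)
    exact mul_comm a b
  · exact (IsPGroup.isMulCommutative_of_card_eq_prime_sq (p := 3) e).is_comm.comm a b

variable {G : Type u} [Group G] {z : G} {Q : Fin 3 → Subgroup G} {P : Subgroup G}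

theorem gen27 [Finite G] {A K : Subgroup G} (h27 : Nat.card A = 27) {a b : G} (ha : a ∈ A ⊓ K)
    (hb : b ∈ A ⊓ K) (hab : ¬ Commute a b) : A ≤ K := by
  have h1 := card_dvd_of_le (inf_le_left : A ⊓ K ≤ A)
  rw [h27] at h1
  obtain ⟨i, hi, e⟩ := (Nat.dvd_prime_pow (p := 3) (m := 3) (by norm_num)).1 h1
  by_cases h3 : i = 3
  · exact inf_eq_left.1 (eq_of_le_of_card_ge inf_le_left (by rw [e, h27, h3]; rfl))
  · exact absurd (congrArg Subtype.val (comm_of_dvd9 (X := ↥(A ⊓ K))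
      (e ▸ pow_dvd_pow 3 (show i ≤ 2 by omega)) ⟨a, ha⟩ ⟨b, hb⟩)) hab

theorem phi_mul {a e y : G} (h : Commute a (e * y * e⁻¹ * y⁻¹)) :
    a * e * y * (a * e)⁻¹ * y⁻¹ = (e * y * e⁻¹ * y⁻¹) * (a * y * a⁻¹ * y⁻¹) := by
  calc _ = a * (e * y * e⁻¹ * y⁻¹) * (y * a⁻¹ * y⁻¹) := by group
    _ = _ := by rw [h.eq]; group

theorem tr_cj {g a : G} (hg : g ∈ centralizer ({z} : Set G)) {i j : Fin 3} (h1 : Mv Q g i j)
    (ht : Tr (Q j) z (g * a * g⁻¹)) : Tr (Q i) z a := fun q hq => by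
  have := ht _ (h1 q hq)
  have e := cj_zp (inv_mem hg) this
  rw [← e] at this
  convert this using 1; group

variable [Finite G] (h : Hyp22 z Q P)

/-- the action on the factor `i` -/
noncomputable def piH (i : Fin 3) : Bs z Q →* S2 :=
  (Classical.choose ((x3 h i).exists_SL2 (h.card i))).comp (inclusion (Bs_le i))

open Classical in
/-- the action on the factor `i` as a function on `G` -/
noncomputable def pi (i : Fin 3) (g : G) : S2 := if hg : g ∈ Bs z Q then piH h i ⟨g, hg⟩ else 1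

theorem pi_eq (i : Fin 3) {g : G} (hg : g ∈ Bs z Q) : pi h i g = piH h i ⟨g, hg⟩ := dif_pos hg

theorem pi_mul (i : Fin 3) {a b : G} (ha : a ∈ Bs z Q) (hb : b ∈ Bs z Q) :
    pi h i (a * b) = pi h i a * pi h i b := by
  rw [pi_eq h i ha, pi_eq h i hb, pi_eq h i (mul_mem ha hb), ← map_mul]; rfl

theorem pi_inv (i : Fin 3) {a : G} (ha : a ∈ Bs z Q) : pi h i a⁻¹ = (pi h i a)⁻¹ := by
  rw [pi_eq h i ha, pi_eq h i (inv_mem ha), ← map_inv]; rfl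

theorem pi_pow (i : Fin 3) {a : G} (ha : a ∈ Bs z Q) (n : ℕ) : pi h i (a ^ n) = pi h i a ^ n := by
  rw [pi_eq h i ha, pi_eq h i (pow_mem ha n), ← map_pow]; rfl

theorem pi_one (i : Fin 3) : pi h i 1 = 1 := by rw [pi_eq h i (one_mem _)]; exact map_one _

theorem pi_cj (i : Fin 3) {a b : G} (ha : a ∈ Bs z Q) (hb : b ∈ Bs z Q) :
    pi h i (a * b * a⁻¹) = pi h i a * pi h i b * (pi h i a)⁻¹ := by
  rw [pi_mul h i (mul_mem ha hb) (inv_mem ha), pi_mul h i ha hb, pi_inv h i ha]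

theorem pi_cm (i : Fin 3) {a b : G} (ha : a ∈ Bs z Q) (hb : b ∈ Bs z Q) :
    pi h i (a * b * a⁻¹ * b⁻¹) = pi h i a * pi h i b * (pi h i a)⁻¹ * (pi h i b)⁻¹ := by
  rw [pi_mul h i (mul_mem (mul_mem ha hb) (inv_mem ha)) (inv_mem hb), pi_cj h i ha hb, pi_inv h i hb]

theorem pi_one_iff (i : Fin 3) {g : G} (hg : g ∈ Bs z Q) : pi h i g = 1 ↔ Tr (Q i) z g := by
  rw [pi_eq h i hg]
  exact (Classical.choose_spec ((x3 h i).exists_SL2 (h.card i))).1 ⟨g, Bs_le i hg⟩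

theorem pi_neg_iff (i : Fin 3) {g : G} (hg : g ∈ Bs z Q) :
    pi h i g = -1 ↔ ∀ q ∈ Q i, g * q * g⁻¹ * q ∈ zpowers z := by
  rw [pi_eq h i hg]
  exact (Classical.choose_spec ((x3 h i).exists_SL2 (h.card i))).2 ⟨g, Bs_le i hg⟩

theorem pi_Q (i : Fin 3) {g : G} (hg : g ∈ ⨆ i, Q i) : pi h i g = 1 :=
  (pi_one_iff h i (QQ_le h hg)).2 (tr_of_mem h hg i)

theorem mem_QQ {g : G} (hg : g ∈ Bs z Q) (h1 : ∀ i, pi h i g = 1) : g ∈ ⨆ i, Q i :=
  faith h (Bs_cen hg) fun i => (pi_one_iff h i hg).1 (h1 i)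

theorem mem_QQ_mul {a b : G} (ha : a ∈ Bs z Q) (hb : b ∈ Bs z Q) (h1 : ∀ i, pi h i a = pi h i b) :
    a * b⁻¹ ∈ ⨆ i, Q i :=
  mem_QQ h (mul_mem ha (inv_mem hb)) fun i => by
    rw [pi_mul h i ha (inv_mem hb), pi_inv h i hb, h1, mul_inv_cancel]

theorem pi_mv {g a : G} (hg : g ∈ centralizer ({z} : Set G)) {i j : Fin 3} (h1 : Mv Q g i j)
    (ha : a ∈ Bs z Q) (n : ℕ) : pi h j (g * a * g⁻¹) ^ n = 1 ↔ pi h i a ^ n = 1 := by
  rw [← pi_pow h j (cj_Bs h hg ha), ← pi_pow h i ha, conj_pow,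
    pi_one_iff h j (cj_Bs h hg (pow_mem ha n)), pi_one_iff h i (pow_mem ha n)]
  exact ⟨tr_cj hg h1, fun e => tr_cj (inv_mem hg) (h1.inv h hg) (by simpa [mul_assoc] using e)⟩

theorem pi_mv1 {g a : G} (hg : g ∈ centralizer ({z} : Set G)) {i j : Fin 3} (h1 : Mv Q g i j)
    (ha : a ∈ Bs z Q) : pi h j (g * a * g⁻¹) = 1 ↔ pi h i a = 1 := by
  simpa using pi_mv h hg h1 ha 1

theorem pi_three {T : Subgroup G} (h3 : IsPGroup 3 T) {a : G} (ha : a ∈ T) (hb : a ∈ Bs z Q)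
    (i : Fin 3) : pi h i a ^ 3 = 1 := by
  obtain ⟨k, hk⟩ := h3 ⟨a, ha⟩
  exact s_three (k := k) (by rw [← pi_pow h i hb, show a ^ 3 ^ k = 1 from congrArg Subtype.val hk,
    pi_one])

/-- the kernel of the action on the factor `i` -/
noncomputable def Kk (i : Fin 3) : Subgroup G := (piH h i).ker.map (Bs z Q).subtype

theorem mem_Kk {i : Fin 3} {g : G} : g ∈ Kk h i ↔ g ∈ Bs z Q ∧ pi h i g = 1 :=
  ⟨fun ⟨a, ha, e⟩ => e ▸ ⟨a.2, (pi_eq h i a.2).trans ha⟩,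
    fun e => ⟨⟨g, e.1⟩, (pi_eq h i e.1).symm.trans e.2, rfl⟩⟩

theorem cutK (i : Fin 3) {T : Subgroup G} (hT : T ≤ Bs z Q) (h3 : IsPGroup 3 T) :
    (Kk h i).relIndex T ∣ 3 :=
  cut3 (piH h i) (by rw [s_card]; decide) (fun g => by rw [mem_Kk, pi_eq h i g.2, and_iff_right g.2])
    hT h3

theorem relK (i : Fin 3) {T : Subgroup G} (hT : T ≤ Bs z Q) :
    (Kk h i).relIndex T = Nat.card {v : S2 // ∃ t ∈ T, pi h i t = v} := by
  have e : (Kk h i).subgroupOf T = ((piH h i).comp (inclusion hT)).ker := by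
    ext t
    rw [mem_subgroupOf, MonoidHom.mem_ker, mem_Kk, and_iff_right (hT t.2), pi_eq h i (hT t.2)]; rfl
  rw [relIndex, e, index_ker]
  exact Nat.card_congr (Equiv.subtypeEquivRight fun v =>
    ⟨fun ⟨t, ht⟩ => ⟨t, t.2, (pi_eq h i (hT t.2)).trans ht⟩,
      fun ⟨t, ht, e⟩ => ⟨⟨t, ht⟩, (pi_eq h i (hT ht)).symm.trans e⟩⟩)

theorem relK_le (i : Fin 3) {T : Subgroup G} (hT : T ≤ Bs z Q) (n : ℕ)
    (hn : ∀ t ∈ T, pi h i t ^ n = 1) :
    (Kk h i).relIndex T ≤ (Finset.univ.filter fun v : S2 => v ^ n = 1).card := by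
  rw [relK h i hT, ← Fintype.card_subtype, ← Nat.card_eq_fintype_card]
  exact Nat.card_le_card_of_injective (Subtype.map id fun v ⟨t, ht, e⟩ => e ▸ hn t ht)
    (Subtype.map_injective _ Function.injective_id)

theorem relK_ge (i : Fin 3) {T : Subgroup G} (hT : T ≤ Bs z Q)
    (hn : ∀ v : S2, v ^ 4 = 1 → ∃ t ∈ T, pi h i t = v) : 8 ≤ (Kk h i).relIndex T := by
  rw [relK h i hT, ← s_c4, ← Fintype.card_subtype, ← Nat.card_eq_fintype_card]
  exact Nat.card_le_card_of_injective (Subtype.map id fun v hv => hn v hv)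
    (Subtype.map_injective _ Function.injective_id)

theorem chain {i j k : Fin 3} (hall : ∀ l, l = i ∨ l = j ∨ l = k) (T : Subgroup G) :
    (⨆ i, Q i).relIndex T = (Kk h k).relIndex (Kk h j ⊓ (Kk h i ⊓ T)) *
      (Kk h j).relIndex (Kk h i ⊓ T) * (Kk h i).relIndex T := by
  rw [relIndex_inf_mul_relIndex, relIndex_inf_mul_relIndex]
  congr 1
  refine le_antisymm (fun g hg => ?_) fun g hg => mem_QQ h ((mem_Kk h).1 hg.2).1 fun l => ?_
  · have := fun l => (mem_Kk h).2 ⟨QQ_le h hg, pi_Q h l hg⟩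
    exact ⟨⟨this k, this j⟩, this i⟩
  · rcases hall l with rfl | rfl | rfl
    exacts [((mem_Kk h).1 hg.2).2, ((mem_Kk h).1 hg.1.2).2, ((mem_Kk h).1 hg.1.1).2]

include h in
omit [Finite G] in
theorem normal_QQ {T : Subgroup G} (hT : T ≤ centralizer {z}) :
    ((⨆ i, Q i).subgroupOf T).Normal := normal_subgroupOf_of_le_normalizer (hT.trans h.norm)

theorem pi_four {p : G} (hp : p ∈ P) (i : Fin 3) : pi h i p ^ 4 = 1 := by
  haveI := normal_QQ h h.cen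
  have := ((⨆ i, Q i).subgroupOf P).pow_index_mem ⟨p, hp⟩
  rw [← relIndex, h.idx, mem_subgroupOf] at this
  exact s_four (k := 7) (by rw [← pi_pow h i (P_le h hp)]; exact pi_Q h i this)

include h in
omit [Finite G] in
theorem cjP {g p : G} (hg : g ∈ centralizer ({z} : Set G)) (hp : p ∈ P) : g * p * g⁻¹ ∈ P :=
  (mem_normalizer_iff.1 (h.nP hg) p).1 hp

theorem mem_P {g : G} (hg : g ∈ Bs z Q) (h4 : ∀ i, pi h i g ^ 4 = 1) : g ∈ P := by
  haveI : Fact (Nat.Prime 2) := ⟨by norm_num⟩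
  let T : Subgroup G :=
    { carrier := {g | g ∈ Bs z Q ∧ ∀ i, pi h i g ^ 4 = 1}
      one_mem' := ⟨one_mem _, fun i => by rw [pi_one, one_pow]⟩
      mul_mem' := fun ha hb => ⟨mul_mem ha.1 hb.1, fun i => by
        rw [pi_mul h i ha.1 hb.1]; exact s_q8 _ (ha.2 i) _ (hb.2 i)⟩
      inv_mem' := fun ha => ⟨inv_mem ha.1, fun i => by rw [pi_inv h i ha.1, inv_pow, ha.2 i, inv_one]⟩ }
  have hT : T ≤ centralizer {z} := fun a ha => Bs_cen ha.1
  haveI := normal_QQ h hT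
  refine h.o2 T (fun q hq => ⟨QQ_le h hq, fun i => by rw [pi_Q h i hq, one_pow]⟩) hT
    (fun k hk => mem_normalizer_of_cj fun a ha => ⟨cj_Bs h hk ha.1, fun j => ?_⟩) ?_ ⟨hg, h4⟩
  · obtain ⟨i, hi⟩ := exists_mv' h hk j
    exact (pi_mv h hk hi ha.1 4).2 (ha.2 i)
  · refine IsPGroup.exists_card_eq (G := T ⧸ (⨆ i, Q i).subgroupOf T) fun x => ⟨2, ?_⟩
    obtain ⟨a, rfl⟩ := QuotientGroup.mk_surjective x
    rw [← QuotientGroup.mk_pow, QuotientGroup.eq_one_iff, mem_subgroupOf]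
    exact mem_QQ h (pow_mem a.2.1 _) fun i => (pi_pow h i a.2.1 _).trans (a.2.2 i)

/-- `P` is not scalar on the factor `i` -/
def NS (i : Fin 3) : Prop := ∃ p ∈ P, pi h i p ^ 2 ≠ 1
/-- an element of `P` is scalar exactly outside the factor `i` -/
def KS (i : Fin 3) : Prop := ∃ p ∈ P, pi h i p ^ 2 ≠ 1 ∧ ∀ j, j ≠ i → pi h j p ^ 2 = 1
/-- a transvection on the factor `i` -/
def U3 (i : Fin 3) : Prop := ∃ a ∈ Bs z Q, pi h i a ^ 3 = 1 ∧ pi h i a ≠ 1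
/-- `C(z)` is transitive on the factors -/
def Trn (z : G) (Q : Fin 3 → Subgroup G) : Prop := ∀ i j, ∃ g ∈ centralizer ({z} : Set G), Mv Q g i j

variable {h}

theorem NS.mv {g : G} (hg : g ∈ centralizer ({z} : Set G)) {i j : Fin 3} (h1 : Mv Q g i j)
    (e : NS h i) : NS h j :=
  let ⟨_, hp, e1⟩ := e; ⟨_, cjP h hg hp, fun e2 => e1 ((pi_mv h hg h1 (P_le h hp) 2).1 e2)⟩

theorem U3.mv {g : G} (hg : g ∈ centralizer ({z} : Set G)) {i j : Fin 3} (h1 : Mv Q g i j)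
    (e : U3 h i) : U3 h j :=
  let ⟨_, ha, e1, e2⟩ := e
  ⟨_, cj_Bs h hg ha, (pi_mv h hg h1 ha 3).2 e1, fun e3 => e2 ((pi_mv1 h hg h1 ha).1 e3)⟩

theorem KS.mv {g : G} (hg : g ∈ centralizer ({z} : Set G)) {i j : Fin 3} (h1 : Mv Q g i j)
    (e : KS h i) : KS h j := by
  obtain ⟨p, hp, e1, e2⟩ := e
  refine ⟨_, cjP h hg hp, fun e3 => e1 ((pi_mv h hg h1 (P_le h hp) 2).1 e3), fun k hk => ?_⟩
  obtain ⟨l, hl⟩ := exists_mv' h hg k
  exact (pi_mv h hg hl (P_le h hp) 2).2 (e2 l fun e => hk (Mv.unique h hl (e ▸ h1)))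

variable (h)

theorem cm_P {p a : G} (hp : p ∈ P) (ha : a ∈ Bs z Q) : p * a * p⁻¹ * a⁻¹ ∈ P ∧
    (∀ i, pi h i p ^ 2 ≠ 1 → pi h i a ^ 3 = 1 → pi h i a ≠ 1 →
      pi h i (p * a * p⁻¹ * a⁻¹) ^ 2 ≠ 1) ∧
    ∀ j, pi h j p ^ 2 = 1 ∨ pi h j a = 1 → pi h j (p * a * p⁻¹ * a⁻¹) = 1 := by
  refine ⟨by simpa [mul_assoc] using mul_mem hp (cjP h (Bs_cen ha) (inv_mem hp)),
    fun i e1 e2 e3 => ?_, fun j e => ?_⟩ <;> rw [pi_cm h _ (P_le h hp) ha]
  · exact s_comm _ (pi_four h hp i) e1 _ e2 e3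
  · rcases e with e | e
    · rcases s_sq _ e with e | e <;> simp [e]
    · simp [e]

theorem not_all (h1 : ∀ i, KS h i) (h2 : ∀ i, U3 h i) : False := by
  have key : ∀ i, ∀ T : Subgroup G, T ≤ Bs z Q →
      (∀ t ∈ P, (∀ j, j ≠ i → pi h j t = 1) → t ∈ T) → 8 ≤ (Kk h i).relIndex T := by
    intro i T hT hm
    obtain ⟨p, hp, e1, e2⟩ := h1 i
    obtain ⟨a, ha, e3, e4⟩ := h2 i
    obtain ⟨c1, c2, c3⟩ := cm_P h hp ha
    generalize p * a * p⁻¹ * a⁻¹ = s at c1 c2 c3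
    have hs := P_le h c1
    have hs' := cjP h (Bs_cen ha) c1
    refine relK_ge h i hT fun v hv => ?_
    obtain ⟨m, n, rfl⟩ := s_gen _ (pi_four h c1 i) (c2 i e1 e3 e4) _ e3 e4 v hv
    have e5 : ∀ j, pi h j (s ^ m.val * (a * s * a⁻¹) ^ n.val) =
        pi h j s ^ m.val * (pi h j a * pi h j s * (pi h j a)⁻¹) ^ n.val := fun j => by
      rw [pi_mul h j (pow_mem hs _) (pow_mem (P_le h hs') _), pi_pow h j hs,
        pi_pow h j (P_le h hs'), pi_cj h j ha hs]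
    exact ⟨_, hm _ (mul_mem (pow_mem c1 _) (pow_mem hs' _)) fun j hj => by
      rw [e5, c3 j (.inl (e2 j hj))]; simp, e5 i⟩
  have e := chain h (i := 0) (j := 1) (k := 2) (by decide) P
  have a0 := key 0 P (P_le h) fun t ht _ => ht
  have a1 := key 1 (Kk h 0 ⊓ P) (inf_le_right.trans (P_le h)) fun t ht e =>
    ⟨(mem_Kk h).2 ⟨P_le h ht, e 0 (by decide)⟩, ht⟩
  have a2 := key 2 (Kk h 1 ⊓ (Kk h 0 ⊓ P)) (inf_le_right.trans (inf_le_right.trans (P_le h)))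
    fun t ht e => ⟨(mem_Kk h).2 ⟨P_le h ht, e 1 (by decide)⟩,
      (mem_Kk h).2 ⟨P_le h ht, e 0 (by decide)⟩, ht⟩
  rw [h.idx] at e
  have := Nat.mul_le_mul (Nat.mul_le_mul a2 a1) a0
  omega

/-- an element of `P` trivial on one factor and not scalar on another one -/
theorem exists_ns {i j k : Fin 3} (hall : ∀ l, l = i ∨ l = j ∨ l = k) :
    ∃ p ∈ P, pi h i p = 1 ∧ (pi h j p ^ 2 ≠ 1 ∨ pi h k p ^ 2 ≠ 1) := by
  by_contra hc
  push Not at hc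
  have e := chain h hall P
  have a0 := relK_le h i (P_le h) 4 fun t ht => pi_four h ht i
  have a1 := relK_le h j (T := Kk h i ⊓ P) (inf_le_right.trans (P_le h)) 2 fun t ht =>
    (hc t ht.2 ((mem_Kk h).1 ht.1).2).1
  have a2 := relK_le h k (T := Kk h j ⊓ (Kk h i ⊓ P))
    (inf_le_right.trans (inf_le_right.trans (P_le h))) 2 fun t ht =>
      (hc t ht.2.2 ((mem_Kk h).1 ht.2.1).2).2
  rw [h.idx] at e
  rw [s_c4] at a0
  rw [s_c2] at a1 a2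
  have := Nat.mul_le_mul (Nat.mul_le_mul a2 a1) a0
  omega

theorem third : ∀ i j : Fin 3, i ≠ j → ∃ k, ∀ l, l = k ∨ l = i ∨ l = j := by decide

theorem ns_or {i j : Fin 3} (hij : i ≠ j) : NS h i ∨ NS h j := by
  obtain ⟨k, hk⟩ := third i j hij
  obtain ⟨p, hp, -, e⟩ := exists_ns h hk
  exact e.imp (fun e => ⟨p, hp, e⟩) fun e => ⟨p, hp, e⟩

theorem ns_of_one {i : Fin 3} {t : G} (ht : t ∈ Bs z Q) (e1 : pi h i t ^ 3 = 1) (e2 : pi h i t ≠ 1)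
    (e3 : ∀ j, j ≠ i → pi h j t = 1) : NS h i := by
  by_contra hn
  have fix : ∀ g ∈ centralizer ({z} : Set G), Mv Q g i i := fun g hg => by
    obtain ⟨j, hj⟩ := exists_mv' h hg i
    by_cases e : j = i
    · exact e ▸ hj
    · exact absurd (((ns_or h e).resolve_right hn).mv hg hj) hn
  have sc : ∀ g ∈ Bs z Q, (∀ j, j ≠ i → pi h j g = 1) → pi h i g ^ 4 = 1 → pi h i g ^ 2 = 1 :=
    fun g hg a1 a2 => by
      by_contra a3
      refine hn ⟨g, mem_P h hg fun j => ?_, a3⟩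
      by_cases e : j = i
      · exact e ▸ a2
      · rw [a1 j e, one_pow]
  let D : Subgroup G :=
    { carrier := {g | g ∈ Bs z Q ∧ pi h i g ^ 3 = 1 ∧ ∀ j, j ≠ i → pi h j g = 1}
      one_mem' := ⟨one_mem _, by rw [pi_one, one_pow], fun j _ => pi_one h j⟩
      mul_mem' := fun {a b} ha hb => ⟨mul_mem ha.1 hb.1, by
        rcases s_two _ ha.2.1 _ hb.2.1 with e | e | e
        · rwa [pi_mul h i ha.1 hb.1]
        · rw [← pi_mul h i ha.1 hb.1] at e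
          exact absurd (sc _ (mul_mem ha.1 hb.1) (fun j hj => by
            rw [pi_mul h j ha.1 hb.1, ha.2.2 j hj, hb.2.2 j hj, one_mul]) e.1) e.2
        · rw [← pi_inv h i hb.1, ← pi_mul h i ha.1 (inv_mem hb.1)] at e
          exact absurd (sc _ (mul_mem ha.1 (inv_mem hb.1)) (fun j hj => by
            rw [pi_mul h j ha.1 (inv_mem hb.1), pi_inv h j hb.1, ha.2.2 j hj, hb.2.2 j hj, inv_one,
              one_mul]) e.1) e.2,
        fun j hj => by rw [pi_mul h j ha.1 hb.1, ha.2.2 j hj, hb.2.2 j hj, one_mul]⟩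
      inv_mem' := fun ha => ⟨inv_mem ha.1, by rw [pi_inv h i ha.1, inv_pow, ha.2.1, inv_one],
        fun j hj => by rw [pi_inv h j ha.1, ha.2.2 j hj, inv_one]⟩ }
  refine e2 (pi_Q h i (h.o3 D (fun a => ⟨2, Subtype.ext ?_⟩) (fun a ha => Bs_cen ha.1)
    (fun g hg => mem_normalizer_of_cj fun a ha => ⟨cj_Bs h hg ha.1,
      (pi_mv h hg (fix g hg) ha.1 3).2 ha.2.1, fun j hj => ?_⟩) ⟨ht, e1, e3⟩))
  · change (a : G) ^ (3 * 3) = 1
    rw [pow_mul]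
    refine exp3 h (mem_QQ h (pow_mem a.2.1 3) fun j => ?_)
    rw [pi_pow h j a.2.1]
    by_cases e : j = i
    · exact e ▸ a.2.2.1
    · rw [a.2.2.2 j e, one_pow]
  · obtain ⟨l, hl⟩ := exists_mv' h hg j
    exact (pi_mv1 h hg hl ha.1).2 (ha.2.2 l fun e => hj (Mv.unique h hl (e ▸ fix g hg)))

theorem ks_of_one {i : Fin 3} {t : G} (ht : t ∈ Bs z Q) (e1 : pi h i t ^ 3 = 1) (e2 : pi h i t ≠ 1)
    (e3 : ∀ j, j ≠ i → pi h j t = 1) : KS h i := by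
  obtain ⟨p, hp, e⟩ := ns_of_one h ht e1 e2 e3
  obtain ⟨c1, c2, c3⟩ := cm_P h hp ht
  exact ⟨_, c1, c2 i e e1 e2, fun j hj => by rw [c3 j (.inr (e3 j hj)), one_pow]⟩

theorem not_ks (hT : Trn z Q) {i j : Fin 3} (h1 : KS h i) (h2 : U3 h j) : False :=
  not_all h (fun k => let ⟨_, hg, e⟩ := hT i k; h1.mv hg e)
    fun k => let ⟨_, hg, e⟩ := hT j k; h2.mv hg e

/-- in the transitive case the `3`-elements of the base group move every factor -/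
theorem wt3 (hT : Trn z Q) {a : G} (ha : a ∈ Bs z Q) (h3 : ∀ i, pi h i a ^ 3 = 1)
    (hn : a ∉ ⨆ i, Q i) (k : Fin 3) : pi h k a ≠ 1 := by
  intro hk
  have ex : ∀ l, ∃ b ∈ Bs z Q, (∀ i, pi h i b ^ 3 = 1) ∧ b ∉ ⨆ i, Q i ∧ pi h l b = 1 := fun l => by
    obtain ⟨g, hg, e⟩ := hT k l
    refine ⟨_, cj_Bs h hg ha, fun i => ?_, fun e1 => hn ?_, (pi_mv1 h hg e ha).2 hk⟩
    · obtain ⟨j, hj⟩ := exists_mv' h hg i
      exact (pi_mv h hg hj ha 3).2 (h3 j)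
    · simpa [mul_assoc] using cjQ h (inv_mem hg) e1
  have one : ∀ b ∈ Bs z Q, (∀ i, pi h i b ^ 3 = 1) → b ∉ ⨆ i, Q i → ∀ i,
      ¬ ∀ j, j ≠ i → pi h j b = 1 := fun b hb b3 bn i e => by
    have e2 : pi h i b ≠ 1 := fun e2 => bn (mem_QQ h hb fun j => by
      by_cases e3 : j = i
      · exact e3 ▸ e2
      · exact e j e3)
    exact not_ks h hT (ks_of_one h hb (b3 i) e2 e) ⟨b, hb, b3 i, e2⟩
  obtain ⟨a1, b1, b2, b3, b4⟩ := ex 1
  obtain ⟨a2, c1, c2, c3, c4⟩ := ex 2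
  have d1 : pi h 0 a1 ≠ 1 := fun e => one a1 b1 b2 b3 2 fun j hj => by
    fin_cases j
    exacts [e, b4, absurd rfl hj]
  have d2 : pi h 0 a2 ≠ 1 := fun e => one a2 c1 c2 c3 1 fun j hj => by
    fin_cases j
    exacts [e, absurd rfl hj, c4]
  obtain ⟨p, hp, e⟩ : NS h 0 := (ns_or h (i := 0) (j := 1) (by decide)).elim id fun e =>
    let ⟨_, hg, e'⟩ := hT 1 0; e.mv hg e'
  obtain ⟨f1, f2, f3⟩ := cm_P h hp c1
  obtain ⟨g1, g2, g3⟩ := cm_P h f1 b1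
  refine not_ks h hT ⟨_, g1, g2 0 (f2 0 e (c2 0) d2) (b2 0) d1, fun j hj => ?_⟩ ⟨a1, b1, b2 0, d1⟩
  fin_cases j
  · exact absurd rfl hj
  · exact (congrArg (· ^ 2) (g3 1 (.inr b4))).trans (one_pow _)
  · exact (congrArg (· ^ 2) (g3 2 (.inl (by rw [f3 2 (.inr c4), one_pow])))).trans (one_pow _)

include h

theorem rel3 (hT : Trn z Q) {T : Subgroup G} (hB : T ≤ Bs z Q) (h3 : IsPGroup 3 T) :
    (⨆ i, Q i).relIndex T ∣ 3 := by
  have e : (⨆ i, Q i) ⊓ T = Kk h 0 ⊓ T := le_antisymm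
    (fun g hg => ⟨(mem_Kk h).2 ⟨QQ_le h hg.1, pi_Q h 0 hg.1⟩, hg.2⟩) fun g hg => ⟨by
      by_contra hn
      exact wt3 h hT (hB hg.2) (pi_three h h3 hg.2 (hB hg.2)) hn 0 ((mem_Kk h).1 hg.1).2, hg.2⟩
  rw [← inf_relIndex_right, e, inf_relIndex_right]
  exact cutK h 0 hB h3

theorem trn_of {T : Subgroup G} (h3 : IsPGroup 3 T) {c : G} (hc : c ∈ T)
    (hz : c ∈ centralizer ({z} : Set G)) (hn : c ∉ Bs z Q) : Trn z Q := fun i j => by
  obtain ⟨k, hk⟩ := h3 ⟨c, hc⟩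
  obtain ⟨n, e⟩ := cyc h hz (congrArg Subtype.val hk) hn i j
  exact ⟨_, pow_mem hz n, e⟩

omit [Finite G] in
theorem relB (T : Subgroup G) :
    (⨆ i, Q i).relIndex T = (⨆ i, Q i).relIndex (Bs z Q ⊓ T) * (Bs z Q).relIndex T := by
  rw [relIndex_inf_mul_relIndex, inf_eq_left.2 (QQ_le h)]

/-- the `3`-subgroups of `C(z) / Q` have order at most `9` -/
theorem rel9 {T : Subgroup G} (hT : T ≤ centralizer {z}) (h3 : IsPGroup 3 T) :
    (⨆ i, Q i).relIndex T ∣ 9 := by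
  by_cases hB : T ≤ Bs z Q
  · by_contra hn
    have key : ∀ i, ∃ t ∈ Bs z Q, pi h i t ^ 3 = 1 ∧ pi h i t ≠ 1 ∧ ∀ j, j ≠ i → pi h j t = 1 := by
      intro i
      have hall : ∀ l, l = i + 1 ∨ l = i + 2 ∨ l = i := by revert i; decide
      by_contra hc
      push Not at hc
      refine hn ?_
      rw [chain h hall T, relIndex_eq_one.2, one_mul]
      · exact Nat.mul_dvd_mul (cutK h _ (inf_le_right.trans hB) (h3.to_le inf_le_right))
          (cutK h _ hB h3)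
      · intro t ht
        have hb := hB ht.2.2
        by_contra e
        obtain ⟨j, hj, e1⟩ := hc t hb (pi_three h h3 ht.2.2 hb i) fun e1 => e ((mem_Kk h).2 ⟨hb, e1⟩)
        rcases hall j with rfl | rfl | rfl
        exacts [e1 ((mem_Kk h).1 ht.2.1).2, e1 ((mem_Kk h).1 ht.1).2, hj rfl]
    exact not_all h (fun i => let ⟨_, a, b, c, d⟩ := key i; ks_of_one h a b c d)
      fun i => let ⟨t, a, b, c, _⟩ := key i; ⟨t, a, b, c⟩
  · obtain ⟨c, hc, hn⟩ := SetLike.not_le_iff_exists.1 hB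
    rw [relB h]
    exact Nat.mul_dvd_mul (rel3 h (trn_of h h3 hc (hT hc) hn) inf_le_left (h3.to_le inf_le_right))
      (cutB h hT h3)

theorem cm_mem {T : Subgroup G} (hT : T ≤ centralizer {z}) (h3 : IsPGroup 3 T) {a b : G}
    (ha : a ∈ T) (hb : b ∈ T) : a * b * a⁻¹ * b⁻¹ ∈ ⨆ i, Q i := by
  haveI := normal_QQ h hT
  have := comm_of_dvd9 (X := T ⧸ (⨆ i, Q i).subgroupOf T) (rel9 h hT h3) (⟨b⁻¹, inv_mem hb⟩ : T)⁻¹
    (⟨a⁻¹, inv_mem ha⟩ : T)⁻¹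
  rw [← QuotientGroup.mk_inv, ← QuotientGroup.mk_inv, ← QuotientGroup.mk_mul,
    ← QuotientGroup.mk_mul, eq_comm, ← mul_inv_eq_one, ← QuotientGroup.mk_inv,
    ← QuotientGroup.mk_mul, QuotientGroup.eq_one_iff, mem_subgroupOf] at this
  simpa [mul_assoc] using this

end Cfsg.Agent.H12.F22
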