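import Mathlib
import Cfsg.Agent.H12.F22B

/-! The centralizer `3^{1+6} . 2^7 . X`: fixed points, large abelian subgroups, conjugate structures. -/

set_option autoImplicit false
set_option linter.style.haveILetI false

universe u

namespace Cfsg.Agent.H12.F22

open Cfsg Subgroup Matrix H23 H95.L3 H99.F22

variable {G : Type u} [Group G] {z : G} {Q : Fin 3 → Subgroup G} {P : Subgroup G}

theorem isConj_inv {a b : G} (h : IsConj a b) : IsConj a⁻¹ b⁻¹ := by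
  obtain ⟨g, rfl⟩ := isConj_iff.1 h
  exact isConj_iff.2 ⟨g, by group⟩

theorem zt_symm {y : G} (h : ZT z y) : ZT y z :=
  h.imp IsConj.symm fun e => by simpa using isConj_inv e.symm

theorem zt_trans {y x : G} (h1 : ZT z y) (h2 : ZT y x) : ZT z x := by
  rcases h1 with h1 | h1 <;> rcases h2 with h2 | h2
  · exact .inl (h1.trans h2)
  · exact .inr ((isConj_inv h1).trans h2)
  · exact .inr (h1.trans h2)
  · exact .inl (IsConj.trans (by simpa using isConj_inv h1) h2)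

theorem zt_cj {y : G} (h : ZT z y) (g : G) : ZT z (g * y * g⁻¹) :=
  zt_trans h (.inl (isConj_iff.2 ⟨g, rfl⟩))

theorem zt_ord {y : G} (hz : orderOf z = 3) (h : ZT z y) : orderOf y = 3 := by
  rcases h with h | h <;> obtain ⟨g, rfl⟩ := isConj_iff.1 h
  · exact (MulEquiv.orderOf_eq (MulAut.conj g) z).trans hz
  · exact (MulEquiv.orderOf_eq (MulAut.conj g) z⁻¹).trans ((orderOf_inv z).trans hz)

theorem zp_gen (hz : orderOf z = 3) {a c : G} (ha : a ∈ zpowers z) (h1 : a ≠ 1) (hc : c ∈ zpowers z) :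
    ∃ n : ℕ, a ^ n = c := by
  have h3 : z ^ 3 = 1 := hz ▸ pow_orderOf_eq_one z
  have e : z ^ 2 = z⁻¹ := by rw [eq_inv_iff_mul_eq_one, ← pow_succ, h3]
  rcases (mem_zp3 hz).1 hc with rfl | rfl | rfl
  · exact ⟨0, pow_zero _⟩
  · rcases (mem_zp3 hz).1 ha with rfl | rfl | rfl
    exacts [absurd rfl h1, ⟨1, pow_one _⟩, ⟨2, by rw [inv_pow, e, inv_inv]⟩]
  · rcases (mem_zp3 hz).1 ha with rfl | rfl | rfl
    exacts [absurd rfl h1, ⟨2, e⟩, ⟨1, pow_one _⟩]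

theorem zp_eq (hz : orderOf z = 3) {a : G} (ha : a ∈ zpowers z) (h1 : a ≠ 1) {K : Subgroup G}
    (hK : a ∈ K) : z ∈ K :=
  let ⟨n, e⟩ := zp_gen hz ha h1 (mem_zpowers z); e ▸ pow_mem hK n

theorem phi_pow {w y : G} (h : Commute w (w * y * w⁻¹ * y⁻¹)) (n : ℕ) :
    w ^ n * y * (w ^ n)⁻¹ * y⁻¹ = (w * y * w⁻¹ * y⁻¹) ^ n := by
  induction n with
  | zero => simp
  | succ n ih => rw [pow_succ', phi_mul (ih ▸ h.pow_right n), ih, pow_succ]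

/-- weak closure of `⟨z⟩` in `Q` -/
def WC (z : G) (Q : Fin 3 → Subgroup G) : Prop := ∀ q ∈ ⨆ i, Q i, ZT z q → q ∈ zpowers z

theorem hyp_inv (h : Hyp22 z Q P) : Hyp22 z⁻¹ Q P := by
  have e1 : centralizer ({z⁻¹} : Set G) = centralizer {z} := by
    ext g; rw [cen_iff, cen_iff, Commute.inv_right_iff]
  have e2 : zpowers z⁻¹ = zpowers z := zpowers_inv
  obtain ⟨y, y1, y2, y3⟩ := h.nwc
  exact ⟨by rw [orderOf_inv, h.ord], h.card, fun i => inv_mem (h.mem i), h.nab, h.comm, e1 ▸ h.norm,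
    h.self, e1 ▸ h.o3, h.le, e1 ▸ h.cen, e1 ▸ h.nP, h.idx, e1 ▸ h.o2, h.pn, e2 ▸ h.inv,
    y, y1.symm.imp id (by rw [inv_inv]; exact id), y2.inv_right, e2 ▸ y3⟩

theorem zt_map (e : G ≃* G) {y : G} (h : ZT z y) : ZT (e z) (e y) :=
  h.imp (e.toMonoidHom.map_isConj) fun h => by simpa using e.toMonoidHom.map_isConj h

theorem zp_map (e : G ≃* G) {y : G} : e y ∈ zpowers (e z) ↔ y ∈ zpowers z := by
  rw [← show (zpowers z).map e.toMonoidHom = zpowers (e z) from MonoidHom.map_zpowers _ _,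
    mem_map_equiv, e.symm_apply_apply]

theorem hyp_map (h : Hyp22 z Q P) (e : G ≃* G) :
    Hyp22 (e z) (fun i => (Q i).map e.toMonoidHom) (P.map e.toMonoidHom) := by
  have inj : Function.Injective e.toMonoidHom := e.injective
  have mC : centralizer ({e z} : Set G) = (centralizer {z}).map e.toMonoidHom := by
    ext g
    obtain ⟨g, rfl⟩ := e.surjective g
    rw [mem_map_equiv, e.symm_apply_apply, cen_iff, cen_iff]
    exact ⟨fun a => e.injective (by simpa using a.eq), fun a => a.map e⟩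
  have mN := fun K : Subgroup G => (map_equiv_normalizer_eq K e).symm
  have mS : (⨆ i, (Q i).map e.toMonoidHom) = (⨆ i, Q i).map e.toMonoidHom :=
    (Subgroup.map_iSup _ _).symm
  have sur : ∀ T : Subgroup G, ∃ T0 : Subgroup G, T = T0.map e.toMonoidHom := fun T =>
    ⟨T.comap e.toMonoidHom, (map_comap_eq_self_of_surjective e.surjective T).symm⟩
  have le : ∀ {A B : Subgroup G}, A.map e.toMonoidHom ≤ B.map e.toMonoidHom ↔ A ≤ B :=
    map_le_map_iff_of_injective inj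
  obtain ⟨y, y1, y2, y3⟩ := h.nwc
  refine ⟨(e.orderOf_eq z).trans h.ord, fun i => (card_map_of_injective inj).trans (h.card i),
    fun i => ⟨z, h.mem i, rfl⟩, fun i => ?_, ?_, by rw [mC, mS, mN, le]; exact h.norm, ?_, ?_,
    by rw [mS, le]; exact h.le, by rw [mC, le]; exact h.cen, by rw [mC, mN, le]; exact h.nP,
    by rw [mS, relIndex_map_map_of_injective _ _ inj]; exact h.idx, ?_,
    fun i => by rw [mN, le]; exact h.pn i, fun i => ?_,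
    e y, zt_map e y1, y2.map e, fun a => y3 ((zp_map e).1 a)⟩
  · obtain ⟨a, ha, b, hb, hab⟩ := h.nab i
    exact ⟨e a, ⟨a, ha, rfl⟩, e b, ⟨b, hb, rfl⟩, fun c => hab (e.injective (by simpa using c.eq))⟩
  · rintro i j hij _ ⟨a, ha, rfl⟩ _ ⟨b, hb, rfl⟩
    exact (h.comm i j hij a ha b hb).map e
  · intro g hg
    obtain ⟨g, rfl⟩ := e.surjective g
    rw [mS] at hg ⊢
    exact ⟨g, h.self fun a ha => e.injective (by simpa using hg (e a) ⟨a, ha, rfl⟩), rfl⟩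
  · intro T h3
    obtain ⟨T, rfl⟩ := sur T
    rw [mC, mS, mN, le, le, le]
    exact h.o3 T (h3.of_equiv (e.subgroupMap T).symm)
  · intro T
    obtain ⟨T, rfl⟩ := sur T
    rw [mC, mS, mN, le, le, le, le, relIndex_map_map_of_injective _ _ inj]
    exact h.o2 T
  · obtain ⟨x, hx, h1, h2⟩ := h.inv i
    refine ⟨e x, ⟨x, hx, rfl⟩, ?_, ?_⟩
    · rintro _ ⟨q, hq, rfl⟩
      simpa using (zp_map e).2 (h1 q hq)
    · rintro j hj _ ⟨q, hq, rfl⟩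
      simpa using (zp_map e).2 (h2 j hj q hq)

theorem wc_map (e : G ≃* G) : WC (e z) (fun i => (Q i).map e.toMonoidHom) ↔ WC z Q := by
  unfold WC
  rw [← Subgroup.map_iSup]
  refine ⟨fun a q hq b => (zp_map e).1 (a _ ⟨q, hq, rfl⟩ (zt_map e b)), fun a => ?_⟩
  rintro _ ⟨q, hq, rfl⟩ b
  exact (zp_map e).2 (a q hq (by simpa using zt_map e.symm b))

theorem wc_inv : WC z⁻¹ Q ↔ WC z Q := by
  unfold WC ZT
  rw [zpowers_inv, inv_inv]
  simp only [or_comm]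

theorem star (h : Hyp22 z Q P) {y : G} (hy : ZT z y) :
    ∃ Q' P', Hyp22 y Q' P' ∧ (WC y Q' ↔ WC z Q) := by
  rcases hy with hy | hy <;> obtain ⟨g, rfl⟩ := isConj_iff.1 hy
  · exact ⟨_, _, hyp_map h (MulAut.conj g), wc_map (MulAut.conj g)⟩
  · exact ⟨_, _, hyp_map (hyp_inv h) (MulAut.conj g), (wc_map (MulAut.conj g)).trans wc_inv⟩

variable [Finite G] (h : Hyp22 z Q P)

theorem uni' {i : Fin 3} {b : G} (hb : b ∈ Bs z Q) (e1 : pi h i b ^ 3 = 1) (e2 : pi h i b ≠ 1) :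
    Nat.card (Fx (Q i) z b) = 9 ∧ (∀ q ∈ Q i, q * b * q⁻¹ * b⁻¹ ∈ Fx (Q i) z b) ∧
      ∀ w ∈ Fx (Q i) z b, ∃ q ∈ Q i, ∃ c ∈ zpowers z, w = c * (q * b * q⁻¹ * b⁻¹) :=
  uni (x3 h i) (h.card i) (Bs_le i hb)
    ((pi_one_iff h i (pow_mem hb 3)).1 ((pi_pow h i hb 3).trans e1))
    fun e => e2 ((pi_one_iff h i hb).2 e)

/-- a `3`-element of the base group moving every factor -/
def Wt (b : G) : Prop := b ∈ Bs z Q ∧ ∀ i, pi h i b ^ 3 = 1 ∧ pi h i b ≠ 1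

include h

omit [Finite G] in
theorem phi_QQ {y q : G} (hy : y ∈ centralizer ({z} : Set G)) (hq : q ∈ ⨆ i, Q i) :
    q * y * q⁻¹ * y⁻¹ ∈ ⨆ i, Q i := by
  simpa [mul_assoc] using mul_mem hq (cjQ h hy (inv_mem hq))

omit h in
theorem phi_Q {y q : G} {i : Fin 3} (hy : y ∈ Bs z Q) (hq : q ∈ Q i) : q * y * q⁻¹ * y⁻¹ ∈ Q i := by
  simpa [mul_assoc] using mul_mem hq ((mem_Bs.1 hy).2 i _ (inv_mem hq))

theorem cj_Oth {b c : G} {i : Fin 3} (hb : b ∈ Bs z Q) (hc : c ∈ Oth Q i) : b * c * b⁻¹ ∈ Oth Q i :=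
  mem_Oth h (cjQ h (Bs_cen hb) (Oth_le_QQ i hc)) fun a ha => by
    have := (comm_Oth h i _ ((mem_Bs.1 (inv_mem hb)).2 i a ha) c hc).eq
    calc a * (b * c * b⁻¹) = b * (b⁻¹ * a * b⁻¹⁻¹ * c) * b⁻¹ := by group
      _ = _ := by rw [this]; group

theorem memF {b q : G} (hb : b ∈ centralizer ({z} : Set G)) :
    q ∈ Fx (⨆ i, Q i) z b ↔ q ∈ ⨆ i, Q i ∧ b * q * b⁻¹ * q⁻¹ ∈ zpowers z := (xQ h).mem_Fx (nc h hb)

theorem memFi {b q : G} {i : Fin 3} (hb : b ∈ Bs z Q) :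
    q ∈ Fx (Q i) z b ↔ q ∈ Q i ∧ b * q * b⁻¹ * q⁻¹ ∈ zpowers z := (x3 h i).mem_Fx (Bs_le i hb)

theorem memF_of {b q : G} (hb : b ∈ centralizer ({z} : Set G)) (hq : q ∈ ⨆ i, Q i)
    (hc : Commute b q) : q ∈ Fx (⨆ i, Q i) z b :=
  (memF h hb).2 ⟨hq, by rw [hc.eq]; simp⟩

theorem Fx_sub {b : G} (hb : b ∈ Bs z Q) (i : Fin 3) : Fx (Q i) z b ≤ Fx (⨆ i, Q i) z b :=
  fun _ hq => (memF h (Bs_cen hb)).2 ⟨le_iSup Q i ((memFi h hb).1 hq).1, ((memFi h hb).1 hq).2⟩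

theorem comp_fix {b a c : G} {i : Fin 3} (hb : b ∈ Bs z Q) (ha : a ∈ Q i) (hc : c ∈ Oth Q i)
    (e : a * c ∈ Fx (⨆ i, Q i) z b) : a ∈ Fx (Q i) z b := by
  have e1 := ((memF h (Bs_cen hb)).1 e).2
  have h1 : b * c * b⁻¹ * c⁻¹ ∈ Oth Q i := mul_mem (cj_Oth h hb hc) (inv_mem hc)
  have h2 := (comm_Oth h i _ (inv_mem ha) _ h1).eq
  refine (memFi h hb).2 ⟨ha, inf_Oth h (mul_mem ((mem_Bs.1 hb).2 i a ha) (inv_mem ha)) ?_⟩
  have := mul_mem (zpowers_le.2 (z_Oth h i) e1) (inv_mem h1)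
  convert this using 1
  calc b * a * b⁻¹ * a⁻¹ = b * a * b⁻¹ * (a⁻¹ * (b * c * b⁻¹ * c⁻¹)) * (b * c * b⁻¹ * c⁻¹)⁻¹ := by
        group
    _ = _ := by rw [h2]; group

theorem comps {b q : G} (hb : b ∈ Bs z Q) (hq : q ∈ Fx (⨆ i, Q i) z b) :
    ∃ a ∈ Fx (Q 0) z b, ∃ c ∈ Fx (Q 1) z b, ∃ d ∈ Fx (Q 2) z b, q = a * c * d := by
  obtain ⟨a, ha, c, hc, d, hd, rfl⟩ := split3 h (Fx_le b hq)
  refine ⟨a, comp_fix h hb ha (mul_mem (le_Oth (by decide) hc) (le_Oth (by decide) hd))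
    (by rwa [← mul_assoc]), c, comp_fix h hb hc
      (mul_mem (le_Oth (by decide) ha) (le_Oth (by decide) hd)) ?_, d, comp_fix h hb hd
      (mul_mem (le_Oth (by decide) ha) (le_Oth (by decide) hc)) ?_, rfl⟩
  · rwa [← mul_assoc, ← (h.comm 0 1 (by decide) a ha c hc).eq]
  · rwa [← ((h.comm 0 2 (by decide) a ha d hd).mul_left (h.comm 1 2 (by decide) c hc d hd)).eq]

theorem Fx_le_of {b : G} (hb : b ∈ Bs z Q) {K : Subgroup G} (hK : ∀ i, Fx (Q i) z b ≤ K) :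
    Fx (⨆ i, Q i) z b ≤ K := fun q hq => by
  obtain ⟨a, ha, c, hc, d, hd, rfl⟩ := comps h hb hq
  exact mul_mem (mul_mem (hK 0 ha) (hK 1 hc)) (hK 2 hd)

theorem card2 {i : Fin 3} {W W' : Subgroup G} (h1 : W ≤ Q i) (h2 : W' ≤ Oth Q i) (z1 : z ∈ W)
    (z2 : z ∈ W') : Nat.card ↥(W ⊔ W') * 3 = Nat.card W * Nat.card W' := by
  rw [← card_sup_mul_inf fun a ha b hb => comm_Oth h i a (h1 ha) b (h2 hb),
    le_antisymm (fun a ha => inf_Oth h (h1 ha.1) (h2 ha.2) : W ⊓ W' ≤ zpowers z)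
      (zpowers_le.2 (mem_inf.2 ⟨z1, z2⟩)), Nat.card_zpowers, h.ord]

theorem zF {b : G} (hb : b ∈ Bs z Q) (i : Fin 3) : z ∈ Fx (Q i) z b := (x3 h i).z_mem_Fx (Bs_le i hb)

variable {h}

theorem Wt.comm {b : G} (hb : Wt h b) : ∀ a ∈ Fx (⨆ i, Q i) z b, ∀ c ∈ Fx (⨆ i, Q i) z b,
    Commute a c := fun _ ha c hc => cen_iff.1 (Fx_le_of h hb.1 (K := centralizer {c})
      (fun i a ha => cen_iff.2 (cen_iff.1 (Fx_le_of h hb.1 (K := centralizer {a}) (fun j c hc => by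
        by_cases e : j = i
        · subst e
          exact cen_iff.2 (comm_nine (uni' h hb.1 (hb.2 j).1 (hb.2 j).2).1 hc ha)
        · exact cen_iff.2 (h.comm j i e c (Fx_le b hc) a (Fx_le b ha))) hc)).symm) ha)

theorem Wt.card {b : G} (hb : Wt h b) : Nat.card (Fx (⨆ i, Q i) z b) = 81 := by
  refine le_antisymm (ab_le h (Fx_le b) ((xQ h).z_mem_Fx (nc h (Bs_cen hb.1))) hb.comm) ?_
  have c := fun i => (uni' h hb.1 (hb.2 i).1 (hb.2 i).2).1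
  have a1 := card2 h (i := 1) (Fx_le b) ((Fx_le b).trans (le_Oth (j := 2) (by decide)))
    (zF h hb.1 1) (zF h hb.1 2)
  have a2 := card2 h (i := 0) (W' := Fx (Q 1) z b ⊔ Fx (Q 2) z b) (Fx_le b)
    (sup_le ((Fx_le b).trans (le_Oth (by decide))) ((Fx_le b).trans (le_Oth (by decide))))
    (zF h hb.1 0) (mem_sup_left (zF h hb.1 1))
  have a3 := card_le_of_le (sup_le (Fx_sub h hb.1 0) (sup_le (Fx_sub h hb.1 1) (Fx_sub h hb.1 2)))
  rw [c, c] at a1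
  rw [c] at a2
  omega

variable (h)

theorem phi3 {y a b c : G} (hy : y ∈ Bs z Q) (ha : a ∈ Q 0) (hb : b ∈ Q 1) (hc : c ∈ Q 2) :
    a * b * c * y * (a * b * c)⁻¹ * y⁻¹ =
      (a * y * a⁻¹ * y⁻¹) * (b * y * b⁻¹ * y⁻¹) * (c * y * c⁻¹ * y⁻¹) := by
  have a0 := phi_Q hy ha
  have a1 := phi_Q hy hb
  have a2 := phi_Q hy hc
  rw [phi_mul ((h.comm 0 2 (by decide) a ha _ a2).mul_left (h.comm 1 2 (by decide) b hb _ a2)),
    phi_mul (h.comm 0 1 (by decide) a ha _ a1), ← (h.comm 0 1 (by decide) _ a0 _ a1).eq,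
    ← ((h.comm 0 2 (by decide) _ a0 _ a2).mul_left (h.comm 1 2 (by decide) _ a1 _ a2)).eq]

variable {h}

theorem Wt.phi {b q : G} (hb : Wt h b) (hq : q ∈ ⨆ i, Q i) :
    q * b * q⁻¹ * b⁻¹ ∈ Fx (⨆ i, Q i) z b := by
  obtain ⟨a, ha, c, hc, d, hd, rfl⟩ := split3 h hq
  have c := fun i q hq => Fx_sub h hb.1 i ((uni' h hb.1 (hb.2 i).1 (hb.2 i).2).2.1 q hq)
  rw [phi3 h hb.1 ha hc hd]
  exact mul_mem (mul_mem (c 0 _ ha) (c 1 _ hc)) (c 2 _ hd)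

variable (h)

theorem cut_cen {D : Subgroup G} (hD : D ≤ ⨆ i, Q i) {a : G} (ha : a ∈ ⨆ i, Q i)
    (hn : a ∉ zpowers z) : Nat.card D ≤ Nat.card ↥(D ⊓ centralizer {a}) * 3 := by
  have h1 := (xQ h).card_cent_elt ha hn
  have h2 := card_inf_mul (⨆ i, Q i) (centralizer {a})
  rw [← h1] at h2
  have h3 := Nat.eq_of_mul_eq_mul_left Nat.card_pos h2
  rw [← card_inf_mul D (centralizer {a})]
  exact Nat.mul_le_mul_left _ (h3 ▸ relIndex_le_of_le_right hD (by omega))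

/-- a large abelian `3`-subgroup normalizes the factors -/
theorem claimA {T : Subgroup G} (hT : T ≤ centralizer {z}) (h3 : IsPGroup 3 T)
    (hc : ∀ a ∈ T, ∀ b ∈ T, Commute a b) (h243 : 243 ≤ Nat.card T) : T ≤ Bs z Q := by
  intro c hcT
  by_contra hn
  obtain ⟨k, hk⟩ := h3 ⟨c, hcT⟩
  have key : ∀ i, ∀ w ∈ Q i, ∀ a ∈ Q i, ¬ Commute w a →
      Nat.card ↥(T ⊓ (⨆ i, Q i) ⊓ centralizer {w}) ≤ 9 := fun i w hw a ha hwa => by
    have h1 := cut_cen h (D := T ⊓ (⨆ i, Q i) ⊓ centralizer {w}) (inf_le_left.trans inf_le_right)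
      (le_iSup Q i ha) fun e => hwa ((x3 h i).commute_zp hw e)
    have h2 : T ⊓ (⨆ i, Q i) ⊓ centralizer {w} ⊓ centralizer {a} ≤ zpowers z := fun q hq => by
      have h4 : Q i ≤ centralizer {q} := gen27 (h.card i) ⟨hw, cen_iff.2 (cen_iff.1 hq.1.2).symm⟩
        ⟨ha, cen_iff.2 (cen_iff.1 hq.2).symm⟩ hwa
      refine zp_of_all h hq.1.1.2 fun j s hs => ?_
      obtain ⟨n, e⟩ := cyc h (hT hcT) (congrArg Subtype.val hk) hn j i
      have e1 := (cen_iff.1 (h4 (e s hs))).eq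
      have e2 := (hc _ (pow_mem hcT n) q hq.1.1.1).eq
      calc s * q = (c ^ n)⁻¹ * (c ^ n * s * (c ^ n)⁻¹ * q) * (q⁻¹ * (c ^ n * q)) := by group
        _ = ((c ^ n)⁻¹ * (q * c ^ n)) * s := by rw [e1, e2]; group
        _ = q * s := by rw [← e2]; group
    have := card_le_of_le h2
    rw [Nat.card_zpowers, h.ord] at this
    omega
  have r9 := Nat.le_of_dvd (by norm_num) (rel9 h hT h3)
  have e := card_inf_mul T (⨆ i, Q i)
  obtain ⟨w, hw, a, ha, hwa⟩ := h.nab 0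
  have d27 : Nat.card ↥(T ⊓ ⨆ i, Q i) ≤ 27 := by
    have := cut_cen h (D := T ⊓ ⨆ i, Q i) inf_le_right (le_iSup Q 0 hw)
      fun e => hwa ((x3 h 0).commute_zp ha e).symm
    have := key 0 w hw a ha hwa
    omega
  have nb : ¬ Bs z Q ⊓ T ≤ ⨆ i, Q i := fun hle => by
    have := Nat.le_of_dvd (by norm_num) (cutB h hT h3)
    rw [relB h T, relIndex_eq_one.2 hle, one_mul] at e
    have := Nat.mul_le_mul d27 this
    omega
  obtain ⟨b, hb, hbn⟩ := SetLike.not_le_iff_exists.1 nb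
  obtain ⟨i, hi⟩ : ∃ i, pi h i b ≠ 1 := by
    by_contra hcon; push Not at hcon; exact hbn (mem_QQ h hb.1 hcon)
  obtain ⟨u1, -, u3⟩ := uni' h hb.1 (pi_three h h3 hb.2 hb.1 i) hi
  obtain ⟨w, hw, hwn⟩ := exists_not_mem (W := Fx (Q i) z b) h.ord (by omega)
  obtain ⟨a, ha, hwa⟩ : ∃ a ∈ Q i, ¬ Commute w a := by
    by_contra hcon; push Not at hcon; exact hwn ((x3 h i).nd w (Fx_le b hw) hcon)
  have d9 := key i w (Fx_le b hw) a ha hwa
  obtain ⟨s, hs, ζ, hζ, rfl⟩ := u3 w hw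
  suffices hle : T ⊓ (⨆ i, Q i) ≤ centralizer {ζ * (s * b * s⁻¹ * b⁻¹)} by
    rw [inf_eq_left.2 hle] at d9
    have := Nat.mul_le_mul d9 r9
    omega
  refine fun q hq => cen_iff.2 (((xQ h).commute_zp hq.2 hζ).mul_right ?_)
  · have e1 := (hc q hq.1 b hb.2).eq
    have e2 := (xQ h).comm q hq.2 s (le_iSup Q i hs)
    have e3 := cj_zp (mul_mem (mul_mem (QQ_cen h (le_iSup Q i hs)) (Bs_cen hb.1))
      (inv_mem (QQ_cen h (le_iSup Q i hs)))) (inv_mem e2)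
    obtain ⟨ε, hε⟩ : ∃ ε, ε = q * s * q⁻¹ * s⁻¹ := ⟨_, rfl⟩
    rw [← hε] at e2 e3
    have e4 : q * s = ε * s * q := by rw [hε]; group
    have e5 : q * b⁻¹ = b⁻¹ * q := (hc q hq.1 b hb.2).inv_right.eq
    calc q * (s * b * s⁻¹ * b⁻¹) = (q * s) * b * (q * s)⁻¹ * (q * b⁻¹) := by group
      _ = ε * s * (q * b) * q⁻¹ * s⁻¹ * ε⁻¹ * b⁻¹ * q := by rw [e4, e5]; group
      _ = ε * (s * b * s⁻¹ * ε⁻¹ * (s * b * s⁻¹)⁻¹) * (s * b * s⁻¹ * b⁻¹) * q := by rw [e1]; group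
      _ = _ := by rw [e3]; group

/-- the structure of a large abelian `3`-subgroup in the transitive case -/
theorem big (hT : Trn z Q) {J : Subgroup G} (hJ : J ≤ centralizer {z}) (h3 : IsPGroup 3 J)
    (hc : ∀ a ∈ J, ∀ b ∈ J, Commute a b) (h243 : 243 ≤ Nat.card J) :
    (⨆ i, Q i).relIndex J ∣ 3 ∧ 81 ≤ Nat.card ↥(J ⊓ ⨆ i, Q i) ∧
      ∀ c ∈ J, c ∉ ⨆ i, Q i → Wt h c ∧ Fx (⨆ i, Q i) z c = J ⊓ ⨆ i, Q i := by
  have hB := claimA h hJ h3 hc h243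
  have r := rel3 h hT hB h3
  have e := card_inf_mul J (⨆ i, Q i)
  have c81 : 81 ≤ Nat.card ↥(J ⊓ ⨆ i, Q i) := by
    have := Nat.mul_le_mul_left (Nat.card ↥(J ⊓ ⨆ i, Q i)) (Nat.le_of_dvd (by norm_num) r)
    omega
  refine ⟨r, c81, fun c hcJ hn => ?_⟩
  have w : Wt h c := ⟨hB hcJ, fun i => ⟨pi_three h h3 hcJ (hB hcJ) i,
    wt3 h hT (hB hcJ) (pi_three h h3 hcJ (hB hcJ)) hn i⟩⟩
  exact ⟨w, (eq_of_le_of_card_ge (H := J ⊓ ⨆ i, Q i)
    (fun q hq => memF_of h (hJ hcJ) hq.2 (hc c hcJ q hq.1)) (by rw [w.card]; exact c81)).symm⟩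

end Cfsg.Agent.H12.F22
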