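import Mathlib
import Cfsg.Agent.H12.F22C

/-! The centralizer `3^{1+6} . 2^7 . X`: the centre is not weakly closed in `Q`. -/

set_option autoImplicit false
set_option linter.style.haveILetI false

universe u

namespace Cfsg.Agent.H12.F22

open Cfsg Subgroup Matrix H23 H95.L3 H99.F22

variable {G : Type u} [Group G] {z y : G} {Q Q' : Fin 3 → Subgroup G} {P P' : Subgroup G}

theorem mkJ [Finite G] {W : Subgroup G} {b : G} (h3 : ∀ a ∈ W, a ^ 3 = 1)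
    (hc : ∀ a ∈ W, ∀ c ∈ W, Commute a c) (hb : ∀ a ∈ W, Commute a b) (b9 : b ^ 9 = 1)
    (h81 : Nat.card W = 81) (hn : b ∉ W) :
    (∀ a ∈ W ⊔ zpowers b, ∀ c ∈ W ⊔ zpowers b, Commute a c) ∧ IsPGroup 3 ↥(W ⊔ zpowers b) ∧
      243 ≤ Nat.card ↥(W ⊔ zpowers b) := by
  haveI : Fact (Nat.Prime 3) := ⟨by norm_num⟩
  have hm : ∀ a ∈ W ⊔ zpowers b, ∃ w ∈ W, ∃ k : ℤ, a = w * b ^ k := fun a ha => by
    obtain ⟨w, hw, _, ⟨k, rfl⟩, e⟩ := (mem_sup_of_commute (B := zpowers b)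
      fun a ha _ ⟨k, e⟩ => e ▸ (hb a ha).zpow_right k).1 ha
    exact ⟨w, hw, k, e⟩
  have hp : IsPGroup 3 ↥(W ⊔ zpowers b) := fun a => ⟨2, Subtype.ext (by
    obtain ⟨w, hw, k, e⟩ := hm a a.2
    change (a : G) ^ 9 = 1
    rw [e, ((hb w hw).zpow_right k).mul_pow, ← zpow_natCast (b ^ k), ← _root_.zpow_mul,
      mul_comm k, _root_.zpow_mul, zpow_natCast, b9, _root_.one_zpow, mul_one, show 9 = 3 * 3 from rfl, pow_mul, h3 w hw,
      one_pow])⟩
  refine ⟨fun a ha c hc' => ?_, hp, ?_⟩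
  · obtain ⟨w, hw, k, rfl⟩ := hm a ha
    obtain ⟨v, hv, l, rfl⟩ := hm c hc'
    exact ((hc w hw v hv).mul_right ((hb w hw).zpow_right l)).mul_left
      (((hb v hv).zpow_right k).symm.mul_right ((Commute.refl b).zpow_zpow k l))
  · obtain ⟨n, e⟩ := hp.exists_card_eq
    by_contra hlt
    have h1 : n < 5 := (Nat.pow_lt_pow_iff_right (a := 3) (by norm_num)).1 (by omega)
    have h2 : 3 ^ n ≤ 3 ^ 4 := Nat.pow_le_pow_right (by norm_num) (by omega)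
    exact hn (eq_of_le_of_card_ge (le_sup_left : W ≤ W ⊔ zpowers b) (by omega) ▸
      mem_sup_right (mem_zpowers b))

variable [Finite G]

theorem indep (h : Hyp22 z Q P) {a b c : G} (ha : a ∈ Q 0) (hb : b ∈ Q 1) (hc : c ∈ Q 2)
    (e : a * b * c = 1) : a ∈ zpowers z ∧ b ∈ zpowers z ∧ c ∈ zpowers z := by
  refine ⟨inf_Oth h ha ?_, inf_Oth h hb ?_, inf_Oth h hc ?_⟩
  · rw [show a = (b * c)⁻¹ from eq_inv_of_mul_eq_one_left (by rw [← e, mul_assoc])]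
    exact inv_mem (mul_mem (le_Oth (by decide) hb) (le_Oth (by decide) hc))
  · rw [show b = a⁻¹ * (a * b * c) * c⁻¹ by group, e, mul_one]
    exact mul_mem (inv_mem (le_Oth (by decide) ha)) (inv_mem (le_Oth (by decide) hc))
  · rw [show c = (a * b)⁻¹ from eq_inv_of_mul_eq_one_right e]
    exact inv_mem (mul_mem (le_Oth (by decide) ha) (le_Oth (by decide) hb))

/-- the preimage of `[V, y]` -/
def Ph (h : Hyp22 z Q P) (hy : y ∈ centralizer ({z} : Set G)) : Subgroup G where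
  carrier := {v | ∃ q ∈ ⨆ i, Q i, ∃ c ∈ zpowers z, v = c * (q * y * q⁻¹ * y⁻¹)}
  one_mem' := ⟨1, one_mem _, 1, one_mem _, by simp⟩
  mul_mem' := by
    rintro _ _ ⟨q, hq, c, hc, rfl⟩ ⟨s, hs, d, hd, rfl⟩
    have e1 := (xQ h).comm _ (phi_QQ h hy hq) s hs
    have e2 := ((xQ h).commute_zp (phi_QQ h hy hq) hd).eq
    refine ⟨s * q, mul_mem hs hq, _, mul_mem (mul_mem hc hd) e1, ?_⟩
    calc _ = c * (q * y * q⁻¹ * y⁻¹ * d) * (s * y * s⁻¹ * y⁻¹) := by group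
      _ = _ := by rw [e2]; group
  inv_mem' := by
    rintro _ ⟨q, hq, c, hc, rfl⟩
    have e1 := (xQ h).comm _ (inv_mem (phi_QQ h hy hq)) _ (inv_mem hq)
    have e2 := ((xQ h).commute_zp (inv_mem (phi_QQ h hy hq)) (inv_mem hc)).eq
    refine ⟨q⁻¹, inv_mem hq, _, mul_mem (inv_mem hc) e1, ?_⟩
    rw [_root_.mul_inv_rev c, e2]; group

theorem F_le_Ph (h : Hyp22 z Q P) (hy : y ∈ Bs z Q) {i : Fin 3} (e1 : pi h i y ^ 3 = 1)
    (e2 : pi h i y ≠ 1) : Fx (Q i) z y ≤ Ph h (Bs_cen hy) := fun w hw =>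
  let ⟨q, hq, c, hc, e⟩ := (uni' h hy e1 e2).2.2 w hw; ⟨q, le_iSup Q i hq, c, hc, e⟩

theorem phi_zp (h : Hyp22 z Q P) (hy : y ∈ centralizer ({z} : Set G)) {w : G}
    (hw : w ∈ Fx (⨆ i, Q i) z y) : w * y * w⁻¹ * y⁻¹ ∈ zpowers z := by
  simpa [mul_assoc] using inv_mem ((memF h hy).1 hw).2

theorem exists_phi (h : Hyp22 z Q P) (hy : y ∈ centralizer ({z} : Set G)) {w c : G}
    (hw : w ∈ Fx (⨆ i, Q i) z y) (hn : ¬ Commute w y) (hc : c ∈ zpowers z) :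
    ∃ n : ℕ, w ^ n * y * (w ^ n)⁻¹ * y⁻¹ = c := by
  obtain ⟨n, e⟩ := zp_gen h.ord (phi_zp h hy hw)
    (fun e => hn (commutatorElement_eq_one_iff_commute.1 e)) hc
  exact ⟨n, (phi_pow ((xQ h).commute_zp (Fx_le y hw) (phi_zp h hy hw)) n).trans e⟩

theorem conj_all (h : Hyp22 z Q P) (hy : y ∈ centralizer ({z} : Set G)) {w v : G}
    (hw : w ∈ Fx (⨆ i, Q i) z y) (hn : ¬ Commute w y) (hv : v ∈ Ph h hy) : ZT y (v * y) := by
  obtain ⟨q, hq, c, hc, rfl⟩ := hv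
  obtain ⟨n, e⟩ := exists_phi h hy hw hn hc
  refine .inl (isConj_iff.2 ⟨q * w ^ n, ?_⟩)
  calc _ = q * (w ^ n * y * (w ^ n)⁻¹ * y⁻¹) * y * q⁻¹ := by group
    _ = _ := by rw [e, ((xQ h).commute_zp hq hc).eq]; group

theorem cut_F (h : Hyp22 z Q P) (hy : y ∈ centralizer ({z} : Set G)) :
    Nat.card (Fx (⨆ i, Q i) z y) ≤ Nat.card ↥(Fx (⨆ i, Q i) z y ⊓ centralizer {y}) * 3 := by
  let f : Fx (⨆ i, Q i) z y →* zpowers z := MonoidHom.mk' (fun q => ⟨_, phi_zp h hy q.2⟩)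
    fun a b => Subtype.ext ((phi_mul ((xQ h).commute_zp (Fx_le y a.2) (phi_zp h hy b.2))).trans
      ((xQ h).commute_zp (phi_QQ h hy (Fx_le y a.2)) (phi_zp h hy b.2)).eq.symm)
  have := cut3 (K := centralizer {y}) f (by rw [Nat.card_zpowers, h.ord]; decide)
    (fun g => by
      rw [cen_iff, ← commutatorElement_eq_one_iff_commute, Subtype.ext_iff]; rfl)
    le_rfl ((xQ h).isPGroup.to_le (Fx_le y))
  rw [← card_inf_mul _ (centralizer {y})]
  exact Nat.mul_le_mul_left _ (Nat.le_of_dvd (by norm_num) this)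

/-- two commuting points under the weak closure assumption -/
structure Pr (z : G) (Q : Fin 3 → Subgroup G) (P : Subgroup G) (y : G) : Prop where
  h : Hyp22 z Q P
  wc : WC z Q
  zt : ZT z y
  cm : y ∈ centralizer ({z} : Set G)
  ne : y ∉ zpowers z

namespace Pr

variable (p : Pr z Q P y)
include p

omit [Finite G] in
theorem y3 : y ^ 3 = 1 := zt_ord p.h.ord p.zt ▸ pow_orderOf_eq_one y

omit [Finite G] in
theorem notQ : y ∉ ⨆ i, Q i := fun e => p.ne (p.wc y e p.zt)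

omit [Finite G] in
theorem eq_one {v : G} (h1 : v ∈ ⨆ i, Q i) (h2 : v * y ∈ zpowers y) : v = 1 := by
  by_contra hn
  exact p.notQ (zp_eq (zt_ord p.h.ord p.zt) (by simpa using mul_mem h2 (inv_mem (mem_zpowers y)))
    hn h1)

omit [Finite G] in
theorem star : ∃ Q' P', Pr y Q' P' z := by
  obtain ⟨Q', P', h', e⟩ := F22.star p.h p.zt
  exact ⟨Q', P', h', e.2 p.wc, zt_symm p.zt, cen_iff.2 (cen_iff.1 p.cm).symm, fun e => p.ne
    (zp_eq (zt_ord p.h.ord p.zt) e (fun e => by have := p.h.ord; rw [e, orderOf_one] at this; omega)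
      (mem_zpowers z))⟩

theorem p3 {F : Subgroup G} (hF : F ≤ ⨆ i, Q i) : IsPGroup 3 F := (xQ p.h).isPGroup.to_le hF

theorem ab {a b : G} (ha : a ∈ ⨆ i, Q i) (hb : b ∈ ⨆ i, Q i) (ca : Commute a y) (cb : Commute b y) :
    Commute a b := by
  obtain ⟨Q', P', p'⟩ := p.star
  by_contra hn
  exact p'.notQ (zp_eq p.h.ord ((xQ p.h).comm a ha b hb)
    (fun e => hn (commutatorElement_eq_one_iff_commute.1 e))
    (cm_mem p'.h (T := (⨆ i, Q i) ⊓ centralizer {y}) inf_le_right (p.p3 inf_le_left)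
      ⟨ha, cen_iff.2 ca⟩ ⟨hb, cen_iff.2 cb⟩))

theorem hit9 {F : Subgroup G} (h1 : F ≤ ⨆ i, Q i) (h2 : F ≤ centralizer {y})
    (h3 : ∀ v ∈ F, ZT y (v * y)) : Nat.card F ≤ 9 := by
  obtain ⟨Q', P', p'⟩ := p.star
  have e : F ⊓ ⨆ i, Q' i = ⊥ := eq_bot_iff.2 fun v hv => p.eq_one (h1 hv.1)
    (p'.wc _ (mul_mem hv.2 (xQ p'.h).mem) (h3 v hv.1))
  rw [← card_inf_mul F (⨆ i, Q' i), e, card_bot, one_mul]
  exact Nat.le_of_dvd (by norm_num) (rel9 p'.h h2 (p.p3 h1))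

theorem ex12 (hy : y ∈ Bs z Q) (k : Fin 3) : pi p.h k y ≠ 1 := by
  intro hk
  have h := p.h
  have c3 : ∀ i, pi h i y ^ 3 = 1 := fun i => by rw [← pi_pow h i hy, p.y3, pi_one]
  have tr : ∀ j, pi h j y = 1 → Q j ≤ Fx (⨆ i, Q i) z y := fun j e q hq =>
    (memF h p.cm).2 ⟨le_iSup Q j hq, (pi_one_iff h j hy).1 e q hq⟩
  have nc : ∀ j, ∃ q ∈ Q j, ¬ Commute q y := fun j => by
    by_contra hc
    push Not at hc
    obtain ⟨a, ha, b, hb, hab⟩ := h.nab j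
    exact hab (p.ab (le_iSup Q j ha) (le_iSup Q j hb) (hc a ha) (hc b hb))
  have N : ∀ w ∈ Fx (⨆ i, Q i) z y, w ∈ Oth Q k → Commute w y := fun w hw ho => by
    by_contra hn
    have key : ∀ q ∈ Q k, ∃ n : ℕ, Commute (w ^ n * q) y := fun q hq => by
      have e1 := phi_zp h p.cm (tr k hk hq)
      obtain ⟨n, e⟩ := exists_phi h p.cm hw hn (inv_mem e1)
      refine ⟨n, commutatorElement_eq_one_iff_commute.1 ?_⟩
      rw [commutatorElement_def, phi_mul ((xQ h).commute_zp (pow_mem (Fx_le y hw) n) e1), e,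
        mul_inv_cancel]
    obtain ⟨a, ha, b, hb, hab⟩ := h.nab k
    obtain ⟨n, e1⟩ := key a ha
    obtain ⟨m, e2⟩ := key b hb
    have hw' := Fx_le y hw
    have e3 := p.ab (mul_mem (pow_mem hw' n) (le_iSup Q k ha)) (mul_mem (pow_mem hw' m)
      (le_iSup Q k hb)) e1 e2
    have ca := (comm_Oth h k a ha w ho)
    have cb := (comm_Oth h k b hb w ho)
    have e4 := ((((Commute.refl w).pow_pow n m).mul_right (cb.symm.pow_left n)).inv_left).mul_left e3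
    rw [inv_mul_cancel_left] at e4
    have e5 := (ca.pow_right m).inv_right.mul_right e4
    rw [inv_mul_cancel_left] at e5
    exact hab e5
  obtain ⟨w, hw, hn⟩ := nc k
  have ne : ∀ j, j ≠ k → pi h j y ≠ 1 := fun j hj e =>
    let ⟨q, hq, hn⟩ := nc j; hn (N q (tr j e hq) (le_Oth hj hq))
  have n1 : k + 1 ≠ k := ne_succ k
  have n2 : k + 2 ≠ k := by clear * -; revert k; decide
  have n3 : k + 2 ≠ k + 1 := by clear * -; revert k; decide
  have a1 := card2 h (W := Fx (Q (k + 1)) z y) (W' := Fx (Q (k + 2)) z y) (Fx_le y)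
    ((Fx_le y).trans (le_Oth n3)) (zF h hy _) (zF h hy _)
  rw [(uni' h hy (c3 _) (ne _ n1)).1, (uni' h hy (c3 _) (ne _ n2)).1] at a1
  have a2 := p.hit9 (F := Fx (Q (k + 1)) z y ⊔ Fx (Q (k + 2)) z y)
    (sup_le ((Fx_le y).trans (le_iSup Q _)) ((Fx_le y).trans (le_iSup Q _)))
    (sup_le (fun v hv => cen_iff.2 (N v (Fx_sub h hy _ hv) (le_Oth n1 (Fx_le y hv))))
      fun v hv => cen_iff.2 (N v (Fx_sub h hy _ hv) (le_Oth n2 (Fx_le y hv))))
    fun v hv => conj_all h p.cm (tr k hk hw) hn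
      (sup_le (F_le_Ph h hy (c3 _) (ne _ n1)) (F_le_Ph h hy (c3 _) (ne _ n2)) hv)
  omega

omit [Finite G] in
theorem next (p' : Pr y Q' P' z) {v : G} (h1 : v ∈ ⨆ i, Q i) (h2 : v ≠ 1) (h3 : Commute v y)
    (h4 : ZT y (v * y)) : Pr y Q' P' (v * y) :=
  ⟨p'.h, p'.wc, h4, cen_iff.2 (h3.mul_left (Commute.refl y)), fun e => h2 (p.eq_one h1 e)⟩

theorem exB : y ∉ Bs z Q := by
  intro hy
  have h := p.h
  have w : Wt h y := ⟨hy, fun i => ⟨by rw [← pi_pow h i hy, p.y3, pi_one], p.ex12 hy i⟩⟩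
  by_cases hc : ∀ v ∈ Fx (⨆ i, Q i) z y, Commute v y
  · obtain ⟨Q', P', p'⟩ := p.star
    obtain ⟨j1, j2, j3⟩ := mkJ (fun a ha => exp3 h (Fx_le y ha)) w.comm hc
      (by rw [show 9 = 3 * 3 from rfl, pow_mul, p.y3, one_pow]) w.card fun e => p.notQ (Fx_le y e)
    have hB : Fx (⨆ i, Q i) z y ≤ Bs y Q' := le_sup_left.trans (claimA p'.h
      (sup_le (fun v hv => cen_iff.2 (hc v hv)) (zpowers_le.2 (cen_iff.2 (Commute.refl y)))) j2 j1 j3)
    have key : ∀ a ∈ Q 0, ∀ b ∈ Q 1, ∀ c ∈ Q 2, pi p'.h 0 (a * y * a⁻¹ * y⁻¹) *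
        pi p'.h 0 (b * y * b⁻¹ * y⁻¹) * pi p'.h 0 (c * y * c⁻¹ * y⁻¹) = 1 →
        a * y * a⁻¹ * y⁻¹ ∈ zpowers z ∧ b * y * b⁻¹ * y⁻¹ ∈ zpowers z ∧
          c * y * c⁻¹ * y⁻¹ ∈ zpowers z := fun a ha b hb c hc' e => by
      have ma := hB (w.phi (le_iSup Q 0 ha))
      have mb := hB (w.phi (le_iSup Q 1 hb))
      have mc := hB (w.phi (le_iSup Q 2 hc'))
      have mq := w.phi (mul_mem (mul_mem (le_iSup Q 0 ha) (le_iSup Q 1 hb)) (le_iSup Q 2 hc'))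
      rw [← pi_mul _ _ ma mb, ← pi_mul _ _ (mul_mem ma mb) mc, ← phi3 h hy ha hb hc'] at e
      refine indep h (phi_Q hy ha) (phi_Q hy hb) (phi_Q hy hc') ?_
      rw [← phi3 h hy ha hb hc']
      by_contra hn
      have my := QQ_le p'.h (xQ p'.h).mem
      refine (p.next p' (Fx_le y mq) hn (hc _ mq) (.inl (isConj_iff.2 ⟨a * b * c, by group⟩))).ex12
        (mul_mem (hB mq) my) 0 ?_
      rw [pi_mul _ _ (hB mq) my, e, pi_Q _ _ (xQ p'.h).mem, one_mul]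
    have ex : ∀ i, ∃ q ∈ Q i, q * y * q⁻¹ * y⁻¹ ∉ zpowers z := fun i => by
      obtain ⟨u1, -, u3⟩ := uni' h hy (w.2 i).1 (w.2 i).2
      obtain ⟨v, hv, hn⟩ := exists_not_mem (W := Fx (Q i) z y) h.ord (by omega)
      obtain ⟨q, hq, c, hc, rfl⟩ := u3 v hv
      exact ⟨q, hq, fun e => hn (mul_mem hc e)⟩
    obtain ⟨a, ha, na⟩ := ex 0
    obtain ⟨b, hb, nb⟩ := ex 1
    obtain ⟨c, hc', nc⟩ := ex 2
    have ma := w.phi (le_iSup Q 0 ha)
    have mb := w.phi (le_iSup Q 1 hb)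
    have mc := w.phi (le_iSup Q 2 hc')
    have cu : ∀ v ∈ Fx (⨆ i, Q i) z y, pi p'.h 0 v ^ 3 = 1 := fun v hv => by
      rw [← pi_pow _ _ (hB hv), exp3 h (Fx_le y hv), pi_one]
    have cm : ∀ v ∈ Fx (⨆ i, Q i) z y, ∀ t ∈ Fx (⨆ i, Q i) z y,
        pi p'.h 0 v * pi p'.h 0 t = pi p'.h 0 t * pi p'.h 0 v := fun v hv t ht => by
      rw [← pi_mul _ _ (hB hv) (hB ht), ← pi_mul _ _ (hB ht) (hB hv), (w.comm v hv t ht).eq]
    have o : pi p'.h 0 (1 * y * 1⁻¹ * y⁻¹) = 1 := by simpa using pi_one p'.h 0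
    rcases s_sum _ (cu _ ma) _ (cu _ mb) (cm _ ma _ mb) _ (cu _ mc) (cm _ ma _ mc) (cm _ mb _ mc) with
      e | e | e | e | e | e | e
    · exact na (key a ha 1 (one_mem _) 1 (one_mem _) (by rw [o, e, mul_one, mul_one])).1
    · exact nb (key 1 (one_mem _) b hb 1 (one_mem _) (by rw [o, e, mul_one, mul_one])).2.1
    · exact nc (key 1 (one_mem _) 1 (one_mem _) c hc' (by rw [o, e, mul_one, mul_one])).2.2
    · exact na (key a ha b hb 1 (one_mem _) (by rw [o, e, mul_one])).1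
    · exact na (key a ha 1 (one_mem _) c hc' (by rw [o, mul_one, e])).1
    · exact nb (key 1 (one_mem _) b hb c hc' (by rw [o, one_mul, e])).2.1
    · exact na (key a ha b hb c hc' e).1
  · push Not at hc
    obtain ⟨v, hv, hn⟩ := hc
    have a1 := cut_F h p.cm
    have a2 := p.hit9 (F := Fx (⨆ i, Q i) z y ⊓ centralizer {y}) (inf_le_left.trans (Fx_le y))
      inf_le_right fun t ht => conj_all h p.cm hv hn
        (Fx_le_of h hy (fun i => F_le_Ph h hy (w.2 i).1 (w.2 i).2) ht.1)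
    rw [w.card] at a1
    omega

theorem false : False := by
  have h := p.h
  obtain ⟨Q', P', p'⟩ := p.star
  have nofix : ∀ i, ¬ Mv Q y i i := fun i e => by
    obtain ⟨n, e1⟩ := cyc h p.cm (k := 1) p.y3 p.exB i (i + 1)
    have : ∀ n : ℕ, Mv Q (y ^ n) i i := fun n => by
      induction n with
      | zero => exact fun q hq => by simpa using hq
      | succ n ih => exact pow_succ y n ▸ ih.mul e
    exact ne_succ i (e1.unique h (this n))
  obtain ⟨j, hj⟩ := exists_mv h p.cm 0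
  obtain ⟨k, hk⟩ := exists_mv h p.cm j
  have y4 : y * y * (y * y) = y := by
    calc _ = y ^ 3 * y := by simp only [pow_succ, pow_zero, one_mul, mul_assoc]
      _ = y := by rw [p.y3, one_mul]
  have n1 : j ≠ 0 := fun e => nofix 0 (e ▸ hj)
  have n2 : k ≠ j := fun e => nofix j (e ▸ hk)
  have n3 : k ≠ 0 := fun e => nofix 0 (by
    subst e; exact y4 ▸ (hk.mul hj).mul (hk.mul hj))
  have cy : ∀ a : G, y * (y * (y * a * y⁻¹) * y⁻¹) * y⁻¹ = a := fun a => by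
    calc _ = y ^ 3 * a * (y ^ 3)⁻¹ := by simp only [pow_succ, pow_zero, one_mul]; group
      _ = a := by rw [p.y3]; group
  let f : Q 0 →* G := MonoidHom.mk' (fun a => a * (y * a * y⁻¹) * (y * (y * a * y⁻¹) * y⁻¹))
    fun a b => by
      have c1 := (h.comm j 0 n1 _ (hj a a.2) b b.2).eq
      have c2 := (h.comm k 0 n3 _ (hk _ (hj a a.2)) b b.2).eq
      have c3 := (h.comm k j n2 _ (hk _ (hj a a.2)) _ (hj b b.2)).eq
      simp only [coe_mul]
      calc _ = a * (b * (y * a * y⁻¹)) * ((y * b * y⁻¹) * (y * (y * a * y⁻¹) * y⁻¹)) *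
            (y * (y * b * y⁻¹) * y⁻¹) := by group
        _ = a * (y * a * y⁻¹) * (b * (y * (y * a * y⁻¹) * y⁻¹)) * (y * b * y⁻¹) *
            (y * (y * b * y⁻¹) * y⁻¹) := by rw [← c1, ← c3]; group
        _ = _ := by rw [← c2]; group
  have fq : ∀ a, f a ∈ ⨆ i, Q i := fun a => mul_mem (mul_mem (le_iSup Q 0 a.2)
    (le_iSup Q j (hj a a.2))) (le_iSup Q k (hk _ (hj a a.2)))
  have fc : ∀ a, Commute (f a) y := fun a => by
    have c1 := (h.comm j 0 n1 _ (hj a a.2) a a.2).eq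
    have c2 := (h.comm k 0 n3 _ (hk _ (hj a a.2)) a a.2).eq
    have : y * f a * y⁻¹ = f a := by
      calc _ = (y * a * y⁻¹) * ((y * (y * a * y⁻¹) * y⁻¹) *
            (y * (y * (y * a * y⁻¹) * y⁻¹) * y⁻¹)) := by simp only [f, MonoidHom.mk'_apply]; group
        _ = _ := by rw [cy, c2, ← mul_assoc, c1]; rfl
    exact (mul_inv_eq_iff_eq_mul.1 this).symm
  have r := cutB p'.h (T := f.range) (by rintro _ ⟨a, rfl⟩; exact cen_iff.2 (fc a))
    (p.p3 (by rintro _ ⟨a, rfl⟩; exact fq a))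
  rw [← index_comap] at r
  have e := ((Bs y Q').comap f).card_mul_index
  rw [h.card] at e
  obtain ⟨_, ⟨a, ha, rfl⟩, hn⟩ := exists_not_mem (W := ((Bs y Q').comap f).map (Q 0).subtype) h.ord (by
    rw [card_subtype]
    have := Nat.mul_le_mul_left (Nat.card ((Bs y Q').comap f)) (Nat.le_of_dvd (by norm_num) r)
    omega)
  refine (p.next p' (fq a) (fun e => hn (inf_Oth h a.2 ?_)) (fc a)
    (.inl (isConj_iff.2 ⟨a * (y * a * y⁻¹) ^ 2, ?_⟩))).exB (mul_mem ha (QQ_le p'.h (xQ p'.h).mem))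
  · rw [show (Q 0).subtype a = ((y * a * y⁻¹) * (y * (y * a * y⁻¹) * y⁻¹))⁻¹ from
      eq_inv_of_mul_eq_one_left (by rw [← e, ← mul_assoc]; rfl)]
    exact inv_mem (mul_mem (le_Oth n1 (hj a a.2)) (le_Oth n3 (hk _ (hj a a.2))))
  · have c3 := (h.comm k j n2 _ (hk _ (hj a a.2)) _ (hj a a.2)).eq
    have t3 := exp3 h (le_iSup Q k (hk _ (hj a a.2)))
    simp only [f, MonoidHom.mk'_apply]
    generalize hb : y * a * y⁻¹ = b at c3 t3
    generalize hc : y * b * y⁻¹ = c at c3 t3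
    have t4 : (c ^ 2)⁻¹ = c := by rw [inv_eq_iff_mul_eq_one, ← pow_succ, t3]
    have c4 : Commute b c := c3.symm
    calc a * b ^ 2 * y * (a * b ^ 2)⁻¹
        = a * b ^ 2 * ((y * b * y⁻¹) ^ 2)⁻¹ * (y * a * y⁻¹)⁻¹ * y := by rw [conj_pow]; group
      _ = a * b * (b * c) * b⁻¹ * y := by rw [hb, hc, t4, pow_two]; group
      _ = _ := by rw [c4.eq]; group

end Pr

theorem not_wc (h : Hyp22 z Q P) : ¬ WC z Q := fun wc =>
  let ⟨_, h1, h2, h3⟩ := h.nwc; Pr.false ⟨h, wc, h1, cen_iff.2 h2, h3⟩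

end Cfsg.Agent.H12.F22
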