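import Mathlib
import Cfsg.Agent.H12.F22D

/-! The centralizer `3^{1+6} . 2^7 . X`: a conjugate of the centre inside `Q`, the group `J`. -/

set_option autoImplicit false
set_option linter.style.haveILetI false

universe u

namespace Cfsg.Agent.H12.F22

open Cfsg Subgroup Matrix H23 H95.L3 H99.F22

variable {G : Type u} [Group G] [Finite G] {z y : G} {Q Q' : Fin 3 → Subgroup G} {P P' : Subgroup G}

theorem exists_of_card {A B : Subgroup G} (h : Nat.card B < Nat.card A) : ∃ a ∈ A, a ∉ B :=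
  SetLike.not_le_iff_exists.1 fun e => absurd (card_le_of_le e) (by omega)

/-- a conjugate of the centre inside `Q` -/
structure Pq (z : G) (Q : Fin 3 → Subgroup G) (P : Subgroup G) (y : G) (Q' : Fin 3 → Subgroup G)
    (P' : Subgroup G) : Prop where
  h : Hyp22 z Q P
  h' : Hyp22 y Q' P'
  mem : y ∈ ⨆ i, Q i
  ne : y ∉ zpowers z

namespace Pq

variable (p : Pq z Q P y Q' P')
include p

theorem ne' : z ∉ zpowers y := fun e => p.ne (zp_eq p.h'.ord e (xQ p.h).ne_one (mem_zpowers z))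

theorem cardU : Nat.card ↥((⨆ i, Q i) ⊓ centralizer {y}) = 729 := by
  have := (xQ p.h).card_cent_elt p.mem p.ne
  rw [cardQ p.h] at this; omega

theorem symm : Pq y Q' P' z Q P := by
  refine ⟨p.h', p.h, ?_, p.ne'⟩
  by_contra hn
  have := ab_le p.h (T := (⨆ i, Q i) ⊓ centralizer {y}) inf_le_left
    ⟨(xQ p.h).mem, cen_iff.2 ((xQ p.h).cen y p.mem).symm⟩ fun a ha b hb => by
      by_contra e
      exact hn (zp_eq p.h.ord ((xQ p.h).comm a ha.1 b hb.1)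
        (fun e1 => e (commutatorElement_eq_one_iff_commute.1 e1))
        (cm_mem p.h' inf_le_right ((xQ p.h).isPGroup.to_le inf_le_left) ha hb))
  rw [p.cardU] at this; omega

theorem ab : ∀ a ∈ (⨆ i, Q i) ⊓ ⨆ i, Q' i, ∀ b ∈ (⨆ i, Q i) ⊓ ⨆ i, Q' i, Commute a b :=
  fun a ha b hb => by
    by_contra e
    exact p.ne' (zp_eq p.h.ord ((xQ p.h).comm a ha.1 b hb.1)
      (fun e1 => e (commutatorElement_eq_one_iff_commute.1 e1)) ((xQ p.h').comm a ha.2 b hb.2))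

theorem cardI : Nat.card ↥((⨆ i, Q i) ⊓ ⨆ i, Q' i) = 81 := by
  refine le_antisymm (ab_le p.h inf_le_left ⟨(xQ p.h).mem, p.symm.mem⟩ p.ab) ?_
  have e := card_inf_mul ((⨆ i, Q i) ⊓ centralizer {y}) (⨆ i, Q' i)
  have a1 := Nat.le_of_dvd (by norm_num) (rel9 p.h' (T := (⨆ i, Q i) ⊓ centralizer {y}) inf_le_right
    ((xQ p.h).isPGroup.to_le inf_le_left))
  have a2 := card_le_of_le (inf_le_inf_right (⨆ i, Q' i)
    (inf_le_left : (⨆ i, Q i) ⊓ centralizer {y} ≤ _))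
  have := Nat.mul_le_mul a2 a1
  rw [p.cardU] at e; omega

theorem move {a : G} (h1 : a ∈ ⨆ i, Q' i) (h2 : a ∉ ⨆ i, Q i) :
    ∃ v ∈ (⨆ i, Q i) ⊓ ⨆ i, Q' i, ∀ K : Subgroup G, a * v * a⁻¹ * v⁻¹ ∈ K → y ∈ K := by
  obtain ⟨v, hv, hn⟩ : ∃ v ∈ (⨆ i, Q i) ⊓ ⨆ i, Q' i, ¬ Commute v a := by
    by_contra hc
    push Not at hc
    exact h2 (ab_self p.h' inf_le_right ⟨p.mem, (xQ p.h').mem⟩ p.ab p.cardI h1 hc).1
  exact ⟨v, hv, fun K hK => zp_eq p.h'.ord ((xQ p.h').comm a h1 v hv.2)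
    (fun e => hn (commutatorElement_eq_one_iff_commute.1 e).symm) hK⟩

theorem oth_of {a : G} (h1 : a ∈ ⨆ i, Q' i) (h2 : a ∉ ⨆ i, Q i) {i : Fin 3} (h3 : a ∈ Kk p.h i) :
    y ∈ Oth Q i := by
  obtain ⟨v, hv, e⟩ := p.move h1 h2
  obtain ⟨hb, h3⟩ := (mem_Kk p.h).1 h3
  obtain ⟨c, hc, d, hd, rfl⟩ := split p.h i hv.1
  have e1 : a * d * a⁻¹ * d⁻¹ ∈ Oth Q i := mul_mem (cj_Oth p.h hb hd) (inv_mem hd)
  have e2 := (comm_Oth p.h i _ (inv_mem hc) _ e1).eq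
  refine e _ ?_
  convert mul_mem (zpowers_le.2 (z_Oth p.h i) ((pi_one_iff p.h i hb).1 h3 c hc)) e1 using 1
  calc _ = a * c * a⁻¹ * ((a * d * a⁻¹ * d⁻¹) * c⁻¹) := by group
    _ = _ := by rw [← e2]; group

theorem big_sub {K : Subgroup G} (hK : K.relIndex ((⨆ i, Q' i) ⊓ centralizer {z}) ∣ 3) :
    ∃ a ∈ (⨆ i, Q' i) ⊓ centralizer {z} ⊓ K, a ∉ ⨆ i, Q i := by
  have e := card_inf_mul ((⨆ i, Q' i) ⊓ centralizer {z}) K
  have a1 := Nat.mul_le_mul_left (Nat.card ↥((⨆ i, Q' i) ⊓ centralizer {z} ⊓ K))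
    (Nat.le_of_dvd (by norm_num) hK)
  rw [p.symm.cardU] at e
  obtain ⟨a, ha, hn⟩ := exists_of_card (A := (⨆ i, Q' i) ⊓ centralizer {z} ⊓ K)
    (B := (⨆ i, Q i) ⊓ ⨆ i, Q' i) (by rw [p.cardI]; omega)
  exact ⟨a, ha, fun e => hn ⟨e, ha.1.1⟩⟩

theorem p3 : IsPGroup 3 ↥((⨆ i, Q' i) ⊓ centralizer {z}) := (xQ p.h').isPGroup.to_le inf_le_left

theorem exists_c : ∃ c ∈ (⨆ i, Q' i) ⊓ centralizer {z}, c ∉ Bs z Q := by
  by_contra hc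
  push Not at hc
  refine p.ne (zp_of_all p.h p.mem fun i s hs => comm_Oth p.h i s hs y ?_)
  obtain ⟨a, ha, hn⟩ := p.big_sub (cutK p.h i hc p.p3)
  exact p.oth_of ha.1.1 hn ha.2

theorem notOth (i : Fin 3) : y ∉ Oth Q i := fun hy => by
  obtain ⟨c, hc, hn⟩ := p.exists_c
  refine p.ne (zp_of_all p.h p.mem fun j s hs => ?_)
  obtain ⟨n, e⟩ := cyc p.h hc.2 (k := 1) (exp3 p.h' hc.1) hn j i
  have e1 := (comm_Oth p.h i _ (e s hs) y hy).eq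
  have e2 := ((xQ p.h').cen _ (pow_mem hc.1 n)).eq
  calc s * y = (c ^ n)⁻¹ * (c ^ n * s * (c ^ n)⁻¹ * y) * (y⁻¹ * (c ^ n * y)) := by group
    _ = ((c ^ n)⁻¹ * (y * c ^ n)) * s := by rw [e1, e2]; group
    _ = y * s := by rw [← e2]; group

end Pq

theorem exists_pq (h : Hyp22 z Q P) : ∃ y Q' P', ZT z y ∧ Pq z Q P y Q' P' := by
  have := not_wc h
  unfold WC at this
  push Not at this
  obtain ⟨y, h1, h2, h3⟩ := this
  obtain ⟨Q', P', h', -⟩ := star h h2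
  exact ⟨y, Q', P', h2, h, h', h1, h3⟩

theorem trn (h : Hyp22 z Q P) : Trn z Q := by
  obtain ⟨y, Q', P', -, p⟩ := exists_pq h
  obtain ⟨c, hc, hn⟩ := p.exists_c
  exact trn_of h p.p3 hc hc.2 hn

theorem wc_Oth (h : Hyp22 z Q P) (i : Fin 3) {q : G} (hq : q ∈ Oth Q i) (hz : ZT z q) :
    q ∈ zpowers z := by
  by_contra hn
  obtain ⟨Q', P', h', -⟩ := star h hz
  exact Pq.notOth ⟨h, h', Oth_le_QQ i hq, hn⟩ i hq

theorem lift_b (h : Hyp22 z Q P) {b : G} (w : Wt h b) :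
    ∃ q ∈ ⨆ i, Q i, ∀ v ∈ Fx (⨆ i, Q i) z b, Commute v (q⁻¹ * b) := by
  have c9 := fun i => (uni' h w.1 (w.2 i).1 (w.2 i).2).1
  have : ∀ i, ∃ v ∈ Fx (Q i) z b, v ∉ zpowers z ∧ ∃ q ∈ Q i, q * v * q⁻¹ = b * v * b⁻¹ := fun i => by
    obtain ⟨v, hv, hn⟩ := exists_not_mem (W := Fx (Q i) z b) h.ord (by rw [c9]; omega)
    have e := ((memFi h w.1).1 hv).2
    obtain ⟨q, hq, e1⟩ := (x3 h i).exists_cj_eq (Fx_le b hv) hn e
    exact ⟨v, hv, hn, q, hq, by rw [e1, ((x3 h i).commute_zp (Fx_le b hv) e).eq]; group⟩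
  choose v hv hn q hq e using this
  have key : ∀ i, ∀ s ∈ Oth Q i, q i * s = q 0 * q 1 * q 2 →
      Fx (Q i) z b ≤ centralizer {(q 0 * q 1 * q 2)⁻¹ * b} := fun i s hs e1 => by
    refine nine_le h.ord (c9 i) (zF h w.1 i) (cen_iff.2 (cen_iff.1 (mul_mem (inv_mem (QQ_cen h
      (e1 ▸ mul_mem (le_iSup Q i (hq i)) (Oth_le_QQ i hs)))) (Bs_cen w.1))).symm) (hv i)
      (cen_iff.2 ?_) (hn i)
    have e2 := (comm_Oth h i _ (Fx_le b (hv i)) s hs).inv_right.eq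
    rw [← e1]
    calc v i * ((q i * s)⁻¹ * b) = (v i * s⁻¹) * (q i)⁻¹ * b := by group
      _ = s⁻¹ * (q i)⁻¹ * (q i * v i * (q i)⁻¹) * b := by rw [e2]; group
      _ = _ := by rw [e]; group
  refine ⟨q 0 * q 1 * q 2, mul_mem (mul_mem (le_iSup Q 0 (hq 0)) (le_iSup Q 1 (hq 1)))
    (le_iSup Q 2 (hq 2)), fun t ht => cen_iff.1 (Fx_le_of h w.1 (fun i => ?_) ht)⟩
  fin_cases i
  · exact key 0 (q 1 * q 2) (mul_mem (le_Oth (by decide) (hq 1)) (le_Oth (by decide) (hq 2)))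
      (mul_assoc _ _ _).symm
  · exact key 1 (q 0 * q 2) (mul_mem (le_Oth (by decide) (hq 0)) (le_Oth (by decide) (hq 2)))
      (by rw [← mul_assoc, (h.comm 0 1 (by decide) _ (hq 0) _ (hq 1)).eq])
  · exact key 2 (q 0 * q 1) (mul_mem (le_Oth (by decide) (hq 0)) (le_Oth (by decide) (hq 1)))
      ((h.comm 0 2 (by decide) _ (hq 0) _ (hq 2)).mul_left
        (h.comm 1 2 (by decide) _ (hq 1) _ (hq 2))).eq.symm

/-- the abelian group of order `3 ^ 5` contains a conjugate of `z` outside `Q` -/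
theorem exists_J (h : Hyp22 z Q P) : ∃ J : Subgroup G, (∀ a ∈ J, ∀ b ∈ J, Commute a b) ∧
    IsPGroup 3 J ∧ 243 ≤ Nat.card J ∧ z ∈ J ∧ ∃ x ∈ J, ZT z x ∧ x ∉ ⨆ i, Q i := by
  obtain ⟨y, Q', P', zt, p⟩ := exists_pq h
  have h' := p.h'
  obtain ⟨b, hb, hn⟩ := p.big_sub (cutB h inf_le_right p.p3)
  have b3 := pi_three h p.p3 hb.1 hb.2
  have w : Wt h b := ⟨hb.2, fun i => ⟨b3 i, wt3 h (trn h) hb.2 b3 hn i⟩⟩
  obtain ⟨q, hq, hc⟩ := lift_b h w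
  have hb' : q⁻¹ * b ∈ Bs z Q := mul_mem (inv_mem (QQ_le h hq)) hb.2
  obtain ⟨j1, j2, j3⟩ := mkJ (fun a ha => exp3 h (Fx_le b ha)) w.comm hc (by
    rw [show 9 = 3 * 3 from rfl, pow_mul]
    exact exp3 h (mem_QQ h (pow_mem hb' 3) fun i => by
      rw [pi_pow h i hb', pi_mul h i (inv_mem (QQ_le h hq)) hb.2, pi_Q h i (inv_mem hq), one_mul, b3]))
    w.card fun e => hn (by simpa using mul_mem hq (Fx_le b e))
  have hF : Fx (⨆ i, Q i) z b ≤ Fx (⨆ i, Q i) z b ⊔ zpowers (q⁻¹ * b) := le_sup_left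
  have hbJ : q⁻¹ * b ∈ Fx (⨆ i, Q i) z b ⊔ zpowers (q⁻¹ * b) := mem_sup_right (mem_zpowers _)
  generalize Fx (⨆ i, Q i) z b ⊔ zpowers (q⁻¹ * b) = J at j1 j2 j3 hF hbJ
  have zJ : z ∈ J := hF ((xQ h).z_mem_Fx (nc h hb.1.2))
  have yJ : y ∈ J := hF (memF_of h hb.1.2 p.mem ((xQ h').cen b hb.1.1))
  refine ⟨J, j1, j2, j3, zJ, ?_⟩
  by_contra hcon
  push Not at hcon
  obtain ⟨-, c81, hbig⟩ := big h' (trn h') (fun a ha => cen_iff.2 (j1 a ha y yJ)) j2 j1 j3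
  obtain ⟨c, hcJ, hcn⟩ : ∃ c ∈ J, c ∉ ⨆ i, Q' i := SetLike.not_le_iff_exists.1 fun e => by
    have := ab_le h' e yJ j1; omega
  obtain ⟨w', e'⟩ := hbig c hcJ hcn
  have hle : Fx (⨆ i, Q' i) y c ≤ ⨆ i, Q i := Fx_le_of h' w'.1 fun i => by
    obtain ⟨a, ha, d, hd, e⟩ := split h' i p.symm.mem
    have ha' := comp_fix h' w'.1 ha hd (by rw [← e, e']; exact ⟨zJ, p.symm.mem⟩)
    have aJ : a ∈ J := (e' ▸ Fx_sub h' w'.1 i ha' : a ∈ J ⊓ ⨆ i, Q' i).1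
    have dJ : d ∈ J := by simpa [e] using mul_mem (inv_mem aJ) zJ
    obtain ⟨x, hx, x1, x2⟩ := h'.inv i
    have e1 := x1 a ha
    have e2 := ((memF h' (h'.cen hx)).1 (Oth_le (K := Fx (⨆ i, Q' i) y x) (fun j hj s hs =>
      (memF h' (h'.cen hx)).2 ⟨le_iSup Q' j hs, x2 j hj s hs⟩) hd)).2
    have e3 : x * z * x⁻¹ = (x * a * x⁻¹ * a) * a⁻¹ * (x * d * x⁻¹ * d⁻¹) * d := by rw [e]; group
    have e4 := hcon _ (e3 ▸ mul_mem (mul_mem (mul_mem (zpowers_le.2 yJ e1) (inv_mem aJ))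
      (zpowers_le.2 yJ e2)) dJ) (zt_cj (.inl (IsConj.refl z)) x)
    have e5 := ((x3 h' i).commute_zp ha e2).eq
    have e6 : a * a = z * (x * z * x⁻¹)⁻¹ * (x * a * x⁻¹ * a) * (x * d * x⁻¹ * d⁻¹) := by
      calc a * a = a * (x * d * x⁻¹ * d⁻¹)⁻¹ * ((x * d * x⁻¹ * d⁻¹) * a) := by group
        _ = _ := by rw [← e5, e3]; nth_rw 1 [e]; group
    refine nine_le h'.ord (uni' h' w'.1 (w'.2 i).1 (w'.2 i).2).1 (zF h' w'.1 i) p.mem ha'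
      (zp_of_sq h' (le_iSup Q' i ha) (e6 ▸ mul_mem (mul_mem (mul_mem (xQ h).mem (inv_mem e4))
        (zpowers_le.2 p.mem e1)) (zpowers_le.2 p.mem e2))) fun e7 => p.symm.notOth i ?_
    exact e ▸ mul_mem (zpowers_le.2 (z_Oth h' i) e7) hd
  have eI : J ⊓ ⨆ i, Q' i = (⨆ i, Q i) ⊓ ⨆ i, Q' i :=
    eq_of_le_of_card_ge (le_inf (e' ▸ hle) inf_le_right) (by rw [p.cardI]; exact c81)
  obtain ⟨v, hv, e⟩ := p.move hb.1.1 hn
  refine p.ne (e _ ?_)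
  have e1 := (j1 _ hbJ v (eI ▸ hv : v ∈ J ⊓ ⨆ i, Q' i).1).eq
  convert (xQ h).comm q hq v hv.1 using 1
  calc _ = q * (q⁻¹ * b * v) * b⁻¹ * v⁻¹ := by group
    _ = _ := by rw [e1]; group

end Cfsg.Agent.H12.F22
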