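import Mathlib
import Cfsg.Agent.H12.F22E

/-! The local analysis for the `3`-local recognition of `Fi₂₂`. -/

set_option autoImplicit false
set_option linter.style.haveILetI false

universe u

namespace Cfsg.Agent.H12.F22

open Cfsg Subgroup Matrix H23 H95.L3 H99.F22

variable {G : Type u} [Group G] {z : G} {Q : Fin 3 → Subgroup G} {P : Subgroup G}

theorem fix3 (hz : orderOf z = 3) {k : G} (k3 : k ^ 3 = 1) (e : k * z * k⁻¹ ∈ zpowers z) :
    Commute k z := by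
  rcases (mem_zp3 hz).1 e with e | e | e
  · rw [show z = 1 by simpa using e]; exact Commute.one_right k
  · exact mul_inv_eq_iff_eq_mul.1 e
  · have e1 : k * z⁻¹ * k⁻¹ = z := by rw [← conj_inv, e, inv_inv]
    have e2 : z * z = 1 := by
      calc z * z = k ^ 3 * z * (k ^ 3)⁻¹ * z := by rw [k3]; group
        _ = k * (k * (k * z * k⁻¹) * k⁻¹) * k⁻¹ * z := by
          simp only [pow_succ, pow_zero, one_mul]; group
        _ = 1 := by rw [e, e1, e, inv_mul_cancel]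
    have := orderOf_dvd_of_pow_eq_one ((pow_two z).trans e2)
    rw [hz] at this; omega

variable [Finite G] (h : Hyp22 z Q P)

/-- an involution inverting the factor `i` and centralizing the others -/
structure Rf (i : Fin 3) (r : G) : Prop where
  mem : r ∈ Bs z Q
  sq : r * r = 1
  neg : pi h i r = -1
  one : ∀ j, j ≠ i → pi h j r = 1

include h in
theorem mv_inj {g : G} (hg : g ∈ centralizer ({z} : Set G)) {i j k : Fin 3} (h1 : Mv Q g i k)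
    (h2 : Mv Q g j k) : i = j := (h1.inv h hg).unique h (h2.inv h hg)

variable {h}

namespace Rf

variable {i : Fin 3} {r : G} (p : Rf h i r)
include p

theorem inv : r⁻¹ = r := inv_eq_of_mul_eq_one_right p.sq

theorem ord : orderOf r = 2 := by
  haveI : Fact (Nat.Prime 2) := ⟨by norm_num⟩
  exact orderOf_eq_prime ((pow_two r).trans p.sq) fun e => s_neg (by rw [← p.neg, e, pi_one])

theorem cen {e : G} (he : e ∈ Oth Q i) : Commute e r := cen_iff.1 (Oth_le (K := centralizer {r})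
  (fun j hj q hq => cen_iff.2 (commute_of_coprime h.ord (cen_iff.1 (Bs_cen p.mem))
    (by rw [p.ord]; norm_num) ((pi_one_iff h j p.mem).1 (p.one j hj) q hq)).symm) he)

theorem oth {q : G} (hq : q ∈ ⨆ i, Q i) (hc : Commute q r) : q ∈ Oth Q i := by
  obtain ⟨a, ha, e, he, rfl⟩ := split h i hq
  have e1 := hc.mul_left (p.cen he).inv_left
  rw [mul_inv_cancel_right] at e1
  have e2 := (pi_neg_iff h i p.mem).1 p.neg a ha
  rw [← e1.eq, mul_inv_cancel_right] at e2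
  exact mul_mem (zpowers_le.2 (z_Oth h i) (zp_of_sq h (le_iSup Q i ha) e2)) he

theorem cj {a : G} (ha : a ∈ Bs z Q) (j : Fin 3) : pi h j (a * r * a⁻¹) = pi h j r := by
  rw [pi_cj h j ha p.mem]
  by_cases e : j = i
  · rw [e, p.neg]; simp
  · rw [p.one j e]; simp

theorem mv {g : G} (hg : g ∈ centralizer ({z} : Set G)) (hc : Commute g r) : Mv Q g i i := by
  obtain ⟨j, hj⟩ := exists_mv h hg i
  by_cases e : j = i
  · exact e ▸ hj
  · have := pi_mv1 h hg hj p.mem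
    rw [hc.eq, mul_inv_cancel_right, p.one j e, p.neg] at this
    exact absurd (this.1 rfl) s_neg

theorem exists_X {x : G} (w : Wt h x) (hc : ∀ v ∈ Fx (Q i) z x, Commute v x) :
    ∃ t ∈ ⨆ i, Q i, Commute (t * x * t⁻¹) r := by
  obtain ⟨u1, -, u3⟩ := uni' h w.1 (w.2 i).1 (w.2 i).2
  have n1 := (pi_neg_iff h i p.mem).1 p.neg
  have q1 : r * x * r⁻¹ * x⁻¹ ∈ ⨆ i, Q i := mem_QQ h
    (mul_mem (mul_mem (mul_mem p.mem w.1) (inv_mem p.mem)) (inv_mem w.1)) fun j => by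
      rw [show r * x * r⁻¹ * x⁻¹ = r * (x * r * x⁻¹)⁻¹ by group,
        pi_mul h j p.mem (inv_mem (cj_Bs h (Bs_cen w.1) p.mem)),
        pi_inv h j (cj_Bs h (Bs_cen w.1) p.mem), p.cj w.1, mul_inv_cancel]
  have q2 : r * x * r⁻¹ * x⁻¹ ∈ Q i := mem_Q_of h q1 fun e he => by
    have e1 := (p.cen he).eq
    have e2 := (p.cen (cj_Oth h (inv_mem w.1) he)).inv_right.eq
    calc e * (r * x * r⁻¹ * x⁻¹) = (e * r) * x * r⁻¹ * x⁻¹ := by group
      _ = r * x * (x⁻¹ * e * x⁻¹⁻¹ * r⁻¹) * x⁻¹ := by rw [e1]; group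
      _ = _ := by rw [e2]; group
  have q3 : r * x * r⁻¹ * x⁻¹ ∈ Fx (Q i) z x := by
    have a1 := (x3 h i).card_cent_mul (Fx_le x) (zF h w.1 i)
    rw [u1, h.card] at a1
    rw [eq_of_le_of_card_ge (le_inf (Fx_le x) fun a ha b hb => (comm_nine u1 hb ha).eq :
      Fx (Q i) z x ≤ Q i ⊓ centralizer (Fx (Q i) z x : Set G)) (by omega)]
    refine ⟨q2, fun v hv => ?_⟩
    have e1 : r * v * r⁻¹ ∈ Fx (Q i) z x := by
      simpa using mul_mem (zpowers_le.2 (zF h w.1 i) (n1 v (Fx_le x hv))) (inv_mem hv)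
    have e2 := (hc _ e1).eq
    have e3 := (hc v hv).inv_right.eq
    rw [p.inv] at e2 ⊢
    calc v * (r * x * r * x⁻¹) = (r * r) * v * r * x * r * x⁻¹ := by rw [p.sq]; group
      _ = r * (r * v * r * x) * r * x⁻¹ := by group
      _ = r * x * r * v * (r * r) * x⁻¹ := by rw [e2]; group
      _ = r * x * r * (v * x⁻¹) := by rw [p.sq]; group
      _ = _ := by rw [e3]; group
  obtain ⟨s, hs, c, hc', e⟩ := u3 _ q3
  have s3 := exp3 h (le_iSup Q i hs)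
  have hsQ := le_iSup Q i hs
  refine ⟨s⁻¹, inv_mem hsQ, ?_⟩
  obtain ⟨X, hX⟩ : ∃ X, X = s⁻¹ * x * s⁻¹⁻¹ := ⟨_, rfl⟩
  have hXc : X ∈ centralizer ({z} : Set G) := hX ▸ Bs_cen (cj_Bs h (QQ_cen h (inv_mem hsQ)) w.1)
  have e1 := n1 _ (inv_mem hs)
  obtain ⟨ζ, hζ⟩ : ∃ ζ, ζ = r * s⁻¹ * r⁻¹ * s⁻¹ := ⟨_, rfl⟩
  rw [← hζ] at e1
  have e2 : s * s = s⁻¹ := by
    rw [eq_inv_iff_mul_eq_one, ← s3]; simp only [pow_succ, pow_zero, one_mul]
  have e3 : r * X * r⁻¹ = c * X := by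
    have a1 := cj_zp (QQ_cen h hsQ) hc'
    have a2 := cj_zp (mul_mem (zpowers_le.2 (cen_iff.2 (Commute.refl z)) hc') hXc) (inv_mem e1)
    calc r * X * r⁻¹ = (r * s⁻¹ * r⁻¹ * s⁻¹) * s * (r * x * r⁻¹ * x⁻¹) * x * s⁻¹ *
          (r * s⁻¹ * r⁻¹ * s⁻¹)⁻¹ := by rw [hX]; group
      _ = ζ * ((s * c * s⁻¹) * ((s * s) * x * (s * s)⁻¹)) * ζ⁻¹ := by rw [← hζ, e]; group
      _ = ζ * (c * X * ζ⁻¹ * (c * X)⁻¹) * (c * X) := by rw [a1, e2, ← hX]; group
      _ = c * X := by rw [a2]; group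
  have e4 : c * c = 1 := by
    have a1 := cj_zp (Bs_cen p.mem) hc'
    have : X = c * c * X := by
      calc X = (r * r) * X * (r * r)⁻¹ := by rw [p.sq]; group
        _ = r * (r * X * r⁻¹) * r⁻¹ := by group
        _ = r * (c * X) * r⁻¹ := by rw [e3]
        _ = (r * c * r⁻¹) * (r * X * r⁻¹) := by group
        _ = _ := by rw [a1, e3, mul_assoc]
    simpa using this
  have e5 : c = 1 := mem_bot.1 (zp_of_sq h ((xQ h).zp_le hc') (K := ⊥) e4)
  rw [e5, one_mul] at e3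
  exact hX ▸ (mul_inv_eq_iff_eq_mul.1 e3).symm

theorem nwc : ∃ k, Commute k r ∧ Commute (k * z * k⁻¹) z ∧ k * z * k⁻¹ ∉ zpowers z := by
  obtain ⟨J, j1, j2, j3, zJ, x, xJ, zx, xn⟩ := exists_J h
  obtain ⟨-, -, hbig⟩ := big h (trn h) (fun a ha => cen_iff.2 (j1 a ha z zJ)) j2 j1 j3
  obtain ⟨w, e⟩ := hbig x xJ xn
  have WJ : ∀ j, Fx (Q j) z x ≤ J := fun j => (Fx_sub h w.1 j).trans (e ▸ inf_le_left)
  obtain ⟨t, ht, hc⟩ := p.exists_X w fun v hv => j1 v (WJ i hv) x xJ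
  have XJ : t * x * t⁻¹ ∈ J := by
    have := J.mul_mem (mem_inf.1 (e ▸ w.phi ht : _ ∈ J ⊓ ⨆ i, Q i)).1 xJ
    rwa [inv_mul_cancel_right] at this
  have Xn : t * x * t⁻¹ ∉ ⨆ i, Q i := fun a => xn (by
    simpa [mul_assoc] using mul_mem (mul_mem (inv_mem ht) a) ht)
  have zX := zt_cj zx t
  generalize t * x * t⁻¹ = X at hc XJ Xn zX
  obtain ⟨Q', P', h', -⟩ := star h zX
  obtain ⟨r3, -, hbig'⟩ := big h' (trn h') (fun a ha => cen_iff.2 (j1 a ha X XJ)) j2 j1 j3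
  have hr := nc h' (cen_iff.2 hc.symm)
  have xF := (xQ h').x3_Fx hr (X3.sq_triv X p.sq)
  rw [(xQ h').Fx_eq_of_coprime hr (by rw [p.ord]; norm_num)] at xF
  by_contra hcon
  push Not at hcon
  have kz : ∀ k ∈ (⨆ i, Q' i) ⊓ centralizer {r}, Commute k z := fun k hk =>
    fix3 h.ord (exp3 h' hk.1) (hcon k (cen_iff.1 hk.2) (j1 _ (by
      by_cases a : z ∈ ⨆ i, Q' i
      · simpa using mul_mem (zpowers_le.2 XJ ((xQ h').comm k hk.1 z a)) zJ
      · obtain ⟨w', e'⟩ := hbig' z zJ a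
        have := J.mul_mem (mem_inf.1 (e' ▸ w'.phi hk.1 : _ ∈ J ⊓ ⨆ i, Q' i)).1 zJ
        rwa [inv_mul_cancel_right] at this) z zJ))
  by_cases a : z ∈ ⨆ i, Q' i
  · exact Xn (zp_eq h'.ord (xF.nd z ⟨a, cen_iff.2 (cen_iff.1 (Bs_cen p.mem)).symm⟩
      fun k hk => (kz k hk).symm) (xQ h).ne_one (xQ h).mem)
  · obtain ⟨w', e'⟩ := hbig' z zJ a
    have a1 := card_inf_mul (Fx (Q (i + 1)) z x) (⨆ i, Q' i)
    have a2 := (relIndex_le_of_le_right (H := ⨆ i, Q' i) (WJ (i + 1))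
      (fun e => by rw [e] at r3; omega)).trans (Nat.le_of_dvd (by norm_num) r3)
    have a3 := Nat.mul_le_mul_left (Nat.card ↥(Fx (Q (i + 1)) z x ⊓ ⨆ i, Q' i)) a2
    rw [(uni' h w.1 (w.2 _).1 (w.2 _).2).1] at a1
    obtain ⟨v, hv, v1⟩ := exists_of_card (A := Fx (Q (i + 1)) z x ⊓ ⨆ i, Q' i) (B := ⊥)
      (by rw [card_bot]; omega)
    refine Xn (zp_eq h'.ord (xF.nd v ⟨hv.2, cen_iff.2 (p.cen (le_Oth (ne_succ i) (Fx_le x hv.1)))⟩
      fun k hk => j1 v (WJ _ hv.1) k ?_) v1 (le_iSup Q _ (Fx_le x hv.1)))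
    exact (e' ▸ memF_of h' (cen_iff.2 (j1 z zJ X XJ)) hk.1 (kz k hk).symm : k ∈ J ⊓ ⨆ i, Q' i).1

end Rf

variable (h)

theorem u3 (i : Fin 3) : U3 h i := by
  obtain ⟨J, j1, j2, j3, zJ, x, xJ, -, xn⟩ := exists_J h
  obtain ⟨w, -⟩ := (big h (trn h) (fun a ha => cen_iff.2 (j1 a ha z zJ)) j2 j1 j3).2.2 x xJ xn
  exact ⟨x, w.1, w.2 i⟩

theorem no_ks (i : Fin 3) : ¬ KS h i := fun e => not_ks h (trn h) e (u3 h i)

theorem exists_cm (i : Fin 3) : ∃ a ∈ P, ∃ b ∈ P, pi h i (a * b * a⁻¹ * b⁻¹) = -1 ∧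
    ∀ j, j ≠ i → pi h j (a * b * a⁻¹ * b⁻¹) = 1 := by
  have key : ∀ k, k ≠ i → ∃ p ∈ P, pi h k p = 1 ∧ pi h i p ^ 2 ≠ 1 := fun k hk => by
    obtain ⟨l, hl⟩ := third k i hk
    obtain ⟨p, hp, e1, e2⟩ := exists_ns h (i := k) (j := i) (k := l) fun m => by
      rcases hl m with e | e | e <;> simp [e]
    refine ⟨p, hp, e1, fun e3 => no_ks h l ⟨p, hp, e2.resolve_left (not_not.2 e3), fun m hm => ?_⟩⟩
    rcases hl m with rfl | rfl | rfl
    exacts [absurd rfl hm, by rw [e1, one_pow], e3]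
  have hall : ∀ l, l = i + 1 ∨ l = i + 2 ∨ l = i := by clear * -; revert i; decide
  obtain ⟨a, ha, a1, a2⟩ := key (i + 1) (ne_succ i)
  obtain ⟨b, hb, b1, b2⟩ := key (i + 2) (by clear * -; revert i; decide)
  obtain ⟨x, hx, x1, x2⟩ := u3 h i
  have fin : ∀ b ∈ P, pi h (i + 2) b = 1 → ∀ j, j ≠ i → pi h j (a * b * a⁻¹ * b⁻¹) = 1 :=
    fun b hb b1 j hj => by
      rw [pi_cm h j (P_le h ha) (P_le h hb)]
      rcases hall j with rfl | rfl | rfl
      exacts [by simp [a1], by simp [b1], absurd rfl hj]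
  rcases s_nc _ (pi_four h ha i) a2 _ (pi_four h hb i) b2 _ x1 x2 with e | e
  · exact ⟨a, ha, b, hb, (pi_cm h i (P_le h ha) (P_le h hb)).trans e, fin b hb b1⟩
  · have hb' := cjP h (Bs_cen hx) hb
    exact ⟨a, ha, _, hb', by rw [pi_cm h i (P_le h ha) (P_le h hb'), pi_cj h i hx (P_le h hb), e],
      fin _ hb' (by rw [pi_cj h _ hx (P_le h hb), b1]; simp)⟩

theorem exists_R : ∃ R ≤ P, Nat.card R = 128 ∧ (∀ p ∈ P, ∃ s ∈ R, ∀ i, pi h i s = pi h i p) ∧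
    ∀ s ∈ R, ∀ t ∈ R, (∀ i, pi h i s = pi h i t) → s = t := by
  haveI : Fact (Nat.Prime 2) := ⟨by norm_num⟩
  haveI := normal_QQ h h.cen
  obtain ⟨K, hK⟩ := Sylow.exists_subgroup_card_pow_prime (G := P) 2 (n := 7)
    (by rw [← card_inf_mul P (⨆ i, Q i), h.idx]; exact Dvd.intro_left _ rfl)
  have one : ∀ a ∈ K, (a : G) ∈ ⨆ i, Q i → a = 1 := fun a ha hq => by
    have e1 := orderOf_dvd_natCard (⟨a, ha⟩ : K)
    rw [hK, ← orderOf_coe] at e1
    exact orderOf_eq_one_iff.1 (Nat.eq_one_of_dvd_coprimes (by norm_num : Nat.Coprime (2 ^ 7) 3) e1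
      (orderOf_dvd_of_pow_eq_one (Subtype.ext (exp3 h hq))))
  have bij : Function.Bijective ((QuotientGroup.mk' ((⨆ i, Q i).subgroupOf P)).comp K.subtype) :=
    (Nat.bijective_iff_injective_and_card _).2 ⟨(injective_iff_map_eq_one _).2 fun a ha =>
      Subtype.ext (one a a.2 ((QuotientGroup.eq_one_iff (N := (⨆ i, Q i).subgroupOf P) _).1 ha)),
      hK.trans h.idx.symm⟩
  refine ⟨K.map P.subtype, map_subtype_le _, (card_subtype _ _).trans hK, fun p hp => ?_, ?_⟩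
  · obtain ⟨s, e⟩ := bij.2 (⟨p, hp⟩ : P)
    have e1 : ((s : P) : G)⁻¹ * p ∈ ⨆ i, Q i := (QuotientGroup.eq (s := (⨆ i, Q i).subgroupOf P)).1 e
    have hs := P_le h (s : P).2
    refine ⟨_, ⟨s, s.2, rfl⟩, fun i => ?_⟩
    have := pi_Q h i e1
    rwa [pi_mul h i (inv_mem hs) (P_le h hp), pi_inv h i hs, inv_mul_eq_one] at this
  · rintro _ ⟨s, hs, rfl⟩ _ ⟨t, ht, rfl⟩ e
    exact congrArg _ (mul_inv_eq_one.1 (one _ (mul_mem hs (inv_mem ht))
      (mem_QQ_mul h (P_le h s.2) (P_le h t.2) e)))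

theorem exists_r : ∃ R ≤ P, Nat.card R = 128 ∧
    ∀ i, ∃ r, Rf h i r ∧ R ≤ centralizer {r} ∧ r ∈ ⁅R, R⁆ := by
  obtain ⟨R, hR, c, r1, r2⟩ := exists_R h
  refine ⟨R, hR, c, fun i => ?_⟩
  obtain ⟨a, ha, b, hb, e1, e2⟩ := exists_cm h i
  obtain ⟨s, hs, s1⟩ := r1 a ha
  obtain ⟨t, ht, t1⟩ := r1 b hb
  have e3 : ∀ j, pi h j (s * t * s⁻¹ * t⁻¹) = pi h j (a * b * a⁻¹ * b⁻¹) := fun j => by
    rw [pi_cm h j (P_le h (hR hs)) (P_le h (hR ht)), pi_cm h j (P_le h ha) (P_le h hb), s1, t1]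
  have m : s * t * s⁻¹ * t⁻¹ ∈ R := mul_mem (mul_mem (mul_mem hs ht) (inv_mem hs)) (inv_mem ht)
  have mb := P_le h (hR m)
  have rf : Rf h i (s * t * s⁻¹ * t⁻¹) := ⟨mb, r2 _ (mul_mem m m) 1 (one_mem _) fun j => by
    rw [pi_mul h j mb mb, pi_one, e3]
    by_cases e : j = i
    · rw [e, e1]; simp
    · rw [e2 j e, one_mul], (e3 i).trans e1, fun j hj => (e3 j).trans (e2 j hj)⟩
  exact ⟨_, rf, fun x hx => cen_iff.2 (mul_inv_eq_iff_eq_mul.1
    (r2 _ (mul_mem (mul_mem hx m) (inv_mem hx)) _ m (rf.cj (P_le h (hR hx))))),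
    commutator_mem_commutator hs ht⟩

variable {h}

theorem Rf.isConj {i j : Fin 3} {r s : G} (p : Rf h i r) (p' : Rf h j s) : IsConj r s := by
  obtain ⟨g, hg, e⟩ := trn h i j
  have hb := cj_Bs h hg p.mem
  have e1 : g * r * g⁻¹ * s⁻¹ ∈ ⨆ i, Q i := mem_QQ_mul h hb p'.mem fun k => by
    by_cases a : k = j
    · rw [a, p'.neg]
      refine (s_sq _ ((pi_mv h hg e p.mem 2).2 (by rw [p.neg]; simp))).resolve_left fun b => ?_
      exact s_neg (p.neg ▸ (pi_mv1 h hg e p.mem).1 b)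
    · obtain ⟨l, hl⟩ := exists_mv' h hg k
      rw [p'.one k a]
      exact (pi_mv1 h hg hl p.mem).2 (p.one l fun b => a (hl.unique h (b ▸ e)))
  obtain ⟨q, hq⟩ : ∃ q, q = g * r * g⁻¹ * s⁻¹ := ⟨_, rfl⟩
  rw [← hq] at e1
  have q3 := exp3 h e1
  have e2 : s * q * s = q⁻¹ := by
    refine eq_inv_of_mul_eq_one_right ?_
    calc q * (s * q * s) = g * (r * r) * g⁻¹ := by rw [hq]; group
      _ = 1 := by rw [p.sq]; group
  have e3 : q * q = q⁻¹ := by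
    rw [eq_inv_iff_mul_eq_one, ← q3]; simp only [pow_succ, pow_zero, one_mul]
  refine isConj_iff.2 ⟨q * g, ?_⟩
  calc q * g * r * (q * g)⁻¹ = q * (g * r * g⁻¹ * s⁻¹) * s * q⁻¹ := by group
    _ = q⁻¹ * (s * (s * q * s)) := by rw [← hq, e3, e2]; group
    _ = q⁻¹ * (s * s) * q * s := by group
    _ = s := by rw [p'.sq]; group

theorem loc22 : Loc22Stmt.{u} := by
  intro G _ _ z Q P h
  refine ⟨let ⟨y, _, _, zt, p⟩ := exists_pq h; ⟨y, p.mem, zt, p.ne⟩, ?_⟩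
  obtain ⟨R, hR, c, hr⟩ := exists_r h
  obtain ⟨r, p, r1, r2⟩ := hr 0
  obtain ⟨r', p', -, r2'⟩ := hr 1
  have nrm : ∀ g i, Mv Q g i i → g ∈ normalizer (Q i : Set G) := fun g i e => mem_normalizer_of_cj e
  refine ⟨Q 1, Q 2, r, r', h.ord, h.card 1, h.card 2, fun q hq => exp3 h (le_iSup Q 1 hq),
    fun q hq => exp3 h (le_iSup Q 2 hq), h.mem 1, h.mem 2, h.nab 1, h.nab 2, h.comm 1 2 (by decide),
    p.ord, fun a ha => p.cen (le_Oth (by decide) ha), fun a ha => p.cen (le_Oth (by decide) ha),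
    fun g hz hc => ?_, fun k hc hk => ?_, c ▸ card_dvd_of_le (le_inf (le_inf (hR.trans h.cen) r1)
      (le_inf (hR.trans (h.pn 1)) (hR.trans (h.pn 2)))), fun h7 => ?_,
    fun q hq => wc_Oth h 0 (Oth_zero (Q := Q) ▸ hq), p.nwc, commutator_mono r1 r1 r2, p.isConj p',
    fun e => s_neg (by rw [← p.neg, ← e, p'.one 0 (by decide)]), commutator_mono r1 r1 r2'⟩
  · have hg := cen_iff.2 hz
    have e0 := p.mv hg hc
    obtain ⟨j, hj⟩ := exists_mv h hg 1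
    obtain ⟨k, hk⟩ := exists_mv h hg 2
    have n1 : j ≠ 0 := fun e => absurd (mv_inj h hg e0 (e ▸ hj)) (by decide)
    have n2 : k ≠ 0 := fun e => absurd (mv_inj h hg e0 (e ▸ hk)) (by decide)
    have n3 : k ≠ j := fun e => absurd (mv_inj h hg hj (e ▸ hk)) (by decide)
    have : ∀ j k : Fin 3, j ≠ 0 → k ≠ 0 → k ≠ j → (j = 1 ∧ k = 2) ∨ (j = 2 ∧ k = 1) := by decide
    rcases this j k n1 n2 n3 with ⟨rfl, rfl⟩ | ⟨rfl, rfl⟩
    · exact .inl ⟨nrm g 1 hj, nrm g 2 hk⟩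
    · exact .inr ⟨hj, hk⟩
  · rw [← Oth_zero] at hk ⊢
    have hg := cen_iff.2 (hk z (z_Oth h 0))
    have fx : ∀ j, j ≠ 0 → ∀ q ∈ Q j, k * q * k⁻¹ = q := fun j hj q hq =>
      mul_inv_eq_iff_eq_mul.2 (hk q (le_Oth hj hq)).eq
    have hb : k ∈ Bs z Q := mem_Bs.2 ⟨hg, fun j => by
      by_cases e : j = 0
      · exact e ▸ p.mv hg hc
      · exact fun q hq => (fx j e q hq).symm ▸ hq⟩
    have o : ∀ j, j ≠ 0 → pi h j k = 1 := fun j hj => (pi_one_iff h j hb).2 fun q hq => by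
      rw [fx j hj q hq, mul_inv_cancel]; exact one_mem _
    have all : ∀ (a : G) (n : ℕ), pi h 0 a ^ n = 1 → (∀ j, j ≠ 0 → pi h j a = 1) →
        ∀ j, pi h j a ^ n = 1 := fun a n e1 e2 j => by
      by_cases e : j = 0
      · exact e ▸ e1
      · rw [e2 j e, one_pow]
    have f4 : pi h 0 k ^ 4 = 1 := (s_ord _).resolve_right fun e => by
      rw [← pi_pow h 0 hb] at e
      have o4 : ∀ j, j ≠ 0 → pi h j (k ^ 4) = 1 := fun j hj => by rw [pi_pow h j hb, o j hj, one_pow]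
      exact wt3 h (trn h) (pow_mem hb 4) (all _ 3 e.1 o4) (fun a => e.2 (pi_Q h 0 a)) 1
        (o4 1 (by decide))
    have f2 : pi h 0 k ^ 2 = 1 := by
      by_contra e
      exact no_ks h 0 ⟨k, mem_P h hb (all k 4 f4 o), e, fun j hj => by rw [o j hj, one_pow]⟩
    rcases s_sq _ f2 with e | e
    · exact .inl (p.oth (mem_QQ h hb fun j => by
        simpa using all k 1 (by simpa using e) o j) hc)
    · refine .inr (p.oth (mem_QQ h (mul_mem hb p.mem) fun j => ?_) (hc.mul_left (Commute.refl r)))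
      rw [pi_mul h j hb p.mem]
      by_cases a : j = 0
      · rw [a, e, p.neg]; simp
      · rw [o j a, p.one j a, one_mul]
  · haveI : Fact (Nat.Prime 3) := ⟨by norm_num⟩
    obtain ⟨K, hK⟩ := Sylow.exists_subgroup_card_pow_prime 3 h7
    have hT := map_subtype_le K
    have cT := (card_subtype _ K).trans hK
    generalize K.map (centralizer {z} ⊓ centralizer {r}).subtype = T at hT cT
    have h3 : IsPGroup 3 T := IsPGroup.of_card cT
    have hB : T ≤ Bs z Q := fun a ha => by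
      by_contra hn
      obtain ⟨k, hk⟩ := h3 ⟨a, ha⟩
      obtain ⟨n, e⟩ := cyc h (hT ha).1 (congrArg Subtype.val hk) hn 0 1
      exact absurd (e.unique h (p.mv (hT (pow_mem ha n)).1 (cen_iff.1 (hT (pow_mem ha n)).2)))
        (by decide)
    have a1 := Nat.le_of_dvd (by norm_num) (rel3 h (trn h) hB h3)
    have a2 := card_le_of_le (show T ⊓ ⨆ i, Q i ≤ Q 1 ⊔ Q 2 from fun q hq =>
      Oth_zero (Q := Q) ▸ p.oth hq.2 (cen_iff.1 (hT hq.1).2))
    have a3 := card_inf_mul T (⨆ i, Q i)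
    have := Nat.mul_le_mul a2 a1
    rw [card12 h] at this
    omega

end Cfsg.Agent.H12.F22
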