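import Cfsg.Agent.H78.G40B

/-! L40G-NC3B: the coset of the inverse-transpose automorphism of `SL₃(9)`. -/

set_option autoImplicit false

namespace Cfsg.Agent.H12.G40Nc3b

open Matrix Cfsg.Agent.H28 Cfsg.Agent.H78.G40

abbrev M3 := Matrix (Fin 3) (Fin 3) F9

/-- the isometry group of the symmetric matrix `x` contains a `(2, 3, 5)` pair -/
def Good (x : M3) : Prop := ∃ p q : M3, p ≠ 1 ∧ p * p = 1 ∧ q * q * q = 1 ∧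
  p * q * (p * q) * (p * q) * (p * q) * (p * q) = 1 ∧
  p.det = 1 ∧ q.det = 1 ∧ p * x * pᵀ = x ∧ q * x * qᵀ = x

theorem transport {D : M3} (h : Good D) (N N' : M3) (h1 : N' * N = 1) : Good (N * D * Nᵀ) := by
  obtain ⟨p, q, p1, p2, q3, r5, dp, dq, fp, fq⟩ := h
  have h2 : N * N' = 1 := mul_eq_one_comm.1 h1
  have mu : ∀ a b : M3, N * a * N' * (N * b * N') = N * (a * b) * N' := fun a b => by
    rw [show N * a * N' * (N * b * N') = N * a * (N' * N) * b * N' by simp only [mul_assoc], h1]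
    simp only [mul_assoc, mul_one]
  have on : N * 1 * N' = 1 := by rw [mul_one, h2]
  have de : ∀ a : M3, (N * a * N').det = a.det := fun a => by
    rw [det_mul, det_mul, mul_right_comm, ← det_mul, h2, det_one, one_mul]
  have fx : ∀ a : M3, a * D * aᵀ = D → N * a * N' * (N * D * Nᵀ) * (N * a * N')ᵀ = N * D * Nᵀ :=
    fun a ha => by
      have h3 : Nᵀ * N'ᵀ = 1 := by rw [← transpose_mul, h1, transpose_one]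
      rw [transpose_mul, transpose_mul,
        show N * a * N' * (N * D * Nᵀ) * (N'ᵀ * (aᵀ * Nᵀ)) =
          N * (a * (N' * N) * D * (Nᵀ * N'ᵀ) * aᵀ) * Nᵀ by simp only [mul_assoc], h1, h3,
        mul_one, mul_one, ha]
  refine ⟨N * p * N', N * q * N', fun e => p1 ?_, ?_, ?_, ?_, ?_, ?_, fx p fp, fx q fq⟩
  · have : N' * (N * p * N') * N = p := by
      rw [show N' * (N * p * N') * N = (N' * N) * p * (N' * N) by simp only [mul_assoc], h1,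
        one_mul, mul_one]
    rw [← this, e, mul_one, h1]
  · rw [mu, p2, on]
  · rw [mu, mu, q3, on]
  · rw [mu, mu, mu, mu, mu, r5, on]
  · rw [de, dp]
  · rw [de, dq]

/-- a nonsquare -/
def ep : F9 := ⟨1, 1⟩

theorem rt : ∀ a : F9, a ≠ 0 → ∃ r s : F9, s * r = 1 ∧ (a = r * 1 * r ∨ a = r * ep * r) := by
  decide +kernel

theorem base (a b c : F9) (ha : a = 1 ∨ a = ep) (hb : b = 1 ∨ b = ep) (hc : c = 1 ∨ c = ep) :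
    Good (diagonal ![a, b, c]) := by
  rcases ha with rfl | rfl <;> rcases hb with rfl | rfl <;> rcases hc with rfl | rfl
  · exact ⟨!![⟨0, 0⟩, ⟨0, 0⟩, ⟨1, 0⟩; ⟨0, 0⟩, ⟨2, 0⟩, ⟨0, 0⟩; ⟨1, 0⟩, ⟨0, 0⟩, ⟨0, 0⟩], !![⟨0, 0⟩, ⟨0, 1⟩, ⟨0, 1⟩; ⟨0, 2⟩, ⟨1, 0⟩, ⟨2, 0⟩; ⟨0, 1⟩, ⟨1, 0⟩, ⟨2, 0⟩], by decide +kernel⟩
  · exact ⟨!![⟨0, 1⟩, ⟨0, 1⟩, ⟨0, 0⟩; ⟨0, 1⟩, ⟨0, 2⟩, ⟨0, 0⟩; ⟨0, 0⟩, ⟨0, 0⟩, ⟨2, 0⟩], !![⟨0, 1⟩, ⟨0, 1⟩, ⟨0, 0⟩; ⟨1, 2⟩, ⟨2, 1⟩, ⟨1, 0⟩; ⟨2, 1⟩, ⟨1, 2⟩, ⟨1, 1⟩], by decide +kernel⟩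
  · exact ⟨!![⟨0, 1⟩, ⟨0, 0⟩, ⟨0, 1⟩; ⟨0, 0⟩, ⟨2, 0⟩, ⟨0, 0⟩; ⟨0, 1⟩, ⟨0, 0⟩, ⟨0, 2⟩], !![⟨0, 1⟩, ⟨0, 0⟩, ⟨0, 1⟩; ⟨1, 2⟩, ⟨1, 1⟩, ⟨2, 1⟩; ⟨1, 2⟩, ⟨2, 0⟩, ⟨2, 1⟩], by decide +kernel⟩
  · exact ⟨!![⟨0, 0⟩, ⟨0, 1⟩, ⟨1, 2⟩; ⟨2, 1⟩, ⟨1, 2⟩, ⟨0, 2⟩; ⟨2, 0⟩, ⟨0, 2⟩, ⟨1, 1⟩], !![⟨0, 0⟩, ⟨0, 1⟩, ⟨2, 1⟩; ⟨2, 0⟩, ⟨0, 2⟩, ⟨2, 2⟩; ⟨2, 1⟩, ⟨1, 2⟩, ⟨0, 1⟩], by decide +kernel⟩
  · exact ⟨!![⟨0, 0⟩, ⟨1, 0⟩, ⟨1, 2⟩; ⟨2, 1⟩, ⟨1, 1⟩, ⟨0, 2⟩; ⟨0, 2⟩, ⟨0, 2⟩, ⟨1, 2⟩], !![⟨0, 0⟩, ⟨1, 0⟩, ⟨2, 1⟩; ⟨0, 1⟩, ⟨0, 1⟩, ⟨1, 2⟩; ⟨1, 2⟩, ⟨2, 2⟩, ⟨0, 2⟩], by decide +kernel⟩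
  · exact ⟨!![⟨0, 1⟩, ⟨0, 0⟩, ⟨0, 1⟩; ⟨0, 0⟩, ⟨2, 0⟩, ⟨0, 0⟩; ⟨0, 1⟩, ⟨0, 0⟩, ⟨0, 2⟩], !![⟨0, 1⟩, ⟨0, 0⟩, ⟨0, 1⟩; ⟨0, 1⟩, ⟨1, 1⟩, ⟨0, 2⟩; ⟨1, 2⟩, ⟨1, 1⟩, ⟨2, 1⟩], by decide +kernel⟩
  · exact ⟨!![⟨0, 1⟩, ⟨0, 1⟩, ⟨0, 0⟩; ⟨0, 1⟩, ⟨0, 2⟩, ⟨0, 0⟩; ⟨0, 0⟩, ⟨0, 0⟩, ⟨2, 0⟩], !![⟨0, 1⟩, ⟨0, 1⟩, ⟨0, 0⟩; ⟨1, 2⟩, ⟨2, 1⟩, ⟨1, 1⟩; ⟨0, 1⟩, ⟨0, 2⟩, ⟨1, 1⟩], by decide +kernel⟩
  · exact ⟨!![⟨0, 0⟩, ⟨0, 0⟩, ⟨1, 0⟩; ⟨0, 0⟩, ⟨2, 0⟩, ⟨0, 0⟩; ⟨1, 0⟩, ⟨0, 0⟩, ⟨0, 0⟩], !![⟨0, 0⟩, ⟨0, 1⟩, ⟨0, 1⟩; ⟨0, 2⟩, ⟨1, 0⟩, ⟨2, 0⟩; ⟨0, 1⟩, ⟨1, 0⟩, ⟨2, 0⟩], by decide +kernel⟩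

theorem diag (d : Fin 3 → F9) (h : ∀ i, d i ≠ 0) : Good (diagonal d) := by
  have k : ∀ i, ∃ r s e : F9, s * r = 1 ∧ (e = 1 ∨ e = ep) ∧ d i = r * e * r := fun i => by
    obtain ⟨r, s, h1, h2 | h2⟩ := rt (d i) (h i)
    exacts [⟨r, s, 1, h1, Or.inl rfl, h2⟩, ⟨r, s, ep, h1, Or.inr rfl, h2⟩]
  choose r s e h1 h2 h3 using k
  have g := transport (base (e 0) (e 1) (e 2) (h2 0) (h2 1) (h2 2)) (diagonal r) (diagonal s)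
    (by rw [diagonal_mul_diagonal, ← diagonal_one]; exact congrArg diagonal (funext h1))
  have e3 : ![e 0, e 1, e 2] = e := by funext i; fin_cases i <;> rfl
  rw [e3, diagonal_transpose, diagonal_mul_diagonal, diagonal_mul_diagonal] at g
  rwa [show d = fun i => r i * e i * r i from funext h3]

theorem good (x : M3) (hs : xᵀ = x) (hd : x.det = 1) : Good x := by
  have : Invertible (2 : F9) := invertibleOfNonzero (by decide)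
  have hB : (Matrix.toBilin' x).IsSymm := by
    rw [LinearMap.BilinForm.isSymm_def]
    intro v w
    rw [Matrix.toBilin'_apply', Matrix.toBilin'_apply', dotProduct_mulVec, ← mulVec_transpose, hs,
      dotProduct_comm]
  obtain ⟨v0, hv0⟩ := LinearMap.BilinForm.exists_orthogonal_basis (LinearMap.BilinForm.isSymm_iff.1 hB)
  let v : Module.Basis (Fin 3) F9 (Fin 3 → F9) := v0.reindex (finCongr (Module.finrank_fin_fun F9))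
  have hv : ∀ i j, i ≠ j → v i ⬝ᵥ x *ᵥ v j = 0 := fun i j hij => by
    rw [← Matrix.toBilin'_apply']
    simp only [v, Module.Basis.reindex_apply]
    exact hv0 (fun e => hij ((finCongr (Module.finrank_fin_fun F9)).symm.injective e))
  let Q : M3 := (Pi.basisFun F9 (Fin 3)).toMatrix v
  let Q' : M3 := v.toMatrix (Pi.basisFun F9 (Fin 3))
  have h1 : Q * Q' = 1 := Module.Basis.toMatrix_mul_toMatrix_flip _ _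
  have hQ : ∀ i j, Q i j = v j i := fun i j => by simp [Q, Module.Basis.toMatrix_apply]
  have hD : Qᵀ * x * Q = diagonal fun i => v i ⬝ᵥ x *ᵥ v i := by
    ext i j : 1
    have : (Qᵀ * x * Q) i j = v i ⬝ᵥ x *ᵥ v j := by
      rw [mul_assoc]
      simp only [mul_apply, transpose_apply, hQ, dotProduct, mulVec]
    rw [this]
    by_cases hij : i = j
    · subst hij; rw [diagonal_apply_eq]
    · rw [diagonal_apply_ne _ hij, hv i j hij]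
  have hne : ∀ i, v i ⬝ᵥ x *ᵥ v i ≠ 0 := fun i h0 => by
    have k := congrArg det hD
    rw [det_mul, det_mul, hd, det_transpose, det_diagonal,
      Finset.prod_eq_zero (Finset.mem_univ i) h0, mul_one, mul_self_eq_zero] at k
    have k2 := congrArg det h1
    rw [det_mul, k, zero_mul, det_one] at k2
    exact zero_ne_one k2
  have g := transport (diag _ hne) Q'ᵀ Qᵀ (by
    rw [← transpose_mul, mul_eq_one_comm.1 h1, transpose_one])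
  rw [← hD, transpose_transpose,
    show Q'ᵀ * (Qᵀ * x * Q) * Q' = (Q * Q')ᵀ * x * (Q * Q') by
      rw [transpose_mul]; simp only [mul_assoc], h1, transpose_one, one_mul, mul_one] at g
  exact g

theorem tt (g : X3) : τ3 (τ3 g) = g := τ3.left_inv g

theorem ap (g : X3) : ((θ3 * τ3) g).1 = (g⁻¹).1ᵀ := by
  change (itr (Fin 3) F9 (τ3 (τ3 g))).1 = _
  rw [tt]; rfl

theorem fix (x p : X3) (h : p.1 * x.1 * p.1ᵀ = x.1) : (MulAut.conj x * (θ3 * τ3)) p = p := by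
  change x * (θ3 * τ3) p * x⁻¹ = p
  rw [mul_inv_eq_iff_eq_mul]
  apply Subtype.ext
  change x.1 * ((θ3 * τ3) p).1 = p.1 * x.1
  have k : (p⁻¹).1 * p.1 = 1 := congrArg Subtype.val (inv_mul_cancel p)
  have k' : p.1ᵀ * (p⁻¹).1ᵀ = 1 := by rw [← transpose_mul, k, transpose_one]
  rw [ap]
  conv_lhs => rw [← h, mul_assoc, k', mul_one]

theorem cm (a b : X3) : (a * b).1 = a.1 * b.1 := rfl

theorem eq1 {a : X3} (h : a = 1) : a.1 = 1 := by rw [h]; rfl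

theorem eq1' {a : X3} (h : a.1 = 1) : a = 1 := Subtype.ext h

theorem symm (x : X3) (hx : x * (θ3 * τ3) x = 1) : x.1ᵀ = x.1 := by
  have k : x.1 * (x⁻¹).1ᵀ = 1 := by
    have e := eq1 hx
    rwa [cm, ap] at e
  have k1 : x.1 * (x⁻¹).1 = 1 := by
    have e := eq1 (mul_inv_cancel x)
    rwa [cm] at e
  have k2 : (x⁻¹).1ᵀ * x.1ᵀ = 1 := by
    rw [← transpose_mul, k1, transpose_one]
  calc x.1ᵀ = x.1 * (x⁻¹).1ᵀ * x.1ᵀ := by rw [k, one_mul]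
    _ = x.1 := by rw [mul_assoc, k2, mul_one]

theorem fin (x p q : X3) (p1 : p.1 ≠ 1) (p2 : p.1 * p.1 = 1) (q3 : q.1 * q.1 * q.1 = 1)
    (r5 : p.1 * q.1 * (p.1 * q.1) * (p.1 * q.1) * (p.1 * q.1) * (p.1 * q.1) = 1)
    (fp : p.1 * x.1 * p.1ᵀ = x.1) (fq : q.1 * x.1 * q.1ᵀ = x.1) :
    Cert 64 (MulAut.conj x * (θ3 * τ3)) := by
  have a2 : p * p = 1 := eq1' (by rw [cm, p2])
  have a3 : q ^ 3 = 1 := by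
    rw [pow_succ, pow_two]; exact eq1' (by rw [cm, cm, q3])
  have a5 : (p * q) ^ 5 = 1 := by
    rw [pow_succ, pow_succ, pow_succ, pow_two]; exact eq1' (by simp only [cm]; exact r5)
  exact Or.inr ⟨p, q, 5, Or.inl rfl, fun e => p1 (eq1 e), a2, a3, a5, fix x p fp, fix x q fq⟩

theorem nc3b : Nc3bS := by
  intro x hx
  obtain ⟨p, q, p1, p2, q3, r5, dp, dq, fp, fq⟩ := good x.1 (symm x hx) x.2
  exact fin x ⟨p, dp⟩ ⟨q, dq⟩ p1 p2 q3 r5 fp fq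

end Cfsg.Agent.H12.G40Nc3b
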