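import Cfsg.Agent.H93.LT2Defs

/-! Piece HF1: the fusion of `f` is seen in `C_X(V) ∩ N(B₀)`; the local argument. -/

set_option autoImplicit false

namespace Cfsg.Agent.H12.Hf

open Subgroup Cfsg.Agent.H85 Cfsg.Agent.H93.LT

universe u

variable {G : Type u} [Group G]

/-- generators of a group `4 × 4 × 2` -/
structure Tri (k m f : G) : Prop where
  km : k * m = m * k
  kf : k * f = f * k
  mf : m * f = f * m
  ff : f * f = 1
  k4 : k * k * (k * k) = 1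
  m4 : m * m * (m * m) = 1
  k1 : k * k ≠ 1
  m1 : m * m ≠ 1
  ne : k * k ≠ m * m
  f1 : f ≠ 1
  fk : f ≠ k * k
  fm : f ≠ m * m
  fkm : f ≠ k * k * (m * m)

theorem Tri.map {H : Type*} [Group H] {k m f : G} (φ : G →* H) (hφ : Function.Injective φ) :
    Tri (φ k) (φ m) (φ f) ↔ Tri k m f := by
  constructor <;> rintro ⟨h1, h2, h3, h4, h5, h6, h7, h8, h9, h10, h11, h12, h13⟩ <;>
    refine ⟨?_, ?_, ?_, ?_, ?_, ?_, ?_, ?_, ?_, ?_, ?_, ?_, ?_⟩ <;>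
    simp only [← map_mul, ne_eq, hφ.eq_iff, map_eq_one_iff φ hφ] at * <;> assumption

theorem Tri.symm {k m f : G} (h : Tri k m f) : Tri m k f :=
  ⟨h.km.symm, h.mf, h.kf, h.ff, h.m4, h.k4, h.m1, h.k1, h.ne.symm, h.f1, h.fm, h.fk, by
    have c : Commute k m := h.km
    rw [← ((c.mul_left c).mul_right (c.mul_left c)).eq]; exact h.fkm⟩

theorem Tri.conj {k m f : G} (h : Tri k m f) (g : G) : Tri (cn k g) (cn m g) (cn f g) := by
  have := (Tri.map (MulAut.conj g⁻¹).toMonoidHom (MulAut.conj g⁻¹).injective).2 h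
  simpa using this

theorem cn_mul' (x y g : G) : cn (x * y) g = cn x g * cn y g := by simp only [cn]; group
theorem cn_cn (x g k : G) : cn x (g * k) = cn (cn x g) k := by simp only [cn]; group
theorem cn_of_comm {x g : G} (h : Commute g x) : cn x g = x := by
  rw [cn, mul_assoc, ← h.eq, inv_mul_cancel_left]
theorem comm_of_cn {x g : G} (h : cn x g = x) : Commute g x := by
  have : g * cn x g = g * x := by rw [h]
  rw [cn, ← mul_assoc, ← mul_assoc, mul_inv_cancel, one_mul] at this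
  exact this.symm

/-- the facts on the Sylow subgroup -/
structure Fa (h : H3 G) : Prop where
  nV : h.S0 ≤ normalizer (h.V1 : Set G)
  cB : h.S0 ⊓ centralizer (h.V1 : Set G) = h.B0
  ab : ∀ u ∈ h.B0, ∀ w ∈ h.B0, u⁻¹ * cn u w ∈ h.V1
  al : ∀ k ∈ h.S0, ∀ m ∈ h.S0, ∀ f ∈ h.S0, Tri k m f → k * k ∈ h.V1
  tr : ∃ N ≤ h.S0, (∀ x ∈ h.S0, ∀ y ∈ h.S0, x⁻¹ * y⁻¹ * x * y ∈ N) ∧ h.V1 ≤ N ∧ h.f ∉ N
  t1 : Tri (h.x * h.t) h.m h.f
  kk : h.x * h.t * (h.x * h.t) = h.z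
  t2 : cn h.p h.q = h.x * h.t * h.m * h.p → ∃ α ∈ h.S0, ∃ β ∈ h.S0,
    Tri α β (h.y * (h.x * h.t)) ∧ α * α = h.z ∧ β * β = h.a
  Yt : cn (h.y * (h.x * h.t)) h.t = h.x * h.y * h.t

theorem mem_V (h : Pre G) {v : G} : v ∈ h.V1 ↔ v = 1 ∨ v = h.z ∨ v = h.a ∨ v = h.a * h.z := by
  have e2 : ∀ x, h.a * (h.a * x) = x := fun x => by rw [← mul_assoc, h.aa, one_mul]
  have e3 : ∀ x, h.z * (h.a * x) = h.a * (h.z * x) := fun x => by
    rw [← mul_assoc, h.za.eq, mul_assoc]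
  constructor
  · intro hv
    induction hv using closure_induction with
    | mem x hx => rcases hx with rfl | rfl <;> simp
    | one => simp
    | mul x y _ _ hx hy =>
      rcases hx with rfl | rfl | rfl | rfl <;> rcases hy with rfl | rfl | rfl | rfl <;>
        simp [mul_assoc, e2, e3, h.zz, h.aa, h.za.eq]
    | inv x _ hx =>
      rcases hx with rfl | rfl | rfl | rfl <;>
        simp [inv_eq_of_mul_eq_one_right h.zz, inv_eq_of_mul_eq_one_right h.aa, h.za.eq]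
  · have hz : h.z ∈ h.V1 := subset_closure (by simp)
    have ha : h.a ∈ h.V1 := subset_closure (by simp)
    rintro (rfl | rfl | rfl | rfl)
    exacts [one_mem _, hz, ha, mul_mem ha hz]

theorem cV (h : Pre G) {g : G} :
    g ∈ centralizer (h.V1 : Set G) ↔ Commute g h.z ∧ Commute g h.a := by
  rw [Pre.V1, centralizer_closure]
  exact ⟨fun k => ⟨(k _ (by simp)).symm, (k _ (by simp)).symm⟩, by
    rintro ⟨k1, k2⟩ _ (rfl | rfl)
    exacts [k1.symm, k2.symm]⟩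

theorem cn_V (h : Pre G) {g v : G} (hg : g ∈ normalizer (h.V1 : Set G)) (hv : v ∈ h.V1) :
    cn v g ∈ h.V1 := by
  simpa using (mem_normalizer_iff.1 (inv_mem hg) v).1 hv

/-- `⟨b, r⟩` induces all automorphisms of `V` -/
theorem aut_V (h : Pre G) (hb : h.b ∈ h.X) (hr : h.r ∈ h.X) {g : G}
    (hg : g ∈ normalizer (h.V1 : Set G)) :
    ∃ w ∈ h.X, Commute w h.f ∧ w * g ∈ centralizer (h.V1 : Set G) := by
  have inj : ∀ {u v : G}, cn u g⁻¹ = cn v g⁻¹ → u = v := fun e =>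
    mul_left_cancel (mul_right_cancel e)
  have c1 : cn 1 g⁻¹ = 1 := cn_of_comm (Commute.one_right _)
  have a1 : h.a ≠ 1 := fun e => h.z1 (by
    have := h.zr; rw [e, ← cn_of_comm (Commute.one_right h.r)] at this
    exact mul_left_cancel (mul_right_cancel this))
  have az : h.a ≠ h.z := fun e => a1 (by
    have := h.ar; rw [e, h.zr, h.zz] at this; exact this)
  have zb : cn h.z h.b = h.z := cn_of_comm h.zb.symm
  have azr : cn (h.a * h.z) h.r = h.z := by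
    rw [cn_mul', h.ar, h.zr, mul_assoc, h.za.eq, ← mul_assoc, h.aa, one_mul]
  suffices ∃ w ∈ h.X, Commute w h.f ∧ cn h.z w = cn h.z g⁻¹ ∧ cn h.a w = cn h.a g⁻¹ by
    obtain ⟨w, h1, h2, h3, h4⟩ := this
    refine ⟨w, h1, h2, (cV h).2 ⟨comm_of_cn ?_, comm_of_cn ?_⟩⟩
    · rw [cn_cn, h3, ← cn_cn]; simp
    · rw [cn_cn, h4, ← cn_cn]; simp
  have hz := (mem_V h).1 (cn_V h (inv_mem hg) (subset_closure (by simp) : h.z ∈ h.V1))
  have ha := (mem_V h).1 (cn_V h (inv_mem hg) (subset_closure (by simp) : h.a ∈ h.V1))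
  have fb := h.fb.symm
  have fr := h.rf
  rcases hz with e | e | e | e <;> rcases ha with e' | e' | e' | e'
  all_goals first
    | exact absurd (inj (e.trans c1.symm)) h.z1
    | exact absurd (inj (e'.trans c1.symm)) a1
    | exact absurd (inj (e'.trans e.symm)) az
    | rw [e, e']
  · exact ⟨1, one_mem _, Commute.one_left _, by simp, by simp⟩
  · exact ⟨h.b, hb, fb, zb, h.ab⟩
  · exact ⟨h.b * h.r, mul_mem hb hr, fb.mul_left fr, by rw [cn_cn, zb, h.zr],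
      by rw [cn_cn, h.ab, azr]⟩
  · exact ⟨h.r, hr, fr, h.zr, h.ar⟩
  · exact ⟨h.r * h.r, mul_mem hr hr, fr.mul_left fr, by rw [cn_cn, h.zr, h.ar],
      by rw [cn_cn, h.ar, azr]⟩
  · exact ⟨h.b * h.r * h.r, mul_mem (mul_mem hb hr) hr, (fb.mul_left fr).mul_left fr,
      by rw [cn_cn, cn_cn, zb, h.zr, h.ar], by rw [cn_cn, cn_cn, h.ab, azr, h.zr]⟩

variable [Finite G]

/-- Burnside's fusion argument in `C_X(V) / V` -/
theorem burn {h : H4 G} (F : Fa h.toH3) {u g : G} (hu : u ∈ h.B0) (gX : g ∈ h.X)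
    (gC : g ∈ centralizer (h.V1 : Set G)) (hv : cn u g ∈ h.B0) :
    ∃ γ, h.Gam γ ∧ (cn u g)⁻¹ * cn u γ ∈ h.V1 := by
  have : Fact (Nat.Prime 2) := ⟨Nat.prime_two⟩
  have := h.Xn
  set C := h.X ⊓ centralizer (h.V1 : Set G) with hC
  have s1 : IsSyl 2 h.B0 C := by
    have := (h.syl0.of_le (le_inf h.syl0.le F.nV) inf_le_left).inf_of_le_normalizer
      (N := C) (inf_le_inf_left _ (centralizer_le_normalizer _))
      (le_normalizer_inf (inf_le_left.trans le_normalizer)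
        (inf_le_right.trans (normalizer_le_normalizer_centralizer _)))
    rwa [hC, ← inf_assoc, inf_eq_left.2 h.syl0.le, F.cB] at this
  have fx : ∀ c ∈ C, ∀ v ∈ h.V1, cn v c = v := fun c hc v hv => cn_of_comm (hc.2 v hv).symm
  set v := cn u g with hv'
  let D : Subgroup G :=
    { carrier := {c | c ∈ C ∧ v⁻¹ * cn v c ∈ h.V1}
      one_mem' := ⟨one_mem _, by simp⟩
      mul_mem' := fun {c d} hc hd => ⟨mul_mem hc.1 hd.1, by
        have := mul_mem hd.2 ((fx d hd.1 _ hc.2).symm ▸ hc.2 : cn (v⁻¹ * cn v c) d ∈ h.V1)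
        rwa [show v⁻¹ * cn v d * cn (v⁻¹ * cn v c) d = v⁻¹ * cn v (c * d) by
          simp only [cn]; group] at this⟩
      inv_mem' := fun {c} hc => ⟨inv_mem hc.1, by
        have := inv_mem ((fx _ (inv_mem hc.1) _ hc.2).symm ▸ hc.2 : cn (v⁻¹ * cn v c) c⁻¹ ∈ h.V1)
        rwa [show (cn (v⁻¹ * cn v c) c⁻¹)⁻¹ = v⁻¹ * cn v c⁻¹ by simp only [cn]; group] at this⟩ }
  have hD : D ≤ C := fun c hc => hc.1
  have s2 := s1.cj_of_mem (inv_mem (⟨gX, gC⟩ : g ∈ C))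
  obtain ⟨d, hd, e⟩ := (s2.of_le (K := D) (fun w hw => ⟨s2.le hw, by
      have := F.ab u hu _ (mem_cj.1 hw)
      rw [← fx g ⟨gX, gC⟩ _ this] at this
      rwa [show cn (u⁻¹ * cn u (g⁻¹⁻¹ * w * g⁻¹)) g = v⁻¹ * cn v w by
        simp only [hv', cn]; group] at this⟩) hD).exists_cj_eq
    (s1.of_le (fun w hw => ⟨s1.le hw, F.ab v hv w hw⟩) hD)
  rw [← cj_mul, cj_eq_iff_mem_normalizer] at e
  have hγ : g * d⁻¹ ∈ C := mul_mem ⟨gX, gC⟩ (inv_mem hd.1)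
  refine ⟨g * d⁻¹, ⟨hγ.1, ((cV _).1 hγ.2).1, ((cV _).1 hγ.2).2, by simpa using inv_mem e⟩, ?_⟩
  rw [cn_cn]
  exact (inv_mem hd : d⁻¹ ∈ D).2

omit [Finite G] in
theorem mem_B0 (h : H3 G) : h.f ∈ h.B0 ∧ h.x * h.t ∈ h.B0 ∧ h.m ∈ h.B0 ∧ h.y ∈ h.B0 :=
  ⟨subset_closure (by simp), subset_closure (by simp), subset_closure (by simp),
    subset_closure (by simp)⟩

theorem beta {h : H4 G} (K : Kit h.toHyp) (F : Fa h.toH3) {g : G} (gX : g ∈ h.X)
    (gN : g ∈ normalizer (h.V1 : Set G)) (hv : cn h.f g ∈ h.S0) :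
    ∃ γ, h.Gam γ ∧ (cn h.f g)⁻¹ * cn h.f γ ∈ h.V1 := by
  obtain ⟨w, wX, wf, wC⟩ := aut_V h.toPre K.aX.2.1 (K.odX _ h.ro) gN
  have e : cn h.f (w * g) = cn h.f g := by rw [cn_cn, cn_of_comm wf]
  have fB := (mem_B0 h.toH3).1
  have fC : h.f ∈ centralizer (h.V1 : Set G) := (F.cB.ge fB).2
  rw [← e] at hv ⊢
  have := mul_mem (mul_mem (inv_mem wC) fC) wC
  exact burn F fB (mul_mem wX gX) wC (F.cB.le ⟨hv, this⟩)

theorem alpha {h : H3 G} (F : Fa h) {k m f g : G} (T : Tri k m f) (e1 : k * k = h.z)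
    (e2 : m * m = h.a) (hk : cn k g ∈ h.S0) (hm : cn m g ∈ h.S0) (hf : cn f g ∈ h.S0) :
    g ∈ normalizer (h.V1 : Set G) := by
  have h1 := F.al _ hk _ hm _ hf (T.conj g)
  have h2 := F.al _ hm _ hk _ hf (T.symm.conj g)
  rw [← cn_mul', e1] at h1
  rw [← cn_mul', e2] at h2
  refine (Subgroup.inv_mem_iff _).1 (mem_normalizer_of_cj_le ?_)
  rw [cj_le_iff_le_cj_inv, inv_inv]
  refine (closure_le _).2 ?_
  rintro _ (rfl | rfl)
  exacts [mem_cj.2 h1, mem_cj.2 h2]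

theorem main {h : H4 G} (K : Kit h.toHyp) (F : Fa h.toH3) :
    (∃ γ, h.Gam γ ∧ h.f⁻¹ * cn h.f γ ∉ h.V1) ∧
    (cn h.p h.q = h.x * h.t * h.m * h.p → IsConj h.f h.y →
      ∃ γ, h.Gam γ ∧ (h.y * (h.x * h.t))⁻¹ * cn h.f γ ∈ h.V1) := by
  have : Fact (Nat.Prime 2) := ⟨Nat.prime_two⟩
  have := h.Xn
  obtain ⟨fB, kB, mB, yB⟩ := mem_B0 h.toH3
  have BS : h.B0 ≤ h.S0 := le_sup_left
  have SX := h.syl0.le
  have cs : ∀ {a b : G}, a * b = b * a → a ∈ centralizer ({b} : Set G) :=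
    mem_centralizer_singleton_iff.2
  have p2 : ∀ C, IsPGroup 2 ↥(h.S0 ⊓ C) := fun C => h.syl0.isPGroup.to_inf_left
  constructor
  · by_contra hn
    push Not at hn
    obtain ⟨N, h1, h2, h3, h4⟩ := F.tr
    refine h4 (K.trX h.S0 N (h.S0 ⊓ centralizer {h.f}) h.f h.syl0 h1 h2 h.ff (BS fB)
      ⟨BS fB, cs rfl⟩ (inf_le_left.trans SX) (p2 _) inf_le_right fun g gX hg => ?_)
    have m := hg _ ⟨BS fB, cs rfl⟩
    obtain ⟨γ, hγ, e⟩ := beta K F gX (alpha F F.t1 F.kk h.mm (hg _ ⟨BS kB, cs F.t1.kf⟩)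
      (hg _ ⟨BS mB, cs F.t1.mf⟩) m) m
    have := mul_mem (hn γ hγ) (inv_mem e)
    rw [show h.f⁻¹ * cn h.f γ * ((cn h.f g)⁻¹ * cn h.f γ)⁻¹ = h.f⁻¹ * cn h.f g by group] at this
    exact h3 this
  · intro hA hc
    obtain ⟨α, hα, β, hβ, T, e1, e2⟩ := F.t2 hA
    set Y := h.y * (h.x * h.t) with hY
    have YS : Y ∈ h.S0 := BS (mul_mem yB kB)
    obtain ⟨g, gX, hg⟩ : ∃ g ∈ h.X, cn Y g = h.f := by
      obtain ⟨c, hc⟩ := isConj_iff.1 hc
      have e : cn Y (h.t * h.e⁻¹ * c) = h.f := by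
        rw [cn_cn, cn_cn, F.Yt, ← h.ye h.y1, ← cn_cn, ← hc]; simp only [cn]; group
      by_cases hx : h.t * h.e⁻¹ * c ∈ h.X
      · exact ⟨_, hx, e⟩
      · exact ⟨_, K.muX _ _ hx h.tX, by rw [cn_cn, e, cn_of_comm h.tf]⟩
    obtain ⟨P, hP, le⟩ := exists_isSyl_ge (H := h.X ⊓ centralizer {h.f}) (p2 (centralizer {h.f}))
      (inf_le_inf_right _ SX)
    obtain ⟨c, hc, l2⟩ := hP.exists_cj_le (isPGroup_cj g⁻¹ (p2 (centralizer {Y}))) (le_inf
      (cj_le_of_mem (inf_le_left.trans SX) (inv_mem gX)) fun w hw => cs (by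
        have := mem_centralizer_singleton_iff.1 (mem_cj.1 hw).2
        rw [← hg]
        calc w * cn Y g = g⁻¹ * (g⁻¹⁻¹ * w * g⁻¹ * Y) * g := by simp only [cn]; group
          _ = _ := by rw [this]; simp only [cn]; group))
    obtain ⟨d, dX, l3⟩ := h.syl0.exists_cj_le hP.isPGroup (hP.le.trans inf_le_left)
    have k1 : ∀ w ∈ h.S0, w * h.f = h.f * w → cn w d⁻¹ ∈ h.S0 := fun w h1 h2 => by
      simpa [cn] using l3 (conj_mem_cj (le ⟨h1, cs h2⟩))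
    have k2 : ∀ w ∈ h.S0, w * Y = Y * w → cn w (g * c⁻¹ * d⁻¹) ∈ h.S0 := fun w h1 h2 => by
      have := l3 (conj_mem_cj (l2 (conj_mem_cj (conj_mem_cj (g := g⁻¹) ⟨h1, cs h2⟩))))
      rwa [show d * (c * (g⁻¹ * w * g⁻¹⁻¹) * c⁻¹) * d⁻¹ = cn w (g * c⁻¹ * d⁻¹) by
        simp only [cn]; group] at this
    have n1 := alpha F F.t1 F.kk h.mm (k1 _ (BS kB) F.t1.kf) (k1 _ (BS mB) F.t1.mf)
      (k1 _ (BS fB) rfl)
    have n2 := alpha F T e1 e2 (k2 _ hα T.kf) (k2 _ hβ T.mf) (k2 _ YS rfl)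
    have n3 := inv_mem (mul_mem n2 (inv_mem n1))
    rw [show (g * c⁻¹ * d⁻¹ * d⁻¹⁻¹)⁻¹ = c * g⁻¹ by group] at n3
    have e : cn h.f (c * g⁻¹) = Y := by
      rw [cn_cn, cn_of_comm (mem_centralizer_singleton_iff.1 hc.2), ← hg, ← cn_cn]; simp
    have := beta K F (mul_mem hc.1 (inv_mem gX)) n3 (e ▸ YS)
    rwa [e] at this

end Cfsg.Agent.H12.Hf
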