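import Cfsg.Agent.H12.HfA
import Cfsg.Agent.H13.LTSub

/-! Piece HF1: the facts on the Sylow subgroup, read off from the model. -/

set_option autoImplicit false

namespace Cfsg.Agent.H12.Hf

open Subgroup Cfsg.Agent.H85 Cfsg.Agent.H93.LT Cfsg.Agent.H96 Cfsg.Agent.H13 Cfsg.Agent.H13.LT

universe u

/-- the kernel of a character of `S₀` -/
def lam (v : Bool) (n : ℕ) : Bool :=
  Nat.beq (Nat.land (Nat.add (Nat.shiftRight n 7) (cond v (Nat.shiftRight n 2) 0)) 1) 0

/-- generators of `B₀` -/
noncomputable abbrev gB (v : Bool) : List (T10 v).G :=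
  [(T10 v).el 512, (T10 v).el 128, (T10 v).el 256, (T10 v).el 64, (T10 v).el 32,
    (T10 v).el 1 * (T10 v).el 16, (T10 v).el 4 * (T10 v).el 16, (T10 v).el 2 * (T10 v).el 16]

theorem m1 : ∀ v, ∀ s : (T10 v).G, evn s.val = true →
    (msk 255 (s⁻¹ * (T10 v).el 512 * s).val = true ∧
      msk 255 (s⁻¹ * (T10 v).el 256 * s).val = true) ∧
    ((s * (T10 v).el 512 = (T10 v).el 512 * s ∧ s * (T10 v).el 256 = (T10 v).el 256 * s) ↔
      msk 8 s.val = true) ∧ (msk 255 s.val = true → lam v s.val = true) := by
  decide +kernel

theorem m2 : ∀ v, ∀ s : (T10 v).G, evn s.val = true → ∀ g ∈ gB v ++ [(T10 v).el 8],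
    lam v (s * g).val = (lam v s.val == lam v g.val) := by
  simp only [gB, List.cons_append, List.nil_append, List.forall_mem_cons, List.not_mem_nil,
    false_imp_iff, implies_true, and_true]
  decide +kernel

theorem m3 : ∀ v, ∀ s : (T10 v).G, (msk 8 s.val && evn s.val) = true → ∀ g ∈ gB v,
    msk 255 (s⁻¹ * (g⁻¹ * s * g)).val = true := by
  simp only [gB, List.forall_mem_cons, List.not_mem_nil, false_imp_iff, implies_true, and_true]
  decide +kernel

/-- Certificate. -/
def cov : Bool → ℕ
  | false => 0
  | true => 0x1980000000000390000000000000000000000000000120000005c00000000000000000000000000006400000000001c00000000000000000000000000001c0000012000000000000000000000000000002000000000000800000000000000000000000000000d00000018000000000000000000000000000048000000000017000000000000000000000000000032000000dc00000000000000000000000000007c0000000000310000000000000000000000000000340000007c0000000000000000000000000000ac00000000001f00000000000000000000000000000b0000008000000000000000000000000000005000000000002e00000000000000000000000000000b0000003800000000000000000000000000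004400000000002b0000000000000000000000000000140000004400000000000000000000000000000c0000000000060000000000000000000000000000520000015c00000000000000000000000000000c000000000008000000000000000000000000000006000000340000000000000000000000000000180000000000190000000000000000000000000000190000011800000000000000000000000000008c000000000026000000000000000000000000000028000000b400000000000000000000000000002c0000000000250000000000000000000000000000600000002c00000000000000000000000000003800000000003100000000000000000000000000001f000000c400000000000000000000000000004400000000000500000000000000000000000000004b0000001400000000000000000000000000001400000000003f000000000000000000000000000005000001b800000000000000000000000000005c0000000000120000000000000000000000000000280000010c00000000000000000000000000010c00000000003700000000000000000000000000006300000064000000000000000000000000000034000000000032000000000000000000000000000003000000200000000000000000000000000000a000000000002d0000000000000000000000000000030000001800000000000000000000000000012c00000000001a00000000000000000000000000001a00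00009400000000000000000000000000006800000000002e0000000000000000000000000000200000003800000000000000000000000000010000000000001100000000000000000000000000006e000001140000000000000000000000000001000000000000140000000000000000000000000000450000012c0000000000000000000000000000980000000000230000000000000000000000000000060000000c0000000000000000000000000001c80000000000060000000000000000000000000000080000000c000000000000000000000000000134000000000003000000000000000000000000000043000000700000000000000000000000000000180000000000030000000000000000000000000000170000004800000000000000000000000000017c00000000000e00000000000000000000000000000e0000018000000000000000000000000000009400000000000b000000000000000000000000000034000000680000000000000000000000000000000000000000000000000000000000000000000000000000000000000000000000000000000000000000000000000000000000000000000000000000000000000000000000000000000000000000000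

/-- Certificate. -/
def rep : Bool → List (ℕ × List ℕ × List ℕ)
  | false => []
  | true => [(11, [20, 31, 192, 203, 532, 543, 704, 715], [5, 81, 145, 197, 212, 512, 517, 593, 657, 709]),
    (14, [26, 84, 448, 462, 538, 596, 960, 974], [197, 209, 261, 273, 512, 709, 721, 773, 785, 916]),
    (26, [14, 84, 448, 474, 526, 596, 960, 986], [5, 17, 404, 453, 465, 512, 517, 529, 965, 977]),
    (31, [11, 20, 192, 223, 523, 532, 704, 735], [261, 337, 401, 453, 512, 724, 773, 849, 913, 965]),
    (43, [84, 192, 235, 383, 596, 704, 747, 895], [148, 261, 273, 453, 465, 512, 773, 785, 965, 977]),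
    (46, [20, 378, 448, 494, 532, 890, 960, 1006], [5, 81, 401, 453, 512, 517, 593, 913, 965, 980]),
    (58, [110, 276, 448, 506, 622, 788, 960, 1018], [81, 197, 212, 261, 401, 512, 593, 709, 773, 913]),
    (63, [107, 192, 255, 340, 619, 704, 767, 852], [5, 197, 273, 465, 512, 517, 709, 785, 916, 977])]

theorem m4 (v : Bool) {k m f : (T10 v).G} (hk : evn k.val = true) (hm : evn m.val = true)
    (hf : evn f.val = true) (t : Tri k m f) : msk 255 (k * k).val = true := by
  rw [← Pk.fast_mul (f10 v)]
  exact Pk.tri_sound (c := false) (Q := evn) (P := fun n => msk 255 ((FF v).mul n n))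
    (Pk.fast_mul (f10 v)) (fun x g a b => (genS0 v _).1 (mul_mem (mul_mem
      (inv_mem ((genS0 v g).2 b)) ((genS0 v x).2 a)) ((genS0 v g).2 b))) (cov := cov v)
    (R := rep v) (by clear t hk hm hf k m f; revert v; decide +kernel)
    (by clear t hk hm hf k m f; revert v; decide +kernel) hk hm hf
    ⟨t.km, t.kf, t.mf, t.k1, t.k4, t.m1, t.ne.symm, t.m4, t.ff, t.f1, t.fk, t.fm, t.fkm⟩

theorem tri_of {M : Type*} [Group M] {k m f : M} (t : Pk.Tri false k m f) : Tri k m f :=
  ⟨t.uv, t.uw, t.vw, t.s2, t.u4, t.v4, t.u2, t.v2, t.vu.symm, t.s1, t.su, t.sv, t.sp⟩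

theorem hom (v : Bool) {x y : (T10 v).G} (hx : evn x.val = true) (hy : evn y.val = true) :
    lam v (x * y).val = (lam v x.val == lam v y.val) := by
  have hy' := (genS0 v y).2 hy
  clear hy
  have e : ∀ {w}, w ∈ Submonoid.closure {g | g ∈ gB v ++ [(T10 v).el 8]} → evn w.val = true :=
    fun {w} a => (genS0 v w).1 (by rw [← closure_toSubmonoid_of_finite] at a; exact a)
  replace hy' : y ∈ Submonoid.closure {g | g ∈ gB v ++ [(T10 v).el 8]} := by
    rw [← closure_toSubmonoid_of_finite]; exact hy'
  induction hy' using Submonoid.closure_induction_right with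
  | one => rw [mul_one, show lam v (1 : (T10 v).G).val = true by cases v <;> rfl]; simp
  | mul_right y hy g hg ih =>
    rw [← mul_assoc, m2 v _ ((genS0 v _).1 (mul_mem ((genS0 v x).2 hx) ((genS0 v y).2 (e hy)))) g hg,
      ih, m2 v y (e hy) g hg]
    cases lam v x.val <;> cases lam v y.val <;> cases lam v g.val <;> rfl

variable {G : Type u} [Group G] [Finite G]

theorem fa (h : H3 G) (hy : h.y ≠ 1) : Fa h := by
  obtain ⟨v, φ, hv, d⟩ := exists_phi h hy
  have mV := (genV v).mem d.inj d.V
  have mB := (genB0 v).mem d.inj (d.B0 hy)
  have mS := (genS0 v).mem d.inj (d.S0 hy)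
  have xS := fun {u} (hu : u ∈ h.S0) => (genS0 v).ex (d.S0 hy) hu
  have cφ : ∀ x g, cn (φ x) (φ g) = φ (g⁻¹ * x * g) := fun x g => by
    simp only [cn, map_mul, map_inv]
  have nV : h.S0 ≤ normalizer (h.V1 : Set G) := fun s hs => by
    obtain ⟨s, a, rfl⟩ := xS hs
    refine H3.LTB.mem_N_closure ?_
    rintro _ (rfl | rfl)
    · have := (mV _).2 (m1 v s a).1.1
      rwa [← cφ, d.z] at this
    · have := (mV _).2 (m1 v s a).1.2
      rwa [← cφ, d.a] at this
  have BS : h.B0 ≤ h.S0 := le_sup_left
  have Y : φ ((T10 v).el 81) = h.y * (h.x * h.t) := by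
    rw [← d.y hy, ← d.k, ← map_mul]; exact congrArg φ (by clear * -; revert v; decide +kernel)
  refine ⟨nV, le_antisymm (fun s hs => ?_) fun s hs => ?_, fun u hu w hw => ?_,
    fun k hk m hm f hf t => ?_, ?_, ?_, kk h.toHH, fun e => ?_, ?_⟩
  · obtain ⟨s, a, rfl⟩ := xS hs.1
    have := (cV h.toPre).1 hs.2
    rw [← d.z, ← d.a] at this
    simp only [commute_iff_eq, ← map_mul, d.inj.eq_iff] at this
    exact (mB s).2 (by rw [a, (m1 v s a).2.1.1 this]; rfl)
  · obtain ⟨s, a, rfl⟩ := xS (BS hs)
    have := (m1 v s a).2.1.2 (by have := (mB s).1 hs; rw [a, Bool.and_true] at this; exact this)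
    refine ⟨BS hs, (cV h.toPre).2 ?_⟩
    rw [← d.z, ← d.a]
    simpa only [commute_iff_eq, ← map_mul, d.inj.eq_iff] using this
  · have hw' : w ∈ Submonoid.closure {g | g ∈ (gB v).map φ} := by
      rw [← closure_toSubmonoid_of_finite, ← d.B0 hy]; exact hw
    clear hw
    obtain ⟨s, a, rfl⟩ := (genB0 v).ex (d.B0 hy) hu
    induction hw' using Submonoid.closure_induction_right with
    | one => simp [cn]
    | mul_right w _ g hg ih =>
      have gB : g ∈ h.B0 := d.B0 hy ▸ subset_closure hg
      obtain ⟨g, hg', rfl⟩ := List.mem_map.1 hg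
      have := mul_mem ((mV _).2 (m3 v s a g hg')) (cn_V h.toPre (nV (BS gB)) ih)
      rw [map_mul, ← cφ, map_inv] at this
      convert this using 1
      simp only [cn]; group
  · obtain ⟨k, a, rfl⟩ := xS hk
    obtain ⟨m, b, rfl⟩ := xS hm
    obtain ⟨f, c, rfl⟩ := xS hf
    rw [← map_mul]
    exact (mV _).2 (m4 v a b c ((Tri.map φ d.inj).1 t))
  · have ev : ∀ {x : (T10 v).G}, evn x.val = true → evn x⁻¹.val = true := fun {x} a =>
      (genS0 v _).1 (inv_mem ((genS0 v x).2 a))
    have em : ∀ {x y : (T10 v).G}, evn x.val = true → evn y.val = true → evn (x * y).val = true :=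
      fun {x y} a b => (genS0 v _).1 (mul_mem ((genS0 v x).2 a) ((genS0 v y).2 b))
    have l1 : lam v (1 : (T10 v).G).val = true := by cases v <;> rfl
    have li : ∀ {x : (T10 v).G}, evn x.val = true → lam v x⁻¹.val = lam v x.val := fun {x} a => by
      have := hom v (ev a) a
      rwa [inv_mul_cancel, l1, eq_comm, beq_iff_eq] at this
    let N : Subgroup (T10 v).G :=
      { carrier := {x | evn x.val = true ∧ lam v x.val = true}
        mul_mem' := fun a b => ⟨em a.1 b.1, by rw [hom v a.1 b.1, a.2, b.2]; rfl⟩
        one_mem' := ⟨(genS0 v 1).1 (one_mem _), l1⟩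
        inv_mem' := fun a => ⟨ev a.1, (li a.1).trans a.2⟩ }
    refine ⟨N.map φ, ?_, fun x hx y hy => ?_, fun x hx => ?_, ?_⟩
    · rintro _ ⟨x, a, rfl⟩; exact (mS x).2 a.1
    · obtain ⟨x, a, rfl⟩ := xS hx
      obtain ⟨y, b, rfl⟩ := xS hy
      refine ⟨x⁻¹ * y⁻¹ * x * y, ⟨em (em (em (ev a) (ev b)) a) b, ?_⟩, by simp⟩
      rw [hom v (em (em (ev a) (ev b)) a) b, hom v (em (ev a) (ev b)) a, hom v (ev a) (ev b), li a,
        li b]
      cases lam v x.val <;> cases lam v y.val <;> rfl
    · have s : h.V1 ≤ h.B0 := closure_mono (by rintro _ (rfl | rfl) <;> simp)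
      obtain ⟨x, a, rfl⟩ := xS (BS (s hx))
      exact ⟨x, ⟨a, (m1 v x a).2.2 ((mV x).1 hx)⟩, rfl⟩
    · rw [← d.f, mem_map_iff_mem d.inj]
      exact fun a => absurd a.2 (by clear * -; revert v; decide +kernel)
  · rw [← d.k, ← d.m, ← d.f, Tri.map φ d.inj]
    exact tri_of (by clear * -; revert v; decide +kernel)
  · cases v
    · refine ⟨φ ((T10 false).el 596), (mS _).2 (by decide +kernel), φ ((T10 false).el 754),
        (mS _).2 (by decide +kernel), ?_, ?_, ?_⟩
      · rw [← Y, Tri.map φ d.inj]; exact tri_of (by decide +kernel)
      · rw [← d.z, ← map_mul]; exact congrArg φ (by decide +kernel)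
      · rw [← d.a, ← map_mul]; exact congrArg φ (by decide +kernel)
    · have := mul_eq_right.1 (mul_right_cancel (mul_right_cancel (hv.2.2.1.symm.trans e)))
      rw [← d.z, ← d.a, ← map_mul, map_eq_one_iff φ d.inj] at this
      exact absurd this (by decide +kernel)
  · have : h.x = φ ((T10 v).el 64 * (T10 v).el 16) := by
      rw [map_mul, d.k, d.t, mul_assoc, h.tt, mul_one]
    rw [← Y, this, ← d.y hy, ← d.t, cφ, ← map_mul, ← map_mul]
    exact congrArg φ (by clear * -; revert v; decide +kernel)

theorem hf1 (hk : KitStmt.{u}) : HF1Stmt.{u} := fun G _ _ h =>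
  main (hk G h.toHyp) (fa h.toH3 h.y1)

end Cfsg.Agent.H12.Hf
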