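import Mathlib
import Cfsg.Agent.H11.Kernel

/-!
# Unitary representations; Frobenius' proof of Jordan's theorem (the abelian normal subgroup)
-/

set_option autoImplicit false

namespace Cfsg.Agent.H12

open Cfsg Cfsg.Agent.H11
open scoped ComplexConjugate InnerProductSpace

universe u

/-- Every character is afforded by a representation preserving an inner product. -/
theorem exists_unitary_rep {G : Type u} [Group G] [Finite G] {χ : G → ℂ} (hχ : IsCharacter G χ) :
    ∃ (E : Type u) (_ : NormedAddCommGroup E) (_ : InnerProductSpace ℂ E)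
      (_ : FiniteDimensional ℂ E) (ρ : Representation ℂ G E),
      ρ.character = χ ∧ ∀ g x y, ⟪ρ g x, ρ g y⟫_ℂ = ⟪x, y⟫_ℂ := by
  classical
  have := Fintype.ofFinite G
  obtain ⟨n, ρ, rfl⟩ := hχ
  let φ : (Fin n → ℂ) →ₗ[ℂ] EuclideanSpace ℂ (G × Fin n) :=
    (WithLp.linearEquiv 2 ℂ (G × Fin n → ℂ)).symm.toLinearMap ∘ₗ
      LinearMap.pi fun p : G × Fin n => LinearMap.proj p.2 ∘ₗ ρ p.1
  have hφ : ∀ x p, φ x p = ρ p.1 x p.2 := fun _ _ => rfl
  have hinj : Function.Injective φ := by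
    intro x y h
    funext i
    have := congrArg (fun v : EuclideanSpace ℂ (G × Fin n) => v (1, i)) h
    simpa [hφ] using this
  let e := LinearEquiv.ofInjective φ hinj
  let σ : Representation ℂ G (LinearMap.range φ) := e.conjAlgEquiv ℂ |>.toMonoidHom.comp ρ
  have hσ : ∀ g x, σ g (e x) = e (ρ g x) := fun g x => by
    simp [σ, LinearEquiv.conjAlgEquiv_apply]
  refine ⟨LinearMap.range φ, inferInstance, inferInstance, inferInstance, σ, ?_, fun g x y => ?_⟩
  · funext g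
    exact LinearMap.trace_conj' (ρ g) e
  · obtain ⟨x, rfl⟩ := e.surjective x
    obtain ⟨y, rfl⟩ := e.surjective y
    rw [hσ, hσ]
    change ⟪φ (ρ g x), φ (ρ g y)⟫_ℂ = ⟪φ x, φ y⟫_ℂ
    simp only [PiLp.inner_apply, hφ]
    refine Fintype.sum_equiv ((Equiv.mulRight g).prodCongr (Equiv.refl _)) _ _ fun p => ?_
    simp

section Unitary

variable {G : Type*} [Group G] {E : Type*} [NormedAddCommGroup E] [InnerProductSpace ℂ E]
  [FiniteDimensional ℂ E] {ρ : Representation ℂ G E}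
  (hρ : ∀ g x y, ⟪ρ g x, ρ g y⟫_ℂ = ⟪x, y⟫_ℂ)
include hρ

omit [FiniteDimensional ℂ E] in
theorem inner_rep_left (g : G) (x y : E) : ⟪ρ g x, y⟫_ℂ = ⟪x, ρ g⁻¹ y⟫_ℂ := by
  rw [← hρ g x, ← Module.End.mul_apply, ← map_mul, mul_inv_cancel, map_one, Module.End.one_apply]

omit [FiniteDimensional ℂ E] in
theorem norm_rep (g : G) (x : E) : ‖ρ g x‖ = ‖x‖ := by
  have := hρ g x x
  rw [inner_self_eq_norm_sq_to_K, inner_self_eq_norm_sq_to_K] at this
  have h : ‖ρ g x‖ ^ 2 = ‖x‖ ^ 2 := by exact_mod_cast this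
  exact (pow_left_inj₀ (norm_nonneg _) (norm_nonneg _) two_ne_zero).1 h

/-- Commuting group elements have an orthonormal basis of common eigenvectors. -/
theorem exists_orthonormalBasis_eigen (S : Set G) (hS : ∀ a ∈ S, ∀ b ∈ S, a * b = b * a) :
    ∃ b : OrthonormalBasis (Fin (Module.finrank ℂ E)) ℂ E,
      ∀ g ∈ S, ∀ i, ∃ μ : ℂ, ρ g (b i) = μ • b i := by
  classical
  let T : S × Bool → E →ₗ[ℂ] E := fun p =>
    if p.2 then ρ p.1 + ρ (p.1 : G)⁻¹ else Complex.I • (ρ p.1 - ρ (p.1 : G)⁻¹)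
  have hT : ∀ p, (T p).IsSymmetric := by
    rintro ⟨g, _ | _⟩ x y
    · simp only [T, Bool.false_eq_true, if_false, LinearMap.smul_apply, LinearMap.sub_apply,
        inner_smul_left, inner_smul_right, inner_sub_left, inner_sub_right, inner_rep_left hρ,
        inv_inv, Complex.conj_I]
      ring
    · simp only [T, if_true, LinearMap.add_apply, inner_add_left, inner_add_right,
        inner_rep_left hρ, inv_inv]
      ring
  have hc : ∀ a b : S, Commute (ρ a) (ρ b) ∧ Commute (ρ a) (ρ (b : G)⁻¹) ∧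
      Commute (ρ (a : G)⁻¹) (ρ b) ∧ Commute (ρ (a : G)⁻¹) (ρ (b : G)⁻¹) := fun a b => by
    have h : Commute (a : G) b := hS a a.2 b b.2
    exact ⟨h.map ρ, h.inv_right.map ρ, h.inv_left.map ρ, h.inv_inv.map ρ⟩
  have hC : Pairwise (Function.onFun Commute T) := by
    rintro ⟨a, s⟩ ⟨b, t⟩ -
    obtain ⟨h1, h2, h3, h4⟩ := hc a b
    cases s <;> cases t <;> simp only [Function.onFun, T, Bool.false_eq_true, if_false, if_true]
    · exact (((h1.sub_right h2).sub_left (h3.sub_right h4)).smul_left _).smul_right _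
    · exact ((h1.add_right h2).sub_left (h3.add_right h4)).smul_left _
    · exact ((h1.sub_right h2).add_left (h3.sub_right h4)).smul_right _
    · exact (h1.add_right h2).add_left (h3.add_right h4)
  have hI := LinearMap.IsSymmetric.directSum_isInternal_of_pairwise_commute hT hC
  have hO := LinearMap.IsSymmetric.orthogonalFamily_iInf_eigenspaces hT
  set V := fun α : S × Bool → ℂ => ⨅ j, Module.End.eigenspace (T j) (α j) with hV
  have hfin : Finite {α // V α ≠ ⊥} := 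
    (WellFoundedGT.finite_ne_bot_of_iSupIndep hI.submodule_iSupIndep).to_subtype
  have := Fintype.ofFinite {α // V α ≠ ⊥}
  have hI' : DirectSum.IsInternal fun α : {α // V α ≠ ⊥} => V α :=
    DirectSum.isInternal_ne_bot_iff.2 hI
  have hO' := hO.comp (f := fun α : {α // V α ≠ ⊥} => α.1) Subtype.val_injective
  refine ⟨hI'.subordinateOrthonormalBasis rfl hO', fun g hg i => ?_⟩
  have h := hI'.subordinateOrthonormalBasis_subordinate rfl i hO'
  set v := hI'.subordinateOrthonormalBasis rfl hO' i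
  set α := (hI'.subordinateOrthonormalBasisIndex rfl i hO').1
  have h1 := Module.End.mem_eigenspace_iff.1 ((Submodule.mem_iInf _).1 h (⟨g, hg⟩, true))
  have h2 := Module.End.mem_eigenspace_iff.1 ((Submodule.mem_iInf _).1 h (⟨g, hg⟩, false))
  simp only [T, if_true, Bool.false_eq_true, if_false, LinearMap.add_apply, LinearMap.smul_apply,
    LinearMap.sub_apply] at h1 h2
  refine ⟨(α (⟨g, hg⟩, true) - Complex.I * α (⟨g, hg⟩, false)) / 2, ?_⟩
  have h3 : (2 : ℂ) • ρ g v = (α (⟨g, hg⟩, true) - Complex.I * α (⟨g, hg⟩, false)) • v := by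
    rw [sub_smul, mul_smul, ← h1, ← h2, smul_smul, Complex.I_mul_I]
    module
  rw [div_eq_inv_mul, mul_smul, ← h3, smul_smul]
  simp

omit [FiniteDimensional ℂ E] in
theorem norm_eigenvalue {g : G} {v : E} (hv : ‖v‖ = 1) {μ : ℂ} (h : ρ g v = μ • v) : ‖μ‖ = 1 := by
  have := norm_rep hρ g v
  rwa [h, norm_smul, hv, mul_one] at this

omit [FiniteDimensional ℂ E] in
theorem norm_rep_sub_sq (g : G) (x : E) :
    ‖ρ g x - x‖ ^ 2 = 2 * ‖x‖ ^ 2 - 2 * (⟪x, ρ g x⟫_ℂ).re := by
  rw [norm_sub_rev, @norm_sub_sq ℂ, norm_rep hρ]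
  simp only [RCLike.re_to_complex]
  ring

theorem sum_norm_rep_sub_sq {ι : Type*} [Fintype ι] (b : OrthonormalBasis ι ℂ E) (g : G) :
    ∑ i, ‖ρ g (b i) - b i‖ ^ 2 = 2 * Fintype.card ι - 2 * (ρ.character g).re := by
  simp only [norm_rep_sub_sq hρ, b.norm_eq_one, Finset.sum_sub_distrib, ← Finset.mul_sum]
  rw [Representation.character, LinearMap.trace_eq_sum_inner _ b, Complex.re_sum]
  simp

omit hρ [FiniteDimensional ℂ E] in
theorem inner_apply_of_eigen {ι : Type*} [Fintype ι] (b : OrthonormalBasis ι ℂ E)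
    {f : E →ₗ[ℂ] E} {μ : ι → ℂ} (h : ∀ i, f (b i) = μ i • b i) (x : E) (j : ι) :
    ⟪b j, f x⟫_ℂ = μ j * ⟪b j, x⟫_ℂ := by
  classical
  conv_lhs => rw [← b.sum_repr' x]
  simp only [map_sum, map_smul, h, inner_sum, inner_smul_right, b.inner_eq_ite]
  rw [Finset.sum_eq_single j (fun i _ hi => by simp [hi.symm]) (by simp)]
  simp [mul_comm]

omit hρ [FiniteDimensional ℂ E] in
theorem norm_apply_sq_le_of_eigen {ι : Type*} [Fintype ι] (b : OrthonormalBasis ι ℂ E)
    {f : E →ₗ[ℂ] E} {μ : ι → ℂ} (h : ∀ i, f (b i) = μ i • b i) {κ : ℝ}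
    (hκ : ∀ i, ‖μ i‖ ^ 2 ≤ κ) (x : E) : ‖f x‖ ^ 2 ≤ κ * ‖x‖ ^ 2 := by
  rw [← b.sum_sq_norm_inner_right, ← b.sum_sq_norm_inner_right, Finset.mul_sum]
  refine Finset.sum_le_sum fun j _ => ?_
  rw [inner_apply_of_eigen b h, norm_mul, mul_pow]
  exact mul_le_mul_of_nonneg_right (hκ j) (by positivity)

omit hρ [FiniteDimensional ℂ E] in
theorem norm_apply_sq_lt_of_eigen {ι : Type*} [Fintype ι] (b : OrthonormalBasis ι ℂ E)
    {f : E →ₗ[ℂ] E} {μ : ι → ℂ} (h : ∀ i, f (b i) = μ i • b i) {κ : ℝ}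
    (hκ : ∀ i, ‖μ i‖ ^ 2 < κ) {x : E} (hx : x ≠ 0) : ‖f x‖ ^ 2 < κ * ‖x‖ ^ 2 := by
  rw [← b.sum_sq_norm_inner_right, ← b.sum_sq_norm_inner_right, Finset.mul_sum]
  have : ∃ j, ⟪b j, x⟫_ℂ ≠ 0 := by
    by_contra! H
    apply hx
    rw [← b.sum_repr' x]
    simp [H]
  obtain ⟨j, hj⟩ := this
  refine Finset.sum_lt_sum (fun j _ => ?_) ⟨j, Finset.mem_univ _, ?_⟩
  · rw [inner_apply_of_eigen b h, norm_mul, mul_pow]
    exact mul_le_mul_of_nonneg_right (hκ j).le (by positivity)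
  · rw [inner_apply_of_eigen b h, norm_mul, mul_pow]
    exact mul_lt_mul_of_pos_right (hκ j) (by positivity)

/-- The elements moving every vector by (squared) relative distance `< c`. -/
def nearSet (ρ : Representation ℂ G E) (c : ℝ) : Set G :=
  {g | ∀ x : E, x ≠ 0 → ‖ρ g x - x‖ ^ 2 < c * ‖x‖ ^ 2}

omit [FiniteDimensional ℂ E] in
theorem conj_mem_nearSet {c : ℝ} {g : G} (hg : g ∈ nearSet ρ c) (k : G) :
    k * g * k⁻¹ ∈ nearSet ρ c := by
  intro x hx
  have hy : ρ k⁻¹ x ≠ 0 := fun h => hx (by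
    have := norm_rep hρ k⁻¹ x
    rw [h, norm_zero] at this
    exact norm_eq_zero.1 this.symm)
  have h := hg _ hy
  rw [norm_rep hρ, ← norm_rep hρ k, map_sub] at h
  have e : ρ k (ρ k⁻¹ x) = x := by
    rw [← Module.End.mul_apply, ← map_mul, mul_inv_cancel, map_one, Module.End.one_apply]
  rw [e] at h
  simpa only [map_mul, Module.End.mul_apply] using h

omit [FiniteDimensional ℂ E] in
theorem inv_mem_nearSet {c : ℝ} {g : G} (hg : g ∈ nearSet ρ c) : g⁻¹ ∈ nearSet ρ c := by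
  intro x hx
  have h := hg x hx
  rw [← norm_rep hρ g⁻¹, map_sub, ← Module.End.mul_apply, ← map_mul, inv_mul_cancel, map_one,
    Module.End.one_apply, norm_sub_rev] at h
  exact h

omit [FiniteDimensional ℂ E] in
theorem mul_mem_nearSet {c : ℝ} {g k : G} (hg : g ∈ nearSet ρ c) (hk : k ∈ nearSet ρ c) :
    g * k ∈ nearSet ρ (4 * c) := by
  intro x hx
  have h1 := hg x hx
  have h2 := hk x hx
  have e : ρ (g * k) x - x = ρ g (ρ k x - x) + (ρ g x - x) := by
    simp only [map_mul, Module.End.mul_apply, map_sub]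
    abel
  have h3 := norm_add_le (ρ g (ρ k x - x)) (ρ g x - x)
  rw [← e, norm_rep hρ] at h3
  have h4 := norm_nonneg (ρ (g * k) x - x)
  nlinarith [sq_nonneg (‖ρ k x - x‖ - ‖ρ g x - x‖), norm_nonneg (ρ k x - x),
    norm_nonneg (ρ g x - x)]

omit hρ [FiniteDimensional ℂ E] in
theorem nearSet_mono {c d : ℝ} (h : c ≤ d) : nearSet ρ c ⊆ nearSet ρ d := fun _ hg x hx =>
  (hg x hx).trans_le (mul_le_mul_of_nonneg_right h (by positivity))

/-- If `b` commutes with `x⁻¹ b x` and `x` turns no vector through a right angle, then `x` and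
`b` commute. -/
theorem commute_of_commute_conj (hinj : ∀ g, ρ g = 1 → g = 1) {x b : G}
    (hx : x ∈ nearSet ρ 2) (h : b * (x⁻¹ * b * x) = (x⁻¹ * b * x) * b) : x * b = b * x := by
  obtain ⟨e, he⟩ := exists_orthonormalBasis_eigen hρ {b, x⁻¹ * b * x} (by
    rintro _ (rfl | rfl) _ (rfl | rfl)
    · rfl
    · exact h
    · exact h.symm
    · rfl)
  choose β hβ using he b (by simp)
  choose γ hγ using he (x⁻¹ * b * x) (by simp)
  have hβγ : ∀ i, β i = γ i := fun i => by
    have h0 : ⟪e i, ρ x (e i)⟫_ℂ ≠ 0 := fun h0 => by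
      have := hx (e i) (e.orthonormal.ne_zero i)
      rw [norm_rep_sub_sq hρ, h0] at this
      simp at this
    have h1 := inner_apply_of_eigen e hβ (ρ x (e i)) i
    have h2 : ρ b (ρ x (e i)) = γ i • ρ x (e i) := by
      rw [← map_smul, ← hγ, ← Module.End.mul_apply, ← Module.End.mul_apply, ← map_mul, ← map_mul]
      congr 2
      group
    rw [h2, inner_smul_right] at h1
    exact (mul_right_cancel₀ h0 h1).symm
  have h3 : ρ b = ρ (x⁻¹ * b * x) := e.toBasis.ext fun i => by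
    simp only [OrthonormalBasis.coe_toBasis, hβ, hγ, hβγ]
  have h4 := hinj (b⁻¹ * (x⁻¹ * b * x)) (by rw [map_mul, ← h3, ← map_mul, inv_mul_cancel, map_one])
  calc x * b = x * b * (b⁻¹ * (x⁻¹ * b * x)) := by rw [h4, mul_one]
    _ = b * x := by group

omit hρ [FiniteDimensional ℂ E] in
theorem norm_sub_sq_lt_one {β γ : ℂ} (h1 : ‖β‖ = 1) (h2 : ‖γ‖ = 1)
    (hβ : ‖β - 1‖ ^ 2 < 2 - √3) (hγ : ‖γ - 1‖ ^ 2 < 2 - √3) : ‖β - γ‖ ^ 2 < 1 := by
  have h1' : β.re ^ 2 + β.im ^ 2 = 1 := by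
    have := Complex.sq_norm β
    rw [h1, Complex.normSq_apply] at this
    nlinarith
  have h2' : γ.re ^ 2 + γ.im ^ 2 = 1 := by
    have := Complex.sq_norm γ
    rw [h2, Complex.normSq_apply] at this
    nlinarith
  rw [Complex.sq_norm, Complex.normSq_apply] at hβ hγ ⊢
  simp only [Complex.sub_re, Complex.sub_im, Complex.one_re, Complex.one_im] at hβ hγ ⊢
  have h3 : √3 * √3 = 3 := Real.mul_self_sqrt (by norm_num)
  have h4 : 0 < √3 := Real.sqrt_pos.2 (by norm_num)
  have hb : √3 / 2 < β.re := by nlinarith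
  have hc : √3 / 2 < γ.re := by nlinarith
  have hb2 : β.im ^ 2 < 1 / 4 := by nlinarith
  have hc2 : γ.im ^ 2 < 1 / 4 := by nlinarith
  have h5 : 3 / 4 < β.re * γ.re := by nlinarith
  nlinarith [sq_nonneg (β.im + γ.im)]

/-- The potential `n - Re χ` decreases strictly under `x ↦ [x, b]` for `b` near the identity. -/
theorem re_character_lt (hinj : ∀ g, ρ g = 1 → g = 1) {x b : G} (hb : b ∈ nearSet ρ (2 - √3))
    (hx : x ≠ 1) : (ρ.character x).re < (ρ.character (x⁻¹ * b⁻¹ * x * b)).re := by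
  obtain ⟨e, he⟩ := exists_orthonormalBasis_eigen hρ {b} (by rintro _ rfl _ rfl; rfl)
  choose β hβ using he b (by simp)
  have hβ1 : ∀ i, ‖β i‖ = 1 := fun i => norm_eigenvalue hρ (e.norm_eq_one i) (hβ i)
  have hβ2 : ∀ i, ‖β i - 1‖ ^ 2 < 2 - √3 := fun i => by
    have := hb (e i) (e.orthonormal.ne_zero i)
    rw [hβ] at this
    nth_rewrite 2 [← one_smul ℂ (e i)] at this
    rwa [← sub_smul, norm_smul, e.norm_eq_one, mul_one, one_pow, mul_one] at this
  have key : ∀ i, ‖ρ (x⁻¹ * b⁻¹ * x * b) (e i) - e i‖ =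
      ‖(β i • (1 : E →ₗ[ℂ] E) - ρ b) (ρ x (e i) - e i)‖ := fun i => by
    rw [← norm_rep hρ (b * x), map_sub, ← Module.End.mul_apply, ← map_mul,
      show b * x * (x⁻¹ * b⁻¹ * x * b) = x * b by group]
    simp only [map_mul, Module.End.mul_apply, hβ, map_smul, map_sub, LinearMap.sub_apply,
      LinearMap.smul_apply, Module.End.one_apply, sub_self, sub_zero]
  have heig : ∀ i j, (β i • (1 : E →ₗ[ℂ] E) - ρ b) (e j) = (β i - β j) • e j := fun i j => by
    simp [hβ, sub_smul]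
  have hlt : ∀ i j, ‖β i - β j‖ ^ 2 < 1 := fun i j =>
    norm_sub_sq_lt_one (hβ1 i) (hβ1 j) (hβ2 i) (hβ2 j)
  have : ∃ i, ρ x (e i) - e i ≠ 0 := by
    by_contra! H
    exact hx (hinj x (e.toBasis.ext fun i => by simpa [sub_eq_zero] using H i))
  obtain ⟨i, hi⟩ := this
  have h := Finset.sum_lt_sum (s := Finset.univ)
    (f := fun i => ‖ρ (x⁻¹ * b⁻¹ * x * b) (e i) - e i‖ ^ 2) (g := fun i => ‖ρ x (e i) - e i‖ ^ 2)
    (fun i _ => by
      rw [key]
      exact (norm_apply_sq_le_of_eigen e (heig i) (fun j => (hlt i j).le) _).trans_eq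
        (one_mul _))
    ⟨i, Finset.mem_univ _, by
      rw [key]
      exact (norm_apply_sq_lt_of_eigen e (heig i) (hlt i) hi).trans_eq (one_mul _)⟩
  rw [sum_norm_rep_sub_sq hρ, sum_norm_rep_sub_sq hρ] at h
  linarith

omit hρ [FiniteDimensional ℂ E] in
theorem four_mul_two_sub_sqrt_three_le : 4 * (2 - √3) ≤ 2 := by
  have : (3 / 2 : ℝ) ≤ √3 := Real.le_sqrt_of_sq_le (by norm_num)
  linarith

/-- Frobenius: elements with eigenvalues within `π/2` of `1` commute with elements with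
eigenvalues within `π/6` of `1`. -/
theorem commute_of_mem_nearSet [Finite G] (hinj : ∀ g, ρ g = 1 → g = 1) {b : G}
    (hb : b ∈ nearSet ρ (2 - √3)) (x : G) (hx : x ∈ nearSet ρ 2) : x * b = b * x := by
  have hwf : WellFounded fun y x : G => (ρ.character x).re < (ρ.character y).re :=
    @Finite.wellFounded_of_trans_of_irrefl _ _ _
      ⟨fun _ _ _ h1 h2 => h2.trans h1⟩ ⟨fun _ => lt_irrefl _⟩
  induction x using hwf.induction with
  | _ x ih =>
  by_cases h1 : x = 1
  · simp [h1]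
  have hmem : x⁻¹ * b⁻¹ * x * b ∈ nearSet ρ 2 := by
    refine nearSet_mono four_mul_two_sub_sqrt_three_le (mul_mem_nearSet hρ ?_ hb)
    simpa using conj_mem_nearSet hρ (inv_mem_nearSet hρ hb) x⁻¹
  have h := ih _ (re_character_lt hρ hinj hb h1) hmem
  refine commute_of_commute_conj hρ hinj hx ?_
  have h' : Commute (x⁻¹ * b⁻¹ * x * b) b := h
  have h'' := (h'.mul_left (Commute.refl b).inv_left).inv_left
  rw [show (x⁻¹ * b⁻¹ * x * b * b⁻¹)⁻¹ = x⁻¹ * b * x by group] at h''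
  exact h''.symm

omit hρ [FiniteDimensional ℂ E] in
/-- The twelve arcs of length `π/6`. -/
theorem exists_cell : ∃ c : ℂ → Fin 12, ∀ μ ν : ℂ, ‖μ‖ = 1 → ‖ν‖ = 1 → c μ = c ν →
    ‖μ⁻¹ * ν - 1‖ ^ 2 < 2 - √3 := by
  have hπ := Real.pi_pos
  have hlt : ∀ μ : ℂ, ⌊(Real.pi - μ.arg) * (6 / Real.pi)⌋₊ < 12 := fun μ => by
    have h1 := Complex.neg_pi_lt_arg μ
    have h2 := Complex.arg_le_pi μ
    rw [Nat.floor_lt (by positivity)]
    · calc (Real.pi - μ.arg) * (6 / Real.pi) < (2 * Real.pi) * (6 / Real.pi) :=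
            mul_lt_mul_of_pos_right (by linarith) (by positivity)
        _ = (12 : ℕ) := by field_simp; norm_num
  refine ⟨fun μ => ⟨_, hlt μ⟩, fun μ ν hμ hν h => ?_⟩
  simp only [Fin.mk.injEq] at h
  have h1 := Nat.lt_floor_add_one ((Real.pi - μ.arg) * (6 / Real.pi))
  have h2 := Nat.lt_floor_add_one ((Real.pi - ν.arg) * (6 / Real.pi))
  have h3 := Nat.floor_le (show 0 ≤ (Real.pi - μ.arg) * (6 / Real.pi) by
    have := Complex.arg_le_pi μ
    positivity)
  have h4 := Nat.floor_le (show 0 ≤ (Real.pi - ν.arg) * (6 / Real.pi) by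
    have := Complex.arg_le_pi ν
    positivity)
  rw [h] at h1 h3
  have h5 : |(ν.arg - μ.arg) * (6 / Real.pi)| < 1 := by
    rw [abs_lt]
    constructor <;> nlinarith
  rw [abs_mul, abs_of_pos (show 0 < 6 / Real.pi by positivity), ← lt_div_iff₀ (by positivity)]
    at h5
  rw [show 1 / (6 / Real.pi) = Real.pi / 6 by field_simp] at h5
  have hcos : √3 / 2 < Real.cos (ν.arg - μ.arg) := by
    rw [← Real.cos_pi_div_six, ← Real.cos_abs (ν.arg - μ.arg)]
    exact Real.cos_lt_cos_of_nonneg_of_le_pi (abs_nonneg _) (by linarith) h5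
  have hμ' := Complex.norm_mul_exp_arg_mul_I μ
  have hν' := Complex.norm_mul_exp_arg_mul_I ν
  rw [hμ, Complex.ofReal_one, one_mul] at hμ'
  rw [hν, Complex.ofReal_one, one_mul] at hν'
  have e : μ⁻¹ * ν = Complex.exp (((ν.arg - μ.arg : ℝ) : ℂ) * Complex.I) := by
    conv_lhs => rw [← hμ', ← hν']
    rw [← Complex.exp_neg, ← Complex.exp_add]
    congr 1
    push_cast
    ring
  rw [e, Complex.sq_norm, Complex.normSq_apply]
  simp only [Complex.sub_re, Complex.sub_im, Complex.one_re, Complex.one_im,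
    Complex.exp_ofReal_mul_I_re, Complex.exp_ofReal_mul_I_im]
  nlinarith [Real.sin_sq_add_cos_sq (ν.arg - μ.arg)]

/-- Frobenius' form of Jordan's theorem. -/
theorem exists_normal_comm_index_le [Finite G] (hinj : ∀ g, ρ g = 1 → g = 1) :
    ∃ A : Subgroup G, A.Normal ∧ (∀ x ∈ A, ∀ y ∈ A, x * y = y * x) ∧
      ∀ H : Subgroup G, (∀ x ∈ H, ∀ y ∈ H, x * y = y * x) →
        (A.subgroupOf H).index ≤ 12 ^ Module.finrank ℂ E := by
  have hS : ∀ x ∈ nearSet ρ (2 - √3), ∀ y ∈ nearSet ρ (2 - √3), x * y = y * x :=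
    fun x hx y hy => commute_of_mem_nearSet hρ hinj hy x
      (nearSet_mono (by have := Real.sqrt_nonneg 3; linarith) hx)
  refine ⟨Subgroup.closure (nearSet ρ (2 - √3)), ⟨fun g hg k => ?_⟩, fun x hx y hy => ?_,
    fun H hH => ?_⟩
  · induction hg using Subgroup.closure_induction with
    | mem g hg => exact Subgroup.subset_closure (conj_mem_nearSet hρ hg k)
    | one => simp
    | mul a b _ _ ha hb =>
      rw [show k * (a * b) * k⁻¹ = (k * a * k⁻¹) * (k * b * k⁻¹) by group]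
      exact mul_mem ha hb
    | inv a _ ha =>
      rw [show k * a⁻¹ * k⁻¹ = (k * a * k⁻¹)⁻¹ by group]
      exact inv_mem ha
  · have := (Subgroup.isMulCommutative_closure hS).is_comm.comm ⟨x, hx⟩ ⟨y, hy⟩
    exact congrArg Subtype.val this
  · obtain ⟨e, he⟩ := exists_orthonormalBasis_eigen hρ (H : Set G) hH
    choose! μ hμ using he
    obtain ⟨c, hc⟩ := exists_cell
    have hμ1 : ∀ g ∈ H, ∀ i, ‖μ g i‖ = 1 := fun g hg i =>
      norm_eigenvalue hρ (e.norm_eq_one i) (hμ g hg i)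
    have key : ∀ h k : H, (fun i => c (μ h i)) = (fun i => c (μ k i)) →
        ((h : G)⁻¹ * k) ∈ nearSet ρ (2 - √3) := fun h k hhk x hx => by
      have heig : ∀ i, (ρ ((h : G)⁻¹ * k) - 1) (e i) = ((μ h i)⁻¹ * μ k i - 1) • e i := fun i => by
        have h0 : μ h i ≠ 0 := fun h0 => by simpa [h0] using hμ1 h h.2 i
        have h1 : ρ (h : G)⁻¹ (e i) = (μ h i)⁻¹ • e i := by
          rw [eq_inv_smul_iff₀ h0, ← map_smul, ← hμ h h.2, ← Module.End.mul_apply, ← map_mul,
            inv_mul_cancel, map_one, Module.End.one_apply]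
        simp only [map_mul, LinearMap.sub_apply, Module.End.mul_apply, hμ k k.2, map_smul, h1,
          Module.End.one_apply, sub_smul, one_smul, smul_smul, mul_comm]
      exact norm_apply_sq_lt_of_eigen e heig
        (fun i => hc _ _ (hμ1 h h.2 i) (hμ1 k k.2 i) (congrFun hhk i)) hx
    have hinj' : Function.Injective fun q : H ⧸ (Subgroup.closure
        (nearSet ρ (2 - √3))).subgroupOf H => fun i => c (μ (q.out : H) i) := fun q r h => by
      rw [← q.out_eq, ← r.out_eq]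
      exact QuotientGroup.eq.2 (Subgroup.subset_closure (key _ _ h))
    simpa [Subgroup.index] using Nat.card_le_card_of_injective _ hinj'

end Unitary

/-- Frobenius' form of Jordan's theorem (Isaacs 14.15). -/
theorem exists_normal_comm_index_le_of_faithful {G : Type u} [Group G] [Finite G] {χ : G → ℂ}
    (hχ : IsCharacter G χ) (hfaith : ∀ g : G, χ g = χ 1 → g = 1) {n : ℕ} (hn : χ 1 = n) :
    ∃ A : Subgroup G, A.Normal ∧ (∀ x ∈ A, ∀ y ∈ A, x * y = y * x) ∧
      ∀ H : Subgroup G, (∀ x ∈ H, ∀ y ∈ H, x * y = y * x) → (A.subgroupOf H).index ≤ 12 ^ n := by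
  obtain ⟨E, _, _, _, ρ, rfl, hρ⟩ := exists_unitary_rep hχ
  have h : Module.finrank ℂ E = n := by
    rw [Representation.char_one] at hn
    exact_mod_cast hn
  rw [← h]
  refine exists_normal_comm_index_le hρ fun g hg => hfaith g ?_
  simp only [Representation.character, hg, map_one]

end Cfsg.Agent.H12
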