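import Mathlib
import Cfsg.Agent.H12.Unitary
import Cfsg.Agent.H12.LinHall
import Cfsg.Agent.H14.MGroup

/-!
# Jordan's theorem with the bound `n! 12 ^ (n (π (n + 1) + 1))`
-/

set_option autoImplicit false

namespace Cfsg.Agent.H12

open Cfsg Cfsg.Agent.H11

universe u

variable {G : Type u} [Group G] [Finite G]

theorem index_normalCore_dvd_factorial (K : Subgroup G) : K.normalCore.index ∣ K.index.factorial := by
  classical
  have := Fintype.ofFinite (G ⧸ K)
  rw [Subgroup.normalCore_eq_ker, Subgroup.index_ker, Subgroup.index, Nat.card_eq_fintype_card (α := G ⧸ K),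
    ← Fintype.card_perm, ← Nat.card_eq_fintype_card]
  exact Subgroup.card_subgroup_dvd_card _

omit [Finite G] in
theorem index_inf_dvd_of_normal (A B : Subgroup G) [A.Normal] :
    (A ⊓ B).index ∣ A.index * B.index := by
  rw [← Subgroup.relIndex_mul_index (inf_le_right : A ⊓ B ≤ B), Subgroup.inf_relIndex_right]
  exact Nat.mul_dvd_mul_right (Subgroup.relIndex_dvd_index_of_normal A B) _

/-- In a nilpotent group a character of degree `n` becomes a sum of linear characters on a normal
subgroup of index dividing `n!`. -/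
theorem exists_normal_index_dvd_factorial [Group.IsNilpotent G] {χ : G → ℂ}
    (hχ : IsCharacter G χ) :
    ∃ B : Subgroup G, B.Normal ∧ B.index ∣ (charDegree χ).factorial ∧ ⁅B, B⁆ ≤ charKer χ := by
  have := Fintype.ofFinite G
  refine isCharacter_induction (P := fun χ => ∃ B : Subgroup G, B.Normal ∧
    B.index ∣ (charDegree χ).factorial ∧ ⁅B, B⁆ ≤ charKer χ) ?_ (fun χ hχ => ?_)
    (fun χ ψ hχ hψ h1 h2 => ?_) hχ
  · exact ⟨⊤, inferInstance, by simp, fun g _ x => rfl⟩
  · obtain ⟨H, lam, rfl⟩ := H14.exists_indFun_linear_of_nilpotent hχ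
    refine ⟨H.normalCore, inferInstance, ?_, ?_⟩
    · rw [H24.deg_indFun H (isCharacter_monoidHom lam), H24.deg_monoidHom, mul_one]
      exact index_normalCore_dvd_factorial H
    · have hle : ⁅H.normalCore, H.normalCore⁆ ≤ H :=
        (Subgroup.commutator_le_left _ _).trans H.normalCore_le
      refine H14.le_charKer_indFun H (isCharacter_monoidHom lam) _ hle fun m => ?_
      have : (⟨m, hle m.2⟩ : H) ∈ commutator H := by
        have h1 : ⁅H.normalCore, H.normalCore⁆ ≤ (commutator H).map H.subtype := by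
          rw [commutator, Subgroup.map_commutator, ← MonoidHom.range_eq_map, Subgroup.range_subtype]
          exact Subgroup.commutator_mono H.normalCore_le H.normalCore_le
        obtain ⟨y, hy, hy'⟩ := h1 m.2
        rwa [show (⟨m, hle m.2⟩ : H) = y from Subtype.ext hy'.symm]
      rw [MonoidHom.mem_ker.1 (Abelianization.commutator_subset_ker lam this), map_one]
  · obtain ⟨A, hA, hA1, hA2⟩ := h1
    obtain ⟨B, hB, hB1, hB2⟩ := h2
    refine ⟨A ⊓ B, inferInstance, ?_, ?_⟩
    · rw [H24.deg_eq (χ := χ + ψ) (n := charDegree χ + charDegree ψ)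
        (by rw [Nat.cast_add, H24.deg_cast hχ, H24.deg_cast hψ]; rfl)]
      exact (index_inf_dvd_of_normal A B).trans ((Nat.mul_dvd_mul hA1 hB1).trans
        (Nat.factorial_mul_factorial_dvd_factorial_add _ _))
    · rw [charKer_add hχ hψ]
      exact le_inf ((Subgroup.commutator_mono inf_le_left inf_le_left).trans hA2)
        ((Subgroup.commutator_mono inf_le_right inf_le_right).trans hB2)

/-- A nilpotent subgroup of a linear group of degree `n` has an abelian subgroup of index
dividing `n!`. -/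
theorem exists_comm_relIndex_dvd_factorial {χ : G → ℂ} (hχ : IsCharacter G χ)
    (hker : charKer χ = ⊥) (P : Subgroup G) [Group.IsNilpotent P] :
    ∃ B ≤ P, (∀ x ∈ B, ∀ y ∈ B, x * y = y * x) ∧ B.relIndex P ∣ (charDegree χ).factorial := by
  obtain ⟨B, -, h1, h2⟩ := exists_normal_index_dvd_factorial (isCharacter_restrict hχ P)
  have h3 : charKer (fun x : P => χ x) = ⊥ := by
    have := charKer_comp hχ P.subtype
    rw [hker, MonoidHom.comap_bot, Subgroup.ker_subtype] at this
    exact this
  refine ⟨B.map P.subtype, Subgroup.map_subtype_le _, ?_, ?_⟩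
  · rintro _ ⟨x, hx, rfl⟩ _ ⟨y, hy, rfl⟩
    have := h2 (Subgroup.commutator_mem_commutator hx hy)
    rw [h3, Subgroup.mem_bot, commutatorElement_eq_one_iff_mul_comm] at this
    exact congrArg Subtype.val this
  · rwa [Subgroup.relIndex, Subgroup.subgroupOf,
      Subgroup.comap_map_eq_self_of_injective P.subtype_injective]

omit [Finite G] in
theorem index_dvd_relIndex_mul_index (A P : Subgroup G) : A.index ∣ A.relIndex P * P.index := by
  rw [← Subgroup.inf_relIndex_right, Subgroup.relIndex_mul_index inf_le_right]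
  exact Subgroup.index_dvd_of_le inf_le_left

/-- Jordan's theorem in Frobenius' and Blichfeldt's explicit form (Isaacs 14.12). -/
theorem exists_normal_comm_index_le_factorial {χ : G → ℂ} (hχ : IsCharacter G χ)
    (hfaith : ∀ g : G, χ g = χ 1 → g = 1) {n : ℕ} (hn : charDegree χ = n) :
    ∃ A : Subgroup G, A.Normal ∧ (∀ x ∈ A, ∀ y ∈ A, x * y = y * x) ∧
      A.index ≤ n.factorial * 12 ^ (n * (Nat.primeCounting (n + 1) + 1)) := by
  classical
  have hn' := (H24.deg_eq_iff hχ).1 hn
  have hker := charKer_eq_bot_of_faithful hfaith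
  obtain ⟨A, hA, hA1, hA2⟩ := exists_normal_comm_index_le_of_faithful hχ hfaith hn'
  obtain ⟨H, hH1, -, hH2⟩ := exists_comm_hall hχ hker hn'
  refine ⟨A, hA, hA1, ?_⟩
  let P : ∀ p : ℕ, Sylow p G := fun p => Classical.arbitrary _
  have hB : ∀ p : ℕ, ∃ b : ℕ, p.Prime → (∃ k, b = p ^ k) ∧ b ∣ n.factorial ∧
      A.relIndex (P p) ≤ b * 12 ^ n := fun p => by
    by_cases hp : p.Prime
    · have := Fact.mk hp
      have := (P p).2.isNilpotent
      obtain ⟨B, hBP, h1, h2⟩ := exists_comm_relIndex_dvd_factorial hχ hker (P p)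
      refine ⟨B.relIndex (P p), fun _ => ⟨(P p).2.index _, hn ▸ h2, ?_⟩⟩
      calc A.relIndex (P p) ≤ (A ⊓ B).relIndex (P p) :=
            Subgroup.relIndex_le_of_le_left inf_le_left Subgroup.FiniteIndex.index_ne_zero
        _ = B.relIndex (P p) * A.relIndex B := by
            rw [← Subgroup.relIndex_mul_relIndex _ _ _ inf_le_right hBP,
              Subgroup.inf_relIndex_right, mul_comm]
        _ ≤ _ := Nat.mul_le_mul_left _ (hA2 B h1)
    · exact ⟨1, fun h => absurd h hp⟩
  choose b hb using hB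
  set s := (Finset.range (n + 2)).filter Nat.Prime with hs
  have hsp : ∀ p ∈ s, p.Prime := fun p hp => (Finset.mem_filter.1 hp).2
  have hcard : s.card = Nat.primeCounting (n + 1) := by
    rw [Nat.primeCounting, Nat.primeCounting', Nat.count_eq_card_filter_range]
  have h1 : A.index ∣ A.relIndex H * ∏ p ∈ s, A.relIndex (P p) := by
    rw [Nat.dvd_iff_prime_pow_dvd_dvd]
    intro q k hq hd
    have := Fact.mk hq
    by_cases hqn : q ≤ n + 1
    · refine Dvd.dvd.mul_left (Dvd.dvd.trans ?_ (Finset.dvd_prod_of_mem _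
        (Finset.mem_filter.2 ⟨Finset.mem_range.2 (by omega), hq⟩))) _
      exact (Nat.Coprime.pow_left _ ((Nat.Prime.coprime_iff_not_dvd hq).2
        (P q).not_dvd_index)).dvd_of_dvd_mul_right (hd.trans (index_dvd_relIndex_mul_index A _))
    · refine Dvd.dvd.mul_right ?_ _
      exact (Nat.Coprime.pow_left _ ((Nat.Prime.coprime_iff_not_dvd hq).2
        fun h => hqn (hH2 q hq h))).dvd_of_dvd_mul_right
          (hd.trans (index_dvd_relIndex_mul_index A _))
  have h2 : ∏ p ∈ s, b p ∣ n.factorial := by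
    refine Finset.prod_dvd_of_isRelPrime (fun p hp q hq hpq => ?_)
      fun p hp => (hb p (hsp p hp)).2.1
    obtain ⟨k, hk⟩ := (hb p (hsp p hp)).1
    obtain ⟨l, hl⟩ := (hb q (hsp q hq)).1
    rw [Function.onFun, hk, hl, ← Nat.coprime_iff_isRelPrime]
    exact Nat.coprime_pow_primes _ _ (hsp p hp) (hsp q hq) hpq
  calc A.index ≤ A.relIndex H * ∏ p ∈ s, A.relIndex (P p) :=
        Nat.le_of_dvd (Nat.pos_of_ne_zero (mul_ne_zero Subgroup.FiniteIndex.index_ne_zero
          (Finset.prod_ne_zero_iff.2 fun _ _ => Subgroup.FiniteIndex.index_ne_zero))) h1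
    _ ≤ 12 ^ n * ∏ p ∈ s, (b p * 12 ^ n) :=
        Nat.mul_le_mul (hA2 H hH1) (Finset.prod_le_prod' fun p hp => (hb p (hsp p hp)).2.2)
    _ = (∏ p ∈ s, b p) * 12 ^ (n * (Nat.primeCounting (n + 1) + 1)) := by
        rw [Finset.prod_mul_distrib, Finset.prod_const, hcard]
        ring
    _ ≤ _ := Nat.mul_le_mul_right _ (Nat.le_of_dvd (Nat.factorial_pos n) h2)

end Cfsg.Agent.H12
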