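import Cfsg.Agent.H76.K0Defs

/-! Pieces: principal blocks with five characters of height zero. -/

set_option autoImplicit false

namespace Cfsg.Agent.H12.K5

open Cfsg Cfsg.Agent.H76.K0

universe u

/-- Hermite's bound in dimension five -/
def HermStmt : Prop := ∀ B : Matrix (Fin 5) (Fin 5) ℤ, B.det ≠ 0 → ∃ x : Fin 5 → ℤ, x ≠ 0 ∧
  3 ^ 10 * (∑ j, (Matrix.vecMul x B j) ^ 2) ^ 5 ≤ 4 ^ 10 * B.det ^ 2

def ArStmt : Prop := ∀ p : ℕ, p.Prime → p ≠ 2 → ∀ d1 d2 d3 d4 : ℤ, ¬ (p : ℤ) ∣ d1 →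
  (p : ℤ) ^ 2 ∣ 1 + d1 ^ 2 + d2 ^ 2 + d3 ^ 2 + d4 ^ 2 →
  ∃ a0 a1 a2 a3 a4 : ℤ, ¬ (p : ℤ) ∣ a0 ∧ (p : ℤ) ∣ a1 - a0 * d1 ∧ (p : ℤ) ∣ a2 - a0 * d2 ∧
    (p : ℤ) ∣ a3 - a0 * d3 ∧ (p : ℤ) ∣ a4 - a0 * d4 ∧
    (p : ℤ) * a0 = a0 ^ 2 + a1 ^ 2 + a2 ^ 2 + a3 ^ 2 + a4 ^ 2

/-- five characters of height zero force a Sylow subgroup of prime order -/
def FwStmt : Prop := ∀ (G : Type u) [Group G] [Finite G] (p : ℕ) [Fact p.Prime] (M : Ideal AlgInt),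
  IsPModular p M → ∀ (P : Sylow p G), Nat.card (Ht0 p M G) = 5 → Nat.card P = p

/-- Sylow subgroup of prime order: the count -/
def CycStmt : Prop := ∀ (G : Type u) [Group G] [Finite G] (p : ℕ) [Fact p.Prime] (M : Ideal AlgInt),
  IsPModular p M → ∀ (P : Sylow p G), Nat.card P = p → ∀ e : ℕ,
    e = (Subgroup.centralizer ((P : Subgroup G) : Set G)).relIndex
      (Subgroup.normalizer ((P : Subgroup G) : Set G)) →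
    e ∣ p - 1 ∧ Nat.card (Ht0 p M G) = e + (p - 1) / e

end Cfsg.Agent.H12.K5
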