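import Cfsg.Agent.H12.K5Defs

/-! Hermite's bound for the minimum of an integral quadratic form. -/

set_option autoImplicit false

namespace Cfsg.Agent.H12.K5Herm

open Matrix

def cc : ℕ → ℕ
  | 0 => 0
  | n + 1 => cc n + (n + 1)

def Prim {n : ℕ} (x : Fin (n + 1) → ℤ) : Prop :=
  ∃ U : Matrix (Fin (n + 1)) (Fin (n + 1)) ℤ, U.det ^ 2 = 1 ∧ U 0 = x

theorem Prim.ne {n : ℕ} {x : Fin (n + 1) → ℤ} (h : Prim x) : x ≠ 0 := by
  obtain ⟨U, hU, rfl⟩ := h
  intro h0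
  have : U.det = 0 := Matrix.det_eq_zero_of_row_eq_zero 0 (fun j => by rw [h0]; rfl)
  rw [this] at hU; norm_num at hU

def sch {n : ℕ} (A : Matrix (Fin (n + 2)) (Fin (n + 2)) ℤ) : Matrix (Fin (n + 1)) (Fin (n + 1)) ℤ :=
  Matrix.of fun i j => A 0 0 * A i.succ j.succ - A 0 i.succ * A 0 j.succ

theorem q_cons {n : ℕ} (A : Matrix (Fin (n + 2)) (Fin (n + 2)) ℤ) (hs : ∀ i j, A i j = A j i)
    (t : ℤ) (y : Fin (n + 1) → ℤ) :
    A 0 0 * ((Fin.cons t y : Fin (n + 2) → ℤ) ⬝ᵥ A *ᵥ (Fin.cons t y : Fin (n + 2) → ℤ)) =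
      (A 0 0 * t + ∑ i, A 0 i.succ * y i) ^ 2 + y ⬝ᵥ (sch A) *ᵥ y := by
  have h1 : y ⬝ᵥ (sch A) *ᵥ y = A 0 0 * (∑ i, y i * ∑ j, A i.succ j.succ * y j) -
      (∑ i, A 0 i.succ * y i) * (∑ j, A 0 j.succ * y j) := by
    simp only [dotProduct, mulVec, sch, Matrix.of_apply, Finset.mul_sum, Finset.sum_mul,
      ← Finset.sum_sub_distrib]
    refine Finset.sum_congr rfl fun i _ => Finset.sum_congr rfl fun j _ => ?_
    ring
  have h2 : (Fin.cons t y : Fin (n + 2) → ℤ) ⬝ᵥ A *ᵥ (Fin.cons t y : Fin (n + 2) → ℤ) =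
      t * (A 0 0 * t + ∑ j, A 0 j.succ * y j) +
        ((∑ i, A 0 i.succ * y i) * t + ∑ i, y i * ∑ j, A i.succ j.succ * y j) := by
    simp only [dotProduct, mulVec]
    rw [Fin.sum_univ_succ]
    simp only [Fin.cons_zero, Fin.cons_succ]
    congr 1
    · rw [Fin.sum_univ_succ]; simp only [Fin.cons_zero, Fin.cons_succ]
    · rw [Finset.sum_mul, ← Finset.sum_add_distrib]
      refine Finset.sum_congr rfl fun i _ => ?_
      rw [Fin.sum_univ_succ]; simp only [Fin.cons_zero, Fin.cons_succ]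
      rw [hs i.succ 0]; ring
  rw [h1, h2]; ring

theorem det_sch {n : ℕ} (A : Matrix (Fin (n + 2)) (Fin (n + 2)) ℤ) (hs : ∀ i j, A i j = A j i)
    (ha : A 0 0 ≠ 0) : (sch A).det = A 0 0 ^ n * A.det := by
  let L : Matrix (Fin (n + 2)) (Fin (n + 2)) ℤ := Matrix.of
    (Fin.cons (Fin.cons 1 0) fun i => Fin.cons (-A 0 i.succ) fun j => if i = j then A 0 0 else 0)
  have hL : L.det = A 0 0 ^ (n + 1) := by
    rw [Matrix.det_succ_row_zero, Fin.sum_univ_succ]
    have : (L.submatrix Fin.succ (Fin.succAbove 0)) = Matrix.diagonal fun _ => A 0 0 := by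
      ext i j; simp [L, Matrix.diagonal_apply]
    rw [this]; simp [L]
  have h0 : ∀ j, (L * A) 0 j = A 0 j := by
    intro j; rw [Matrix.mul_apply, Fin.sum_univ_succ]; simp [L]
  have h1 : ∀ (i : Fin (n + 1)) j, (L * A) i.succ j = -A 0 i.succ * A 0 j + A 0 0 * A i.succ j := by
    intro i j; rw [Matrix.mul_apply, Fin.sum_univ_succ]; simp [L]
  have hLA : (L * A).det = A 0 0 * (sch A).det := by
    rw [Matrix.det_succ_column_zero, Fin.sum_univ_succ]
    have e : ((L * A).submatrix (Fin.succAbove 0) Fin.succ) = sch A := by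
      ext i j; simp only [Matrix.submatrix_apply, Fin.succAbove_zero, h1, sch, Matrix.of_apply]; ring
    have z : ∀ i : Fin (n + 1), (L * A) i.succ 0 = 0 := by
      intro i; rw [h1, hs i.succ 0]; ring
    rw [e, h0]; simp [z]
  rw [Matrix.det_mul, hL] at hLA
  apply mul_left_cancel₀ ha
  rw [← hLA]; ring

theorem prim_cons {n : ℕ} (t : ℤ) {y : Fin (n + 1) → ℤ} (h : Prim y) :
    Prim (Fin.cons t y : Fin (n + 2) → ℤ) := by
  obtain ⟨U, hU, rfl⟩ := h
  let V : Matrix (Fin (n + 2)) (Fin (n + 2)) ℤ := Matrix.of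
    (Fin.cons (Fin.cons 1 0) fun i => Fin.cons t (U i))
  have hV : V.det = U.det := by
    rw [Matrix.det_succ_row_zero, Fin.sum_univ_succ]
    have : (V.submatrix Fin.succ (Fin.succAbove 0)) = U := by
      ext i j; simp [V]
    rw [this]; simp [V]
  refine ⟨V.submatrix (Equiv.swap 0 (Fin.succ 0)) id, ?_, ?_⟩
  · rw [Matrix.det_permute, mul_pow, hV, hU]
    rcases Int.units_eq_one_or (Equiv.Perm.sign (Equiv.swap (0 : Fin (n + 2)) (Fin.succ 0))) with h | h <;>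
      rw [h] <;> simp
  · funext j
    rw [Matrix.submatrix_apply, Equiv.swap_apply_left]
    rfl

theorem q_conj {m : ℕ} (A U : Matrix (Fin m) (Fin m) ℤ) (y : Fin m → ℤ) :
    y ⬝ᵥ (U * A * Uᵀ) *ᵥ y = (y ᵥ* U) ⬝ᵥ A *ᵥ (y ᵥ* U) := by
  rw [← Matrix.mulVec_mulVec, ← Matrix.mulVec_mulVec, Matrix.dotProduct_mulVec,
    Matrix.mulVec_transpose]

theorem main : ∀ (n : ℕ) (A : Matrix (Fin (n + 1)) (Fin (n + 1)) ℤ), (∀ i j, A i j = A j i) →
    (∀ x, x ≠ 0 → 0 < x ⬝ᵥ A *ᵥ x) →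
    ∃ x, Prim x ∧ 3 ^ cc n * (x ⬝ᵥ A *ᵥ x) ^ (n + 1) ≤ 4 ^ cc n * A.det := by
  intro n
  induction n with
  | zero =>
    intro A _ _
    refine ⟨(1 : Matrix (Fin 1) (Fin 1) ℤ) 0, ⟨1, by simp, rfl⟩, ?_⟩
    simp [cc, dotProduct, mulVec]
  | succ n ih =>
    intro A hs hp
    classical
    have hex : ∃ m : ℕ, ∃ x, Prim x ∧ x ⬝ᵥ A *ᵥ x = m := by
      have h1 : Prim ((1 : Matrix (Fin (n + 2)) (Fin (n + 2)) ℤ) 0) := ⟨1, by simp, rfl⟩
      exact ⟨_, _, h1, (Int.toNat_of_nonneg (hp _ h1.ne).le).symm⟩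
    obtain ⟨x0, hx0, hq0⟩ := Nat.find_spec hex
    have hmin : ∀ x, Prim x → x0 ⬝ᵥ A *ᵥ x0 ≤ x ⬝ᵥ A *ᵥ x := by
      intro x hx
      have := Nat.find_min' hex ⟨x, hx, (Int.toNat_of_nonneg (hp _ hx.ne).le).symm⟩
      have h2 := Int.toNat_of_nonneg (hp _ hx.ne).le
      omega
    refine ⟨x0, hx0, ?_⟩
    obtain ⟨U, hU, hU0⟩ := id hx0
    have hUne : U.det ≠ 0 := by intro h; rw [h] at hU; norm_num at hU
    set B := U * A * Uᵀ with hB
    have hAT : Aᵀ = A := by ext i j; exact hs j i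
    have hBs : ∀ i j, B i j = B j i := by
      have : Bᵀ = B := by
        rw [hB, Matrix.transpose_mul, Matrix.transpose_mul, Matrix.transpose_transpose, hAT,
          Matrix.mul_assoc]
      intro i j
      exact (congrFun (congrFun this j) i)
    have hBd : B.det = A.det := by
      rw [hB, Matrix.det_mul, Matrix.det_mul, Matrix.det_transpose]
      linear_combination A.det * hU
    have hBp : ∀ x, x ≠ 0 → 0 < x ⬝ᵥ B *ᵥ x := by
      intro x hx
      rw [hB, q_conj]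
      exact hp _ fun h => hx (Matrix.eq_zero_of_vecMul_eq_zero hUne h)
    have hB0 : B 0 0 = x0 ⬝ᵥ A *ᵥ x0 := by
      have := q_conj A U (Pi.single 0 1)
      rw [Matrix.single_one_vecMul] at this
      have e : U.row 0 = x0 := hU0
      rw [e] at this
      rw [← this]; simp [hB]
    have ha : 0 < B 0 0 := hB0 ▸ hp _ hx0.ne
    have hBm : ∀ y, Prim y → B 0 0 ≤ y ⬝ᵥ B *ᵥ y := by
      rintro y ⟨V, hV, rfl⟩
      rw [hB0, hB, q_conj]
      refine hmin _ ⟨V * U, by rw [Matrix.det_mul, mul_pow, hV, hU, one_mul], ?_⟩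
      funext j; simp [Matrix.mul_apply, vecMul, dotProduct]
    have hSp : ∀ y, y ≠ 0 → 0 < y ⬝ᵥ (sch B) *ᵥ y := by
      intro y hy
      have h1 := q_cons B hBs (-∑ i, B 0 i.succ * y i) (B 0 0 • y)
      have h2 : (∑ i, B 0 i.succ * (B 0 0 • y) i) = B 0 0 * ∑ i, B 0 i.succ * y i := by
        rw [Finset.mul_sum]; refine Finset.sum_congr rfl fun i _ => ?_
        simp only [Pi.smul_apply, smul_eq_mul]; ring
      have h3 : (B 0 0 • y) ⬝ᵥ (sch B) *ᵥ (B 0 0 • y) = B 0 0 * (B 0 0 * (y ⬝ᵥ (sch B) *ᵥ y)) := by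
        rw [Matrix.mulVec_smul, smul_dotProduct, dotProduct_smul]; rfl
      have h4 := hBp (Fin.cons (-∑ i, B 0 i.succ * y i) (B 0 0 • y) : Fin (n + 2) → ℤ) (by
        intro h
        apply hy
        funext i
        have := congrFun h i.succ
        simp only [Fin.cons_succ, Pi.smul_apply, smul_eq_mul, Pi.zero_apply] at this
        exact (mul_eq_zero.1 this).resolve_left ha.ne')
      rw [h2, h3] at h1
      have h5 : 0 < B 0 0 * (B 0 0 * (y ⬝ᵥ (sch B) *ᵥ y)) := by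
        have := mul_pos ha h4
        rw [h1] at this
        nlinarith
      exact (mul_pos_iff_of_pos_left ha).1 ((mul_pos_iff_of_pos_left ha).1 h5)
    obtain ⟨y, hy, hle⟩ := ih (sch B) (fun i j => by
      simp only [sch, Matrix.of_apply]; rw [hBs i.succ j.succ]; ring) hSp
    rw [det_sch B hBs ha.ne', hBd] at hle
    rw [← hB0]
    set a := B 0 0 with hadef
    set β := ∑ i, B 0 i.succ * y i with hβ
    have h1 := q_cons B hBs (-((2 * β + a) / (2 * a))) y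
    have h2 := hBm _ (prim_cons (-((2 * β + a) / (2 * a))) hy)
    have h3 := Int.emod_nonneg (2 * β + a) (show (2 * a) ≠ 0 by omega)
    have h4 := Int.emod_lt_of_pos (2 * β + a) (show 0 < 2 * a by omega)
    have h5 := Int.emod_add_mul_ediv (2 * β + a) (2 * a)
    rw [← hadef, ← hβ] at h1
    set k := (2 * β + a) / (2 * a)
    set q1 := y ⬝ᵥ (sch B) *ᵥ y
    have h6 : 3 * a ^ 2 ≤ 4 * q1 := by
      have h7 := mul_le_mul_of_nonneg_left h2 ha.le
      rw [h1] at h7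
      have e : 2 * (a * -k + β) = (2 * β + a) % (2 * a) - a := by linarith
      have h8 : (2 * (a * -k + β)) ^ 2 ≤ a ^ 2 := by rw [e]; nlinarith
      nlinarith
    have h9 : (3 * a ^ 2) ^ (n + 1) ≤ (4 * q1) ^ (n + 1) := pow_le_pow_left₀ (by positivity) h6 _
    have h10 : a ^ n * (3 ^ cc (n + 1) * a ^ (n + 1 + 1)) ≤ a ^ n * (4 ^ cc (n + 1) * A.det) := by
      calc a ^ n * (3 ^ cc (n + 1) * a ^ (n + 1 + 1)) = 3 ^ cc n * (3 * a ^ 2) ^ (n + 1) := by
            simp only [cc]; ring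
        _ ≤ 3 ^ cc n * (4 * q1) ^ (n + 1) := mul_le_mul_of_nonneg_left h9 (by positivity)
        _ = 4 ^ (n + 1) * (3 ^ cc n * q1 ^ (n + 1)) := by ring
        _ ≤ 4 ^ (n + 1) * (4 ^ cc n * (a ^ n * A.det)) :=
            mul_le_mul_of_nonneg_left hle (by positivity)
        _ = a ^ n * (4 ^ cc (n + 1) * A.det) := by simp only [cc]; ring
    exact le_of_mul_le_mul_left h10 (by positivity)

theorem herm : K5.HermStmt := by
  intro B hB
  have hq : ∀ x : Fin 5 → ℤ, x ⬝ᵥ (B * Bᵀ) *ᵥ x = ∑ j, (Matrix.vecMul x B j) ^ 2 := by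
    intro x
    have := q_conj 1 B x
    rw [Matrix.mul_one, Matrix.one_mulVec] at this
    rw [this]; simp only [dotProduct, sq]
  obtain ⟨x, hx, hle⟩ := main 4 (B * Bᵀ) (fun i j => by
      simp only [Matrix.mul_apply, Matrix.transpose_apply]
      exact Finset.sum_congr rfl fun k _ => mul_comm _ _) (fun x hx => by
      rw [hq]
      have hne : x ᵥ* B ≠ 0 := fun h => hx (Matrix.eq_zero_of_vecMul_eq_zero hB h)
      obtain ⟨j, hj⟩ := Function.ne_iff.1 hne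
      exact Finset.sum_pos' (fun _ _ => sq_nonneg _) ⟨j, Finset.mem_univ _, sq_pos_of_ne_zero hj⟩)
  refine ⟨x, hx.ne, ?_⟩
  rw [hq, Matrix.det_mul, Matrix.det_transpose] at hle
  rw [sq]; exact hle

end Cfsg.Agent.H12.K5Herm
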