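import Cfsg.Agent.H20.T27

/-! Element form of "a strongly `3`-embedded `3³ : 2²` is the whole group". -/

set_option autoImplicit false
set_option synthInstance.maxSize 2048

namespace Cfsg.Agent.H12.L3

open Subgroup Equiv H20.T27

/-- rotation part -/
def ro (s : Perm (Fin 3)) : ZMod 3 :=
  if s = 1 ∨ s = swap 0 1 then 0 else
    if s = swap 0 1 * swap 1 2 ∨ s = swap 0 1 * swap 1 2 * swap 0 1 then 1 else 2

/-- parity -/
def od (s : Perm (Fin 3)) : Bool := decide (Perm.sign s = -1)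

theorem ro_mul (s t : Perm (Fin 3)) : ro (s * t) = ro s + (if od s then - ro t else ro t) := by
  revert s t; decide +kernel

theorem od_mul (s t : Perm (Fin 3)) : od (s * t) = xor (od s) (od t) := by
  revert s t; decide +kernel

theorem od_two (w : W) : od (w.1 2) = xor (od (w.1 1)) (od (w.1 0)) := by
  revert w; decide +kernel

variable {G : Type*} [Group G]

theorem pw_add {e : G} (h : e ^ 3 = 1) (a b : ZMod 3) : e ^ (a + b).val = e ^ a.val * e ^ b.val := by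
  rw [← pow_add, ZMod.val_add, ← pow_eq_pow_mod _ h]

theorem pw_neg {e : G} (h : e ^ 3 = 1) (a : ZMod 3) : e ^ (-a).val = e⁻¹ ^ a.val := by
  rw [inv_pow, eq_inv_iff_mul_eq_one, ← pw_add h, neg_add_cancel, ZMod.val_zero, pow_zero]

theorem exists_hom {e₁ e₂ e₃ u₁ u₂ : G} (c12 : Commute e₁ e₂) (c13 : Commute e₁ e₃)
    (c23 : Commute e₂ e₃) (p1 : e₁ ^ 3 = 1) (p2 : e₂ ^ 3 = 1) (p3 : e₃ ^ 3 = 1)
    (s1 : u₁ * u₁ = 1) (s2 : u₂ * u₂ = 1) (cu : Commute u₁ u₂)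
    (a11 : u₁ * e₁ * u₁⁻¹ = e₁) (a12 : u₁ * e₂ * u₁⁻¹ = e₂⁻¹) (a13 : u₁ * e₃ * u₁⁻¹ = e₃⁻¹)
    (a21 : u₂ * e₁ * u₂⁻¹ = e₁⁻¹) (a22 : u₂ * e₂ * u₂⁻¹ = e₂) (a23 : u₂ * e₃ * u₂⁻¹ = e₃⁻¹) :
    ∃ f : W →* G, f (cc 0) = e₁ ∧ f (cc 1) = e₂ ∧ f (cc 2) = e₃ ∧ f (tt 0) = u₁ ∧ f (tt 1) = u₂ := by
  let v : Bool → Bool → G := fun a b => (if a then u₁ else 1) * (if b then u₂ else 1)
  let j : ZMod 3 → ZMod 3 → ZMod 3 → G := fun a b c => e₁ ^ a.val * e₂ ^ b.val * e₃ ^ c.val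
  have hv : ∀ a b c d, v (xor a c) (xor b d) = v a b * v c d := by
    have s3 : ∀ x, u₁ * (u₁ * x) = x := fun x => by rw [← mul_assoc, s1, one_mul]
    have s4 : ∀ x, u₂ * (u₂ * x) = x := fun x => by rw [← mul_assoc, s2, one_mul]
    have s5 : ∀ x, u₂ * (u₁ * x) = u₁ * (u₂ * x) := fun x => by rw [← mul_assoc, ← cu.eq, mul_assoc]
    intro a b c d
    cases a <;> cases b <;> cases c <;> cases d <;> simp [v, mul_assoc, s1, s2, s3, s4, s5, ← cu.eq]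
  have hj : ∀ a b c a' b' c', j (a + a') (b + b') (c + c') = j a b c * j a' b' c' := by
    intro a b c a' b' c'
    simp only [j, pw_add p1, pw_add p2, pw_add p3]
    rw [((c12.pow_pow _ _).mul_mul_mul_comm _ _ : _ = e₁ ^ a.val * e₂ ^ b.val * (e₁ ^ a'.val * _)),
      (((c13.pow_pow _ _).mul_left (c23.pow_pow _ _)).mul_mul_mul_comm _ _ :
        _ = e₁ ^ a.val * e₂ ^ b.val * e₃ ^ c.val * _)]
  have hvj : ∀ s t a b c, v s t * j a b c = j (if t then -a else a) (if s then -b else b)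
      (if xor s t then -c else c) * v s t := by
    have k1 : ∀ a b c, u₁ * j a b c = j a (-b) (-c) * u₁ := fun a b c => by
      rw [← mul_inv_eq_iff_eq_mul]
      simp only [j, pw_neg p2, pw_neg p3, ← a12, ← a13, conj_pow, conj_mul]
      conv_rhs => rw [← a11, conj_pow, conj_mul, conj_mul]
    have k2 : ∀ a b c, u₂ * j a b c = j (-a) b (-c) * u₂ := fun a b c => by
      rw [← mul_inv_eq_iff_eq_mul]
      simp only [j, pw_neg p1, pw_neg p3, ← a21, ← a23, conj_pow]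
      conv_rhs => rw [← a22, conj_pow, conj_mul, conj_mul]
    intro s t a b c
    cases s <;> cases t <;> simp [v, k1, k2]
    rw [mul_assoc, k2, ← mul_assoc, k1, neg_neg, mul_assoc]
  refine ⟨MonoidHom.mk' (fun w => j (ro (w.1 0)) (ro (w.1 1)) (ro (w.1 2)) *
    v (od (w.1 1)) (od (w.1 0))) fun a b => ?_, ?_⟩
  · simp only [Subgroup.coe_mul, Pi.mul_apply, ro_mul, od_mul, hj, hv, od_two a]
    have : ∀ A B B' C D : G, C * B = B' * C → A * B' * (C * D) = A * C * (B * D) :=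
      fun A B B' C D h => by rw [mul_assoc, mul_assoc, ← mul_assoc C, h, mul_assoc]
    exact this _ _ _ _ _ (hvj _ _ _ _ _)
  · have h : ∀ i k : Fin 3, ro ((cc i).1 k) = (if k = i then 1 else 0) ∧ od ((cc i).1 k) = false ∧
        ro ((tt i).1 k) = 0 ∧ od ((tt i).1 k) = !decide (k = i) := by decide +kernel
    have h1 : (1 : ZMod 3).val = 1 := rfl
    simp [h, j, v, h1]

/-- ALPHA. -/
theorem alpha [Finite G] {J K : Subgroup G} {e₁ e₂ e₃ u₁ u₂ : G}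
    (hJ : J = closure {e₁, e₂, e₃}) (hcard : Nat.card J = 27) (c12 : Commute e₁ e₂)
    (c13 : Commute e₁ e₃) (c23 : Commute e₂ e₃) (p1 : e₁ ^ 3 = 1) (p2 : e₂ ^ 3 = 1)
    (p3 : e₃ ^ 3 = 1) (s1 : u₁ * u₁ = 1) (s2 : u₂ * u₂ = 1) (cu : Commute u₁ u₂)
    (a11 : u₁ * e₁ * u₁⁻¹ = e₁) (a12 : u₁ * e₂ * u₁⁻¹ = e₂⁻¹) (a13 : u₁ * e₃ * u₁⁻¹ = e₃⁻¹)
    (a21 : u₂ * e₁ * u₂⁻¹ = e₁⁻¹) (a22 : u₂ * e₂ * u₂⁻¹ = e₂) (a23 : u₂ * e₃ * u₂⁻¹ = e₃⁻¹)
    (hJK : J ≤ K) (k1 : u₁ ∈ K) (k2 : u₂ ∈ K)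
    (hN : K ⊓ normalizer (J : Set G) ≤ J ⊔ closure {u₁, u₂})
    (hC : ∀ w ∈ J, w ≠ 1 → K ⊓ centralizer {w} ≤ normalizer (J : Set G)) :
    K ≤ normalizer (J : Set G) := by
  haveI := Fintype.ofFinite K
  obtain ⟨f, f0, f1, f2, f3, f4⟩ :=
    exists_hom c12 c13 c23 p1 p2 p3 s1 s2 cu a11 a12 a13 a21 a22 a23
  have m1 : e₁ ∈ J := hJ ▸ subset_closure (by simp)
  have m2 : e₂ ∈ J := hJ ▸ subset_closure (by simp)
  have m3 : e₃ ∈ J := hJ ▸ subset_closure (by simp)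
  have t2 : f (tt 2) = u₁ * u₂ := by rw [← tt_mul, map_mul, f3, f4]
  have gen : ∀ L : Subgroup G, J ≤ L → u₁ ∈ L → u₂ ∈ L → ∀ w, f w ∈ L := fun L h h1 h2 w => by
    obtain ⟨i, j, k, a, b, rfl⟩ := gen_W w
    simp only [map_mul, map_pow, f0, f1, f2, t2, f4]
    exact mul_mem (mul_mem (mul_mem (mul_mem (pow_mem (h m1) _) (pow_mem (h m2) _))
      (pow_mem (h m3) _)) (pow_mem (mul_mem h1 h2) _)) (pow_mem h2 _)
  have nrm : ∀ u : G, u * e₁ * u⁻¹ ∈ J → u * e₂ * u⁻¹ ∈ J → u * e₃ * u⁻¹ ∈ J →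
      u ∈ normalizer (J : Set G) := fun u h1 h2 h3 => by
    refine mem_normalizer_fintype fun x hx => ?_
    have : J ≤ J.comap (MulAut.conj u).toMonoidHom := by
      conv_lhs => rw [hJ]
      rw [closure_le]
      rintro _ (rfl | rfl | rfl)
      exacts [h1, h2, h3]
    exact this hx
  have fN := gen _ le_normalizer (nrm u₁ (by rwa [a11]) (a12 ▸ inv_mem m2) (a13 ▸ inv_mem m3))
    (nrm u₂ (a21 ▸ inv_mem m1) (by rwa [a22]) (a23 ▸ inv_mem m3))
  have Jf : J ≤ (closure {cc 0, cc 1, cc 2}).map f := by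
    rw [MonoidHom.map_closure, hJ]
    simp [Set.image_insert_eq, f0, f1, f2]
  have T3 : ∀ w ∈ closure ({cc 0, cc 1, cc 2} : Set W), w ^ 3 = 1 := fun w hw => by
    induction hw using closure_induction with
    | mem y hy => rcases hy with rfl | rfl | rfl <;> decide +kernel
    | one => exact one_pow _
    | mul y z _ _ h1 h2 => exact three_mul y z h1 h2
    | inv y _ h1 => rw [inv_pow, h1, inv_one]
  have inj : Function.Injective f := by
    rw [injective_iff_map_eq_one]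
    intro w hw
    by_contra w1
    obtain ⟨x, x1, x3, hx⟩ : ∃ x : W, x ≠ 1 ∧ x ^ 3 = 1 ∧ f x = 1 := by
      have : ∀ w : W, w ≠ 1 → ∃ y : W, (w * (y * w⁻¹ * y⁻¹) ≠ 1 ∧ (w * (y * w⁻¹ * y⁻¹)) ^ 3 = 1) ∨
          w ^ 3 = 1 := by decide +kernel
      obtain ⟨y, h | h⟩ := this w w1
      · exact ⟨_, h.1, h.2, by simp [hw]⟩
      · exact ⟨w, w1, h, hw⟩
    have hs : (J : Set G) ⊆ f '' {w | w ^ 3 = 1} := fun g hg => by
      obtain ⟨w, hw, rfl⟩ := Jf hg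
      exact ⟨w, T3 w hw, rfl⟩
    have hc : {w : W | w ^ 3 = 1}.ncard = 27 := by
      rw [← card_T, ← Set.ncard_coe_finset]; congr 1; ext; simp
    have h1 := Set.ncard_le_ncard hs
    rw [← Nat.card_coe_set_eq, SetLike.coe_sort_coe, hcard, ← hc] at h1
    have := Set.injOn_of_ncard_image_eq (le_antisymm (Set.ncard_image_le) h1)
    exact x1 (this x3 (one_pow 3) (hx.trans (map_one f).symm))
  let g : W →* K := f.codRestrict K (gen K hJK k1 k2)
  have hr : ∀ x : K, (x : G) ∈ normalizer (J : Set G) ↔ x ∈ g.range := fun x => by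
    refine ⟨fun h => ?_, ?_⟩
    · have : J ⊔ closure {u₁, u₂} ≤ f.range := by
        refine sup_le (Jf.trans (map_le_range _ _)) ((closure_le _).2 ?_)
        rintro _ (rfl | rfl)
        exacts [⟨_, f3⟩, ⟨_, f4⟩]
      obtain ⟨w, hw⟩ := this (hN ⟨x.2, h⟩)
      exact ⟨w, Subtype.ext hw⟩
    · rintro ⟨w, rfl⟩
      exact fN w
  have top := (hyp_of (f := g) (T := J.subgroupOf K) (fun a b e => inj (congrArg Subtype.val e))
    (fun x hx => (hr x).1 (le_normalizer hx))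
    (by rw [Nat.card_congr (subgroupOfEquivOfLe hJK).toEquiv, hcard])
    (by ext x; rw [← hr, ← subgroupOf_normalizer_eq hJK, mem_subgroupOf])
    fun t ht t1 x hx => (hr x).1 (hC t ht (fun e => t1 (Subtype.ext e)) ⟨x.2,
      mem_centralizer_singleton_iff.2 (congrArg Subtype.val (mem_centralizer_singleton_iff.1 hx))⟩)).top
  exact fun x hx => (hr ⟨x, hx⟩).2 (top ▸ mem_top _)

end Cfsg.Agent.H12.L3
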