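import Mathlib
import Cfsg.Agent.H93.Hayden3

/-! Character values of the group `3³ : S₄`. -/

set_option autoImplicit false
set_option synthInstance.maxSize 2048
set_option maxRecDepth 20000

namespace Cfsg.Agent.H12.L3

open Subgroup Cfsg Cfsg.Agent.H93.Hay DihedralGroup Cfsg.Agent.H11

theorem ind_list {M : Type*} [Group M] [Fintype M] (C : Subgroup M) [Fintype C] {n : ℕ}
    (t : Fin n → M) (h1 : ∀ i j, (t i)⁻¹ * t j ∈ C → i = j)
    (h2 : n * Fintype.card C = Fintype.card M) {ψ : C → ℂ} (hψ : IsClassFunction C ψ) (g : M) :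
    indFun C ψ g = ∑ i, extendByZero C ψ ((t i)⁻¹ * g * t i) := by
  classical
  have hb : Function.Bijective fun i => (t i : M ⧸ C) := by
    refine (Nat.bijective_iff_injective_and_card _).2 ⟨fun i j e => h1 i j (QuotientGroup.eq.1 e), ?_⟩
    have := C.card_eq_card_quotient_mul_card_subgroup
    rw [Nat.card_eq_fintype_card, ← h2, Nat.card_eq_fintype_card (α := C)] at this
    rw [Nat.card_fin, Nat.eq_of_mul_eq_mul_right Fintype.card_pos this]
  rw [H14.indFun_eq_sum_quotient C hψ, ← (Equiv.ofBijective _ hb).sum_comp]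
  refine Finset.sum_congr rfl fun i _ => ?_
  obtain ⟨c, hc⟩ := QuotientGroup.mk_out_eq_mul C (t i)
  rw [Equiv.ofBijective_apply, hc, ← H14.extendByZero_conj_of_mem' C hψ ((t i)⁻¹ * g * t i) c.2]
  congr 1; group

/-- The embedding of `ℤ[√3]`. -/
noncomputable def em : ℤ√3 →+* ℂ := Zsqrtd.lift ⟨(√3 : ℝ), by
  rw [← Complex.ofReal_mul, Real.mul_self_sqrt (by norm_num)]; simp⟩

theorem conj_em (z : ℤ√3) : starRingEnd ℂ (em z) = em z := by simp [em, Zsqrtd.lift]

/-- Twice the cosine. -/
def co (n : ZMod 12) : ℤ√3 := (![⟨2, 0⟩, ⟨0, 1⟩, ⟨1, 0⟩, ⟨0, 0⟩, ⟨-1, 0⟩, ⟨0, -1⟩, ⟨-2, 0⟩, ⟨0, -1⟩, ⟨-1, 0⟩, ⟨0, 0⟩, ⟨1, 0⟩, ⟨0, 1⟩] : Fin 12 → ℤ√3) n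

/-- The twelfth roots of unity. -/
noncomputable def ze : Multiplicative (ZMod 12) →* ℂ where
  toFun n := (em (co n.toAdd) + em (co (3 - n.toAdd)) * Complex.I) / 2
  map_one' := by
    rw [toAdd_one, show co 0 = 2 by decide, show co (3 - 0) = 0 by decide, map_ofNat]; simp
  map_mul' m n := by
    have h : ∀ m n : ZMod 12, 2 * co (m + n) = co m * co n - co (3 - m) * co (3 - n) ∧
      2 * co (3 - (m + n)) = co m * co (3 - n) + co (3 - m) * co n := by decide +kernel
    have h1 := congrArg em (h m.toAdd n.toAdd).1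
    have h2 := congrArg em (h m.toAdd n.toAdd).2
    simp only [map_mul, map_sub, map_add, map_ofNat] at h1 h2
    rw [toAdd_mul]
    linear_combination h1 / 4 + Complex.I / 4 * h2 -
      em (co (3 - m.toAdd)) * em (co (3 - n.toAdd)) / 4 * Complex.I_mul_I

/-- code -/
def dc : DihedralGroup 3 → ℕ
  | r i => i.val
  | sr i => 3 + i.val

/-- code -/
def code (x : HH) : ℕ := dc x.1.b.1 + 6 * dc x.1.b.2.1 + 36 * dc x.1.b.2.2 + 216 * dc x.1.p

/-- decoding -/
def dd (n : ℕ) : DihedralGroup 3 := if n < 3 then r (Fin.ofNat 3 n) else sr (Fin.ofNat 3 n)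

/-- decoding -/
def dec (n : ℕ) : WW := ⟨(dd (n % 6), dd (n / 6 % 6), dd (n / 36 % 6)), dd (n / 216)⟩

/-- decoding -/
def hd (n : ℕ) : HH := if h : dec n ∈ HH then ⟨dec n, h⟩ else 1

/-- the class of an element -/
def cl (x : HH) : Fin 14 := Fin.ofNat 14 (0x377000377000377000000999000888000222737000737000737000000999000888000222773000773000773000000999000888000222000737000737000737888000999000222000000377000377000377888000999000222000000773000773000773888000999000222000333000777000777000000892000892000892777000333000777000000892000892000892777000777000333000000892000892000892000982000982000982777000333000777000000982000982000982333000777000777000000982000982000982777000777000333000377000737000773000000737000377000773377000737000773000000737000377000773377000737000773000000737000377000773000888000888000888999000999000999000000999000999000999888000888000888000000222000222000222222000222000222000000ba40004ba000a4bba4000a4b0004ba000000a4b000ba40004ba4ba000ba4000a4b0000004ba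000a4b000ba4a4b0004ba000ba4000b4a000ab40004ab0000004ab000ab4000b4aab40004ab000b4a000000ab4000b4a0004ab4ab000b4a000ab4000000b4a0004ab000ab4000ab4000b4a0004aba4b000ba40004ba0000004ab000ab4000b4aba40004ba000a4b000000b4a0004ab000ab44ba000a4b000ba4000ab40004ab000b4a0000004ba000ba4000a4bb4a000ab40004ab000000ba4000a4b0004ba4ab000b4a000ab4000000a4b0004ba000ba4000661000661000661666000666000111000000661000661000661666000666000111000000661000661000661666000666000111000666000666000666000000ddc000ddc000cc5666000666000666000000ddc000ddc000cc5111000111000111000000cc5000cc5000550 >>> (4 * code x) % 16)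

/-- a conjugating element -/
def wit (x : HH) : HH := hd (0x2da5e8b6000000000c899e32000000000292558a400000000000000000524a994e000000000da1c837c00000000368720df2d65b0be000000000c79903400000000028e520ac00000000000000000534a4155000000000de1b2398000000003786c8e62f65b4b5800000000cf99131e000000002ae524a380000000000000000550a7947000000000e51c036000000000394700d8000000001111fa3f8000000004d490922000000000ed1b2368a994829e000000001c836470000000000a994829e00000000000000000fe1f84480000000048890136000000000da1b03b8a494d2a8000000001b437872800000000a494d2a800000000000000000fd2263f0000000004849b920000000000d91de360a715528e000000001be3986c000000000a715528e0000000048a9a51080000000121a6743e000000004a69dd17800000000000000008acde22b0000000022136488400000000898dba264a49d917000000001222684400000000048a9a51080000000000000000880d8a200000000022536c894000000008b4df22d4889a1100000000012a2784600000000048699d0f8000000000000000089cdc2270000000022c37a8b00000000087cd821f000000002213646c800000000894db1b60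000000022c37a6f4f4a0d38a000000003ac7e8d9000000000ea9f9362000000000000000022b3786f000000000880d89b1000000002273706e0ea9f9362000000003a87e0d8000000000f5a0f38e000000000000000022636e6dc000000008b4df1be0000000021f3606c0eb1fa364000000003d4838e3000000000ea1f83600000000012a24c518000000005109412a0000000012829049800000000000000000e413025000000000250480ec000000000981d0241722dc63800000000630b8172000000001703205b80000000000000000174250490000000004909017c000000001282f0480e21bc3f8000000003f0700e2000000000e02003780000000000000000054010010000000000100005c000000000080b0000000000007b0e21d8000000001c03a87d000000000770f81bc388750f8000000000f61c03b8000000003b07d0de000000000000000000c00401c000000000040300e0000000000801a0000100601a00000000018004040000000000380e000000000000000000007b0e21d8000000001c03a87d000000000770f81bc0100601a00000000018004040000000000380e0000000000000000000301600c0800000000c058030200000000301600c09532a854e0000000054caa153800000001532a854e00000000000000002fa5f8bec00000000be97e2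fb000000002fa5f8bed50aa054400000000542a815100000000150aa054400000000000000002f65eabd000000000bd97aaf4000000002f65eabd14e29b53400000000538a6d4d0000000014e29b5340000000052ea654c0000000014ba995300000000052ea654c00000000000000000c598ab170000000031662ac5c00000000c598ab17524a45498000000014929152600000000524a454980000000000000000c3d88b100000000030f622c4000000000c3d88b1051aa314580000000146a8c5160000000051aa314580000000000000000c2d853090000000030b614c2400000000c2d853090000000007b0f61ec000000001f43e87d0000000007c0f81f01102204400000000042084108000000001182304600000000000000000760ec1d8000000001d43a875000000000770ee1dc0d81b0360000000003a0740e8000000000e01c03800000000000000000710e21c4000000001c0380700000000006f0de1bc0b81702e0000000002c0580b0000000000a81502a00000000114228450000000004608c1180000000011622c45800000000000000000340680d0000000000c018030000000000380700e10a21442800000000420841080000000010c218430000000000000000001803006000000000080100200000000001c03807100200400000000003f87f0fe000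000000fc1f83f00000000000000000008010020000000000100200400000000000000000000000022636e6dc0000000089cdc1b80000000022536c6d8a7154290000000001be3946c8000000006f8e51b2000000000000000022c37a6f4000000008b4df1be0000000022b3786f0a7955292000000001c03986d000000000700e61b400000000000000002203626c400000000884d91b20000000021f3606c0a695328e000000001bc3906c0000000006f0e41b0000000000ec1dc3a8000000003e07d0f6000000000e01c43780000000000000000c243f1c50000000006f5e88b8000000003b4a386f00e020030000000000680e01800000000002008000000000000000000005545a1f0000000029a0006c0000000005586c00000e020030000000000680e0180000000000200800000000000000000000543f1470000000006f0003600000000087cd8000 >>> (11 * code x) % 2048)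

/-- class representatives -/
def rep (k : Fin 14) : HH := hd (![0, 21, 651, 756, 216, 36, 57, 763, 687, 702, 217, 218, 7, 43] k)

/-- class sizes -/
def sz : Fin 14 → ℕ := ![1, 27, 54, 54, 72, 6, 54, 108, 54, 54, 72, 72, 12, 8]

theorem wit_spec (x : HH) : wit x * x * (wit x)⁻¹ = rep (cl x) := by revert x; decide +kernel

theorem card_cl (k : Fin 14) : (Finset.univ.filter fun x => cl x = k).card = sz k := by
  revert k; decide +kernel

/-- The class function with given values. -/
noncomputable def val (w : Fin 14 → ℤ√3) (x : HH) : ℂ := em (w (cl x))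

/-- Tables of generalized characters. -/
abbrev IG (w : Fin 14 → ℤ√3) : Prop := IsGeneralizedCharacter HH (val w)

theorem IG.add {v w : Fin 14 → ℤ√3} (h : IG v) (k : IG w) : IG (v + w) := by
  convert isGen_add h k using 1; funext x; simp [val]

theorem IG.sub {v w : Fin 14 → ℤ√3} (h : IG v) (k : IG w) : IG (v - w) := by
  convert isGen_sub h k using 1; funext x; simp [val]

theorem ig_one : IG 1 := by convert isGen_one (G := HH) using 1; funext x; simp [val]

theorem mono (C : Subgroup HH) [DecidablePred (· ∈ C)] (ν : HH → ZMod 12)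
    (hν : ∀ x ∈ C, ∀ y ∈ C, ν (x * y) = ν x + ν y) {n : ℕ} (t : Fin n → HH)
    (h1 : ∀ i j, (t i)⁻¹ * t j ∈ C → i = j) (h2 : n * Fintype.card C = 648) {w : Fin 14 → ℤ√3}
    (h3 : ∀ k, ∑ i, (fun y => if y ∈ C then (co (ν y), co (3 - ν y)) else 0)
      ((t i)⁻¹ * rep k * t i) = (2 * w k, 0)) : IG w := by
  let f : C →* Multiplicative (ZMod 12) :=
    MonoidHom.mk' (fun c => Multiplicative.ofAdd (ν c)) fun a b => congrArg _ (hν _ a.2 _ b.2)
  have hi := isIrrCharacter_monoidHom (ze.comp f).toHomUnits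
  have hg := H14.IsGeneralizedCharacter.indFun C (isGen_of_irr hi)
  convert hg using 1
  funext x
  rw [← isClassFunction_of_isGen hg x (wit x), wit_spec,
    ind_list C t h1 (h2.trans hh_card.symm) (isClassFunction_of_irr hi), val]
  let F : ℤ√3 × ℤ√3 →+ ℂ := AddMonoidHom.mk' (fun p => (em p.1 + em p.2 * Complex.I) / 2)
    fun a b => by simp only [Prod.fst_add, Prod.snd_add, map_add]; ring
  have := congrArg F (h3 (cl x))
  rw [map_sum] at this
  refine .trans (by simp [F, map_ofNat]) (this.symm.trans (Finset.sum_congr rfl fun i _ => ?_))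
  rw [H14.extendByZero_eq_dite]
  beta_reduce
  split_ifs
  · rfl
  · exact map_zero F

/-- exponent of a rotation -/
def ex : DihedralGroup 3 → ZMod 12
  | r i => 4 * (i.val : ZMod 12)
  | sr _ => 0

theorem ex_mul (a b : DihedralGroup 3) (h : rf a = false) (k : rf b = false) :
    ex (a * b) = ex a + ex b := by revert a b; decide

/-- linear characters of the Sylow subgroup -/
def nS (i k : ZMod 12) (x : HH) : ZMod 12 :=
  i * (ex x.1.b.1 + ex x.1.b.2.1 + ex x.1.b.2.2) + k * ex x.1.p

theorem ex_act (p : DihedralGroup 3) (u : BB) : ex (act p u).1 + ex (act p u).2.1 + ex (act p u).2.2 =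
    ex u.1 + ex u.2.1 + ex u.2.2 := by
  obtain ⟨a, b, c⟩ := u
  rcases d3_cases p with rfl | rfl | rfl | rfl | rfl | rfl
  exacts [rfl, show ex c + ex a + ex b = _ by ring, show ex b + ex c + ex a = _ by ring,
    show ex b + ex a + ex c = _ by ring, show ex a + ex c + ex b = _ by ring,
    show ex c + ex b + ex a = _ by ring]

theorem nS_mul (i k : ZMod 12) : ∀ x ∈ SS, ∀ y ∈ SS, nS i k (x * y) = nS i k x + nS i k y := by
  intro x hx y hy
  have h0 : ∀ x ∈ SS, rf x.1.p = false := by decide +kernel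
  have hx' : rot x.1.b = true := hx
  have hy' : rot (act x.1.p y.1.b) = true := (rot_act _ _).trans hy
  simp only [rot, Bool.and_eq_true, Bool.not_eq_true'] at hx' hy'
  show i * (ex (x.1.b.1 * (act x.1.p y.1.b).1) + ex (x.1.b.2.1 * (act x.1.p y.1.b).2.1) +
    ex (x.1.b.2.2 * (act x.1.p y.1.b).2.2)) + k * ex (x.1.p * y.1.p) = _
  rw [ex_mul _ _ (h0 x hx) (h0 y hy), ex_mul _ _ hx'.1.1 hy'.1.1, ex_mul _ _ hx'.1.2 hy'.1.2,
    ex_mul _ _ hx'.2 hy'.2, nS, nS, ← ex_act x.1.p y.1.b]
  ring

/-- the subgroup of order two of `S₃` -/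
abbrev tw (a : DihedralGroup 3) : Prop := a = 1 ∨ a = sr 0

theorem tw_mul {a b : DihedralGroup 3} : tw a → tw b → tw (a * b) := by revert a b; decide

/-- the centraliser of a vector of weight one -/
def CE : Subgroup HH where
  carrier := {x | rf x.1.b.2.2 = false ∧ tw x.1.p}
  mul_mem' {x y} hx hy := ⟨by
    show rf (x.1.b.2.2 * (act x.1.p y.1.b).2.2) = false
    rcases hx.2 with e | e <;> rw [e, rf_mul, hx.1] <;> exact (Bool.false_xor _).trans hy.1,
    tw_mul hx.2 hy.2⟩
  one_mem' := by decide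
  inv_mem' {x} := (show ∀ x : HH, rf x.1.b.2.2 = false ∧ tw x.1.p →
    rf x⁻¹.1.b.2.2 = false ∧ tw x⁻¹.1.p by decide +kernel) x

instance : DecidablePred (· ∈ CE) := fun x =>
  inferInstanceAs (Decidable (rf x.1.b.2.2 = false ∧ tw x.1.p))

/-- indicator -/
def bi (b : Bool) : ZMod 12 := if b then 1 else 0

/-- linear characters of the centraliser -/
def nE (i m : ZMod 12) (x : HH) : ZMod 12 :=
  i * ex x.1.b.2.2 + m * (3 * bi (rf x.1.p) + 6 * bi (rf x.1.b.2.1))

theorem nE_mul (i m : ZMod 12) : ∀ x ∈ CE, ∀ y ∈ CE, nE i m (x * y) = nE i m x + nE i m y := by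
  intro x hx y hy
  have h0 : ∀ y ∈ CE, rf y.1.b.1 = xor (rf y.1.p) (rf y.1.b.2.1) := by decide +kernel
  have h1 : ∀ a b q : Bool, (3 * bi (xor false q) + 6 * bi (xor a b) =
      3 * bi false + 6 * bi a + (3 * bi q + 6 * bi b)) ∧ 3 * bi (xor true q) +
      6 * bi (xor a (xor q b)) = 3 * bi true + 6 * bi a + (3 * bi q + 6 * bi b) := by decide
  have h2 := ex_mul _ _ hx.1 hy.1
  have h3 : ∀ a b c d : ZMod 12, i * (a + b) + m * (c + d) = i * a + m * c + (i * b + m * d) :=
    fun a b c d => by ring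
  show i * ex (x.1.b.2.2 * (act x.1.p y.1.b).2.2) + m * (3 * bi (rf (x.1.p * y.1.p)) +
    6 * bi (rf (x.1.b.2.1 * (act x.1.p y.1.b).2.1))) = _
  rw [nE, nE, rf_mul, rf_mul]
  rcases hx.2 with e | e <;> rw [e]
  · exact (congrArg₂ (i * · + m * ·) h2 (h1 _ _ _).1).trans (h3 ..)
  · exact (congrArg₂ (i * · + m * ·) h2 (h0 y hy ▸ (h1 _ _ _).2)).trans (h3 ..)

/-- a complement -/
def KK : Subgroup HH where
  carrier := {x | tw x.1.b.1 ∧ tw x.1.b.2.1 ∧ tw x.1.b.2.2}
  mul_mem' {x y} hx hy := by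
    obtain ⟨h1, h2, h3⟩ := hy
    have : tw (act x.1.p y.1.b).1 ∧ tw (act x.1.p y.1.b).2.1 ∧ tw (act x.1.p y.1.b).2.2 := by
      rcases d3_cases x.1.p with e | e | e | e | e | e <;> rw [e]
      exacts [⟨h1, h2, h3⟩, ⟨h3, h1, h2⟩, ⟨h2, h3, h1⟩, ⟨h2, h1, h3⟩, ⟨h1, h3, h2⟩, ⟨h3, h2, h1⟩]
    exact ⟨tw_mul hx.1 this.1, tw_mul hx.2.1 this.2.1, tw_mul hx.2.2 this.2.2⟩
  one_mem' := by decide
  inv_mem' {x} := (show ∀ x : HH, tw x.1.b.1 ∧ tw x.1.b.2.1 ∧ tw x.1.b.2.2 →
    tw x⁻¹.1.b.1 ∧ tw x⁻¹.1.b.2.1 ∧ tw x⁻¹.1.b.2.2 by decide +kernel) x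

instance : DecidablePred (· ∈ KK) := fun x =>
  inferInstanceAs (Decidable (tw x.1.b.1 ∧ tw x.1.b.2.1 ∧ tw x.1.b.2.2))

/-- transversal -/
def tS (i : Fin 8) : HH := hd (![0, 21, 111, 126, 651, 666, 756, 777] i)

/-- transversal -/
def tE (i : Fin 6) : HH := hd (![0, 111, 216, 237, 432, 453] i)

/-- transversal -/
def tK (i : Fin 27) : HH := hd (36 * (i / 9) + 6 * (i / 3 % 3) + i % 3)

/-- table -/
def s11 : Fin 14 → ℤ√3 := ![8, 0, 0, 0, -1, -4, 0, 0, 0, 0, -1, 2, 2, -1]

/-- table -/
def s12 : Fin 14 → ℤ√3 := ![8, 0, 0, 0, -1, -4, 0, 0, 0, 0, 2, -1, 2, -1]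

/-- table -/
def s10 : Fin 14 → ℤ√3 := ![8, 0, 0, 0, 2, -4, 0, 0, 0, 0, -1, -1, 2, -1]

/-- table -/
def s01 : Fin 14 → ℤ√3 := ![8, 0, 0, 0, -1, 8, 0, 0, 0, 0, -1, -1, 8, 8]

/-- table -/
def e10 : Fin 14 → ℤ√3 := ![6, 2, 2, 0, 0, 3, -1, 0, -1, -1, 0, 0, 0, -3]

/-- table -/
def e11 : Fin 14 → ℤ√3 := ![6, -2, 0, 0, 0, 3, 1, 0, ⟨0, -1⟩, ⟨0, 1⟩, 0, 0, 0, -3]

/-- table -/
def e13 : Fin 14 → ℤ√3 := ![6, -2, 0, 0, 0, 3, 1, 0, ⟨0, 1⟩, ⟨0, -1⟩, 0, 0, 0, -3]

/-- table -/
def e00 : Fin 14 → ℤ√3 := ![6, 2, 2, 0, 0, 6, 2, 0, 2, 2, 0, 0, 6, 6]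

/-- table -/
def e01 : Fin 14 → ℤ√3 := ![6, -2, 0, 0, 0, 6, -2, 0, 0, 0, 0, 0, 6, 6]

/-- table -/
def kk : Fin 14 → ℤ√3 := ![27, 3, 3, 3, 3, 0, 0, 0, 0, 0, 0, 0, 0, 0]

/-- table -/
def c3 : Fin 14 → ℤ√3 := ![3, -1, -1, 1, 0, 3, -1, 1, -1, -1, 0, 0, 3, 3]

theorem igS : IG s11 ∧ IG s12 ∧ IG s10 ∧ IG s01 := by
  have h1 : ∀ i j, (tS i)⁻¹ * tS j ∈ SS → i = j := by decide +kernel
  have h2 : 8 * Fintype.card SS = 648 := by decide +kernel
  exact ⟨mono SS _ (nS_mul 1 1) tS h1 h2 (by decide +kernel),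
    mono SS _ (nS_mul 1 2) tS h1 h2 (by decide +kernel),
    mono SS _ (nS_mul 1 0) tS h1 h2 (by decide +kernel),
    mono SS _ (nS_mul 0 1) tS h1 h2 (by decide +kernel)⟩

theorem igE : IG e10 ∧ IG e11 ∧ IG e13 ∧ IG e00 ∧ IG e01 := by
  have h1 : ∀ i j, (tE i)⁻¹ * tE j ∈ CE → i = j := by decide +kernel
  have h2 : 6 * Fintype.card CE = 648 := by decide +kernel
  exact ⟨mono CE _ (nE_mul 1 0) tE h1 h2 (by decide +kernel),
    mono CE _ (nE_mul 1 1) tE h1 h2 (by decide +kernel),
    mono CE _ (nE_mul 1 3) tE h1 h2 (by decide +kernel),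
    mono CE _ (nE_mul 0 0) tE h1 h2 (by decide +kernel),
    mono CE _ (nE_mul 0 1) tE h1 h2 (by decide +kernel)⟩

theorem igK : IG kk := mono KK (fun _ => 0) (fun _ _ _ _ => rfl) tK (by decide +kernel)
  (by decide +kernel) (by decide +kernel)

theorem ig3 : IG c3 := by
  obtain ⟨-, -, -, h1⟩ := igS
  obtain ⟨-, -, -, h2, h3⟩ := igE
  rw [show c3 = s01 + 1 - e00 by decide]
  exact (h1.add ig_one).sub h2

/-- the six virtual characters -/
def fam : Fin 6 → Fin 14 → ℤ√3 := ![![0, 0, 0, 0, 0, 0, 0, 0, ⟨0, 2⟩, ⟨0, -2⟩, 0, 0, 0, 0],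
  ![0, 0, 0, 0, 0, -9, -3, 0, ⟨0, 1⟩, ⟨0, -1⟩, 0, 3, 0, 0],
  ![0, 0, 0, 0, 0, 0, 0, 0, 0, 0, -3, 3, 0, 0],
  ![0, 0, 0, 0, 0, -3, 3, 0, ⟨0, -1⟩, ⟨0, 1⟩, 0, 0, -6, -9],
  ![0, 0, 0, 0, 0, -9, 3, 0, 3, 3, 0, 3, 0, 0],
  ![0, 0, 0, 0, 0, 0, 0, 3, 0, 0, 0, 3, 9, 0]]

theorem ig_fam (i : Fin 6) : IG (fam i) := by
  obtain ⟨a1, a2, a3, a4⟩ := igS
  obtain ⟨b1, b2, b3, b4, b5⟩ := igE
  have e : fam = ![e13 - e11, s11 - (s01 - e01) - e11, s11 - s12, e11 - e01, 1 + s11 - c3 - e10,
    1 + s11 + c3 - (kk - 1 - e10 - s10)] := by decide +kernel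
  rw [e]
  fin_cases i
  exacts [b3.sub b2, (a1.sub (a4.sub b5)).sub b2, a1.sub a2, b2.sub b5,
    ((ig_one.add a1).sub ig3).sub b1, ((ig_one.add a1).add ig3).sub (((igK.sub ig_one).sub b1).sub a3)]

theorem sum_cl {A : Type*} [AddCommMonoid A] (f : Fin 14 → A) : ∑ x, f (cl x) = ∑ k, sz k • f k := by
  rw [← Finset.sum_fiberwise (s := Finset.univ) (g := cl)]
  refine Finset.sum_congr rfl fun k _ => ?_
  rw [Finset.sum_congr rfl (g := fun _ => f k) fun x hx => by rw [(Finset.mem_filter.1 hx).2],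
    Finset.sum_const, card_cl]

theorem inner_val {v w : Fin 14 → ℤ√3} {n : ℤ} (h : ∑ k, sz k • (v k * w k) = 648 * n) :
    classInner (val v) (val w) = n := by
  rw [classInner_def, inv_mul_eq_iff_eq_mul₀ (card_ne_zero HH), Nat.card_eq_fintype_card, hh_card]
  simp only [val, conj_em, ← map_mul]
  rw [← map_sum, sum_cl fun k => v k * w k, h]
  simp [map_ofNat]

theorem gram : ∀ i j, ∑ k, sz k • (fam i k * fam j k) = 648 * (!![2, 1, 0, -1, 0, 0;
    1, 3, 1, -1, 1, 1; 0, 1, 2, 0, 1, 1; -1, -1, 0, 3, 1, -1; 0, 1, 1, 1, 4, 1;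
    0, 1, 1, -1, 1, 4] i j : ℤ) := by decide +kernel

theorem gram1 : ∀ i, ∑ k, sz k • (fam i k * (1 : Fin 14 → ℤ√3) k) =
    648 * (![0, 0, 0, 0, 1, 1] i : ℤ) := by decide +kernel

theorem pairs : ∀ i, (∑ b with cl b = 1, fam i (cl (ht * b)) = ![0, -72, 0, 0, 0, 36] i) ∧
    (∑ b with cl b = 3, fam i (cl (ht * b)) = ![0, 0, 0, 0, 72, 36] i) ∧
    ∑ b with cl b = 3, fam i (cl (hr * b)) = ![0, 0, 0, -36, 36, 54] i := by decide +kernel

end Cfsg.Agent.H12.L3
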