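import Mathlib
import Cfsg.Agent.H12.L3BMod
import Cfsg.Agent.H12.L3BLat

/-! If `3³ : S₄` controls the centralisers of the elements of `3³`, then `3³` is strongly closed. -/

set_option autoImplicit false
set_option synthInstance.maxSize 2048
set_option linter.unusedSectionVars false
set_option linter.constructorNameAsVariable false

namespace Cfsg.Agent.H12.L3

open Subgroup Cfsg Cfsg.Agent.H93.Hay Cfsg.Agent.H11 Cfsg.Agent.H20.SC Cfsg.Agent.H64.Br
  Cfsg.Agent.H8 Cfsg.Agent.H57 Cfsg.Agent.H63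

variable {G : Type*} [Group G]

section Kit

variable [Fintype G] {W : Type*} [Group W] [Fintype W] {f : W →* G} {S : W → Prop} {θ η : W → ℂ}

/-- Special classes, weak form. -/
structure TIW (f : W →* G) (S : W → Prop) : Prop where
  inj : Function.Injective f
  ti : ∀ g x y, S x → S y → g * f x * g⁻¹ = f y → g ∈ f.range
  inv : ∀ x, S x → S x⁻¹

namespace TIW

variable (h : TIW f S)
include h

theorem tis : TIS f fun _ => False := ⟨h.inj, fun _ _ h => h.elim⟩

theorem apply (hθ : Sup S θ) {w : W} (hw : S w) : h.tis.ind θ (f w) = θ w := by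
  have := H14.indFun_eq_self_of_conj f.range
    (ψ := fun x => θ ((MonoidHom.ofInjective h.inj).symm x))
    (isClassFunction_comp hθ.cl (MonoidHom.ofInjective h.inj).symm.toMonoidHom) ⟨f w, mem_rg f w⟩
    fun x hx hx' => hθ.zero _ fun hs => hx (h.ti x w _ hw hs
      (MonoidHom.apply_ofInjective_symm h.inj ⟨_, hx'⟩).symm)
  rwa [h.tis.symm_apply] at this

theorem eq_zero (hθ : Sup S θ) (hS : ∀ w, S w → w * w ≠ 1) {g : G} (hg : g * g = 1) :
    h.tis.ind θ g = 0 :=
  H14.indFun_eq_zero_of_forall _ _ _ fun x hx => hθ.zero _ fun hs => hS _ hs (h.inj (by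
    rw [map_mul, MonoidHom.apply_ofInjective_symm h.inj ⟨_, hx⟩, conj_mul, hg, map_one]; simp))

theorem inner (hθ : Sup S θ) (hη : Sup S η) :
    classInner (h.tis.ind θ) (h.tis.ind η) = classInner θ η := by
  rw [h.tis.inner_left θ (h.tis.cl η), classInner_def, classInner_def]
  congr 1
  refine Finset.sum_congr rfl fun w _ => ?_
  by_cases hw : S w
  · rw [h.apply hη hw]
  · rw [hθ.zero w hw, zero_mul, zero_mul]

open Classical in
theorem invol_sum (hθ : Sup S θ) {u v : G} (hu : u * u = 1) (hv : v * v = 1) :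
    ∑ x : G, ∑ y : G, h.tis.ind θ (x * u * x⁻¹ * (y * v * y⁻¹)) =
      (Nat.card G : ℂ) / Nat.card W * Nat.card (centralizer ({u} : Set G)) *
        Nat.card (centralizer ({v} : Set G)) *
        ∑ a with IsConj u (f a), ∑ b with IsConj v (f b), θ (a * b) := by
  let e := MonoidHom.ofInjective h.inj
  let E := extendByZero f.range fun x => θ (e.symm x)
  have h1 : ∀ k : G, ∑ x : G, ∑ y : G, E (k * (x * u * x⁻¹ * (y * v * y⁻¹)) * k⁻¹) =
      ∑ x : G, ∑ y : G, E (x * u * x⁻¹ * (y * v * y⁻¹)) := fun k => by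
    rw [← Equiv.sum_comp (Equiv.mulLeft k) fun x => ∑ y : G, E (x * u * x⁻¹ * (y * v * y⁻¹))]
    refine Finset.sum_congr rfl fun x _ => ?_
    rw [← Equiv.sum_comp (Equiv.mulLeft k)
      fun y => E (Equiv.mulLeft k x * u * (Equiv.mulLeft k x)⁻¹ * (y * v * y⁻¹))]
    refine Finset.sum_congr rfl fun y _ => ?_
    congr 1; simp only [Equiv.coe_mulLeft]; group
  have h2 : ∑ x : G, ∑ y : G, h.tis.ind θ (x * u * x⁻¹ * (y * v * y⁻¹)) =
      (Nat.card W : ℂ)⁻¹ * (Nat.card G * ∑ x : G, ∑ y : G, E (x * u * x⁻¹ * (y * v * y⁻¹))) := by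
    simp only [TIS.ind, H14.indFun_apply', ← Finset.mul_sum]
    rw [← Nat.card_congr e.toEquiv]
    congr 1
    rw [Finset.sum_congr rfl fun x _ => Finset.sum_comm, Finset.sum_comm]
    simp only [E, e] at h1
    simp only [h1, Finset.sum_const, Finset.card_univ, nsmul_eq_mul, Nat.card_eq_fintype_card, E, e]
  have h3 : ∀ (t : G) (F : G → ℂ), (∀ a, a ∉ f.range → IsConj t a → F a = 0) →
      ∑ a with IsConj t a, F a = ∑ a with IsConj t (f a), F (f a) := fun t F hF => by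
    rw [← Finset.sum_filter_add_sum_filter_not _ (· ∈ f.range),
      Finset.sum_eq_zero (s := Finset.filter (fun a => ¬ a ∈ f.range) _) fun a ha => hF a
        (Finset.mem_filter.1 ha).2 (Finset.mem_filter.1 (Finset.mem_filter.1 ha).1).2, add_zero]
    refine (Finset.sum_bij (fun a _ => f a) (fun a ha => ?_) (fun a _ b _ e => h.inj e)
      (fun b hb => ?_) fun _ _ => rfl).symm
    · simpa using ha
    · obtain ⟨h4, a, rfl⟩ := Finset.mem_filter.1 hb
      exact ⟨a, by simpa using h4, rfl⟩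
  have sq : ∀ {t a : G}, t * t = 1 → IsConj t a → a * a = 1 := fun ht hc => by
    obtain ⟨x, rfl⟩ := isConj_iff.1 hc
    rw [conj_mul, ht]; simp
  have h5 : ∀ w, E (f w) = θ w := fun w => (H14.extendByZero_of_mem _ _ (mem_rg f w)).trans
    (congrArg θ (h.tis.symm_apply _ _))
  have h4 : ∀ a, IsConj u a → ∀ b, IsConj v b → a ∉ f.range → E (a * b) = 0 := by
    intro a ha b hb h6
    by_cases h7 : a * b ∈ f.range
    · obtain ⟨w, hw⟩ := h7
      rw [← hw, h5]
      refine hθ.zero w fun hs => h6 (h.ti a w w⁻¹ hs (h.inv w hs) ?_)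
      rw [map_inv, hw, ← mul_assoc, sq hu ha, one_mul, mul_inv_rev,
        inv_eq_of_mul_eq_one_right (sq hv hb)]
    · exact H14.extendByZero_of_not_mem _ _ h7
  rw [h2, H20.sum_conj_eq u fun a => ∑ y : G, E (a * (y * v * y⁻¹))]
  rw [Finset.sum_congr rfl fun a _ => H20.sum_conj_eq v fun b => E (a * b), ← Finset.mul_sum]
  rw [h3 u _ fun a ha hc => Finset.sum_eq_zero fun b hb => h4 a hc b (Finset.mem_filter.1 hb).2 ha]
  rw [Finset.sum_congr rfl fun a _ => h3 v (fun b => E (f a * b)) fun b hb _ =>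
    H14.extendByZero_of_not_mem _ _ fun h5 => hb ((mul_mem_cancel_left (mem_rg f a)).1 h5)]
  simp only [← map_mul, h5]
  ring

end TIW

/-- evaluation -/
def ev (g : G) : VC G →+ ℂ := AddMonoidHom.mk' (fun v => v.1 g) fun _ _ => rfl

/-- class algebra sum -/
noncomputable def cs (a b : G) : VC G →+ ℂ :=
  AddMonoidHom.mk' (fun v => (∑ x, ∑ y, v.1 (x * a * x⁻¹ * (y * b * y⁻¹))) / (Nat.card G : ℂ) ^ 2)
    fun _ _ => by simp only [AddSubgroup.coe_add, Pi.add_apply, Finset.sum_add_distrib, add_div]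

theorem cs_unit (a b : G) (x : VC G) (hx : BV G x x = 1) : cs a b x = ev a x * ev b x / ev 1 x :=
  (div_eq_iff (pow_ne_zero 2 (card_ne_zero G))).2
    ((sgn_sum (H20.T27.sgn_of hx) a b).trans (mul_comm _ _))

/-- The data of two elements. -/
noncomputable def dat (a b : G) : Dat (BV G) :=
  ⟨ev 1, ev a, ev b, cs a a, cs a b, cs b b, fun _ hx => (H20.T27.sgn_of hx).apply_one_ne_zero,
    cs_unit a a, cs_unit a b, cs_unit b b⟩

end Kit

/-- the hypothesis -/
structure M5 (φ : HH →* G) : Prop where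
  inj : Function.Injective φ
  ti : ∀ x ∈ JJ, x ≠ 1 → ∀ y ∈ JJ, ∀ g, g * φ x * g⁻¹ = φ y → g ∈ φ.range

/-- the special classes -/
abbrev SD (x : HH) : Prop := (x ^ 4 ∈ JJ ∧ x ^ 4 ≠ 1) ∨ (x ^ 3 ∈ JJ ∧ x ^ 3 ≠ 1)

theorem SD_ne (w : HH) (h : SD w) : w * w ≠ 1 := fun e => by
  have e2 : w ^ 2 = 1 := (sq w).trans e
  rcases h with h | h
  · exact h.2 (by rw [show 4 = 2 * 2 from rfl, pow_mul, e2, one_pow])
  · have := ((jj_iff _).1 h.1).2
    rw [pow_succ w 2, e2, one_mul] at this h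
    rw [pow_succ w 2, e2, one_mul] at this
    exact h.2 this

theorem sup_fam (i : Fin 6) : Sup SD (val (fam i)) :=
  ⟨isClassFunction_of_isGen (ig_fam i), fun x hx => by
    have h : ∀ k, ¬ SD (rep k) → fam i k = 0 := by revert i; decide +kernel
    rw [val, h _ (by rwa [← wit_spec, SD, conj_pow, conj_pow, jj_conj, jj_conj, Ne, Ne,
      conj_eq_one_iff, conj_eq_one_iff]), map_zero]⟩

namespace M5

variable {φ : HH →* G} (h : M5 φ)
include h

theorem tiw : TIW φ SD := by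
  refine ⟨h.inj, fun g x y hx hy e => ?_, fun x hx => by simpa [SD] using hx⟩
  have pw : ∀ n : ℕ, g * φ (x ^ n) * g⁻¹ = φ (y ^ n) := fun n => by
    rw [map_pow, map_pow, ← e, conj_pow]
  have k : ∀ x : HH, x ^ 4 ∈ JJ → x ^ 9 = 1 → x ^ 3 = 1 := fun x h1 h2 => by
    have := ((jj_iff _).1 h1).2
    rwa [← pow_mul, show 4 * 3 = 9 + 3 from rfl, pow_add, h2, one_mul] at this
  have k2 : ∀ x : HH, x ^ 3 ∈ JJ → x ^ 9 = 1 := fun x h1 => by
    rw [show 9 = 3 * 3 from rfl, pow_mul, ((jj_iff _).1 h1).2]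
  rcases hx with hx | hx <;> rcases hy with hy | hy
  · exact h.ti _ hx.1 hx.2 _ hy.1 g (pw 4)
  · refine (hy.2 (h.inj ?_)).elim
    rw [← pw, k x hx.1 (h.inj (conj_eq_one_iff.1 ((pw 9).trans (by rw [k2 y hy.1, map_one])) |>.trans
      (map_one φ).symm))]
    simp
  · refine (hx.2 (h.inj (conj_eq_one_iff.1 ((pw 3).trans ?_) |>.trans (map_one φ).symm))).elim
    rw [k y hy.1 (h.inj (by rw [← pw, k2 x hx.1]; simp)), map_one]
  · exact h.ti _ hx.1 hx.2 _ hy.1 g (pw 3)

variable [Finite G]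

theorem nc : ¬ IsConj (φ ht) (φ hr) := fun hg => by
  obtain ⟨g, hg⟩ := isConj_iff.1 hg
  obtain ⟨j, hj, j1, c, hq⟩ := rho_cent hr (by decide) (by decide)
  have j3 := ((jj_iff j).1 hj).2
  have hz : zpowers (φ j) ≤ JJ.map φ := zpowers_le.2 ⟨j, hj, rfl⟩
  have hs : IsSylowIn 3 (zpowers (φ j)) C1[φ hr] := by
    refine syl_of (isPGroup_zpowers_of_pow (by rw [← map_pow, j3, map_one])) (zpowers_le.2 (by
      rw [mem_centralizer_singleton_iff, ← map_mul, ← map_mul, c])) fun n hn hN ⟨k, h3⟩ => ?_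
    obtain ⟨y, hy, e⟩ := hz ((mem_normalizer_iff.1 hN _).1 (mem_zpowers _))
    obtain ⟨q, rfl⟩ := h.ti j hj j1 y hy n e.symm
    rcases hq q (h.inj (by rw [map_mul, map_mul, mem_centralizer_singleton_iff.1 hn]))
      (nine_of_pow (k := k) (h.inj (by rw [map_pow, h3, map_one]))) with rfl | rfl | rfl
    · rw [map_one]; exact one_mem _
    · exact mem_zpowers _
    · rw [map_pow]; exact pow_mem (mem_zpowers _) _
  obtain ⟨l, hl, hm⟩ := syl_conj hs (y := g * φ hc * g⁻¹) (by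
    rw [mem_centralizer_singleton_iff, ← hg, conj_mul, conj_mul, ← map_mul, ← map_mul,
      show hc * ht = ht * hc by decide]) ⟨1, by
    rw [conj_pow, ← map_pow, show hc ^ 3 ^ 1 = 1 by decide]; simp⟩
  obtain ⟨y, hy, e⟩ := hz hm
  obtain ⟨w, hw⟩ := h.ti hc (by decide) (by decide) y hy (l * g) (by rw [e]; group)
  have e : φ (w * ht * w⁻¹) = φ hr := by
    rw [map_mul, map_mul, map_inv, hw]
    calc _ = l * (g * φ ht * g⁻¹) * l⁻¹ := by group
      _ = _ := by rw [hg, mem_centralizer_singleton_iff.1 hl, mul_inv_cancel_right]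
  have := congrArg pr (h.inj e)
  rw [map_mul, map_mul, show pr ht = 1 from rfl, mul_one, map_inv, mul_inv_cancel] at this
  exact absurd this (by decide)

theorem conj_iff {k : Fin 14} (hk : k = 1 ∨ k = 3) (a : HH) : IsConj (φ (rep k)) (φ a) ↔ cl a = k := by
  have c : IsConj (φ a) (φ (rep (cl a))) := φ.map_isConj (isConj_iff.2 ⟨_, wit_spec a⟩)
  refine ⟨fun hc => ?_, fun e => e ▸ c.symm⟩
  obtain ⟨g, hg⟩ := isConj_iff.1 (hc.trans c)
  have h1 : ∀ k, (k = 1 ∨ k = 3) ↔ rep k * rep k = 1 ∧ rep k ≠ 1 := by decide +kernel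
  have h2 := (h1 (cl a)).2 ⟨h.inj (by
    rw [map_mul, ← hg, conj_mul, ← map_mul, ((h1 k).1 hk).1]; simp), fun e => ((h1 k).1 hk).2 (h.inj (by
    rwa [e, map_one, conj_eq_one_iff, ← map_one φ] at hg))⟩
  have e1 : rep 1 = ht := by decide
  have e3 : rep 3 = hr := by decide
  have h3 := hc.trans c
  rcases hk with rfl | rfl <;> rcases h2 with e | e <;> rw [e] at h3 ⊢
  exacts [(h.nc (e1 ▸ e3 ▸ h3)).elim, (h.nc (e1 ▸ e3 ▸ h3.symm)).elim]

open Classical in
theorem dbl {k l : Fin 14} (hk : k = 1 ∨ k = 3) (hl : l = 1 ∨ l = 3) (i : Fin 6) :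
    ∑ a with IsConj (φ (rep k)) (φ a), ∑ b with IsConj (φ (rep l)) (φ b), val (fam i) (a * b) =
      sz k * em (∑ b with cl b = l, fam i (cl (rep k * b))) := by
  rw [Finset.sum_congr rfl (g := fun _ => ∑ b with IsConj (φ (rep l)) (φ b), val (fam i) (rep k * b))]
  · simp only [h.conj_iff hk, h.conj_iff hl, Finset.sum_const, card_cl, nsmul_eq_mul, map_sum, val]
  intro a ha
  rw [Finset.mem_filter] at ha
  obtain ⟨w, hw⟩ : ∃ w, w * a * w⁻¹ = rep k :=
    ⟨_, (wit_spec a).trans (congrArg rep ((h.conj_iff hk a).1 ha.2))⟩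
  rw [← hw]
  refine Finset.sum_equiv (MulAut.conj w).toEquiv (fun b => ?_) fun b _ => ?_
  · have c : IsConj (φ b) (φ (w * b * w⁻¹)) := φ.map_isConj (isConj_iff.2 ⟨_, rfl⟩)
    rw [Finset.mem_filter, Finset.mem_filter]
    exact and_congr (by simp) ⟨fun e => e.trans c, fun e => e.trans c.symm⟩
  · exact ((sup_fam i).cl _ w).symm.trans (congrArg _ (conj_mul (b := w)).symm)

set_option maxHeartbeats 800000 in
theorem exists_irr : ∃ χ, IsIrrCharacter G χ ∧ (∃ n : ℕ, n ≤ 3 ∧ χ 1 = n) ∧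
    classInner (val (fam 4)) (fun y => χ (φ y)) = -1 := by
  have := Fintype.ofFinite G
  have T := h.tiw
  let X : Fin 6 → VC G := fun i => ⟨T.tis.ind (val (fam i)), T.tis.isGen (ig_fam i)⟩
  let o := H20.T27.one G
  have oo : BV G o o = 1 := H20.T27.one_one
  have g1 : ∀ i j, BV G (X i) (X j) = _ := fun i j =>
    (BV_eq_iff _ _ _).2 ((T.inner (sup_fam i) (sup_fam j)).trans (inner_val (gram i j)))
  have v1 : val 1 = fun _ => 1 := funext fun x => by simp [val]
  have g2 : ∀ i, BV G (X i) o = _ := fun i =>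
    (BV_eq_iff _ _ _).2 ((T.tis.inner_one _).trans (v1 ▸ inner_val (gram1 i)))
  have g3 : ∀ i, BV G o (X i) = _ := fun i => (lat_BV.symm _ _).trans (g2 i)
  have e1 : rep 1 = ht := by decide
  have e3 : rep 3 = hr := by decide
  have u2 : φ ht * φ ht = 1 := by rw [← map_mul, show ht * ht = 1 by decide, map_one]
  have t2 : φ hr * φ hr = 1 := by rw [← map_mul, show hr * hr = 1 by decide, map_one]
  have cv : ∀ {k l : Fin 14}, k = 1 ∨ k = 3 → l = 1 ∨ l = 3 → φ (rep k) * φ (rep k) = 1 →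
      φ (rep l) * φ (rep l) = 1 → ∀ i, cs (φ (rep k)) (φ (rep l)) (X i) =
      lam HH (φ (rep k)) (φ (rep l)) * (sz k * em (∑ b with cl b = l, fam i (cl (rep k * b)))) :=
    fun hk hl a2 b2 i => by
      rw [← h.dbl hk hl i]
      refine (div_eq_iff (pow_ne_zero 2 (card_ne_zero G))).2
        ((T.invol_sum (sup_fam i) a2 b2).trans ?_)
      have := card_ne_zero G
      have := card_ne_zero HH
      rw [lam]; field_simp; congr!
  have c1 := cv (.inl rfl) (.inl rfl) (e1 ▸ u2) (e1 ▸ u2)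
  have c2 := cv (.inl rfl) (.inr rfl) (e1 ▸ u2) (e3 ▸ t2)
  have c3' := cv (.inr rfl) (.inr rfl) (e3 ▸ t2) (e3 ▸ t2)
  simp only [e1, e3, fun i => (pairs i).1, fun i => (pairs i).2.1, fun i => (pairs i).2.2] at c1 c2 c3'
  obtain ⟨E, Ed, Eo, El⟩ := (dat (φ ht) (φ hr)).norm (l := lam HH (φ ht) (φ ht) * 648)
    (m := lam HH (φ ht) (φ hr) * 648) (n := lam HH (φ hr) (φ hr) * 648)
    (mul_ne_zero (lam_ne_zero _ _) (by norm_num)) (mul_ne_zero (lam_ne_zero _ _) (by norm_num))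
    (by simp only [lam]; ring)
  have L : ∀ i a b c, 27 * em (![0, -72, 0, 0, 0, 36] i) = 648 * a →
      27 * em (![0, 0, 0, 0, 72, 36] i) = 648 * b → 54 * em (![0, 0, 0, -36, 36, 54] i) = 648 * c →
      E.Loc (X i) a b c := fun i a b c ha hb hc => El _ _ _ _
    ⟨T.eq_zero (sup_fam i) SD_ne (mul_one 1), T.eq_zero (sup_fam i) SD_ne u2,
      T.eq_zero (sup_fam i) SD_ne t2, (c1 i).trans (by rw [mul_assoc, ← ha]; rfl),
      (c2 i).trans (by rw [mul_assoc, ← hb]; rfl), (c3' i).trans (by rw [mul_assoc, ← hc]; rfl)⟩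
  obtain ⟨x, xx, hP, hd⟩ := lat9 lat_BV E (o := o) (b0 := X 0) (b1 := X 1) (b2 := X 2) (b3 := X 3)
    (P := X 4 - o) (R := X 5 - o) oo (by rw [Ed]; rfl) (Eo o rfl rfl rfl).1 (Eo o rfl rfl rfl).2
    (L 0 _ _ _ (by simp) (by simp) (by simp)) (L 1 _ _ _ (by simp [map_ofNat]; norm_num) (by simp) (by simp))
    (L 2 _ _ _ (by simp) (by simp) (by simp)) (L 3 _ _ _ (by simp) (by simp) (by simp [map_ofNat]; norm_num))
    (by rw [add_sub_cancel]; exact L 4 _ _ _ (by simp) (by simp [map_ofNat]; norm_num) (by simp [map_ofNat]; norm_num))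
    (by rw [add_sub_cancel]; exact L 5 _ _ _ (by simp [map_ofNat]; norm_num) (by simp [map_ofNat]; norm_num)
          (by simp [map_ofNat]; norm_num))
    (by simp [g1]) (by simp [g1]) (by simp [g1]) (by simp [g1]) (by simp [g1, g2, g3, oo])
    (by simp [g1, g2, g3, oo]) (by simp [g1]) (by simp [g1]) (by simp [g1]) (by simp [g1])
    (by simp [g1]) (by simp [g1]) (by simp [g1, g3]) (by simp [g1, g3]) (by simp [g1, g3])
    (by simp [g1, g3]) (by simp [g1, g3]) (by simp [g1, g3]) (by simp [g1, g3]) (by simp [g1, g3])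
    (by simp [g1, g2, g3, oo])
  have Po : BV G (X 4 - o) o = 0 := by simp [g2, oo]
  have ox : BV G o x = 0 := by
    rcases unit_cases lat_BV oo xx with e | e | e
    · exact e
    · rw [← e, Po] at hP; omega
    · rw [← neg_neg x, ← e, map_neg, Po] at hP; omega
  have hx : BV G (X 4) (-x) = -1 := by
    rw [map_sub, LinearMap.sub_apply, ox] at hP
    rw [map_neg]; omega
  rw [Ed] at hd
  obtain ⟨n, n3, hn⟩ : ∃ n : ℕ, n ≤ 3 ∧ (-x).1 1 = n := by
    rcases hd with e | e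
    exacts [⟨1, by omega, neg_eq_iff_eq_neg.2 (e.trans (by simp))⟩,
      ⟨3, le_rfl, neg_eq_iff_eq_neg.2 (e.trans (by simp))⟩]
  have hχ : IsIrrCharacter G (-x).1 := isIrrCharacter_of_isGen (-x).2
    (H20.T27.sgn_of (ng xx)).2 (by rw [hn]; simp)
  exact ⟨_, hχ, ⟨n, n3, hn⟩, by simpa using
    (T.tis.inner_left _ (isClassFunction_of_irr hχ)).symm.trans ((BV_eq_iff _ _ _).1 hx)⟩

theorem beta : ¬ IsConj (φ hz) (φ hs) := fun hc => by
  have := Fintype.ofFinite G
  obtain ⟨χ, hχ, ⟨n, n3, hn⟩, i4⟩ := h.exists_irr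
  have v1 : val 1 = fun _ => 1 := funext fun x => by simp [val]
  have hψ := isCharacter_comp (isCharacter_of_irr hχ) φ
  have c0 : cl 1 = 0 := by decide
  have irr : ∀ {w}, IG w → ∑ k, sz k • (w k * w k) = 648 * (1 : ℤ) → ∀ d : ℕ, w 0 = d →
      IsIrrCharacter HH (val w) ∧ val w 1 = d := fun hw e d hd => by
    have : val _ 1 = d := (congrArg em (c0 ▸ hd)).trans (map_natCast em d)
    exact ⟨isIrrCharacter_of_isGen hw (by simpa using inner_val e) (by rw [this]; simp), this⟩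
  obtain ⟨a1, -⟩ := irr igS.1 (by decide +kernel) 8 rfl
  obtain ⟨a2, d2⟩ := irr ig3 (by decide +kernel) 3 rfl
  obtain ⟨a3, d3⟩ := irr igE.1 (by decide +kernel) 6 rfl
  have e4 : val (fam 4) = val 1 + val s11 - val c3 - val e10 := funext fun y => by
    simp [val, show fam 4 = 1 + s11 - c3 - e10 by decide]
  have cm : ∀ {w}, IG w → classInner (val w) (fun y => χ (φ y)) =
      classInner (fun y => χ (φ y)) (val w) := fun hw =>
    classInner_comm_of_isGen hw (isGen_of_isCharacter hψ)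
  obtain ⟨m0, h0⟩ := exists_nat_classInner hψ (isCharacter_of_irr isIrrCharacter_one)
  obtain ⟨m1, h1⟩ := exists_nat_classInner hψ (isCharacter_of_irr a1)
  have ψ1 : χ (φ 1) = n := by rw [map_one, hn]
  have h3 : classInner (fun y => χ (φ y)) (val e10) = 0 := by
    by_contra h3
    have := degree_le_of_classInner_ne_zero hψ a3 h3 d3 ψ1
    omega
  have h2 : classInner (fun y => χ (φ y)) (val c3) ≠ 0 := fun h2 => by
    rw [e4, classInner_sub_left, classInner_sub_left, classInner_add_left, cm ig_one, cm igS.1, cm ig3,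
      cm igE.1, v1, h0, h1, h2, h3] at i4
    have : ((m0 + m1 + 1 : ℕ) : ℂ) = 0 := by push_cast at i4 ⊢; linear_combination i4
    exact absurd (Nat.cast_eq_zero.1 this) (by omega)
  have h4 := degree_le_of_classInner_ne_zero hψ a2 h2 d2 ψ1
  have h5 := eq_of_classInner_ne_zero_of_degree_eq hψ a2 h2 (by
    rw [d2, ψ1, le_antisymm n3 h4])
  obtain ⟨g, hg⟩ := isConj_iff.1 hc
  have h6 := isClassFunction_of_irr hχ (φ hz) g
  rw [hg, congrFun h5 hs, congrFun h5 hz, val, val, show c3 (cl hs) = 0 by decide,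
    show c3 (cl hz) = 3 by decide, map_zero, map_ofNat] at h6
  norm_num at h6

/-- The second case. -/
theorem top : φ.range = ⊤ := by
  have ce : ∀ x ∈ JJ, x ≠ 1 → C1[φ x] ≤ φ.range := fun x hx x1 g hg =>
    h.ti x hx x1 x hx g (by rw [mem_centralizer_singleton_iff.1 hg, mul_inv_cancel_right])
  have k : ∀ y : HH, y ^ 3 = 1 → y ∉ JJ → IsConj hs y := fun y h1 h2 => by
    have : ∀ k, rep k ^ 3 = 1 → rep k ∉ JJ → rep k = hs := by decide +kernel
    rw [← this (cl y) (by rw [← wit_spec, conj_pow, h1]; simp) (by rwa [← wit_spec, jj_conj])]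
    exact (isConj_iff.2 ⟨_, wit_spec y⟩).symm
  have t3 : ∀ {x y : HH} {g : G}, x ^ 3 = 1 → g * φ x * g⁻¹ = φ y → y ^ 3 = 1 := fun h1 e =>
    h.inj (by rw [map_pow, ← e, conj_pow, ← map_pow, h1]; simp)
  refine M4.top ⟨h.inj, ce, fun x hx g y e => ?_⟩
  by_contra hy
  have x1 : x ≠ 1 := by
    rintro rfl
    exact hy (h.inj (show φ y = φ 1 by rw [← e]; simp) ▸ one_mem _)
  obtain ⟨c, hc⟩ := isConj_iff.1 ((φ.map_isConj (k y (t3 ((jj_iff x).1 hx).2 e) hy)).trans
    (isConj_iff.2 ⟨g, e⟩).symm)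
  obtain ⟨z, hz'⟩ := ce x hx x1 (show c * φ hz * c⁻¹ ∈ _ by
    rw [mem_centralizer_singleton_iff, ← hc, conj_mul, conj_mul, ← map_mul, ← map_mul,
      show hz * hs = hs * hz by decide])
  by_cases hj : z ∈ JJ
  · obtain ⟨w, rfl⟩ := h.ti hz (by decide) (by decide) z hj c hz'.symm
    rw [← map_inv, ← map_mul, ← map_mul] at hc
    exact absurd ((jj_conj _ _).1 (h.inj hc ▸ hx)) (by decide)
  · exact h.beta ((isConj_iff.2 ⟨c, hz'.symm⟩).trans
      (φ.map_isConj (k z (t3 (by decide) hz'.symm) hj)).symm)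

end M5

end Cfsg.Agent.H12.L3
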