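import Cfsg.Agent.H93.Hayden
import Cfsg.Agent.S3347
import Cfsg.Agent.H63.QuoCore
import Cfsg.Agent.S0542

/-! Special classes through a finite model of a subgroup; a corollary of Smith–Tyrer. -/

set_option autoImplicit false
set_option linter.unusedSectionVars false

namespace Cfsg.Agent.H12.L3

open Subgroup Cfsg

variable {G : Type*} [Group G]

/-- Smith–Tyrer for the normal closure of an involution. -/
theorem st_normal [Finite G] (P : Sylow 3 G) (hab : IsMulCommutative (P : Subgroup G))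
    (hO : pPrimeCore 3 G = ⊥) {t : G} (ht : t * t = 1) (htP : t ∈ normalizer ((P : Subgroup G) : Set G))
    (hnc : ¬ IsCyclic ↥((P : Subgroup G) ⊓ normalClosure {t}))
    (hmv : ∃ s ∈ (P : Subgroup G) ⊓ normalClosure {t}, t * s * t⁻¹ ≠ s)
    (hN : ∀ g ∈ normalClosure {t},
      g ∈ normalizer (((P : Subgroup G) ⊓ normalClosure {t} : Subgroup G) : Set G) →
      g ∈ (P : Subgroup G) ∨ g * t ∈ (P : Subgroup G)) :
    ((P : Subgroup G) ⊓ normalClosure {t}).Normal := by
  haveI : Fact (Nat.Prime 3) := ⟨Nat.prime_three⟩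
  set K := normalClosure ({t} : Set G) with hK
  have tK : t ∈ K := subset_normalClosure rfl
  obtain ⟨Q, hQ⟩ := S0542.result 3 K (Normal.isSubnormal inferInstance) P
  have mQ : ∀ x : K, x ∈ (Q : Subgroup K) ↔ (x : G) ∈ (P : Subgroup G) := fun x => by
    rw [hQ, mem_subgroupOf]
  have hmap : (Q : Subgroup K).map K.subtype = (P : Subgroup G) ⊓ K := by
    rw [hQ, subgroupOf_map_subtype]
  have cP : ∀ a ∈ (P : Subgroup G), ∀ b ∈ (P : Subgroup G), a * b = b * a := fun a ha b hb =>
    congrArg Subtype.val (hab.1.1 (⟨a, ha⟩ : (P : Subgroup G)) ⟨b, hb⟩)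
  have hQab : IsMulCommutative (Q : Subgroup K) := ⟨⟨fun a b => Subtype.ext (Subtype.ext
    (cP _ ((mQ _).1 a.2) _ ((mQ _).1 b.2)))⟩⟩
  have hQnc : ¬ IsCyclic (Q : Subgroup K) := fun hc => hnc (by
    rw [← hmap]
    exact isCyclic_of_surjective _ (K.subtype.subgroupMap_surjective _))
  have tN : (⟨t, tK⟩ : K) ∈ normalizer ((Q : Subgroup K) : Set K) := by
    rw [mem_normalizer_iff]
    intro x
    rw [mQ, mQ]
    exact mem_normalizer_iff.1 htP x
  have cen : ∀ x : K, (x : G) ∈ (P : Subgroup G) → x ∈ centralizer ((Q : Subgroup K) : Set K) :=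
    fun x hx y hy => Subtype.ext (cP _ ((mQ _).1 hy) _ hx)
  have hidx : ((centralizer ((Q : Subgroup K) : Set K)).subgroupOf
      (normalizer ((Q : Subgroup K) : Set K))).index = 2 := by
    refine index_eq_two_iff_exists_notMem_and.2 ⟨⟨_, tN⟩, fun h => ?_, fun b => ?_⟩
    · obtain ⟨s, hs, hne⟩ := hmv
      have := congrArg Subtype.val (mem_subgroupOf.1 h ⟨s, hs.2⟩ ((mQ _).2 hs.1))
      exact hne (mul_inv_eq_iff_eq_mul.2 this.symm)
    · have hb : ((b : K) : G) ∈ normalizer (((P : Subgroup G) ⊓ K : Subgroup G) : Set G) := by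
        rw [← hmap]
        exact le_normalizer_map K.subtype ⟨_, b.2, rfl⟩
      rcases hN _ (b : K).2 hb with h | h
      · exact .inr (mem_subgroupOf.2 (cen _ h))
      · exact .inl (mem_subgroupOf.2 (cen _ h))
  have hres : pResidual 3 K = ⊤ := by
    rw [eq_top_iff]
    rintro ⟨x, hx⟩ -
    induction hx using closure_induction with
    | mem y hy =>
      refine subset_closure ?_
      obtain ⟨a, ha, c⟩ := Group.mem_conjugatesOfSet_iff.1 hy
      obtain rfl : a = t := ha
      obtain ⟨g, rfl⟩ := isConj_iff.1 c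
      have h2 : orderOf (⟨g * a * g⁻¹, subset_closure hy⟩ : K) ∣ 2 :=
        orderOf_dvd_of_pow_eq_one (Subtype.ext (by simp [conj_pow, pow_two, mul_assoc, ← mul_assoc a, ht]))
      exact Nat.Coprime.coprime_dvd_left h2 (by norm_num)
    | one => exact one_mem _
    | mul y z hy hz h1 h2 => exact mul_mem h1 h2
    | inv y hy h1 => exact inv_mem h1
  have hOK : pPrimeCore 3 K = ⊥ := by
    have := H3.map_pPrimeCore_le_pPrimeCore (p := 3) K
    rw [hO, le_bot_iff] at this
    exact (map_eq_bot_iff_of_injective _ K.subtype_injective).1 this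
  rcases S3347.result 3 (by norm_num) Q hQab hQnc hidx with h | h
  · exact absurd hres h
  rw [H63.pLengthLE_one_iff Nat.prime_three, H3.pPrimePCore_eq_pCore hOK] at h
  have hle : pCore 3 K ≤ Q := H3.pCore_le_sylow Q
  have heq : (Q : Subgroup K) = pCore 3 K := by
    refine le_antisymm ?_ hle
    have h1 := relIndex_dvd_index_of_le hle
    obtain ⟨k, hk⟩ := Q.isPGroup'.index ((pCore 3 K).subgroupOf Q)
    have h2 : ((pCore 3 K).relIndex Q).Coprime 3 := Nat.Coprime.coprime_dvd_left h1 h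
    rw [relIndex, hk] at h2
    rcases k with _ | k
    · exact relIndex_eq_one.1 (by simpa using hk)
    · exact absurd (Nat.Coprime.coprime_dvd_left (dvd_pow_self 3 k.succ_ne_zero) h2) (by norm_num)
  rw [← hmap, heq]
  haveI := H3.pCore_characteristic 3 K
  infer_instance

section Kit

variable [Fintype G] {M : Type} [Group M] [Fintype M] {φ : M →* G}

/-- The function on `G` induced from a function on the model. -/
noncomputable def indM (hφ : Function.Injective φ) (θ : M → ℤ) : G → ℂ :=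
  indFun φ.range fun n => (θ ((MonoidHom.ofInjective hφ).symm n) : ℂ)

variable (hφ : Function.Injective φ)

theorem symm_apply (x : M) : (MonoidHom.ofInjective hφ).symm ⟨φ x, x, rfl⟩ = x :=
  (MonoidHom.ofInjective hφ).symm_apply_eq.2 rfl

include hφ in
theorem card_range : Nat.card φ.range = Fintype.card M := by
  rw [← Nat.card_congr (MonoidHom.ofInjective hφ).toEquiv, Nat.card_eq_fintype_card]

theorem indM_gen {θ : M → ℤ} (h : IsGeneralizedCharacter M fun x => (θ x : ℂ)) :
    IsGeneralizedCharacter G (indM hφ θ) :=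
  H14.IsGeneralizedCharacter.indFun _ (H11.isGen_comp h (MonoidHom.ofInjective hφ).symm.toMonoidHom)

theorem indM_one {θ : M → ℤ} {n : ℤ} (h : ∑ x, θ x = n * Fintype.card M) :
    classInner (indM hφ θ) (fun _ => 1) = n := by
  classical
  haveI := Fintype.ofFinite φ.range
  rw [indM, H14.classInner_indFun_left _ _ (fun _ _ => rfl), classInner,
    ← (MonoidHom.ofInjective hφ).toEquiv.sum_comp, card_range hφ]
  have := congrArg (Int.cast : ℤ → ℂ) h
  push_cast at this
  have h0 : (Fintype.card M : ℂ) ≠ 0 := Nat.cast_ne_zero.2 Fintype.card_ne_zero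
  simp only [MulEquiv.toEquiv_eq_coe, EquivLike.coe_coe, MulEquiv.symm_apply_apply, map_one, mul_one,
    this]
  field_simp

variable {D : M → Prop} (hTI : ∀ g x y, D x → g * φ x * g⁻¹ = φ y → g ∈ φ.range)
include hTI

theorem indM_inner {θ ψ : M → ℤ} (hψ : IsGeneralizedCharacter M fun x => (ψ x : ℂ))
    (h1 : ∀ x, ¬ D x → θ x = 0) (h2 : ∀ x, ¬ D x → ψ x = 0) {n : ℤ}
    (h : ∑ x, θ x * ψ x = n * Fintype.card M) : classInner (indM hφ θ) (indM hφ ψ) = n := by
  classical
  haveI := Fintype.ofFinite φ.range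
  have z : ∀ θ : M → ℤ, (∀ x, ¬ D x → θ x = 0) → ∀ x : φ.range, (x : G) ∉ φ '' {x | D x} →
      (θ ((MonoidHom.ofInjective hφ).symm x) : ℂ) = 0 := by
    rintro θ h1 ⟨_, x, rfl⟩ hx
    rw [symm_apply, h1 x fun hD => hx ⟨x, hD, rfl⟩, Int.cast_zero]
  have hc : IsClassFunction φ.range fun n => (ψ ((MonoidHom.ofInjective hφ).symm n) : ℂ) :=
    H11.isClassFunction_of_isGen (H11.isGen_comp hψ (MonoidHom.ofInjective hφ).symm.toMonoidHom)
  rw [indM, indM, H14.classInner_indFun_of_ti φ.range (φ '' {x | D x}) ?_ hc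
    (z θ h1) (z ψ h2), classInner, ← (MonoidHom.ofInjective hφ).toEquiv.sum_comp, card_range hφ]
  · have := congrArg (Int.cast : ℤ → ℂ) h
    push_cast at this
    have h0 : (Fintype.card M : ℂ) ≠ 0 := Nat.cast_ne_zero.2 Fintype.card_ne_zero
    simp only [MulEquiv.toEquiv_eq_coe, EquivLike.coe_coe, MulEquiv.symm_apply_apply, map_intCast,
      this]
    field_simp
  · rintro g hg _ ⟨x, hx, rfl⟩ ⟨y, -, hy⟩
    exact hg (hTI g x y hx hy.symm)

omit hTI in
theorem indM_zero {θ : M → ℤ} (h1 : ∀ x, ¬ D x → θ x = 0) {g : G}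
    (hg : ∀ y x, D x → y * g * y⁻¹ ≠ φ x) : indM hφ θ g = 0 := by
  refine H14.indFun_eq_zero_of_forall _ _ g ?_
  rintro y ⟨x, hx⟩
  have : (⟨y * g * y⁻¹, x, hx⟩ : φ.range) = ⟨φ x, x, rfl⟩ := Subtype.ext hx.symm
  rw [this, symm_apply, h1 x fun hD => hg y x hD hx.symm, Int.cast_zero]

/-- The involution-pair formula. -/
theorem indM_pair {θ : M → ℤ} (h1 : ∀ x, ¬ D x → θ x = 0) {a b : G} (ha : a * a = 1)
    (hb : b * b = 1) {A B : M → Prop} [DecidablePred A] [DecidablePred B]
    (hA : ∀ p, IsConj a (φ p) ↔ A p) (hB : ∀ p, IsConj b (φ p) ↔ B p) {n : ℤ}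
    (h : ∑ p, ∑ q, (if A p ∧ B q then θ (p * q) else 0) = n * Fintype.card M) :
    ∑ x, indM hφ θ (x * a * x⁻¹ * b) = (n : ℂ) * Nat.card (centralizer ({a} : Set G)) *
      Nat.card (centralizer ({b} : Set G)) := by
  classical
  have h0 : (Fintype.card M : ℂ) ≠ 0 := Nat.cast_ne_zero.2 Fintype.card_ne_zero
  set F : G → ℂ := extendByZero φ.range fun n => (θ ((MonoidHom.ofInjective hφ).symm n) : ℂ) with hF
  have F1 : ∀ x, F (φ x) = θ x := fun x => by
    rw [hF, H14.extendByZero_of_mem _ _ (show φ x ∈ φ.range from ⟨x, rfl⟩), symm_apply]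
  have F0 : ∀ p q : G, p * p = 1 → q * q = 1 → F (p * q) ≠ 0 → p ∈ φ.range ∧ q ∈ φ.range := by
    intro p q hp hq h
    have hm : p * q ∈ φ.range := by
      by_contra hm
      exact h (H14.extendByZero_of_not_mem _ _ hm)
    obtain ⟨w, hw⟩ := hm
    rw [← hw, F1] at h
    have hD : D w := by
      by_contra hD
      exact h (by rw [h1 w hD, Int.cast_zero])
    have pN := hTI p w w⁻¹ hD (by rw [map_inv, hw]; exact H9.left_inverts_mul hp hq)
    exact ⟨pN, (mul_mem_cancel_left pN).1 ⟨w, hw⟩⟩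
  have cnt : ∀ (a : G) (f : G → ℂ), ∑ x, f (x * a * x⁻¹) =
      Nat.card (centralizer ({a} : Set G)) * ∑ p, if IsConj a p then f p else 0 := by
    intro a f
    rw [← Finset.sum_fiberwise (s := Finset.univ) (g := fun x => x * a * x⁻¹), Finset.mul_sum]
    refine Finset.sum_congr rfl fun p _ => ?_
    rw [Finset.sum_congr rfl (g := fun _ => f p) fun x hx => by rw [(Finset.mem_filter.1 hx).2],
      Finset.sum_const, nsmul_eq_mul]
    split_ifs with hc
    · obtain ⟨y, rfl⟩ := isConj_iff.1 hc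
      congr 2
      rw [← Fintype.card_subtype, ← Nat.card_eq_fintype_card]
      refine Nat.card_congr ⟨fun x => ⟨y⁻¹ * x, ?_⟩, fun c => ⟨y * c, ?_⟩, fun x => by simp,
        fun x => by simp⟩
      · rw [mem_centralizer_singleton_iff]
        calc y⁻¹ * x * a = y⁻¹ * (x * a * (x : G)⁻¹) * x := by group
          _ = _ := by rw [x.2]; group
      · have := mem_centralizer_singleton_iff.1 c.2
        calc y * c * a * (y * c)⁻¹ = y * (c * a) * (c : G)⁻¹ * y⁻¹ := by group
          _ = _ := by rw [this]; group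
    · rw [Finset.filter_eq_empty_iff.2 fun x _ hx => hc (isConj_iff.2 ⟨x, hx⟩)]
      simp
  have res : ∀ f : G → ℂ, (∀ p, f p ≠ 0 → p ∈ φ.range) → ∑ p, f p = ∑ x, f (φ x) := by
    intro f hf
    rw [← Finset.sum_image (s := Finset.univ) (g := φ) (f := f) fun a _ b _ h => hφ h]
    refine (Finset.sum_subset (Finset.subset_univ _) fun y _ hy => ?_).symm
    by_contra h
    exact hy (by simpa using hf y h)
  have sq : ∀ {a p : G}, a * a = 1 → IsConj a p → p * p = 1 := by
    intro a p ha hc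
    obtain ⟨y, rfl⟩ := isConj_iff.1 hc
    rw [conj_mul, ha]; simp
  have e1 : ∑ x, indM hφ θ (x * a * x⁻¹ * b) =
      (Fintype.card M : ℂ)⁻¹ * ∑ y, ∑ x, F (x * a * x⁻¹ * (y * b * y⁻¹)) := by
    simp only [indM, indFun, card_range hφ, ← Finset.mul_sum]
    congr 1
    rw [Finset.sum_comm, ← Equiv.sum_comp (Equiv.inv G)]
    refine Finset.sum_congr rfl fun y _ => ?_
    rw [← Equiv.sum_comp (Equiv.mulLeft y⁻¹)]
    refine Finset.sum_congr rfl fun x _ => ?_
    simp only [Equiv.inv_apply, Equiv.coe_mulLeft]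
    congr 1
    group
  have e2 : ∑ y, ∑ x, F (x * a * x⁻¹ * (y * b * y⁻¹)) =
      Nat.card (centralizer ({b} : Set G)) * (Nat.card (centralizer ({a} : Set G)) *
        ∑ q, ∑ p, if IsConj a p ∧ IsConj b q then F (p * q) else 0) := by
    rw [cnt b fun q => ∑ x, F (x * a * x⁻¹ * q)]
    congr 1
    rw [Finset.mul_sum]
    refine Finset.sum_congr rfl fun q _ => ?_
    split_ifs with hq
    · rw [cnt a fun p => F (p * q)]; simp only [hq, and_true]
    · simp only [hq, and_false, if_false, Finset.sum_const_zero, mul_zero]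
  have e3 : ∑ q, ∑ p, (if IsConj a p ∧ IsConj b q then F (p * q) else 0) =
      ∑ q, ∑ p, ((if A p ∧ B q then θ (p * q) else 0 : ℤ) : ℂ) := by
    rw [res]
    · refine Finset.sum_congr rfl fun q _ => ?_
      rw [res]
      · refine Finset.sum_congr rfl fun p _ => ?_
        simp only [hA, hB, ← map_mul, F1]
        split_ifs <;> simp
      · intro p hp
        split_ifs at hp with hc
        · exact (F0 _ _ (sq ha hc.1) (sq hb hc.2) hp).1
        · exact absurd rfl hp
    · intro q hq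
      obtain ⟨p, -, hp⟩ := Finset.exists_ne_zero_of_sum_ne_zero hq
      split_ifs at hp with hc
      · exact (F0 _ _ (sq ha hc.1) (sq hb hc.2) hp).2
      · exact absurd rfl hp
  have := congrArg (Int.cast : ℤ → ℂ) h
  push_cast at this
  rw [e1, e2, e3, Finset.sum_comm]
  push_cast
  rw [this]
  field_simp

end Kit

end Cfsg.Agent.H12.L3
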