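import Cfsg.Agent.H12.M20B
import Cfsg.Agent.H41.U6
import Cfsg.Agent.H28.SUmk

/-! Monomial matrices and the Fourier matrix in the special unitary group of degree six. -/

set_option autoImplicit false
set_option maxRecDepth 100000

namespace Cfsg.Agent.H12.M20

open H41 H41.U6 H28 H47 Equiv Matrix

/-- The special unitary group. -/
abbrev S6 : Type := SU 6 F4 2

/-- The matrix of an element. -/
abbrev mat : S6 →* Matrix (Fin 6) (Fin 6) F4 := suToMat 6 F4 2

/-- Cube roots of unity. -/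
def χ (a : ZMod 3) : F4 := if a = 0 then 1 else if a = 1 then om else om + 1

theorem χ_add : ∀ a b, χ (a + b) = χ a * χ b := by decide

theorem F4_add_sq : ∀ x y : F4, (x + y) ^ 2 = x ^ 2 + y ^ 2 := by decide +kernel

/-- Projection onto the vectors with sum zero. -/
def pz (t : T6) : T6 := t - Pi.single 5 (∑ i, t i)

theorem sum_pz (t : T6) : ∑ i, pz t i = 0 := by simp [pz, Finset.sum_sub_distrib]

theorem pz_eq {t : T6} (h : ∑ i, t i = 0) : pz t = t := by simp [pz, h]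

theorem pz_add (s t : T6) : pz (s + t) = pz s + pz t := by
  simp only [pz, Pi.add_apply, Finset.sum_add_distrib, Pi.single_add]
  abel

/-- Monomial matrices. -/
def mM (t : T6) (π : Perm (Fin 6)) (i j : Fin 6) : F4 := if i = π j then χ (t i) else 0

theorem det_mM {t : T6} (h : ∑ i, t i = 0) (π : Perm (Fin 6)) : (of (mM t π)).det = 1 := by
  have h1 : of (mM t π) = diagonal (fun i => χ (t i)) * (π⁻¹).permMatrix F4 := by
    ext1 i j
    simp [mM, diagonal_mul, Perm.permMatrix, PEquiv.toMatrix_apply, Equiv.symm_apply_eq]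
  rw [h1, det_mul, det_diagonal, det_permutation, Fin.prod_univ_six]
  simp only [← χ_add]
  rw [← Fin.sum_univ_six, h]
  rcases Int.units_eq_one_or (Perm.sign π⁻¹) with e | e <;> rw [e] <;> decide

/-- Monomial elements. -/
def Mo (t : T6) (π : Perm (Fin 6)) : S6 :=
  suMk F4_add_sq two_ne_zero (mM (pz t) π) (det_mM (sum_pz t) π) fun i j => by
    rw [Finset.sum_eq_single (π i) (fun k _ hk => by simp [mM, hk]) (by simp)]
    by_cases h : i = j
    · simp only [mM, h, if_true]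
      exact (by decide : ∀ a, χ a * χ a ^ 2 = 1) _
    · simp [mM, h]

theorem mat_Mo (t : T6) (π : Perm (Fin 6)) : mat (Mo t π) = of (mM (pz t) π) := rfl

theorem mM_mul (s t : T6) (π ρ : Perm (Fin 6)) :
    of (mM s π) * of (mM t ρ) = of (mM (s + t ∘ ⇑π⁻¹) (π * ρ)) := by
  ext1 i j
  rw [mul_apply, Finset.sum_eq_single (ρ j) (fun k _ hk => by simp [mM, hk]) (by simp)]
  by_cases h : i = π (ρ j) <;> simp [mM, h, χ_add]

theorem Mo_D (s t : T6) : Mo (s + t) 1 = Mo s 1 * Mo t 1 :=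
  suToMat_injective 2 (by rw [map_mul, mat_Mo, mat_Mo, mat_Mo, mM_mul, pz_add]; rfl)

theorem Mo_mul (s : T6) {t : T6} (h : ∑ i, t i = 0) (π ρ : Perm (Fin 6)) :
    Mo s π * Mo t ρ = Mo (s + t ∘ ⇑π⁻¹) (π * ρ) :=
  suToMat_injective 2 (by
    rw [map_mul, mat_Mo, mat_Mo, mat_Mo, mM_mul, pz_add, pz_eq h, pz_eq (sum_comp h π⁻¹)])

/-- Permutation matrices. -/
def PM : Perm (Fin 6) →* S6 :=
  MonoidHom.mk' (Mo 0) fun π ρ => by rw [Mo_mul _ (by simp)]; rfl

theorem PM_D (π : Perm (Fin 6)) {t : T6} (h : ∑ i, t i = 0) :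
    PM π * Mo (t ∘ π) 1 = Mo t 1 * PM π := by
  change Mo 0 π * _ = _ * Mo 0 π
  rw [Mo_mul _ (sum_comp h π), Mo_mul _ (by simp)]
  congr 1
  ext i
  simp

/-- The Fourier matrix. -/
def fM : Fin 6 → Fin 6 → F4 := ![![1, 1, 1, 0, 0, 0], ![1, om, om + 1, 0, 0, 0],
  ![1, om + 1, om, 0, 0, 0], ![0, 0, 0, 1, 0, 0], ![0, 0, 0, 0, 1, 0], ![0, 0, 0, 0, 0, 1]]

theorem det_fM : (of fM).det = 1 := by
  have h : of fM * of fM = of (mM 0 (sw 2)) := by decide +kernel
  have := congrArg det h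
  rw [det_mul, det_mM (by simp)] at this
  exact (by decide : ∀ x : F4, x * x = 1 → x = 1) _ this

/-- The Fourier matrix as an element of the group. -/
def fS : S6 := suMk F4_add_sq two_ne_zero fM det_fM (by decide +kernel)

theorem mat_ext {g h : S6} (e : mat g = mat h) : g = h := suToMat_injective 2 e

theorem f_ff : fS * fS = PM (sw 2) := mat_ext (by rw [map_mul]; decide +kernel)

theorem f_fc : fS * PM (sw 1 * sw 2) = Mo td 1 * fS :=
  mat_ext (by rw [map_mul mat, map_mul mat]; decide +kernel)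

theorem f_fd : fS * Mo td 1 = PM (sw 2 * sw 1) * fS :=
  mat_ext (by rw [map_mul mat, map_mul mat]; decide +kernel)

theorem f_fz : fS * Mo tz 1 = Mo tz 1 * fS :=
  mat_ext (by rw [map_mul mat, map_mul mat]; decide +kernel)

theorem f_fz' : fS * Mo tz' 1 = Mo tz' 1 * fS :=
  mat_ext (by rw [map_mul mat, map_mul mat]; decide +kernel)

theorem f_fp : fS * PM (sw 4 * sw 5) = PM (sw 4 * sw 5) * fS :=
  mat_ext (by rw [map_mul mat, map_mul mat]; decide +kernel)

theorem f_f3 : fS * Mo t0 1 * (fS * Mo t0 1 * (fS * Mo t0 1)) = 1 := by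
  have h : mat (fS * Mo t0 1) = of fun i j => fM i j * χ (t0 j) := by rw [map_mul]; decide +kernel
  refine mat_ext ?_
  rw [map_mul mat, map_mul mat (fS * Mo t0 1), h, map_one]
  decide +kernel

/-- The projection onto the simple group. -/
abbrev mk6 : S6 →* PSU 6 F4 2 := QuotientGroup.mk' _

theorem mk_one : mk6 (Mo 1 1) = 1 :=
  ((mk_eq_iff 1 _).2 ⟨om, by rw [map_one]; decide +kernel⟩).symm

theorem mk_t0 : mk6 (Mo t0 1) ≠ 1 := fun h => by
  have := (mk_eq_iff 1 _).1 h.symm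
  rw [map_one] at this
  exact absurd this (by decide +kernel)

/-- The generators. -/
def gm (n : ℕ) : S6 := if n = 0 then Mo tg 1 else if n = 6 then fS else PM (sw n)

theorem wp_gm {w : List ℕ} (h : ∀ n ∈ w, n ∈ [1, 2, 3, 4, 5]) : wp gm w = PM (wp sw w) := by
  rw [map_wp]
  refine wp_congr fun n hn => ?_
  have := h n hn
  rw [gm, if_neg (by rintro rfl; simp at this), if_neg (by rintro rfl; simp at this)]

/-- The transvection with centre `v` is a word in the generators. -/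
def Tv (v : Fin 6 → F4) : Prop := ∃ h, suTv card_F4 v h ∈ clos gm (List.range 7)

theorem Tv.step {v : Fin 6 → F4} (h : Tv v) {g : S6} (hg : g ∈ clos gm (List.range 7))
    {v' : Fin 6 → F4} (e : mat g *ᵥ v = v') : Tv v' := by
  obtain ⟨h1, h2⟩ := h
  subst e
  exact ⟨_, conj_suTv card_F4 g v h1 ▸ mul_mem (mul_mem hg h2) (inv_mem hg)⟩

theorem Tv.perm {v : Fin 6 → F4} (h : Tv v) (w : List ℕ) {v' : Fin 6 → F4}
    (e : (∀ n ∈ w, n ∈ [1, 2, 3, 4, 5]) ∧ mat (PM (wp sw w)) *ᵥ v = v') : Tv v' :=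
  h.step (wp_gm e.1 ▸ wp_mem_clos gm fun n hn =>
    (by decide : ∀ n ∈ [1, 2, 3, 4, 5], n ∈ List.range 7) n (e.1 n hn)) e.2

theorem tv_all : ∀ i ∈ [1, 0, 2, 13, 4, 3, 7, 8], Tv (Vec.toV 6 (vl i)) := by
  have g0 : Mo tg 1 ∈ clos gm (List.range 7) := mem_clos gm (i := 0) (by decide)
  have g6 : fS ∈ clos gm (List.range 7) := mem_clos gm (i := 6) (by decide)
  have h0 : Tv (Vec.toV 6 (vl 0)) := ⟨iso 0, by
    have : suTv card_F4 _ (iso 0) = gm 1 := mat_ext (by decide +kernel)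
    exact this ▸ mem_clos gm (by decide)⟩
  have h1 : Tv (Vec.toV 6 (vl 1)) := by
    obtain ⟨h, h'⟩ := h0.step g0 (v' := om • Vec.toV 6 (vl 1)) (by decide +kernel)
    exact ⟨iso 1, suTv_smul card_F4 _ (iso 1) om (by decide) h ▸ h'⟩
  have h4 : Tv (Vec.toV 6 (vl 4)) :=
    (((((h0.perm [3, 2] (v' := ![1, 0, 0, 1, 0, 0]) (by decide +kernel)).step g6
      (v' := ![1, 1, 1, 1, 0, 0]) (by decide +kernel)).perm [2, 3, 4] (v' := ![1, 0, 1, 1, 1, 0])
      (by decide +kernel)).step g0 (v' := ![om, 0, 1, 1, 1, 0]) (by decide +kernel))).perm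
      [2, 3, 4, 5, 3, 2, 1] (by decide +kernel)
  simp only [List.forall_mem_cons]
  exact ⟨h1, h0, (h4.perm [1, 2] (v' := ![1, 0, 0, 1, om, 1]) (by decide +kernel)).step g6
    (by decide +kernel), h1.perm [4, 2, 3, 1, 2] (by decide +kernel), h4,
    h0.perm [4, 5, 3, 4, 2, 3, 1, 2] (by decide +kernel),
    h0.perm [5, 3, 4, 2, 3, 1, 2] (by decide +kernel),
    h0.perm [2, 3, 1, 2] (by decide +kernel), by simp⟩

theorem gen6 (y : PSU 6 F4 2) : y ∈ clos (fun n => mk6 (gm n)) (List.range 7) := by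
  obtain ⟨f, hf⟩ := L21.kerP.exists_hom L21.sat sat triv
  let g := f.comp (MulEquiv.subgroupCongr L21.grp_eq).toMonoidHom
  have h1 : g (L21.F.t ⟨180, by norm_num⟩) = γ 0 :=
    (congrArg f (Subtype.ext L21.lev.T_base)).trans (hf 0 (by decide))
  have h2 : Function.Injective g := by
    rw [← MonoidHom.ker_eq_bot_iff]
    refine (simple21.eq_bot_or_eq_top_of_normal g.ker inferInstance).resolve_right fun h => γ_ne ?_
    rw [← h1, ← MonoidHom.mem_ker, h]
    trivial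
  obtain ⟨x, rfl⟩ := (h2.bijective_of_nat_card_le (by rw [card_psu, L21.card_grp])).2 y
  suffices ∀ x hx, f ⟨x, hx⟩ ∈ clos (fun n => mk6 (gm n)) (List.range 7) from this _ _
  intro x hx
  induction hx using Subgroup.closure_induction with
  | mem x hx =>
    obtain ⟨i, hi, rfl⟩ := hx
    rw [hf i hi]
    rcases (by decide : ∀ i ∈ all21, i ∈ [1, 0, 2, 13, 4, 3, 7, 8] ∨ i ∈ [6, 12, 11]) i hi with h | h
    · obtain ⟨_, h3⟩ := tv_all i h
      exact map_clos mk6 gm _ ▸ Subgroup.mem_map_of_mem mk6 h3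
    · exact triv i h ▸ one_mem _
  | one => exact (map_one f).symm ▸ one_mem _
  | mul x y hx hy h1 h2 => exact (map_mul f ⟨x, hx⟩ ⟨y, hy⟩).symm ▸ mul_mem h1 h2
  | inv x hx h1 => exact (map_inv f ⟨x, hx⟩).symm ▸ inv_mem h1

theorem inner_cls {y : PSU 6 F4 2} (hy : y * y = 1) (hy1 : y ≠ 1) :
    ∃ r ∈ [rp1, rp2, rp3], (∀ n ∈ r.w, n < 7) ∧ IsConj y (mk6 (wp gm r.w)) := by
  have hch : CharP F4 2 := CharTwo.of_one_ne_zero_of_two_eq_zero one_ne_zero (f4_two card_F4)
  obtain ⟨a, ha, rfl⟩ : ∃ a : S6, orderOf a = 2 ∧ (a : PSU 6 F4 2) = y := by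
    obtain ⟨b, rfl⟩ := QuotientGroup.mk_surjective y
    have h2 : ((b ^ 3 : S6) : PSU 6 F4 2) = b := by
      rw [pow_three, QuotientGroup.mk_mul, QuotientGroup.mk_mul, hy, mul_one]
    refine ⟨b ^ 3, orderOf_eq_prime ?_ (fun h => hy1 (by rw [← h2, h]; rfl)), h2⟩
    obtain ⟨c, hc⟩ := (mk_eq_iff 1 (b * b)).mp hy.symm
    have h3 : c ≠ 0 := by
      rintro rfl
      have h4 : (mat (b * b)).det = 1 := (b * b).1.2
      rw [hc, zero_smul, det_zero] at h4
      exact zero_ne_one h4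
    apply mat_ext
    rw [← pow_mul, mul_comm 3 2, pow_mul, pow_two, map_pow, hc, map_one, smul_pow,
      f4_pow_three card_F4 h3, one_pow, one_smul]
  have key : ∀ ℓ, 1 ≤ ℓ → 2 * ℓ ≤ 6 → ∀ w : List ℕ, ((∀ n ∈ w, n ∈ [1, 2, 3, 4, 5]) ∧
      mat (PM (wp sw w)) = Matrix.of fun i j : Fin 6 => if (j.val < ℓ ∧ i.val = j.val + (6 - ℓ)) ∨
        (i.val < ℓ ∧ j.val = i.val + (6 - ℓ)) ∨ (i = j ∧ ℓ ≤ i.val ∧ i.val < 6 - ℓ) then (1 : F4)
        else 0) → (mat a - 1).rank = ℓ → IsConj (a : PSU 6 F4 2) (mk6 (wp gm w)) :=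
    fun ℓ h1 h2 w hw h3 => by
    obtain ⟨b, hb, hb2, hb3⟩ := S2165.result (q := 2) (n := 6) card_F4 (by norm_num) ℓ h1 h2
    rw [wp_gm hw.1, show PM (wp sw w) = b from mat_ext (hw.2.trans hb.symm)]
    exact mk6.map_isConj ((S2164.result (q := 2) card_F4 (by norm_num) a b ha hb2).2.mpr
      (h3.trans hb3.symm))
  have r0 : (mat a - 1).rank ≠ 0 := fun h => by
    rw [Matrix.rank, Submodule.finrank_eq_zero, LinearMap.range_eq_bot, ← Matrix.toLin'_apply',
      map_eq_zero_iff _ Matrix.toLin'.injective, sub_eq_zero] at h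
    exact hy1 (by rw [mat_ext (h.trans (map_one _).symm)]; rfl)
  have r4 : (mat a - 1).rank + (mat a - 1).rank ≤ Fintype.card (Fin 6) := by
    apply rank_add_rank_le_card_of_mul_eq_zero
    have h1 : mat a * mat a = 1 := by
      rw [← map_mul, ← pow_two, orderOf_dvd_iff_pow_eq_one.mp ha.dvd, map_one]
    have h2 : ∀ A : Matrix (Fin 6) (Fin 6) F4, A + A = 0 := fun A => by
      rw [← two_smul F4, f4_two card_F4, zero_smul]
    rw [sub_mul, mul_sub, mul_sub, h1, mul_one, one_mul, mul_one, sub_sub_sub_eq, h2, h2, sub_zero]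
  rw [Fintype.card_fin] at r4
  obtain h | h | h : (mat a - 1).rank = 1 ∨ (mat a - 1).rank = 2 ∨ (mat a - 1).rank = 3 := by omega
  · exact ⟨rp1, by simp, by decide, key 1 (by norm_num) (by norm_num) _ (by decide +kernel) h⟩
  · exact ⟨rp2, by simp, by decide, key 2 (by norm_num) (by norm_num) _ (by decide +kernel) h⟩
  · exact ⟨rp3, by simp, by decide, key 3 (by norm_num) (by norm_num) _ (by decide +kernel) h⟩

end Cfsg.Agent.H12.M20
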