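import Cfsg.Agent.H12.M20W
import Cfsg.Agent.H12.M20C

/-! Identification of the twenty dimensional module. -/

set_option autoImplicit false
set_option maxRecDepth 100000

namespace Cfsg.Agent.H12.M20

open H41 H41.Rec H42 Equiv

/-- Adjacent transpositions. -/
def sw (n : ℕ) : Perm (Fin 6) := swap (Fin.ofNat 6 (n - 1)) (Fin.ofNat 6 n)

/-- The three types of weights. -/
def μr (r : ℕ) : T6 :=
  [![1, 2, 0, 0, 0, 0], ![1, 1, 2, 2, 0, 0]].getD r ![1, 1, 1, 0, 0, 0]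

/-- The weight of the module. -/
def μ0 : T6 := ![1, 1, 1, 0, 0, 0]

theorem types : ∀ a b c d : ZMod 3, 1 + a + b + c + d + 0 = 0 →
    ∃ x ∈ ([([4, 3, 2], 1, 0, 0), ([3, 4, 2, 3], 1, 0, 2), ([3, 2], 1, 0, 0), ([4, 2, 3], 1, 0, 2),
      ([2, 3], 1, 0, 2), ([5, 4, 2], 2, 2, 1), ([2], 1, 0, 0), ([2, 3, 4, 2], 1, 0, 1),
      ([2, 3, 4, 1, 2], 2, 0, 1), ([4, 3], 1, 0, 2), ([3], 1, 0, 2), ([3, 4], 1, 0, 1), ([], 1, 0, 2),
      ([4, 5, 3, 4, 2, 3, 1, 2], 1, 1, 0), ([5, 3, 4, 2, 3, 1, 2], 1, 1, 0), ([4], 1, 0, 1),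
      ([5, 4, 2, 3, 1, 2], 1, 1, 0), ([], 1, 0, 1), ([], 1, 0, 0), ([3, 4, 2], 1, 0, 1),
      ([3, 4, 1, 2], 2, 0, 1), ([4, 2], 1, 0, 1), ([5, 4, 3, 1, 2], 1, 1, 0), ([2], 1, 0, 1),
      ([4, 1, 2], 2, 0, 1), ([1, 2], 2, 0, 1), ([5, 4, 3, 2], 2, 2, 0)] :
        List (List ℕ × ZMod 3 × ZMod 3 × ℕ)), x.2.1 ≠ 0 ∧ x.2.2.2 < 3 ∧
      ∀ i, (![1, a, b, c, d, 0] : T6) (wp sw x.1 i) = x.2.1 * μr x.2.2.2 i + x.2.2.1 := by
  decide +kernel

/-- Eleven permutations for each of the wrong types. -/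
def ew (r i : ℕ) : Perm (Fin 6) := wp sw (([[[], [2], [1, 2], [3, 2], [3, 1, 2], [4, 3, 2],
  [2, 3, 1, 2], [4, 3, 1, 2], [5, 4, 3, 2], [4, 2, 3, 1, 2], [5, 4, 3, 1, 2]],
  [[], [2], [4], [1, 2], [4, 2], [3, 4], [4, 1, 2], [3, 4, 2], [5, 4, 2], [3, 4, 1, 2],
  [5, 4, 1, 2]]].getD r []).getD i [])

theorem sep_ew : ∀ r < 2, μr r ⬝ᵥ t0 = 1 ∧ Sep (μr r) (ew r) 11 := fun r hr => by
  unfold Sep
  interval_cases r <;> constructor <;> decide +kernel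

/-- The permutations of the frame. -/
def fp (i : ℕ) : Perm (Fin 6) := wp sw ([[], [3], [4, 3], [5, 4, 3], [2, 3], [4, 2, 3],
  [5, 4, 2, 3], [3, 4, 2, 3], [5, 3, 4, 2, 3], [4, 5, 3, 4, 2, 3]].getD i [])

theorem sep_fp : Sep μ0 fp 10 := by unfold Sep; decide +kernel

theorem μ0_t0 : μ0 ⬝ᵥ t0 = 1 := by decide

/-- The permutation exchanging the two halves. -/
def w0 : Perm (Fin 6) := swap 0 3 * swap 1 4 * swap 2 5

/-- Coordinates of the vectors of the frame. -/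
def cU (i : ℕ) (k : ZMod 3) : ℕ :=
  if k = 0 then 2 ^ (2 * i) else if k = 1 then 2 ^ (2 * i + 1) else 2 ^ (2 * i) ^^^ 2 ^ (2 * i + 1)

/-- The code of a diagonal element. -/
noncomputable def cD (t : T6) : ℕ :=
  pk (fun m => cU (m / 2) ((m % 2 : ℕ) + μ0 ⬝ᵥ (t ∘ fp (m / 2)))) 20

theorem cU_lt : ∀ i < 10, ∀ k, cU i k < 2 ^ 20 := by decide +kernel

theorem sw_ok : ∀ n ∈ [1, 2, 3, 4, 5], ∀ i < 10, ∃ j < 10, fld 20 (gc n) (2 * i) = cU j 0 ∧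
    ((∃ m ∈ [0, 1, 2, 4, 5], (∀ a, (sw n * fp i) a = (fp j * sw m) a) ∧
      fld 20 (gc n) (2 * i + 1) = cU j 1) ∨
    (∀ a, (sw n * fp i) a = (fp j * w0) a) ∧ fld 20 (gc n) (2 * i + 1) = cU j 2) := by
  decide +kernel

/-- The permutation preserves the weight up to the sign `ε`. -/
def Sg (π : Perm (Fin 6)) (ε : ZMod 3) : Prop :=
  ε ≠ 0 ∧ π * π = 1 ∧ ∃ c, ∀ i, μ0 (π i) = ε * μ0 i + c

theorem sg_sw : ∀ m ∈ [0, 1, 2, 4, 5], Sg (sw m) 1 := by unfold Sg; decide +kernel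

theorem sg_w0 : Sg w0 2 := by unfold Sg; decide +kernel

namespace WD

variable {V : Type*} [CommGroup V] {W : WD V} {a v : V}

variable (W) in
theorem exists_b : ∃ b ∈ W.B μ0, b ≠ 1 := by
  obtain ⟨μ, h0, h5, hs, w, hw, h1⟩ := W.exists_weight
  obtain ⟨x, -, h2, h3, h4⟩ := types (μ 1) (μ 2) (μ 3) (μ 4) (by
    rwa [Fin.sum_univ_six, h0, h5] at hs)
  have h6 : (![1, μ 1, μ 2, μ 3, μ 4, 0] : T6) = μ := by
    funext i; fin_cases i <;> simp [h0, h5]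
  rw [h6] at h4
  have h7 : W.P (wp sw x.1)⁻¹ w ∈ W.B (μr x.2.2.2) := mem_of (P_mem hw _) h2 h4
  have h8 : W.P (wp sw x.1)⁻¹ w ≠ 1 := by simpa using h1
  by_cases h : x.2.2.2 < 2
  · exact absurd (le_ten h7 h8 (sep_ew _ h).1 (sep_ew _ h).2) (by norm_num)
  · rw [show x.2.2.2 = 2 by omega] at h7
    exact ⟨_, h7, h8⟩

theorem δ2 (hv : v ∈ W.B μ0) : W.δ ((2 : ZMod 3) • t0) v = v * W.δ t0 v := by
  have := (hv t0 sum_t0).2 (by simp [μ0_t0])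
  rw [Nn_apply] at this
  rw [(by decide : (2 : ZMod 3) • t0 = t0 + t0), eq_inv_of_mul_eq_one_right this,
    inv_eq_of_mul_eq_one_right (W.sq _)]

theorem four (hv : v ∈ W.B μ0) (h1 : v ≠ 1) (ha : a ∈ W.B μ0) (h2 : a ≠ 1) :
    ∃ k : ZMod 3, a = W.δ (k • t0) v := by
  obtain ⟨y, -, rfl⟩ := (W.ci _ _).mem_sp.1 ((sp_fr hv h1 μ0_t0 sep_fp).ge (Subgroup.mem_top a))
  have h3 := pr_th hv (δ_mem hv t0) sep_fp (j := 0) (by norm_num) y
  rw [show μ0 ∘ ⇑(fp 0)⁻¹ = μ0 from rfl, pr_self ha, show fp 0 = 1 from rfl, map_one,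
    MulAut.one_apply, cf] at h3
  rw [h3] at h2 ⊢
  split_ifs at h2 ⊢
  · exact ⟨2, (δ2 hv).symm⟩
  · exact ⟨0, by simp [δzero]⟩
  · exact ⟨1, by simp⟩
  · simp at h2

theorem sg_mem {π : Perm (Fin 6)} {ε : ZMod 3} (h : Sg π ε) (ha : a ∈ W.B μ0) :
    W.P π a ∈ W.B μ0 := by
  obtain ⟨h1, h2, c, h3⟩ := h
  refine mem_of (P_mem ha π) h1 (c := c) ?_
  rwa [inv_eq_of_mul_eq_one_right h2]

theorem sg_δ {π : Perm (Fin 6)} {ε : ZMod 3} (h : Sg π ε) (ha : a ∈ W.B μ0) (k : ZMod 3) :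
    W.P π (W.δ (k • t0) a) = W.δ ((ε * k) • t0) (W.P π a) := by
  have h0 := sg_mem h ha
  obtain ⟨h1, h2, c, h3⟩ := h
  have h4 := sum_comp (sum_smul sum_t0 k) π
  have h5 := W.Pδ' π h4 a
  rw [Function.comp_assoc, ← Perm.coe_mul, h2, Perm.coe_one, Function.comp_id] at h5
  have h6 := dotProduct_comp_equiv_symm μ0 (k • t0) π
  rw [show π.symm = π from inv_eq_of_mul_eq_one_right h2] at h6
  rw [← h5, δ_eq h0 μ0_t0 h4, h6,
    dot_eq (ν := μ0 ∘ π) h3 (sum_smul sum_t0 k), dotProduct_smul, μ0_t0, smul_eq_mul, mul_one]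

theorem Nn0 (hv : v ∈ W.B μ0) : W.Nn t0 v = 1 := (hv t0 sum_t0).2 (by simp [μ0_t0])

variable (W) in
theorem exists_v : ∃ v ∈ W.B μ0, v ≠ 1 ∧ W.P w0 v = v := by
  obtain ⟨b, hb, h1⟩ := W.exists_b
  obtain ⟨j, hj⟩ := four hb h1 (sg_mem sg_w0 hb) (by simpa using h1)
  refine ⟨_, δ_mem hb ((2 * j) • t0), by simpa using h1, ?_⟩
  rw [sg_δ sg_w0 hb, hj, δδ, ← add_smul, (by decide : ∀ j : ZMod 3, 2 * (2 * j) + j = 2 * j)]

theorem sw_v (hv : v ∈ W.B μ0) (h1 : v ≠ 1) {π : Perm (Fin 6)} (h : Sg π 1) : W.P π v = v := by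
  obtain ⟨j, hj⟩ := four hv h1 (sg_mem h hv) (by simpa using h1)
  have h2 := congrArg (W.P π) hj
  rw [sg_δ h hv, ← MulAut.mul_apply, ← map_mul, h.2.1, map_one, hj, δδ, ← add_smul, ← δzero,
    ← zero_smul (ZMod 3) t0] at h2
  rw [hj, (by decide : ∀ j : ZMod 3, 0 = 1 * j + j → j = 0) j (smul_inj h1 (Nn0 hv) h2), zero_smul,
    δzero, MulAut.one_apply]

variable (W v) in
/-- The vectors of the frame. -/
def U (π : Perm (Fin 6)) (k : ZMod 3) : V := W.P π (W.δ (k • t0) v)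

variable (W v) in
/-- The basis. -/
def ee : ℕ → V := W.fr fp v (W.δ t0 v)

theorem th_cU (hv : v ∈ W.B μ0) {i : ℕ} (hi : i < 10) (k : ZMod 3) :
    th (W.ee v) 20 (cU i k) = W.U v (fp i) k := by
  rw [cU]
  split_ifs with h1 h2
  · rw [th_pow (by omega), ee, fr_even, h1, U, zero_smul, δzero, MulAut.one_apply]
  · rw [th_pow (by omega), ee, fr_odd, h2, U, one_smul]
  · rw [(W.ci _ _).th_xor, th_pow (by omega), th_pow (by omega), ee, fr_even, fr_odd, ← map_mul,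
      ← δ2 hv, (by decide : ∀ k : ZMod 3, k ≠ 0 → k ≠ 1 → k = 2) k h1 h2, U]

theorem cd_of (hv : v ∈ W.B μ0) {φ : MulAut V} {c : ℕ} (H : ∀ i < 10, ∃ j < 10, ∃ ε s : ZMod 3,
    (∀ k, φ (W.U v (fp i) k) = W.U v (fp j) (ε * k + s)) ∧ fld 20 c (2 * i) = cU j s ∧
      fld 20 c (2 * i + 1) = cU j (ε + s)) : Cd (W.ee v) φ c := fun m hm => by
  obtain ⟨j, hj, ε, s, h1, h2, h3⟩ := H (m / 2) (by omega)
  rw [← th_pow (e := W.ee v) hm]
  rcases Nat.mod_two_eq_zero_or_one m with e | e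
  · rw [show m = 2 * (m / 2) by omega, h2, th_cU hv hj]
    simpa [cU] using (congrArg φ (th_cU hv (show m / 2 < 10 by omega) 0)).trans (h1 0)
  · rw [show m = 2 * (m / 2) + 1 by omega, h3, th_cU hv hj]
    simpa [cU] using (congrArg φ (th_cU hv (show m / 2 < 10 by omega) 1)).trans (h1 1)

theorem cdD (hv : v ∈ W.B μ0) {t : T6} (ht : ∑ i, t i = 0) : Cd (W.ee v) (W.δ t) (cD t) := by
  have h0 : ∀ m < 20, fld 20 (cD t) m = _ := fun m hm =>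
    fld_pk _ _ (fun i hi => cU_lt _ (by omega) _) hm
  refine cd_of hv fun i hi => ⟨i, hi, 1, μ0 ⬝ᵥ (t ∘ fp i), fun k => ?_, ?_, ?_⟩
  · rw [U, U, W.Pδ' _ ht, δδ, add_comm, ← δδ, δ_eq hv μ0_t0 (sum_comp ht _), δδ, one_mul, add_smul]
  · rw [h0 _ (by omega)]; simp
  · rw [h0 _ (by omega), show (2 * i + 1) / 2 = i by omega, show (2 * i + 1) % 2 = 1 by omega]
    simp

theorem cdP (hv : v ∈ W.B μ0) (h1 : v ≠ 1) (h2 : W.P w0 v = v) {n : ℕ} (hn : n ∈ [1, 2, 3, 4, 5]) :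
    Cd (W.ee v) (W.P (sw n)) (gc n) := by
  refine cd_of hv fun i hi => ?_
  obtain ⟨j, hj, h3, ⟨m, hm, h4, h5⟩ | ⟨h4, h5⟩⟩ := sw_ok n hn i hi
  · refine ⟨j, hj, 1, 0, fun k => ?_, h3, h5⟩
    rw [U, U, ← MulAut.mul_apply, ← map_mul, Equiv.ext h4, map_mul, MulAut.mul_apply,
      sg_δ (sg_sw m hm) hv, sw_v hv h1 (sg_sw m hm), add_zero]
  · refine ⟨j, hj, 2, 0, fun k => ?_, h3, h5⟩
    rw [U, U, ← MulAut.mul_apply, ← map_mul, Equiv.ext h4, map_mul, MulAut.mul_apply,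
      sg_δ sg_w0 hv, h2, add_zero]

theorem cdS (hv : v ∈ W.B μ0) (h1 : v ≠ 1) (h2 : W.P w0 v = v) {s : MulAut V}
    (hP : ∀ π a, s (W.P π a) = W.P π (s a))
    (hδ : ∀ t, ∑ i, t i = 0 → ∀ a, s (W.δ t a) = W.δ (-t) (s a)) : Cd (W.ee v) s (gc 7) := by
  have h3 : s v ∈ W.B μ0 := fun t ht => by
    have h4 : ∑ i, (-t) i = 0 := by simp [ht]
    have h5 := hv _ h4
    rw [dotProduct_neg, ne_eq, neg_eq_zero] at h5
    refine ⟨fun e => by rw [← neg_neg t, ← hδ _ h4, h5.1 e], fun e => ?_⟩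
    have h6 := congrArg s (h5.2 e)
    rwa [Nn_apply, map_mul, map_mul, hδ _ h4, hδ _ (by simp [Finset.sum_add_distrib, ht]), map_one,
      neg_add, neg_neg] at h6
  obtain ⟨j, hj⟩ := four hv h1 h3 (by simpa using h1)
  have h4 := hP w0 v
  rw [h2, hj, sg_δ sg_w0 hv, h2] at h4
  rw [(by decide : ∀ j : ZMod 3, j = 2 * j → j = 0) j (smul_inj h1 (Nn0 hv) h4), zero_smul, δzero,
    MulAut.one_apply] at hj
  refine cd_of hv fun i hi => ⟨i, hi, 2, 0, fun k => ?_,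
    (by decide +kernel : ∀ i < 10, fld 20 (gc 7) (2 * i) = cU i 0 ∧
      fld 20 (gc 7) (2 * i + 1) = cU i (2 + 0)) i hi⟩
  rw [U, U, hP, hδ _ (sum_smul sum_t0 k), hj, ← neg_smul,
    (by decide : ∀ k : ZMod 3, -k = 2 * k + 0) k]

end WD

/-- The central element of the extraspecial group. -/
def tz : T6 := ![1, 1, 1, 0, 0, 0]

/-- A diagonal element commuting with the Fourier matrix. -/
def tz' : T6 := ![1, 1, 1, 1, 2, 0]

/-- The diagonal element conjugate to the three cycle. -/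
def td : T6 := ![0, 1, 2, 0, 0, 0]

/-- The first generator. -/
def tg : T6 := ![1, 2, 0, 0, 0, 0]

/-- The relations for the Fourier matrix. -/
structure FR {V : Type*} [CommGroup V] (W : WD V) (φ : MulAut V) : Prop where
  ff : φ * φ = W.P (sw 2)
  fc : φ * W.P (sw 1 * sw 2) = W.δ td * φ
  fd : φ * W.δ td = W.P (sw 2 * sw 1) * φ
  fz : φ * W.δ tz = W.δ tz * φ
  fz' : φ * W.δ tz' = W.δ tz' * φ
  fp : φ * W.P (sw 4 * sw 5) = W.P (sw 4 * sw 5) * φ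
  f3 : φ * W.δ t0 * (φ * W.δ t0 * (φ * W.δ t0)) = 1

/-- The candidates for the image of one basis vector. -/
def Ek : ℕ := 0x8030c40104

/-- Coordinates for the candidates. -/
def Rk : ℕ :=
  0x200001000000000000000000000000000000000000000000000000000000000000000000000000000000000000000000

/-- An auxiliary linear map. -/
def Lk2 : ℕ :=
  0x10410308200e0800b0c00000000000000000000000000000000000000000000000000000000000000000000000

/-- An auxiliary linear map. -/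
def Lk3 : ℕ :=
  0x30c0010400c3000410030c0010400008000040000200001000008000040000000000000000000000000000000000000000

/-- An auxiliary linear map. -/
def Lz : ℕ :=
  0xc00008000030000200000c0000800001000030000040000c00001000030000040000c00001000030000040000c0000000000

/-- Words moving one basis vector to the others. -/
def ww (j : ℕ) : List ℕ := [[], [], [2, 2], [0, 0, 2, 2], [1, 2, 2], [0, 0, 1, 2, 2], [1, 1, 2, 2],
  [0, 0, 1, 1, 2, 2], [2], [0, 0, 2], [1, 2], [0, 0, 1, 2], [1, 1, 2], [0, 0, 1, 1, 2], [1, 1],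
  [0, 1, 1], [1], [0, 1], [], [0]].getD j []

/-- Codes of letters normalized by the Fourier matrix. -/
noncomputable def αc (c : ℕ) (n : ℕ) : ℕ :=
  if n = 0 then cD tz else if n = 1 then cmp (gc 4) (gc 5) else c

/-- The candidates for the code of the Fourier matrix. -/
noncomputable def cand (a b r : ℕ) : ℕ :=
  pk (fun j => if j = 0 then a else if j = 1 then b else lin (wc (αc (cD td)) (ww j)) (lin Ek r)) 20

theorem f_ok : Nat.xor (Nat.xor (Nat.xor (cmp Ek Rk) (cmp Lk2 (Nat.xor ID (cD tz'))))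
      (cmp Lk3 (Nat.xor ID (cmp (gc 2) (gc 1)))))
      (cmp 0x200001 (Nat.xor (Nat.xor ID (cD tz)) (cmp (cD tz) (cD tz)))) = ID ∧
    Nat.xor 0x200001 (cmp Lz (Nat.xor ID (cD tz))) = ID ∧
    (∀ i < 20, fld 20 Rk i < 2 ^ 2 ∧ fld 20 0x200001 i < 2 ^ 2) ∧
    (∀ j < 20, 2 ≤ j → lin (wc (αc (cmp (gc 1) (gc 2))) (ww j)) (2 ^ 18) = 2 ^ j) ∧
    (∀ j < 2, lin (cD tz) (2 ^ j) = 2 ^ j) ∧ lin (cD tz') (2 ^ 18) = 2 ^ 18 ∧
    lin (cD td) (2 ^ 18) = 2 ^ 18 ∧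
    2 ^ 18 ^^^ lin (cD tz) (2 ^ 18) ^^^ lin (cD tz) (lin (cD tz) (2 ^ 18)) = 0 ∧ cD tg = gc 0 := by
  decide +kernel

theorem cand_ok : ∀ a < 4, ∀ b < 4, ∀ r < 4, force (cand a b r) (fun c => iteB (Nat.beq c (gc 6)) true
    (iteB (eqB (cmp c c) (gc 2)) (Bool.not (eqB (cmp (cmp c (cD t0)) (cmp (cmp c (cD t0))
      (cmp c (cD t0)))) ID)) true)) = true := by
  decide +kernel

namespace WD

variable {V : Type*} [CommGroup V] {W : WD V} {v : V}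

theorem cdF (hv : v ∈ W.B μ0) (h1 : v ≠ 1) (h2 : W.P w0 v = v) {φ : MulAut V} (h : FR W φ) :
    Cd (W.ee v) φ (gc 6) := by
  obtain ⟨k1, k2, k3, k4, k5, k6, k7, k8, -⟩ := f_ok
  have ci := W.ci (W.ee v) 20
  have ind : Ind (W.ee v) 20 := ind_fr hv h1 μ0_t0 sep_fp
  have hy : ∀ j, ∃ y < 2 ^ 20, th (W.ee v) 20 y = φ (th (W.ee v) 20 j) := fun j =>
    ci.mem_sp.1 ((sp_fr hv h1 μ0_t0 sep_fp).ge (Subgroup.mem_top _))
  choose y y1 y2 using hy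
  have cP : ∀ n ∈ [1, 2, 3, 4, 5], ∀ m ∈ [1, 2, 3, 4, 5],
      Cd (W.ee v) (W.P (sw n * sw m)) (cmp (gc n) (gc m)) := fun n hn m hm =>
    map_mul W.P _ _ ▸ (cdP hv h1 h2 hn).mul (cdP hv h1 h2 hm) ci
  have cz := cdD hv (t := tz) (by decide)
  have cd := cdD hv (t := td) (by decide)
  have key : ∀ {α β : MulAut V} {a b : ℕ}, φ * α = β * φ → Cd (W.ee v) α a → Cd (W.ee v) β b →
      ∀ j, φ (th (W.ee v) 20 (lin a j)) = th (W.ee v) 20 (lin b (y j)) := fun e ha hb j => by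
    rw [← ha.ap ci, ← hb.ap ci, y2]
    exact DFunLike.congr_fun e _
  have fx : ∀ {α β : MulAut V} {a b : ℕ}, φ * α = β * φ → Cd (W.ee v) α a → Cd (W.ee v) β b →
      ∀ j, lin a j = j → lin b (y j) = y j := fun e ha hb j hj =>
    ind _ (lin_lt _ _) _ (y1 j) (by rw [← key e ha hb, hj, y2])
  have e1 : ∀ j < 2, y (2 ^ j) < 4 := fun j hj => by
    have := congrArg (lin · (y (2 ^ j))) k2
    simp only [lin_add, lin_cmp, lin_ID (y1 _), fx h.fz cz cz _ (k5 j hj), Nat.xor_self, lin_zero,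
      Nat.xor_zero] at this
    exact this ▸ lin_lt_of (n := 2) (fun i hi => (k3 i hi).2) _
  have e2 : y (2 ^ 18) ^^^ lin (cD tz) (y (2 ^ 18)) ^^^ lin (cD tz) (lin (cD tz) (y (2 ^ 18))) = 0 :=
    ind _ (Nat.xor_lt_two_pow (Nat.xor_lt_two_pow (y1 _) (lin_lt _ _)) (lin_lt _ _)) _
      (by norm_num) (by
        have := congrArg (fun x => φ (th (W.ee v) 20 x)) k8
        simp only [ci.th_xor, map_mul, th_zero, map_one] at this ⊢
        rw [← this, ← key h.fz cz cz, y2, ← lin_cmp, ← lin_cmp,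
          key (α := W.δ tz * W.δ tz) (β := W.δ tz * W.δ tz) (by
            rw [← mul_assoc, h.fz, mul_assoc, h.fz, mul_assoc]) (cz.mul cz ci) (cz.mul cz ci)])
  have e3 := congrArg (lin · (y (2 ^ 18))) k1
  simp only [lin_add, lin_cmp, lin_ID (y1 _), e2, Nat.xor_self, lin_zero, Nat.xor_zero,
    fx h.fz' (cdD hv (by decide)) (cdD hv (by decide)) _ k6] at e3
  rw [← lin_cmp (gc 2), fx h.fd cd (cP 2 (by simp) 1 (by simp)) _ k7, Nat.xor_self, lin_zero,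
    Nat.xor_zero] at e3
  let α : MulAut V → ℕ → MulAut V := fun γ n =>
    if n = 0 then W.δ tz else if n = 1 then W.P (sw 4 * sw 5) else γ
  have cw : ∀ {γ : MulAut V} {c : ℕ}, Cd (W.ee v) γ c → ∀ w,
      Cd (W.ee v) (wp (α γ) w) (wc (αc c) w) := fun hγ w =>
    cd_wp ci fun n _ => by
      simp only [α, αc]
      split_ifs
      exacts [cz, cP 4 (by simp) 5 (by simp), hγ]
  have e4 : ∀ w, φ * wp (α (W.P (sw 1 * sw 2))) w = wp (α (W.δ td)) w * φ := fun w => by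
    induction w with
    | nil => simp
    | cons n w ih =>
      rw [wp_cons, wp_cons, mul_assoc, ← ih, ← mul_assoc, ← mul_assoc]
      congr 1
      simp only [α]
      split_ifs
      exacts [h.fz, h.fp, h.fc]
  have e5 : Cd (W.ee v) φ (cand (y (2 ^ 0)) (y (2 ^ 1)) (lin Rk (y (2 ^ 18)))) := fun j hj => by
    rw [cand, fld_pk _ _ (fun i _ => by split_ifs; exacts [y1 _, y1 _, lin_lt _ _]) hj,
      ← th_pow (e := W.ee v) hj]
    split_ifs with h3 h4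
    · rw [h3, y2]
    · rw [h4, y2]
    · rw [e3, ← key (e4 _) (cw (cP 1 (by simp) 2 (by simp)) _) (cw cd _), k4 j hj (by omega)]
  have e6 := cand_ok _ (e1 0 (by norm_num)) _ (e1 1 (by norm_num)) _
    (lin_lt_of (n := 2) (fun i hi => (k3 i hi).1) (y (2 ^ 18)))
  have c0 := e5.mul (cdD hv sum_t0) ci
  rw [force_eq, (e5.mul e5 ci).eqB (h.ff ▸ cdP hv h1 h2 (by simp)) ind,
    (c0.mul (c0.mul c0 ci) ci).eqB (h.f3 ▸ cd_one) ind, iteB_eq] at e6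
  split_ifs at e6 with e7
  · exact beq_iff.1 e7 ▸ e5
  · simp at e6

/-- Coordinates on the module. -/
theorem coords (W : WD V) {φ : MulAut V} (h : FR W φ) : ∃ e : ℕ → V, Ind e 20 ∧ sp e 20 = ⊤ ∧
    Cd e (W.δ tg) (gc 0) ∧ (∀ n ∈ [1, 2, 3, 4, 5], Cd e (W.P (sw n)) (gc n)) ∧ Cd e φ (gc 6) ∧
    ∀ s : MulAut V, (∀ π a, s (W.P π a) = W.P π (s a)) →
      (∀ t, ∑ i, t i = 0 → ∀ a, s (W.δ t a) = W.δ (-t) (s a)) → Cd e s (gc 7) := by
  obtain ⟨v, hv, h1, h2⟩ := W.exists_v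
  exact ⟨W.ee v, ind_fr hv h1 μ0_t0 sep_fp, sp_fr hv h1 μ0_t0 sep_fp,
    f_ok.2.2.2.2.2.2.2.2 ▸ cdD hv (by decide), fun n => cdP hv h1 h2, cdF hv h1 h2 h,
    fun s => cdS hv h1 h2⟩

end WD

end Cfsg.Agent.H12.M20
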