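import Cfsg.Agent.H41.RecA

/-! Linear maps of the space of bit vectors of length twenty, coded by their columns. -/

set_option autoImplicit false

namespace Cfsg.Agent.H12.M20

open H41 H41.Rec H42

/-- Packing columns. -/
noncomputable def pk (f : ℕ → ℕ) (k : ℕ) : ℕ :=
  Nat.rec 0 (fun i acc => Nat.add (Nat.shiftLeft (f i) (Nat.mul 20 i)) acc) k

theorem pk_succ (f : ℕ → ℕ) (k : ℕ) : pk f (k + 1) = f k * 2 ^ (20 * k) + pk f k := by
  show (f k) <<< (20 * k) + pk f k = _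
  rw [Nat.shiftLeft_eq]

theorem pk_lt (f : ℕ → ℕ) (k : ℕ) (hf : ∀ i < k, f i < 2 ^ 20) : pk f k < 2 ^ (20 * k) := by
  induction k with
  | zero => simp [pk]
  | succ k ih =>
    have h1 := ih (fun i hi => hf i (Nat.lt_succ_of_lt hi))
    have h2 := hf k (Nat.lt_succ_self k)
    rw [pk_succ, mul_add, mul_one, pow_add]
    nlinarith

theorem fld_eq' (w c i : ℕ) : fld w c i = c / 2 ^ (w * i) % 2 ^ w := by
  show (c >>> (w * i)) % 2 ^ w = _
  rw [Nat.shiftRight_eq_div_pow]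

theorem fld_pk (f : ℕ → ℕ) (k : ℕ) (hf : ∀ i < k, f i < 2 ^ 20) {i : ℕ} (hi : i < k) :
    fld 20 (pk f k) i = f i := by
  induction k with
  | zero => omega
  | succ k ih =>
    have hf' : ∀ i < k, f i < 2 ^ 20 := fun i hi => hf i (Nat.lt_succ_of_lt hi)
    rw [pk_succ, fld_eq']
    rcases Nat.lt_succ_iff_lt_or_eq.mp hi with h | rfl
    · rw [← ih hf' h, fld_eq']
      obtain ⟨d, rfl⟩ := Nat.exists_eq_add_of_lt h
      rw [show 20 * (i + d + 1) = 20 * i + (20 + 20 * d) by ring, pow_add, pow_add,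
        show f (i + d + 1) * (2 ^ (20 * i) * (2 ^ 20 * 2 ^ (20 * d))) =
          2 ^ (20 * i) * (2 ^ 20 * (f (i + d + 1) * 2 ^ (20 * d))) by ring, add_comm,
        Nat.add_mul_div_left _ _ (Nat.two_pow_pos _), Nat.add_mul_mod_self_left]
    · rw [add_comm, Nat.add_mul_div_right _ _ (Nat.two_pow_pos _),
        Nat.div_eq_of_lt (pk_lt f i hf'), zero_add, Nat.mod_eq_of_lt (hf i hi)]

theorem fld_xor (a b i : ℕ) : fld 20 (Nat.xor a b) i = fld 20 a i ^^^ fld 20 b i := by
  show ((a ^^^ b) >>> (20 * i)) % 2 ^ 20 = (a >>> (20 * i)) % 2 ^ 20 ^^^ (b >>> (20 * i)) % 2 ^ 20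
  rw [Nat.shiftRight_xor_distrib, Nat.xor_mod_two_pow]

theorem xorC_congr' {f g : ℕ → ℕ} {k : ℕ} (h : ∀ i < k, f i = g i) (y : ℕ) :
    xorC f y k = xorC g y k := by
  induction k with
  | zero => rfl
  | succ k ih => rw [xorC_succ, xorC_succ, ih fun i hi => h i (by omega), h k (by omega)]

theorem xorC_add (f g : ℕ → ℕ) (y k : ℕ) :
    xorC (fun i => f i ^^^ g i) y k = xorC f y k ^^^ xorC g y k := by
  induction k with
  | zero => simp [xorC_zero]
  | succ k ih =>
    simp only [xorC_succ, ih]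
    split_ifs
    · simp only [Nat.xor_assoc, Nat.xor_left_comm]
    · rfl

theorem map_xorC {F : ℕ → ℕ} (h0 : F 0 = 0) (hF : ∀ a b, F (a ^^^ b) = F a ^^^ F b) (f : ℕ → ℕ)
    (y k : ℕ) : F (xorC f y k) = xorC (fun i => F (f i)) y k := by
  induction k with
  | zero => exact h0
  | succ k ih =>
    simp only [xorC_succ]
    split_ifs
    · rw [hF, ih]
    · exact ih

theorem xorC_pow (y k : ℕ) : xorC (fun i => 2 ^ i) y k = y % 2 ^ k := by
  induction k with
  | zero => simp [xorC_zero, Nat.mod_one]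
  | succ k ih =>
    rw [xorC_succ, ih]
    refine Nat.eq_of_testBit_eq fun j => ?_
    rcases lt_trichotomy j k with h | rfl | h
    · split_ifs <;> simp [Nat.testBit_mod_two_pow, h, h.ne', h.le]
    · split_ifs with h <;> simp [Nat.testBit_mod_two_pow, h]
    · split_ifs <;> simp [Nat.testBit_mod_two_pow, h.ne, h.not_gt, h.not_ge]

theorem xor_ind (P : ℕ → Prop) (h0 : P 0) (hx : ∀ a b, P a → P b → P (a ^^^ b)) {k : ℕ}
    (hp : ∀ i < k, P (2 ^ i)) {y : ℕ} (hy : y < 2 ^ k) : P y := by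
  have := xorC_induction P h0 hx _ y k hp
  rwa [xorC_pow, Nat.mod_eq_of_lt hy] at this

/-- The linear map with code `c`. -/
noncomputable def lin (c y : ℕ) : ℕ := force y fun y => xorC (fld 20 c) y 20

/-- Composition of codes. -/
noncomputable def cmp (a b : ℕ) : ℕ :=
  force a fun a => force b fun b => pk (fun i => lin a (fld 20 b i)) 20

/-- The code of the identity. -/
def ID : ℕ :=
  1291125554700094681454528120150733151374004819596536383975174637135793331478721023188113305127324549703733114332013133825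

theorem lin_eq (c y : ℕ) : lin c y = xorC (fld 20 c) y 20 := force_eq _ _

theorem lin_lt_of {c n : ℕ} (h : ∀ i < 20, fld 20 c i < 2 ^ n) (y : ℕ) : lin c y < 2 ^ n := by
  rw [lin_eq]
  exact xorC_induction (· < 2 ^ n) (Nat.two_pow_pos n) (fun _ _ => Nat.xor_lt_two_pow) _ _ _ h

theorem lin_lt (c y : ℕ) : lin c y < 2 ^ 20 := lin_lt_of (fun _ _ => fld_lt _ _ _) y

theorem lin_xor (c a b : ℕ) : lin c (a ^^^ b) = lin c a ^^^ lin c b := by
  simp only [lin_eq, xorC_xor]

theorem lin_zero (c : ℕ) : lin c 0 = 0 := by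
  simpa using lin_xor c 0 0

theorem lin_add (a b y : ℕ) : lin (Nat.xor a b) y = lin a y ^^^ lin b y := by
  simp only [lin_eq, ← xorC_add]
  exact xorC_congr' (fun i _ => fld_xor a b i) y

theorem fld_cmp (a b : ℕ) {i : ℕ} (hi : i < 20) : fld 20 (cmp a b) i = lin a (fld 20 b i) := by
  rw [cmp, force_eq, force_eq, fld_pk _ _ (fun _ _ => lin_lt _ _) hi]

theorem lin_cmp (a b y : ℕ) : lin (cmp a b) y = lin a (lin b y) := by
  rw [lin_eq, lin_eq b, map_xorC (lin_zero a) (lin_xor a)]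
  exact xorC_congr' (fun i hi => fld_cmp a b hi) y

theorem fld_ID : ∀ i < 20, fld 20 ID i = 2 ^ i := by decide +kernel

theorem lin_ID {y : ℕ} (hy : y < 2 ^ 20) : lin ID y = y := by
  rw [lin_eq, xorC_congr' fld_ID, xorC_pow, Nat.mod_eq_of_lt hy]

theorem lin_pow (c : ℕ) {i : ℕ} (hi : i < 20) : lin c (2 ^ i) = fld 20 c i := by
  have : ∀ k, xorC (fld 20 c) (2 ^ i) k = if i < k then fld 20 c i else 0 := fun k => by
    induction k with
    | zero => rfl
    | succ k ih =>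
      rw [xorC_succ, ih, Nat.testBit_two_pow]
      rcases lt_trichotomy i k with h | rfl | h
      · simp [h, h.ne, h.le]
      · simp
      · simp [h.ne', not_lt.mpr h.le, h]
  rw [lin_eq, this, if_pos hi]

/-- The code of a word. -/
noncomputable def wc (gc : ℕ → ℕ) (w : List ℕ) : ℕ := List.rec ID (fun n _ ih => cmp (gc n) ih) w

variable {Γ : Type*} [Group Γ] {e : ℕ → Γ}

/-- `c` is the code of the automorphism `φ`. -/
def Cd (e : ℕ → Γ) (φ : MulAut Γ) (c : ℕ) : Prop := ∀ i < 20, φ (e i) = th e 20 (fld 20 c i)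

theorem th_pow {i : ℕ} (hi : i < 20) : th e 20 (2 ^ i) = e i := by rw [th_two_pow, if_pos hi]

theorem Cd.ap {φ : MulAut Γ} {c : ℕ} (h : Cd e φ c) (he : CI e 20) (y : ℕ) :
    φ (th e 20 y) = th e 20 (lin c y) := by
  rw [lin_eq, ← he.th_lin h]
  exact map_th φ.toMonoidHom y

theorem cd_one : Cd e 1 ID := fun i hi => by rw [fld_ID i hi, th_pow hi]; rfl

theorem Cd.mul {φ ψ : MulAut Γ} {a b : ℕ} (h : Cd e φ a) (h' : Cd e ψ b) (he : CI e 20) :
    Cd e (φ * ψ) (cmp a b) := fun i hi => by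
  rw [fld_cmp a b hi, ← h.ap he, ← h' i hi]; rfl

theorem cd_wp {g : ℕ → MulAut Γ} {gc : ℕ → ℕ} (he : CI e 20) {w : List ℕ}
    (h : ∀ n ∈ w, Cd e (g n) (gc n)) : Cd e (wp g w) (wc gc w) := by
  induction w with
  | nil => exact cd_one
  | cons n w ih =>
    rw [wp_cons]
    exact (h n (by simp)).mul (ih fun m hm => h m (by simp [hm])) he

theorem Cd.fld_eq {φ : MulAut Γ} {a b : ℕ} (h : Cd e φ a) (h' : Cd e φ b) (hi : Ind e 20) :
    ∀ i < 20, fld 20 a i = fld 20 b i := fun i hi' =>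
  hi _ (fld_lt _ _ _) _ (fld_lt _ _ _) ((h i hi').symm.trans (h' i hi'))

/-- Equality of the columns of two codes. -/
noncomputable def eqB (a b : ℕ) : Bool := allB (fun i => Nat.beq (fld 20 a i) (fld 20 b i)) 20

theorem Cd.eqB {φ : MulAut Γ} {a b : ℕ} (h : Cd e φ a) (h' : Cd e φ b) (hi : Ind e 20) :
    eqB a b = true := allB_iff.2 fun i hi' => beq_iff.2 (h.fld_eq h' hi i hi')

end Cfsg.Agent.H12.M20
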