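import Cfsg.Agent.H12.M20A
import Cfsg.Agent.H73.GraphLU

/-! The extension of the unitary group by an outer involution. -/

set_option autoImplicit false
set_option maxRecDepth 100000

namespace Cfsg.Agent.H12.M20

open H41 H41.U6 H28 H47 H73 Matrix SemidirectProduct

/-- The simple unitary group. -/
abbrev P6 : Type := PSU 6 F4 2

theorem hF4 : Fintype.card F4 = 2 ^ 2 := card_F4

/-- The Frobenius map. -/
noncomputable abbrev fb : RingAut F4 := H26.frobE hF4

theorem C6 : Cls (suToGL 6 F4 2) (gamU 6 F4 2) := clsU hF4 (by norm_num)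

theorem ringAut_F4 (σ : RingAut F4) : σ = 1 ∨ σ = fb := by
  have h1 : σ om * σ om = σ om + 1 := by rw [← map_mul, (by decide : om * om = om + 1), map_add, map_one]
  have h2 : ∀ τ : RingAut F4, σ om = τ om → σ = τ := fun τ h => RingEquiv.ext fun x => by
    rcases (by decide : ∀ x : F4, x = 0 ∨ x = 1 ∨ x = om ∨ x = om + 1) x with rfl | rfl | rfl | rfl <;>
      simp [h]
  refine ((by decide : ∀ y : F4, y * y = y + 1 → y = om ∨ y = om ^ 2) _ h1).imp (h2 1) (h2 fb)

theorem cube_F4 (u : F4ˣ) : u ^ 3 = 1 :=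
  Units.ext (by simpa using f4_pow_three card_F4 u.ne_zero)

theorem det_scalar6 (u : F4ˣ) :
    GeneralLinearGroup.det (GeneralLinearGroup.scalar (Fin 6) u) = 1 := by
  rw [GeneralLinearGroup.det_scalar, Fintype.card_fin, show 6 = 3 * 2 from rfl, pow_mul, cube_F4,
    one_pow]

theorem det_fb (g : GL (Fin 6) F4) :
    GeneralLinearGroup.det (glMap _ F4 fb g) = GeneralLinearGroup.det g ^ 2 := by
  rw [det_glMap]; exact Units.ext (by simp [H26.frobE_apply])

theorem det_j (g : S6) : GeneralLinearGroup.det (suToGL 6 F4 2 g) = 1 :=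
  (exists_suToGL_eq.1 ⟨g, rfl⟩).2

/-- Elements of the special unitary group as semilinear maps. -/
def jG (g : S6) : gamU 6 F4 2 := ⟨inl (suToGL 6 F4 2 g), C6.mem g⟩

/-- The Frobenius map as a semilinear map. -/
noncomputable def σG : gamU 6 F4 2 := ⟨inr fb, inr_mem_gamU fb⟩

theorem theta_jG (g : S6) : C6.theta (jG g) = MulAut.conj (mk6 g) := C6.diag_j g

theorem fb_sq : fb * fb = 1 := RingEquiv.ext (isInvol_frobE hF4).invol

theorem σG_sq : σG * σG = 1 := Subtype.ext (by
  change (inr fb * inr fb : GammaL (Fin 6) F4) = 1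
  rw [← map_mul, fb_sq, map_one])

theorem simple6 : IsSimpleGroup P6 := H31.isSimpleGroup_PSU hF4 (by omega) (by omega)

/-- What is used about `U₆(2)` and `U₆(2).2`. -/
structure KD {K : Type*} [Group K] (ι : P6 →* K) (s : K) (b : ℕ) : Prop where
  inj : Function.Injective ι
  b78 : b = 7 ∨ b = 8
  two : ∀ k, k ∈ ι.range ∨ b = 8 ∧ k * s ∈ ι.range
  ss : s * s = 1
  bar : b = 8 → ∀ g g' : S6, mat g' = (mat g).map (· ^ 2) → s * ι (mk6 g) * s⁻¹ = ι (mk6 g')
  cls : ∀ k, k ∉ ι.range → k * k = 1 →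
    ∃ c, c * k * c⁻¹ = s ∨ c * k * c⁻¹ = ι (mk6 (PM w0)) * s
  nrm : ∀ N : Subgroup K, N.Normal → N = ⊥ ∨ ι.range ≤ N

variable {K : Type*} [Group K]

theorem kd_inner (e : P6 ≃* K) : KD e.toMonoidHom 1 7 where
  inj := e.injective
  b78 := Or.inl rfl
  two k := Or.inl (e.surjective k)
  ss := mul_one 1
  bar h := absurd h (by norm_num)
  cls k h := absurd (e.surjective k) h
  nrm N hN := by
    have := simple6
    exact (e.symm.isSimpleGroup.eq_bot_or_eq_top_of_normal N hN).imp_right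
      fun h : N = ⊤ => h ▸ le_top

/-- An embedding with image of index two and the induced automorphisms. -/
structure IC (ι : P6 →* K) (c : K →* MulAut P6) : Prop where
  inj : Function.Injective ι
  conj : ∀ k x, ι (c k x) = k * ι x * k⁻¹
  cinj : Function.Injective c
  idx : ι.range.index = 2

namespace IC

variable {ι : P6 →* K} {c : K →* MulAut P6} (h : IC ι c)
include h

theorem c_ι (g : S6) : c (ι (mk6 g)) = C6.theta (jG g) := by
  rw [theta_jG]
  exact MulEquiv.ext fun x => h.inj (by rw [h.conj, MulAut.conj_apply, map_mul, map_mul, map_inv])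

theorem mul_mem {k k' : K} (hk : k ∉ ι.range) (hk' : k' ∉ ι.range) : k * k' ∈ ι.range :=
  (Subgroup.mul_mem_iff_of_index_two h.idx).2 (iff_of_false hk hk')

theorem right_eq {k : K} (hk : k ∉ ι.range) {γ : gamU 6 F4 2} (e : c k = C6.theta γ) :
    γ.1.right = fb := by
  refine (ringAut_F4 _).resolve_left fun h1 => hk ?_
  obtain ⟨x, hx⟩ := h.mul_mem hk hk
  obtain ⟨g, rfl⟩ := QuotientGroup.mk'_surjective _ x
  have h2 := h.c_ι g
  rw [hx, map_mul, e, ← map_mul, C6.theta_eq_iff] at h2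
  obtain ⟨u, hu⟩ := h2
  have h3 := congrArg (fun x : GammaL (Fin 6) F4 => GeneralLinearGroup.det x.left) hu
  simp only [jG, Subgroup.coe_mul, mul_left, h1, map_one, MulAut.one_apply, map_mul, left_inl,
    right_inl, det_scalar6, det_j, mul_one] at h3
  obtain ⟨g', hg'⟩ := exists_suToGL_eq.2 ⟨γ.2, by
    rw [← cube_F4 (GeneralLinearGroup.det γ.1.left), pow_three, h3, mul_one]⟩
  refine ⟨mk6 g', h.cinj ?_⟩
  rw [h.c_ι, e]
  exact congrArg _ (Subtype.ext (SemidirectProduct.ext hg' h1.symm))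

theorem twist (α : MulAut P6) :
    IC (ι.comp α.symm.toMonoidHom) ((MulAut.conj α).toMonoidHom.comp c) where
  inj := h.inj.comp α.symm.injective
  conj k x := by simp [← h.conj]
  cinj := (MulAut.conj α).injective.comp h.cinj
  idx := by
    rw [MonoidHom.range_comp, MonoidHom.range_eq_top.2 α.symm.surjective, ← MonoidHom.range_eq_map,
      h.idx]

theorem exists_s : ∃ (ι' : P6 →* K) (c' : K →* MulAut P6) (s : K), IC ι' c' ∧
    c' s = C6.theta σG := by
  obtain ⟨k, hk⟩ : ∃ k, k ∉ ι.range := by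
    by_contra! h1
    have := h.idx
    rw [(Subgroup.eq_top_iff' _).2 h1, Subgroup.index_top] at this
    omega
  obtain ⟨γ, hγ⟩ := thetaU_surjective hF4 (n := 6) (by norm_num) (by norm_num) (c k)
  have h1 := h.right_eq hk hγ.symm
  let δ : gamU 6 F4 2 := ⟨inl (dgl 0 (GeneralLinearGroup.det γ.1.left)),
    dgl_mem_GU hF4 0 (det_mem_muU hF4 γ.2)⟩
  have h2 := h.twist (C6.theta δ)
  obtain ⟨g, hg⟩ := exists_suToGL_eq.2 ⟨(δ * γ * δ⁻¹).2, by
    rw [show (δ * γ * δ⁻¹).1.left = δ.1.left * γ.1.left * glMap _ F4 fb δ.1.left⁻¹ by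
      simp [δ, ← map_inv, h1], map_mul, map_mul, det_fb, map_inv]
    simp [δ, det_dgl, pow_two]⟩
  refine ⟨_, _, ((ι.comp (C6.theta δ).symm.toMonoidHom) (mk6 g))⁻¹ * k, h2, ?_⟩
  rw [map_mul, map_inv, h2.c_ι, inv_mul_eq_iff_eq_mul, ← map_mul]
  change C6.theta δ * c k * (C6.theta δ)⁻¹ = _
  rw [← hγ, ← map_inv, ← map_mul, ← map_mul]
  refine congrArg _ (Subtype.ext (SemidirectProduct.ext ?_ ?_))
  · simpa [jG, σG] using hg.symm
  · simp [jG, σG, δ, ← map_inv, h1]

end IC

/-- The alternating form. -/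
def B0 : GL (Fin 6) (ZMod 2) :=
  ⟨of fun i j => if i = w0 j then 1 else 0, of fun i j => if i = w0 j then 1 else 0,
    by decide +kernel, by decide +kernel⟩

/-- A basis of vectors fixed by the second outer involution. -/
def k0 : GL (Fin 6) F4 :=
  ⟨of fun i j => if i = j then (if i < 3 then om else 1) else if i = w0 j then
      (if i < 3 then 1 else om + 1) else 0,
    of fun i j => if i = j then (if i < 3 then 1 else om) else if i = w0 j then
      (if i < 3 then 1 else om + 1) else 0,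
    by decide +kernel, by decide +kernel⟩

theorem fix_fb (x : F4) : fb x = x ↔ ∃ y, algebraMap (ZMod 2) F4 y = x :=
  (by decide : ∀ x : F4, x ^ 2 = x ↔ ∃ y, algebraMap (ZMod 2) F4 y = x) x

theorem coe_fb (g : GL (Fin 6) F4) : (glMap _ F4 fb g).1 = g.1.map (· ^ 2) := rfl

theorem coe_j (g : S6) : (suToGL 6 F4 2 g).1 = mat g := rfl

theorem coe_map2 (g : GL (Fin 6) (ZMod 2)) : (GeneralLinearGroup.map (algebraMap (ZMod 2) F4) g).1 =
    g.1.map (algebraMap (ZMod 2) F4) := rfl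

theorem uform1 : UForm hF4 (by norm_num) (algebraMap (ZMod 2) F4) (C6.theta σG) 1 :=
  ⟨1, 1, 1, by simpa using inr_mem_gamU fb, congrArg _ (Subtype.ext (by simp [σG])),
    by simp [gramU]⟩

theorem uform0 :
    UForm hF4 (by norm_num) (algebraMap (ZMod 2) F4) (C6.theta (jG (PM w0) * σG)) B0 := by
  have h1 : suToGL 6 F4 2 (PM w0) * glMap _ F4 fb k0 = k0 := Units.ext (by
    rw [Units.val_mul, coe_fb, coe_j]
    decide +kernel)
  have h2 : (jG (PM w0) * σG).1 = inl (GeneralLinearGroup.scalar _ 1) * (inl k0 * inr fb * (inl k0)⁻¹) := by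
    refine SemidirectProduct.ext ?_ (by simp [jG, σG, ← map_inv])
    simpa [jG, σG, ← map_inv] using (eq_mul_inv_of_mul_eq h1).trans (by rw [map_inv])
  refine ⟨k0, 1, 1, h2 ▸ (jG (PM w0) * σG).2, congrArg _ (Subtype.ext h2), Units.ext ?_⟩
  rw [map_one, one_mul, gramU, Units.val_mul, coe_tr, coe_fb, coe_map2]
  decide +kernel

theorem two_Z2 : (2 : ZMod 2) = 0 := rfl

theorem tr_B0 : tr B0 = GeneralLinearGroup.scalar _ 1 * B0 := by
  rw [map_one, one_mul]
  exact Units.ext (by rw [coe_tr]; decide +kernel)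

theorem alt_B0 : (bl B0).IsAlt := fun x => by
  change bl B0 x x = 0
  rw [bl_apply]
  revert x
  decide +kernel

theorem not_alt_one : ¬ (bl (1 : GL (Fin 6) (ZMod 2))).IsAlt := fun h => by
  have := h (Pi.single 0 1)
  simp [bl] at this

theorem symm_one : (bl (1 : GL (Fin 6) (ZMod 2))).IsSymm :=
  symm_of_two (ε := 1) two_Z2 (by rw [map_one, one_mul, tr, map_one, inv_one])

theorem jG_one : jG 1 = 1 := Subtype.ext (by simp [jG])

theorem conj_su {g g' : S6}
    (h : IsConjUnder C6.diag.range (C6.theta (jG g * σG)) (C6.theta (jG g' * σG))) :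
    ∃ d, C6.theta (jG g' * σG) = C6.theta (jG d) * C6.theta (jG g * σG) * (C6.theta (jG d))⁻¹ := by
  obtain ⟨x, ⟨d, hx⟩, h7⟩ := h
  let δ : gamU 6 F4 2 := ⟨inl d.1, d.2⟩
  replace hx : C6.theta δ = x := hx
  have h8 := h7
  rw [← hx, ← map_inv, ← map_mul, ← map_mul, C6.theta_eq_iff] at h8
  obtain ⟨u, hu⟩ := h8
  have h9 := congrArg (fun x : GammaL (Fin 6) F4 => GeneralLinearGroup.det x.left) hu
  simp only [show (δ * (jG g * σG) * δ⁻¹).1.left = d.1 * suToGL 6 F4 2 g * glMap _ F4 fb d.1⁻¹ by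
    simp [δ, jG, σG, ← map_inv], show (jG g' * σG).1.left = suToGL 6 F4 2 g' by simp [jG, σG],
    mul_left, left_inl, right_inl, map_one, MulAut.one_apply, map_mul, det_fb, det_j, det_scalar6,
    map_inv, one_mul, mul_one] at h9
  obtain ⟨d', hd⟩ := exists_suToGL_eq.2 ⟨d.2, by simpa [pow_two] using h9⟩
  exact ⟨d', by rw [h7, ← hx, show jG d' = δ from Subtype.ext (congrArg inl hd)]⟩

theorem IC.kd {ι : P6 →* K} {c : K →* MulAut P6} (h : IC ι c) {s : K} (hs : c s = C6.theta σG) :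
    KD ι s 8 := by
  have ss : s * s = 1 := h.cinj (by rw [map_mul, hs, ← map_mul, σG_sq, map_one, map_one])
  have hs' : s ∉ ι.range := by
    rintro ⟨x, rfl⟩
    obtain ⟨g, rfl⟩ := QuotientGroup.mk'_surjective _ x
    obtain ⟨u, hu⟩ := C6.theta_eq_iff.1 ((h.c_ι g).symm.trans hs)
    have := congrArg (fun x : GammaL (Fin 6) F4 => x.right om) hu
    simp only [jG, σG, right_inl, mul_right, right_inr, one_mul] at this
    exact absurd (show om = om ^ 2 from this) (by decide)
  refine ⟨h.inj, Or.inr rfl, fun k => or_iff_not_imp_left.2 fun hk => ⟨rfl, h.mul_mem hk hs'⟩, ss,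
    fun _ g g' e => ?_, fun k hk hk2 => ?_, fun N hN => ?_⟩
  · rw [← h.conj, hs]
    exact congrArg ι (C6.theta_mk σG (Units.ext (by
      rw [σG, gammaAct_inr]; exact e)))
  · obtain ⟨x, hx⟩ := h.mul_mem hk hs'
    obtain ⟨g, rfl⟩ := QuotientGroup.mk'_surjective _ x
    obtain rfl : k = ι (mk6 g) * s := by rw [hx, mul_assoc, ss, mul_one]
    have h1 : ∀ g, c (ι (mk6 g) * s) = C6.theta (jG g * σG) := fun g => by
      rw [map_mul, map_mul, h.c_ι, hs]
    obtain ⟨B, ε, h2, h3⟩ := exists_uForm hF4 (by norm_num) fix_fb (γ := jG g * σG)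
      (by simp [jG, σG]) (by rw [← h1, ← map_pow, pow_two, hk2, map_one])
    have key : ∀ (g' : S6) (B' : GL (Fin 6) (ZMod 2)),
        UForm hF4 (by norm_num) (algebraMap (ZMod 2) F4) (C6.theta (jG g' * σG)) B' →
        (bl B').IsSymm → ((bl B).IsAlt ↔ (bl B').IsAlt) →
        ∃ d, d * (ι (mk6 g) * s) * d⁻¹ = ι (mk6 g') * s := fun g' B' h4 h5 h6 => by
      obtain ⟨d, hd⟩ := conj_su ((h3.conj_iff hF4 _ fix_fb h4).2
        (simF_two two_Z2 (symm_of_two two_Z2 h2) h5 h6))
      exact ⟨ι (mk6 d), h.cinj (by rw [map_mul, map_mul, map_inv, h1, h1, hd, h.c_ι])⟩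
    by_cases h4 : (bl B).IsAlt
    · obtain ⟨d, hd⟩ := key (PM w0) B0 uform0 (symm_of_two two_Z2 tr_B0) (iff_of_true h4 alt_B0)
      exact ⟨d, Or.inr hd⟩
    · obtain ⟨d, hd⟩ := key 1 1 (by rw [jG_one, one_mul]; exact uform1) symm_one
        (iff_of_false h4 not_alt_one)
      exact ⟨d, Or.inl (by simpa using hd)⟩
  · have := simple6
    refine ((hN.comap ι).eq_bot_or_eq_top).imp (fun e => eq_bot_iff.2 fun n hn => h.cinj ?_)
      fun e => by rintro _ ⟨x, rfl⟩; exact e.ge (Subgroup.mem_top x)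
    rw [map_one]
    refine MulEquiv.ext fun x => ?_
    have h1 : c n x * x⁻¹ ∈ N.comap ι := by
      rw [Subgroup.mem_comap, map_mul, h.conj, map_inv, mul_assoc, mul_assoc]
      exact N.mul_mem hn (by simpa [mul_assoc] using hN.conj_mem _ (N.inv_mem hn) (ι x))
    exact mul_inv_eq_one.1 (e.le h1)

theorem exists_kd {F : Type*} [Field F] [Fintype F] (hF : Fintype.card F = 4)
    (hK : Nonempty (K ≃* PSU 6 F 2) ∨ ∃ K₀ : Subgroup K, K₀.Normal ∧ K₀.index = 2 ∧
      Nonempty (K₀ ≃* PSU 6 F 2) ∧ Subgroup.centralizer (K₀ : Set K) = ⊥) :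
    ∃ (ι : P6 →* K) (s : K) (b : ℕ), KD ι s b := by
  rcases hK with ⟨⟨e⟩⟩ | ⟨K₀, hn, hi, ⟨e⟩, hc⟩
  · exact ⟨_, _, _, kd_inner (e.trans (psuEquiv (equivF4 hF) 6 2)).symm⟩
  let e' := e.trans (psuEquiv (equivF4 hF) 6 2)
  have h : IC (K₀.subtype.comp e'.symm.toMonoidHom)
      ((MulAut.congr e').toMonoidHom.comp MulAut.conjNormal) :=
    { inj := K₀.subtype_injective.comp e'.symm.injective
      conj := fun k x => by simp
      cinj := (injective_iff_map_eq_one _).2 fun k hk => hc.le fun x hx => by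
        have := DFunLike.congr_fun hk (e' ⟨x, hx⟩)
        simp only [MulEquiv.toMonoidHom_eq_coe, MonoidHom.coe_comp, MonoidHom.coe_coe,
          Function.comp_apply, MulAut.congr_apply, MulEquiv.trans_apply, MulEquiv.symm_apply_apply,
          MulAut.one_apply, EmbeddingLike.apply_eq_iff_eq] at this
        exact (mul_inv_eq_iff_eq_mul.1 (congrArg Subtype.val this)).symm
      idx := by
        rw [MonoidHom.range_comp, MonoidHom.range_eq_top.2 e'.symm.surjective,
          ← MonoidHom.range_eq_map, Subgroup.range_subtype, hi] }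
  obtain ⟨ι, c, s, h1, h2⟩ := h.exists_s
  exact ⟨ι, s, 8, h1.kd h2⟩

end Cfsg.Agent.H12.M20
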