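import Cfsg.Agent.H12.M20K

/-! Weight spaces of the diagonal group on an elementary abelian group of order `2 ^ 20`. -/

set_option autoImplicit false

namespace Cfsg.Agent.H12.M20

open H41 H41.Rec H42 Equiv

/-- Exponent vectors. -/
abbrev T6 : Type := Fin 6 → ZMod 3

/-- A basic exponent vector. -/
def t0 : T6 := ![1, 0, 0, 0, 0, 2]

theorem sum_t0 : ∑ i, t0 i = 0 := by decide

theorem sum_smul {t : T6} (h : ∑ i, t i = 0) (k : ZMod 3) : ∑ i, (k • t) i = 0 := by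
  simp only [Pi.smul_apply, smul_eq_mul, ← Finset.mul_sum, h, mul_zero]

theorem sum_comp {t : T6} (h : ∑ i, t i = 0) (π : Perm (Fin 6)) : ∑ i, (t ∘ π) i = 0 :=
  (Equiv.sum_comp π t).trans h

theorem three (t : T6) : t + t + t = 0 := funext fun i =>
  (by decide : ∀ a : ZMod 3, a + a + a = 0) (t i)

/-- An action of the monomial group. -/
structure WD (V : Type*) [CommGroup V] where
  /-- the diagonal elements -/
  δ : T6 → MulAut V
  /-- the permutation matrices -/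
  P : Perm (Fin 6) →* MulAut V
  sq : ∀ v : V, v * v = 1
  δadd : ∀ s t, δ (s + t) = δ s * δ t
  δone : δ 1 = 1
  Pδ : ∀ (π : Perm (Fin 6)) t, ∑ i, t i = 0 → P π * δ (t ∘ π) = δ t * P π
  card : Nat.card V = 2 ^ 20
  nt : δ t0 ≠ 1

/-- The exponent vectors in the kernel of a weight. -/
def Sk (μ : T6) : AddSubgroup T6 where
  carrier := {t | ∑ i, t i = 0 ∧ μ ⬝ᵥ t = 0}
  zero_mem' := by simp
  add_mem' := fun h h' => ⟨by simp [Finset.sum_add_distrib, h.1, h'.1], by simp [h.2, h'.2]⟩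
  neg_mem' := fun h => ⟨by simp [h.1], by simp [h.2]⟩

noncomputable instance instFintypeSk (μ : T6) : Fintype (Sk μ) := Fintype.ofFinite _

theorem odd_Sk (μ : T6) : Odd (Fintype.card (Sk μ)) := by
  have := AddSubgroup.card_addSubgroup_dvd_card (Sk μ)
  rw [Nat.card_eq_fintype_card, Nat.card_eq_fintype_card, Fintype.card_pi] at this
  exact Odd.of_dvd_nat (by simp; decide) this

/-- The permuted weights are separated. -/
def Sep (μ : T6) (π : ℕ → Perm (Fin 6)) (n : ℕ) : Prop := ∀ i < n, ∀ j < n, i ≠ j →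
  ∃ c d, μ ((π j)⁻¹ c) = μ ((π j)⁻¹ d) ∧ μ ((π i)⁻¹ c) ≠ μ ((π i)⁻¹ d)

/-- The coefficient of a coordinate vector on a line of the frame. -/
def cf {V : Type*} [CommGroup V] (b c : V) (y i : ℕ) : V :=
  (if y.testBit (2 * i) = true then b else 1) * if y.testBit (2 * i + 1) = true then c else 1

namespace WD

variable {V : Type*} [CommGroup V] (W : WD V)

theorem δzero : W.δ 0 = 1 := by simpa using W.δadd 0 0

theorem δδ (s t : T6) (a : V) : W.δ s (W.δ t a) = W.δ (s + t) a := by rw [W.δadd]; rfl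

include W in
theorem ci (e : ℕ → V) (k : ℕ) : CI e k := ⟨fun _ _ => W.sq _, fun _ _ _ _ => mul_comm _ _⟩

include W in
theorem cube (a : V) : a * a * a = a := by rw [W.sq, one_mul]

theorem Pδ' (π : Perm (Fin 6)) {t : T6} (h : ∑ i, t i = 0) (a : V) :
    W.δ t (W.P π a) = W.P π (W.δ (t ∘ π) a) := (DFunLike.congr_fun (W.Pδ π t h) a).symm

/-- The norm map of a diagonal element. -/
def Nn (t : T6) : V →* V :=
  MonoidHom.id V * (W.δ t).toMonoidHom * (W.δ (t + t)).toMonoidHom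

theorem Nn_apply (t : T6) (a : V) : W.Nn t a = a * W.δ t a * W.δ (t + t) a := rfl

theorem δNn (s t : T6) (a : V) : W.δ s (W.Nn t a) = W.Nn t (W.δ s a) := by
  simp only [Nn_apply, map_mul, δδ, add_comm s]

theorem NnNn (s t : T6) (a : V) : W.Nn s (W.Nn t a) = W.Nn t (W.Nn s a) := by
  rw [Nn_apply, δNn, δNn, ← map_mul, ← map_mul, ← Nn_apply]

theorem δNn_self (t : T6) (a : V) : W.δ t (W.Nn t a) = W.Nn t a := by
  simp only [Nn_apply, map_mul, δδ]
  rw [← add_assoc, three, W.δzero, MulAut.one_apply, mul_rotate a]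

/-- The weight space. -/
def B (μ : T6) : Subgroup V where
  carrier := {a | ∀ t, ∑ i, t i = 0 → (μ ⬝ᵥ t = 0 → W.δ t a = a) ∧ (μ ⬝ᵥ t ≠ 0 → W.Nn t a = 1)}
  one_mem' := fun _ _ => ⟨fun _ => map_one _, fun _ => map_one _⟩
  mul_mem' := fun h h' t ht => ⟨fun e => by rw [map_mul, (h t ht).1 e, (h' t ht).1 e],
    fun e => by rw [map_mul, (h t ht).2 e, (h' t ht).2 e, mul_one]⟩
  inv_mem' := fun h t ht => ⟨fun e => by rw [map_inv, (h t ht).1 e],
    fun e => by rw [map_inv, (h t ht).2 e, inv_one]⟩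

variable {W} {μ ν : T6} {a : V}

theorem δ_mem (h : a ∈ W.B μ) (s : T6) : W.δ s a ∈ W.B μ := fun t ht =>
  ⟨fun e => by rw [δδ, add_comm, ← δδ, (h t ht).1 e], fun e => by rw [← δNn, (h t ht).2 e, map_one]⟩

theorem P_mem (h : a ∈ W.B μ) (π : Perm (Fin 6)) : W.P π a ∈ W.B (μ ∘ ⇑π⁻¹) := fun t ht => by
  have h1 : (μ ∘ ⇑π⁻¹) ⬝ᵥ t = μ ⬝ᵥ (t ∘ π) := comp_equiv_symm_dotProduct μ t π
  have h2 := h _ (sum_comp ht π)
  rw [h1]
  refine ⟨fun e => by rw [W.Pδ' π ht, h2.1 e], fun e => ?_⟩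
  rw [Nn_apply, W.Pδ' π ht, W.Pδ' π (t := t + t) (by simp [Finset.sum_add_distrib, ht]),
    ← map_mul, ← map_mul]
  exact (congrArg _ (h2.2 e)).trans (map_one _)

theorem dot_eq {ε c : ZMod 3} (h : ∀ i, ν i = ε * μ i + c) {t : T6} (ht : ∑ i, t i = 0) :
    ν ⬝ᵥ t = ε * μ ⬝ᵥ t := by
  simp only [dotProduct, h, add_mul, Finset.sum_add_distrib, ← Finset.mul_sum, ht, mul_assoc,
    mul_zero, add_zero]

theorem mem_of (h : a ∈ W.B ν) {ε c : ZMod 3} (hε : ε ≠ 0) (e : ∀ i, ν i = ε * μ i + c) :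
    a ∈ W.B μ := fun t ht => by
  have := h t ht
  rwa [dot_eq e ht, ne_eq, mul_eq_zero_iff_left hε] at this

theorem eq_one_of_fix {t : T6} (h1 : W.Nn t a = 1) (h2 : W.δ t a = a) : a = 1 := by
  rwa [Nn_apply, ← δδ, h2, h2, W.cube] at h1

theorem δ_eq (h : a ∈ W.B μ) (h0 : μ ⬝ᵥ t0 = 1) {t : T6} (ht : ∑ i, t i = 0) :
    W.δ t a = W.δ ((μ ⬝ᵥ t) • t0) a := by
  rw [← add_sub_cancel ((μ ⬝ᵥ t) • t0) t, ← δδ, add_sub_cancel,
    (h _ (by simp [Finset.sum_sub_distrib, ht, ← Finset.mul_sum, sum_t0])).1 (by simp [h0])]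

variable (W) in
/-- The projection onto the fixed points of the kernel of a weight. -/
noncomputable def pr (μ : T6) : V →* V := ∏ t : Sk μ, (W.δ t).toMonoidHom

theorem pr_apply (a : V) : W.pr μ a = ∏ t : Sk μ, W.δ t a := MonoidHom.finsetProd_apply _ _ _

theorem pr_self (h : a ∈ W.B μ) : W.pr μ a = a := by
  obtain ⟨k, hk⟩ := odd_Sk μ
  rw [pr_apply, Finset.prod_congr rfl fun (t : Sk μ) _ => (h t t.2.1).1 t.2.2, Finset.prod_const,
    Finset.card_univ, hk, pow_succ, pow_mul, pow_two, W.sq, one_pow, one_mul]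

theorem pr_δ (s : Sk μ) (a : V) : W.pr μ (W.δ s a) = W.pr μ a := by
  simp only [pr_apply, δδ]
  exact Equiv.prod_comp (Equiv.addRight s) fun t : Sk μ => W.δ t a

theorem pr_other (h : a ∈ W.B ν) {c d : Fin 6} (h1 : μ c = μ d) (h2 : ν c ≠ ν d) :
    W.pr μ a = 1 := by
  let s : Sk μ := ⟨Pi.single c 1 - Pi.single d 1, by simp [Finset.sum_sub_distrib], by simp [h1]⟩
  have := congrArg (W.pr μ) ((h s s.2.1).2 (by simpa [s, sub_eq_zero] using h2))
  rwa [Nn_apply, map_mul, map_mul, ← δδ, pr_δ s (W.δ s a), pr_δ, W.cube, map_one] at this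

variable (W) in
/-- The frame. -/
def fr (π : ℕ → Perm (Fin 6)) (b c : V) (k : ℕ) : V :=
  W.P (π (k / 2)) (if k % 2 = 0 then b else c)

variable {π : ℕ → Perm (Fin 6)} {b c : V} {n : ℕ}

theorem fr_even (i : ℕ) : W.fr π b c (2 * i) = W.P (π i) b := by simp [fr]

theorem fr_odd (i : ℕ) : W.fr π b c (2 * i + 1) = W.P (π i) c := by
  rw [fr, if_neg (by omega), show (2 * i + 1) / 2 = i by omega]

theorem th_fr (n y : ℕ) :
    th (W.fr π b c) (2 * n) y = ∏ i ∈ Finset.range n, W.P (π i) (cf b c y i) := by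
  induction n with
  | zero => rfl
  | succ n ih =>
    rw [mul_add, th_succ, th_succ, ih, Finset.prod_range_succ, fr_even, fr_odd, cf]
    split_ifs <;> simp [mul_assoc]

theorem pr_th (hb : b ∈ W.B μ) (hc : c ∈ W.B μ) (hs : Sep μ π n) {j : ℕ} (hj : j < n) (y : ℕ) :
    W.pr (μ ∘ ⇑(π j)⁻¹) (th (W.fr π b c) (2 * n) y) = W.P (π j) (cf b c y j) := by
  have h1 : ∀ i, W.P (π i) (cf b c y i) ∈ W.B (μ ∘ ⇑(π i)⁻¹) := fun i => P_mem (mul_mem
    (by split_ifs; exacts [hb, one_mem _]) (by split_ifs; exacts [hc, one_mem _])) _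
  rw [th_fr, map_prod, Finset.prod_eq_single_of_mem j (Finset.mem_range.2 hj), pr_self (h1 j)]
  intro i hi hij
  obtain ⟨c, d, h2, h3⟩ := hs i (Finset.mem_range.1 hi) j hj hij
  exact pr_other (h1 i) h2 h3

theorem ind_fr (hb : b ∈ W.B μ) (h1 : b ≠ 1) (h0 : μ ⬝ᵥ t0 = 1) (hs : Sep μ π n) :
    Ind (W.fr π b (W.δ t0 b)) (2 * n) := fun x hx y hy e => by
  have h2 : W.δ t0 b ≠ 1 := by simpa using h1
  have h3 : b * W.δ t0 b ≠ 1 := fun e => h1 (by
    simpa [Nn_apply, e] using (hb t0 sum_t0).2 (by simp [h0]))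
  have h4 : th (W.fr π b (W.δ t0 b)) (2 * n) (x ^^^ y) = 1 := by rw [(W.ci _ _).th_xor, e, W.sq]
  refine Nat.eq_of_xor_eq_zero (Nat.eq_of_testBit_eq fun k => ?_)
  rw [Nat.zero_testBit]
  by_cases hk : k < 2 * n
  · have h5 := pr_th hb (δ_mem hb t0) hs (j := k / 2) (by omega) (x ^^^ y)
    rw [h4, map_one, eq_comm, map_eq_one_iff _ (MulEquiv.injective _), cf] at h5
    split_ifs at h5 with h6 h7 h7
    · exact absurd h5 h3
    · exact absurd (by simpa using h5) h1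
    · exact absurd (by simpa using h5) h2
    · rcases Nat.mod_two_eq_zero_or_one k with e | e
      · rwa [show 2 * (k / 2) = k by omega, Bool.not_eq_true] at h6
      · rwa [show 2 * (k / 2) + 1 = k by omega, Bool.not_eq_true] at h7
  · exact Nat.testBit_lt_two_pow ((Nat.xor_lt_two_pow hx hy).trans_le
      (Nat.pow_le_pow_right (by norm_num) (by omega)))

theorem finite (W : WD V) : Finite V := Nat.finite_of_card_ne_zero (by rw [W.card]; norm_num)

theorem le_ten (hb : b ∈ W.B μ) (h1 : b ≠ 1) (h0 : μ ⬝ᵥ t0 = 1) (hs : Sep μ π n) : n ≤ 10 := by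
  have := W.finite
  have h2 := Subgroup.card_le_card_group (sp (W.fr π b (W.δ t0 b)) (2 * n))
  rw [(W.ci _ _).card_sp (ind_fr hb h1 h0 hs), W.card,
    Nat.pow_le_pow_iff_right (by norm_num)] at h2
  omega

theorem sp_fr (hb : b ∈ W.B μ) (h1 : b ≠ 1) (h0 : μ ⬝ᵥ t0 = 1) (hs : Sep μ π 10) :
    sp (W.fr π b (W.δ t0 b)) 20 = ⊤ :=
  have := W.finite
  Subgroup.eq_top_of_card_eq _ (((W.ci _ _).card_sp (ind_fr hb h1 h0 hs)).trans W.card.symm)

theorem step {w : V} (h1 : w ≠ 1) (h2 : W.Nn t0 w = 1) (t : T6) :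
    ∃ k : ZMod 3, W.Nn (t - k • t0) w ≠ 1 := by
  by_contra h
  push Not at h
  have h3 := congrArg₂ (· * ·) (congrArg₂ (· * ·) (h 0) (h 1)) (h 2)
  have e1 : t - (0 : ZMod 3) • t0 = t := by simp
  have e2 : t - (1 : ZMod 3) • t0 = t + (t0 + t0) := by
    rw [sub_eq_add_neg]; congr 1; decide
  have e3 : t - (2 : ZMod 3) • t0 = t + t0 := by rw [sub_eq_add_neg]; congr 1; decide
  have e4 : t + (t0 + t0) + (t + (t0 + t0)) = t + t + t0 := by
    rw [add_add_add_comm]; congr 1; decide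
  have h4 := fun s => congrArg (W.δ s) h2
  simp only [Nn_apply, map_mul, δδ, map_one] at h4
  simp only [e1, e2, e3, Nn_apply, e4, add_add_add_comm t t0 t t0, mul_one] at h3
  apply h1
  calc w = w * w * w * (W.δ t w * W.δ (t + t0) w * W.δ (t + (t0 + t0)) w) *
        (W.δ (t + t) w * W.δ (t + t + t0) w * W.δ (t + t + (t0 + t0)) w) := by
          rw [h4, h4, W.cube, mul_one, mul_one]
    _ = 1 := by
      rw [← h3]
      exact (fun a b c d e f g : V => (by ac_rfl :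
        a * a * a * (b * c * d) * (e * f * g) = a * b * e * (a * d * f) * (a * c * g)))
        _ _ _ _ _ _ _

theorem exists_w (l : List T6) : ∃ w : V, w ≠ 1 ∧ W.Nn t0 w = 1 ∧
    ∀ t ∈ l, ∃ k : ZMod 3, W.δ t w = W.δ (k • t0) w := by
  induction l with
  | nil =>
    obtain ⟨a, ha⟩ := DFunLike.ne_iff.1 W.nt
    refine ⟨W.δ t0 a * a, fun e => ha (mul_right_cancel (e.trans (W.sq a).symm)), ?_, by simp⟩
    rw [map_mul, ← δNn, δNn_self, W.sq]
  | cons t l ih =>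
    obtain ⟨w, h1, h2, h3⟩ := ih
    obtain ⟨k, hk⟩ := step h1 h2 t
    refine ⟨_, hk, by rw [NnNn, h2, map_one], List.forall_mem_cons.2 ⟨⟨k, ?_⟩, fun s hs => ?_⟩⟩
    · nth_rw 2 [← δNn_self]
      rw [δδ, add_sub_cancel]
    · obtain ⟨j, hj⟩ := h3 s hs
      exact ⟨j, by rw [δNn, δNn, hj]⟩

theorem Nn_smul {w : V} (h : W.Nn t0 w = 1) {k : ZMod 3} (hk : k ≠ 0) : W.Nn (k • t0) w = 1 := by
  rcases (by decide : ∀ k : ZMod 3, k ≠ 0 → k = 1 ∨ k = 2) k hk with rfl | rfl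
  · rwa [one_smul]
  · rw [← h, Nn_apply, Nn_apply, mul_right_comm,
      (by decide : (2 : ZMod 3) • t0 + (2 : ZMod 3) • t0 = t0),
      (by decide : (2 : ZMod 3) • t0 = t0 + t0)]

theorem smul_inj {w : V} (h1 : w ≠ 1) (h : W.Nn t0 w = 1) {k j : ZMod 3}
    (e : W.δ (k • t0) w = W.δ (j • t0) w) : k = j := by
  by_contra hne
  refine h1 (eq_one_of_fix (Nn_smul h (sub_ne_zero.2 hne)) ?_)
  rw [sub_smul, sub_eq_neg_add, ← δδ, e, δδ, neg_add_cancel, δzero, MulAut.one_apply]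

variable (W) in
theorem exists_weight : ∃ μ : T6, μ 0 = 1 ∧ μ 5 = 0 ∧ ∑ i, μ i = 0 ∧ ∃ w ∈ W.B μ, w ≠ 1 := by
  obtain ⟨w, h1, h2, h3⟩ := exists_w (W := W) (List.ofFn fun i : Fin 6 =>
    (Pi.single i 1 - Pi.single 5 1 : T6))
  choose μ hμ using List.forall_mem_ofFn_iff.1 h3
  have h5 : μ 5 = 0 := smul_inj h1 h2 (by rw [← hμ, sub_self, zero_smul])
  have h0 : μ 0 = 1 := smul_inj h1 h2 (by rw [← hμ]; congr 2; decide)
  let S : AddSubgroup T6 :=
    { carrier := {t | W.δ t w = W.δ ((μ ⬝ᵥ t) • t0) w}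
      zero_mem' := by simp
      add_mem' := fun {s t} hs ht => by
        change _ = _ at hs ht ⊢
        rw [← δδ, ht, δδ, add_comm, ← δδ, hs, δδ, dotProduct_add, add_smul, add_comm]
      neg_mem' := fun {t} ht => by
        change _ = _ at ht ⊢
        apply (W.δ (t + (μ ⬝ᵥ t) • t0)).injective
        simp [δδ, ht] }
  have h6 : ∀ t, ∑ i, t i = 0 → t ∈ S := fun t ht => by
    have : t = ∑ i, (t i).val • (Pi.single i 1 - Pi.single 5 1 : T6) := by
      simp only [← Nat.cast_smul_eq_nsmul (ZMod 3), ZMod.natCast_zmod_val, smul_sub,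
        Finset.sum_sub_distrib, ← Finset.sum_smul, ht, zero_smul, sub_zero]
      ext j
      simp [Pi.single_apply]
    rw [this]
    refine sum_mem fun i _ => nsmul_mem ?_ _
    change _ = _
    simp [hμ, h5]
  refine ⟨μ, h0, h5, ?_, w, fun t ht => ⟨fun e => ?_, fun e => ?_⟩, h1⟩
  · have : W.δ 1 w = _ := h6 1 (by decide)
    simpa [dotProduct] using smul_inj h1 h2 (k := μ ⬝ᵥ 1) (j := 0)
      (by rw [← this, W.δone, zero_smul, δzero])
  · have : W.δ t w = _ := h6 t ht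
    rw [this, e, zero_smul, δzero, MulAut.one_apply]
  · have h7 : W.δ t w = _ := h6 t ht
    have h8 : W.δ (t + t) w = _ := h6 (t + t) (by simp [Finset.sum_add_distrib, ht])
    rw [Nn_apply, h7, h8, dotProduct_add, add_smul, ← Nn_apply, Nn_smul h2 e]

end WD

end Cfsg.Agent.H12.M20
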