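import Mathlib
import Cfsg.Agent.H24.Deg

/-!
# Multiplicities as natural numbers; Bessel-type inequalities
-/

set_option autoImplicit false

namespace Cfsg.Agent.H12

open Cfsg Cfsg.Agent.H11
open scoped Classical

universe u

variable {G : Type u} [Group G] [Fintype G]

/-- The inner product of two characters as a natural number. -/
noncomputable def mult (φ η : G → ℂ) : ℕ := ⌊(classInner φ η).re⌋₊

theorem mult_eq {φ η : G → ℂ} {n : ℕ} (h : classInner φ η = n) : mult φ η = n := by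
  simp [mult, h]

theorem mult_cast {φ η : G → ℂ} (hφ : IsCharacter G φ) (hη : IsCharacter G η) :
    (mult φ η : ℂ) = classInner φ η := by
  obtain ⟨n, hn⟩ := exists_nat_classInner hφ hη
  rw [mult_eq hn, hn]

theorem mult_ne_zero_iff {φ η : G → ℂ} (hφ : IsCharacter G φ) (hη : IsCharacter G η) :
    mult φ η ≠ 0 ↔ classInner φ η ≠ 0 := by
  rw [← mult_cast hφ hη, Nat.cast_ne_zero]

theorem sum_le_sum_irr [Fintype (IrrCharacter G)] (s : Finset (G → ℂ))
    (hs : ∀ η ∈ s, IsIrrCharacter G η) (F : (G → ℂ) → ℕ) :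
    ∑ η ∈ s, F η ≤ ∑ ψ : IrrCharacter G, F ψ.1 := by
  rw [← Finset.sum_image (s := Finset.univ) (g := fun ψ : IrrCharacter G => ψ.1)
    (fun _ _ _ _ h => Subtype.ext h)]
  exact Finset.sum_le_sum_of_subset fun η hη =>
    Finset.mem_image.2 ⟨⟨η, hs η hη⟩, Finset.mem_univ _, rfl⟩

theorem deg_eq_sum_mult [Fintype (IrrCharacter G)] {φ : G → ℂ} (hφ : IsCharacter G φ) :
    charDegree φ = ∑ ψ : IrrCharacter G, mult φ ψ.1 * charDegree ψ.1 :=
  H24.deg_eq_sum hφ fun ψ => (mult_cast hφ (irr_isCharacter ψ)).symm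

theorem mult_eq_sum [Fintype (IrrCharacter G)] {φ η : G → ℂ} (hφ : IsCharacter G φ)
    (hη : IsCharacter G η) : mult φ η = ∑ ψ : IrrCharacter G, mult φ ψ.1 * mult η ψ.1 := by
  apply mult_eq
  rw [classInner_eq_sum (isClassFunction_of_isCharacter hφ), Nat.cast_sum]
  refine Finset.sum_congr rfl fun ψ _ => ?_
  rw [← mult_cast hφ (irr_isCharacter ψ), ← mult_cast hη (irr_isCharacter ψ), map_natCast,
    Nat.cast_mul]

theorem sum_mult_mul_deg_le {φ : G → ℂ} (hφ : IsCharacter G φ) (s : Finset (G → ℂ))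
    (hs : ∀ η ∈ s, IsIrrCharacter G η) : ∑ η ∈ s, mult φ η * charDegree η ≤ charDegree φ := by
  have := Fintype.ofFinite (IrrCharacter G)
  rw [deg_eq_sum_mult hφ]
  exact sum_le_sum_irr s hs fun η => mult φ η * charDegree η

theorem sum_mult_le_deg {φ : G → ℂ} (hφ : IsCharacter G φ) (s : Finset (G → ℂ))
    (hs : ∀ η ∈ s, IsIrrCharacter G η) : ∑ η ∈ s, mult φ η ≤ charDegree φ :=
  (Finset.sum_le_sum fun η hη => Nat.le_mul_of_pos_right _ (H24.deg_pos (hs η hη))).trans
    (sum_mult_mul_deg_le hφ s hs)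

theorem sum_mult_sq_le {φ : G → ℂ} (hφ : IsCharacter G φ) (s : Finset (G → ℂ))
    (hs : ∀ η ∈ s, IsIrrCharacter G η) : ∑ η ∈ s, mult φ η * mult φ η ≤ mult φ φ := by
  have := Fintype.ofFinite (IrrCharacter G)
  rw [mult_eq_sum hφ hφ]
  exact sum_le_sum_irr s hs fun η => mult φ η * mult φ η

/-- The multiplicity in a restriction, computed from the irreducible constituents. -/
theorem mult_res_eq_sum [Fintype (IrrCharacter G)] {φ : G → ℂ} (hφ : IsCharacter G φ)
    (H : Subgroup G) [Fintype H] {η : H → ℂ} (hη : IsCharacter H η) :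
    mult (fun h : H => φ h) η =
      ∑ ψ : IrrCharacter G, mult φ ψ.1 * mult (fun h : H => ψ.1 h) η := by
  apply mult_eq
  have e : (fun h : H => φ h) = ∑ ψ : IrrCharacter G, classInner φ ψ • fun h : H => ψ.1 h := by
    funext h
    conv_lhs => rw [classFun_eq_sum (isClassFunction_of_isCharacter hφ)]
    simp [Finset.sum_apply]
  rw [e, classInner_sum_left, Nat.cast_sum]
  refine Finset.sum_congr rfl fun ψ _ => ?_
  rw [classInner_smul_left, Nat.cast_mul, mult_cast hφ (irr_isCharacter ψ),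
    mult_cast (isCharacter_restrict (irr_isCharacter ψ) H) hη]

/-- A generalized character of degree zero with `k > 0` distinct irreducible constituents of
positive multiplicity has norm greater than `k`. -/
theorem card_lt_of_degree_zero {Γ : G → ℂ} (hΓ : IsGeneralizedCharacter G Γ) (h1 : Γ 1 = 0)
    (s : Finset (G → ℂ)) (hne : s.Nonempty)
    (hs : ∀ ξ ∈ s, IsIrrCharacter G ξ ∧ ∃ k : ℕ, k ≠ 0 ∧ classInner Γ ξ = k) {n : ℕ}
    (hn : classInner Γ Γ = n) : s.card < n := by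
  have := Fintype.ofFinite (IrrCharacter G)
  obtain ⟨m, hm, hΓ'⟩ := exists_eq_sum_int hΓ
  have hpos : ∀ ψ : IrrCharacter G, ψ.1 ∈ s → 0 < m ψ := fun ψ hψ => by
    obtain ⟨-, k, hk, h⟩ := hs _ hψ
    have : (m ψ : ℂ) = k := (hm ψ).symm.trans h
    have : m ψ = k := by exact_mod_cast this
    omega
  have hsum : (n : ℤ) = ∑ ψ, m ψ ^ 2 := by
    rw [classInner_self_eq_sum_int (isClassFunction_of_isGen hΓ) m hm] at hn
    exact_mod_cast hn.symm
  have hex : ∃ ψ : IrrCharacter G, ψ.1 ∉ s ∧ m ψ ≠ 0 := by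
    by_contra! h
    have h2 : ((∑ ψ : IrrCharacter G, m ψ * charDegree ψ.1 : ℤ) : ℂ) = 0 := by
      rw [← h1]
      conv_rhs => rw [hΓ']
      push_cast
      simp only [Finset.sum_apply, Pi.smul_apply, smul_eq_mul, H24.deg_cast (irr_isCharacter _)]
    have h3 : ∑ ψ : IrrCharacter G, m ψ * charDegree ψ.1 = 0 := by exact_mod_cast h2
    obtain ⟨ξ, hξ⟩ := hne
    refine (Finset.sum_pos' (fun ψ _ => ?_) ⟨⟨ξ, (hs ξ hξ).1⟩, Finset.mem_univ _, ?_⟩).ne' h3
    · by_cases hψ : ψ.1 ∈ s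
      · exact mul_nonneg (hpos ψ hψ).le (by positivity)
      · simp [h ψ hψ]
    · exact mul_pos (hpos _ hξ) (by exact_mod_cast H24.deg_pos (hs ξ hξ).1)
  obtain ⟨ψ₀, h₀, h₀'⟩ := hex
  have h4 := sum_le_sum_irr (insert ψ₀.1 s) (fun η hη => by
    rcases Finset.mem_insert.1 hη with rfl | hη
    · exact ψ₀.2
    · exact (hs η hη).1) fun η => if η ∈ insert ψ₀.1 s then 1 else 0
  rw [Finset.sum_congr rfl fun η hη => if_pos hη, Finset.sum_const, Finset.card_insert_of_notMem h₀,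
    smul_eq_mul, mul_one] at h4
  have h5 : ((∑ ψ : IrrCharacter G, if ψ.1 ∈ insert ψ₀.1 s then 1 else 0 : ℕ) : ℤ) ≤ n := by
    rw [hsum, Nat.cast_sum]
    refine Finset.sum_le_sum fun ψ _ => ?_
    split_ifs with h
    · have : m ψ ≠ 0 := by
        rcases Finset.mem_insert.1 h with h | h
        · rwa [show ψ = ψ₀ from Subtype.ext h]
        · exact (hpos ψ h).ne'
      exact_mod_cast (show (0 : ℤ) < m ψ ^ 2 by positivity)
    · simpa using sq_nonneg (m ψ)
  omega

end Cfsg.Agent.H12
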