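import Cfsg.Agent.H12.L3Beta
import Cfsg.Agent.H12.L3Kit
import Cfsg.Agent.H21.L3Z
import Cfsg.Agent.H51.Thompson
import Cfsg.Agent.H1.Npc
import Cfsg.Agent.S0117

/-! Groups with a `3`-local subgroup `3³ : S₄`: centralisers of elements of order three. -/

set_option autoImplicit false
set_option synthInstance.maxSize 4096
set_option maxRecDepth 20000
set_option linter.unusedSectionVars false

namespace Cfsg.Agent.H12.A9

open Subgroup Cfsg Cfsg.Agent.H63 Cfsg.Agent.H67 Cfsg.Agent.H57 Cfsg.Agent.H93.Hay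
  Cfsg.Agent.H12.L3 DihedralGroup
open Cfsg.Agent.H21.L3 (Sig SigQ SQ L0q cjm cjc cje mem_zp2 mem_zp3 fact3)

/-- `(3 4)(6 7)` -/
def u1 : HH := ⟨⟨(1, sr 0, sr 0), 1⟩, rfl⟩
/-- `(0 1)(6 7)` -/
def u2 : HH := ⟨⟨(sr 0, 1, sr 0), 1⟩, rfl⟩
/-- `(0 1 2)(3 4 5)` -/
def hd2 : HH := ⟨⟨(r 1, r 1, 1), 1⟩, rfl⟩

theorem cube_conj (y : HH) (h1 : y ^ 3 = 1) (h2 : y ∉ JJ) : ∃ c, c * hs * c⁻¹ = y := by
  have : ∀ k, rep k ^ 3 = 1 → rep k ∉ JJ → rep k = hs := by decide +kernel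
  rw [← this (cl y) (by rw [← wit_spec, conj_pow, h1]; simp) (by rwa [← wit_spec, jj_conj])]
  exact ⟨(wit y)⁻¹, by rw [← wit_spec]; group⟩

theorem jj_types (y : HH) (h1 : y ∈ JJ) (h2 : y ≠ 1) :
    ∃ c, c * hc * c⁻¹ = y ∨ c * hd2 * c⁻¹ = y ∨ c * hz * c⁻¹ = y := by
  have : ∀ k, rep k ∈ JJ → rep k ≠ 1 → rep k = hc ∨ rep k = hd2 ∨ rep k = hz := by decide +kernel
  refine ⟨(wit y)⁻¹, ?_⟩
  rcases this (cl y) (by rwa [← wit_spec, jj_conj]) (by
    rwa [← wit_spec, Ne, conj_eq_one_iff]) with e | e | e <;> rw [← e, ← wit_spec] <;> simp [mul_assoc]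

theorem card_JJ : Nat.card JJ = 27 := by rw [Nat.card_eq_fintype_card]; decide +kernel

theorem cent_z : ∀ x : HH, x * hz = hz * x → x ^ 9 = 1 := by decide +kernel

theorem cent_d : ∀ x : HH, x * hd2 = hd2 * x → x ∈ JJ ∨ x * hr ∈ JJ := by decide +kernel

theorem cent_J : ∀ x : HH, x * ha = ha * x → x * hb = hb * x → x ∈ JJ := by decide +kernel

variable {G : Type*} [Group G]

theorem gen4 [Finite G] {x y : G} {K L : Subgroup G} (c : Commute x y) (x3 : x ^ 3 = 1)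
    (y3 : y ^ 3 = 1) (x1 : x ≠ 1) (yx : y ∉ zpowers x) (hx : x ∈ N[K]) (hy : y ∈ N[K])
    (hK : (Nat.card K).Coprime 3) (h1 : K ⊓ C1[x] ≤ L) (h2 : K ⊓ C1[y] ≤ L)
    (h3 : K ⊓ C1[x * y] ≤ L) (h4 : K ⊓ C1[x * y⁻¹] ≤ L) : K ≤ L := by
  have cc : zpowers y ≤ C[zpowers x] := by
    rw [centralizer_zpowers, zpowers_le]; exact mem_centralizer_singleton_iff.2 c.symm
  have m : ∀ g ∈ zpowers x ⊔ zpowers y, ∃ a ∈ zpowers x, ∃ b ∈ zpowers y, a * b = g := fun g hg =>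
    (mem_sup_of_le_normalizer' (le_normalizer_of_le_centralizer cc)).1 hg
  have e3 : ∀ g ∈ zpowers x ⊔ zpowers y, g ^ 3 = 1 := fun g hg => by
    obtain ⟨_, ⟨i, rfl⟩, _, ⟨j, rfl⟩, rfl⟩ := m g hg
    show (x ^ i * y ^ j) ^ 3 = 1
    rw [(c.zpow_zpow i j).mul_pow, ← zpow_natCast, ← zpow_natCast, zpow_comm, zpow_comm y,
      zpow_natCast, zpow_natCast, x3, y3]; simp
  have ci : ∀ g : G, C1[g⁻¹] = C1[g] := fun g => by
    rw [← centralizer_zpowers, zpowers_inv, centralizer_zpowers]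
  refine coprime_abelian_gen_cent1 (A := zpowers x ⊔ zpowers y)
    (isMulCommutative_sup inferInstance inferInstance (le_centralizer_iff.1 cc)) (fun hc => ?_)
    (sup_le (zpowers_le.2 hx) (zpowers_le.2 hy)) ?_ fun g hg g1 => ?_
  · obtain ⟨g, hg⟩ := hc.exists_generator
    have g3 : g.1 ^ 3 = 1 := e3 _ g.2
    have k : ∀ z ∈ zpowers x ⊔ zpowers y, z ∈ zpowers g.1 := fun z hz => by
      obtain ⟨i, hi⟩ := hg ⟨z, hz⟩
      exact ⟨i, congrArg Subtype.val hi⟩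
    refine yx ?_
    rcases mem_zp3 g3 (k x (mem_sup_left (mem_zpowers x))) with e | e | e
    · exact absurd e x1
    · exact e ▸ k y (mem_sup_right (mem_zpowers y))
    · rw [e, zpowers_inv]; exact k y (mem_sup_right (mem_zpowers y))
  · obtain ⟨n, hn⟩ := IsPGroup.iff_card.1 (show IsPGroup 3 ↥(zpowers x ⊔ zpowers y) from
      fun g => ⟨1, Subtype.ext (e3 _ g.2)⟩)
    exact hn ▸ hK.symm.pow_left n
  · obtain ⟨a, ha, b, hb, rfl⟩ := m g hg
    rcases mem_zp3 x3 ha with rfl | rfl | rfl <;> rcases mem_zp3 y3 hb with rfl | rfl | rfl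
    · exact absurd (one_mul 1) g1
    · rwa [one_mul]
    · rwa [one_mul, ci]
    · rwa [mul_one]
    · exact h3
    · exact h4
    · rwa [mul_one, ci]
    · rwa [← ci, mul_inv_rev, inv_inv, c.inv_right.symm.eq]
    · rwa [← ci, mul_inv_rev, inv_inv, inv_inv, c.symm.eq]

/-- The set-up. -/
structure St (φ : HH →* G) : Prop where
  inj : Function.Injective φ
  rng : φ.range = N[JJ.map φ]
  core : ∀ x : HH, x ^ 3 = 1 → x ≠ 1 → pPrimeCore 3 C1[φ x] = ⊥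

namespace St

variable {φ : HH →* G} (h : St φ)
include h

theorem eq {x y : HH} : φ x = φ y ↔ x = y := h.inj.eq_iff

theorem ne1 {x : HH} (e : x ≠ 1) : φ x ≠ 1 := fun e' => e (h.inj (e'.trans (map_one φ).symm))

theorem mJ {x : HH} : φ x ∈ JJ.map φ ↔ x ∈ JJ := mem_map_iff_mem h.inj

theorem cm_iff {x y : HH} : φ x * φ y = φ y * φ x ↔ x * y = y * x := by
  rw [← map_mul, ← map_mul, h.eq]

theorem mC {x y : HH} : φ x ∈ C1[φ y] ↔ x * y = y * x :=
  mem_centralizer_singleton_iff.trans h.cm_iff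

omit h in
theorem cm {x y : G} (hx : x ∈ JJ.map φ) (hy : y ∈ JJ.map φ) : x * y = y * x := by
  obtain ⟨x, hx, rfl⟩ := hx
  obtain ⟨y, hy, rfl⟩ := hy
  rw [← map_mul, ← map_mul, jj_mul_comm hx hy]

omit h in
theorem comm : IsMulCommutative (JJ.map φ) := ⟨⟨fun x y => Subtype.ext (cm x.2 y.2)⟩⟩

omit h in
theorem exp {x : G} (hx : x ∈ JJ.map φ) : x ^ 3 = 1 := by
  obtain ⟨x, hx, rfl⟩ := hx
  rw [← map_pow, ((jj_iff x).1 hx).2, map_one]

omit h in
theorem pJ : IsPGroup 3 (JJ.map φ) := fun x => ⟨1, Subtype.ext (exp x.2)⟩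

omit h in
theorem le_cent {w : G} (hw : w ∈ JJ.map φ) : JJ.map φ ≤ C1[w] := fun _ hx =>
  mem_centralizer_singleton_iff.2 (cm hx hw)

omit h in
theorem inJ (x : HH) (hx : x ∈ JJ := by decide) : φ x ∈ JJ.map φ := ⟨x, hx, rfl⟩

theorem card : Nat.card (JJ.map φ) = 27 := by rw [card_map_of_injective h.inj, card_JJ]

variable [Finite G]

theorem ea_le {A : Subgroup G} (hA : A ≤ φ.range) (hc : IsElementaryAbelian 3 A)
    (h9 : 9 < Nat.card A) : A ≤ JJ.map φ := fun g hg => by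
  obtain ⟨y, rfl⟩ := hA hg
  by_contra hy
  obtain ⟨c, rfl⟩ := cube_conj y (h.inj (by rw [map_pow, hc.2 _ hg, map_one])) (mt h.mJ.2 hy)
  have : ∀ a : A, ∃ i : Fin 3 × Fin 3, φ (c * (hs ^ i.1.1 * hz ^ i.2.1) * c⁻¹) = a := fun a => by
    obtain ⟨x, hx⟩ := hA a.2
    have := h.cm_iff.1 (hx ▸ comm_of_isMulCommutative hc.1 a.2 hg)
    obtain ⟨i, j, e⟩ := cent_s (c⁻¹ * x * c) (by
      calc _ = c⁻¹ * (x * (c * hs * c⁻¹)) * c := by group
        _ = _ := by rw [this]; group)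
    exact ⟨(i, j), by rw [← e, ← hx]; congr 1; group⟩
  choose f hf using this
  have := Nat.card_le_card_of_injective f fun a b e => Subtype.ext (by rw [← hf, e, hf])
  simp only [Nat.card_eq_fintype_card, Fintype.card_prod, Fintype.card_fin] at this
  omega

theorem wc {g : G} (hg : cj g (JJ.map φ) ≤ φ.range) : g ∈ φ.range :=
  h.rng ▸ mem_normalizer_of_cj_le (h.ea_le hg ⟨isMulCommutative_cj_iff.2 comm, fun x hx => by
    obtain ⟨y, hy, rfl⟩ := mem_cj'.1 hx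
    rw [conj_pow, exp hy, mul_one, mul_inv_cancel]⟩ (by rw [card_cj, h.card]; norm_num))

theorem ti {g w : G} (hw : w ∈ JJ.map φ) (hC : C1[g * w * g⁻¹] ≤ φ.range) : g ∈ φ.range :=
  h.wc ((cj_mono (le_cent hw)).trans ((cj_centralizer_singleton g w).trans_le hC))

theorem ti' {g w : G} (hC : C1[w] ≤ φ.range) (hw : g * w * g⁻¹ ∈ JJ.map φ) : g ∈ φ.range :=
  inv_mem_iff.1 (h.ti hw (by simpa [mul_assoc] using hC))

theorem p_le {Q : Subgroup G} (hQ : IsPGroup 3 Q) (hJ : JJ.map φ ≤ Q) : Q ≤ φ.range :=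
  (eq_of_inf_normalizer_le (isNilpotent_of_isPGroup Nat.prime_three hQ)
    (inf_le_left : Q ⊓ φ.range ≤ Q) fun _ hg => ⟨hg.1, h.wc ((cj_le_of_mem_normalizer hg.2
      (le_inf hJ (map_le_range _ _))).trans inf_le_right)⟩).ge.trans inf_le_right

theorem ca3 : IsPGroup 3 C1[φ hz] := by
  have zJ : φ hz ∈ JJ.map φ := (inJ hz)
  obtain ⟨S, hS, JS⟩ := exists_syl_ge (le_cent zJ) (pJ (φ := φ))
  have SH := h.p_le (syl_isPGroup hS) JS
  have hT : thompsonSubgroupOf 3 S = JJ.map φ := by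
    have k : ∀ A ∈ H51.maxEA 3 S, A = JJ.map φ := fun A hA => by
      have := hA.2.2 _ JS ⟨comm, fun _ => exp⟩
      exact eq_of_le_of_card_ge (h.ea_le (hA.1.trans SH) hA.2.1 (by rw [h.card] at this; omega)) this
    obtain ⟨A, hA⟩ := H51.maxEA_nonempty 3 S
    exact le_antisymm (H51.thompsonSubgroupOf_le_iff.2 fun A hA => (k A hA).le)
      (k A hA ▸ H51.le_thompsonSubgroupOf hA)
  obtain ⟨P, hP⟩ := exists_sylow_map hS
  have hZ : centerThompsonOf 3 (P : Subgroup C1[φ hz]) = (JJ.map φ).subgroupOf _ := by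
    rw [← subgroupOf_map_subtype' (centerThompsonOf 3 (P : Subgroup C1[φ hz])),
      H51.map_centerThompsonOf _ _ (subtype_injective _), hP, centerThompsonOf, hT,
      inf_eq_left.2 (le_centralizer_iff_isMulCommutative.2 comm)]
  refine H1.isPGroup_of_npc_of_core ((S0117.result (by norm_num) P).2
    (H8.hasNormalPComplement_of_isPGroup fun g => ⟨2, ?_⟩)) (h.core hz (by decide) (by decide))
  have hg : g.1 ∈ N[(JJ.map φ).subgroupOf C1[φ hz]] := hZ ▸ g.2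
  rw [normalizer_subgroupOf (le_cent zJ), mem_subgroupOf, ← h.rng] at hg
  obtain ⟨x, hx⟩ := hg
  refine Subtype.ext (Subtype.ext ?_)
  show g.1.1 ^ 9 = 1
  rw [← hx, ← map_pow, cent_z x (h.mC.1 (hx ▸ g.1.2)), map_one]

theorem ca : C1[φ hz] ≤ φ.range := h.p_le h.ca3 (le_cent (inJ hz))

omit h [Finite G] in
theorem cjC {x : HH} (hx : C1[φ x] ≤ φ.range) (c : HH) : C1[φ (c * x * c⁻¹)] ≤ φ.range := by
  rw [map_mul, map_mul, map_inv, ← cj_centralizer_singleton]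
  exact cj_le_of_mem ⟨c, rfl⟩ hx

theorem sylJ {Y : Subgroup G} (hY : JJ.map φ ≤ Y)
    (h4 : ∀ n, φ n ∈ Y → n ^ 4 ∈ JJ) : IsSyl 3 (JJ.map φ) Y := by
  refine syl_of_maximal hY pJ fun Q h1 h2 h3 => le_antisymm (fun q hq => ?_) h3
  obtain ⟨n, rfl⟩ := h.p_le h2 h3 hq
  obtain ⟨k, hk⟩ := h2 ⟨_, hq⟩
  have h9 := nine_of_pow (x := n) (k := k) (h.inj (by
    rw [map_pow, map_one]; exact congrArg Subtype.val hk))
  have := pow_mem (h4 n (h1 hq)) 7
  rw [← pow_mul, show 4 * 7 = 9 * 3 + 1 from rfl, pow_succ, pow_mul, h9, one_pow, one_mul] at this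
  exact ⟨n, this, rfl⟩

theorem cb : C1[φ hd2] ≤ φ.range := by
  have dJ : φ hd2 ∈ JJ.map φ := inJ hd2
  have sq : ∀ n, n * hr ∈ JJ → n ^ 4 ∈ JJ := by decide +kernel
  obtain ⟨P, hP⟩ := exists_sylow_subgroupOf (h.sylJ (le_cent dJ) fun n hn =>
    (cent_d n (h.mC.1 hn)).elim (pow_mem · 4) (sq n))
  have mP : ∀ {g : C1[φ hd2]}, g ∈ (P : Subgroup C1[φ hd2]) ↔ g.1 ∈ JJ.map φ := by
    rw [hP]; exact mem_subgroupOf
  let t : C1[φ hd2] := ⟨φ hr, h.mC.2 (by decide)⟩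
  let j : ∀ x : HH, x ∈ JJ → C1[φ hd2] := fun x hx => ⟨φ x, le_cent dJ ⟨x, hx, rfl⟩⟩
  have mj : ∀ x hx, hr * x * hr⁻¹ = x⁻¹ →
      j x hx ∈ (P : Subgroup C1[φ hd2]) ⊓ normalClosure {t} := fun x hx e => by
    refine ⟨mP.2 ⟨x, hx, rfl⟩, ?_⟩
    have tK : t ∈ normalClosure {t} := subset_normalClosure rfl
    have := mul_mem (normalClosure_normal.conj_mem _ tK (j x hx)⁻¹) (inv_mem tK)
    rwa [show (j x hx)⁻¹ * t * (j x hx)⁻¹⁻¹ * t⁻¹ = j x hx from Subtype.ext (by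
      show (φ x)⁻¹ * φ hr * (φ x)⁻¹⁻¹ * (φ hr)⁻¹ = φ x
      rw [inv_inv, mul_assoc, mul_assoc, ← mul_assoc (φ hr), ← map_inv, ← map_inv, ← map_mul,
        ← map_mul, e, ← map_mul, ← pow_two,
        sq_eq_inv_of_cube (by rw [inv_pow, ((jj_iff x).1 hx).2, inv_one]), inv_inv])] at this
  have a1 := mj (ha * hb⁻¹ * hc) (by decide) (by decide)
  have a2 := mj hc (by decide) (by decide)
  have ca' : C1[φ (ha * hb⁻¹ * hc)] ≤ φ.range := by
    rw [show ha * hb⁻¹ * hc = u2 * hz⁻¹ * u2⁻¹ by decide]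
    refine cjC ?_ _
    rw [map_inv, ← centralizer_zpowers, zpowers_inv, centralizer_zpowers]; exact h.ca
  have key : ∀ g : C1[φ hd2], g ∈ N[(P : Subgroup C1[φ hd2]) ⊓ normalClosure {t}] →
      g.1 ∈ φ.range := fun g hg => h.ti' ca' (mP.1 (conj_mem_of_mem_normalizer hg a1).1)
  have := st_normal P (hP ▸ isMulCommutative_subgroupOf comm _) (h.core hd2 (by decide) (by decide))
    (t := t) (Subtype.ext (show φ hr * φ hr = 1 by rw [← map_mul, ← map_one φ, h.eq]; decide))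
    (by rw [show (P : Subgroup C1[φ hd2]) = _ from hP, normalizer_subgroupOf (le_cent dJ), ← h.rng]
        exact ⟨hr, rfl⟩)
    (fun hc' => by
      obtain ⟨g, hg⟩ := hc'.exists_generator
      have g3 : g.1.1 ^ 3 = 1 := exp (mP.1 g.2.1)
      have k : ∀ x hx, j x hx ∈ (P : Subgroup C1[φ hd2]) ⊓ normalClosure {t} →
          φ x ∈ zpowers g.1.1 := fun x hx m => by
        obtain ⟨i, hi⟩ := hg ⟨_, m⟩
        exact ⟨i, congrArg (fun z => z.1.1) hi⟩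
      have b1 := mem_zp3 g3 (k _ (by decide) a1)
      have b2 := mem_zp3 g3 (k _ (by decide) a2)
      obtain ⟨y, -, hy⟩ := mP.1 g.2.1
      rw [← hy, ← map_inv, ← map_one φ, h.eq, h.eq, h.eq] at b1 b2
      rcases b2 with e | e | e
      · exact absurd e (by decide)
      · rw [← e] at b1; revert b1; decide
      · rw [← inv_eq_iff_eq_inv.2 e] at b1; revert b1; decide)
    ⟨_, a2, fun e => absurd (h.inj ((map_mul φ _ _).trans ((cje.1 (congrArg Subtype.val e)).trans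
      (map_mul φ _ _).symm))) (by decide)⟩
    fun g _ hg => by
      obtain ⟨x, hx⟩ := key g hg
      refine (cent_d x (h.mC.1 (hx ▸ g.2))).imp (fun e => mP.2 ⟨x, e, hx⟩) fun e => mP.2 ⟨_, e, ?_⟩
      rw [map_mul, hx]; rfl
  exact fun g hg => key ⟨g, hg⟩ (le_normalizer_of_normal (K := ⊤) trivial)

omit [Finite G] in
theorem centJ {g : G} (hC : C1[φ hz] ≤ φ.range) (hg : ∀ d ∈ JJ, g * φ d = φ d * g) :
    g ∈ JJ.map φ := by
  obtain ⟨x, rfl⟩ := hC (mem_centralizer_singleton_iff.2 (hg hz (by decide)))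
  exact ⟨x, cent_J x (h.cm_iff.1 (hg _ (by decide))) (h.cm_iff.1 (hg _ (by decide))), rfl⟩

theorem sig : Sig (JJ.map φ) ⊤ := fun K _ hK hn => by
  have m : ∀ x ∈ JJ, φ x ∈ N[K] := fun x hx => hn ⟨x, hx, rfl⟩
  have KH : K ≤ φ.range := by
    refine gen4 (x := φ hz) (y := φ (ha * hb⁻¹)) (h.cm_iff.2 (by decide))
      (exp (inJ _)) (exp (inJ _)) (h.ne1 (by decide)) (fun e => ?_)
      (m _ (by decide)) (m _ (by decide)) hK (inf_le_right.trans h.ca) (inf_le_right.trans ?_)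
      (inf_le_right.trans ?_) (inf_le_right.trans ?_)
    · have := mem_zp3 (exp (inJ hz)) e
      rw [← map_inv, ← map_one φ, h.eq, h.eq, h.eq] at this
      revert this; decide
    · rw [show ha * hb⁻¹ = u1 * hd2 * u1⁻¹ by decide]; exact cjC h.cb _
    · rw [← map_mul, show hz * (ha * hb⁻¹) = (hs⁻¹ * u1) * hd2 * (hs⁻¹ * u1)⁻¹ by decide]
      exact cjC h.cb _
    · rw [← map_inv, ← map_mul, show hz * (ha * hb⁻¹)⁻¹ = (hs * u2) * hd2 * (hs * u2)⁻¹ by decide]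
      exact cjC h.cb _
  have hi : JJ.map φ ⊓ K = ⊥ := inf_eq_bot_of_coprime' (by
    rw [h.card]; exact Nat.Coprime.pow_left 3 hK.symm)
  have hc := le_centralizer_of_inf_eq_bot hn (h.rng ▸ KH) hi
  rw [← hi]
  exact le_antisymm (le_inf (fun g hg => h.centJ h.ca fun d hd =>
    (hc hg _ (inJ d hd)).symm) le_rfl) inf_le_right

end St

end Cfsg.Agent.H12.A9
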