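import Cfsg.Agent.H12.N9A
import Cfsg.Agent.H21.L3End

/-! Groups with a `3`-local subgroup `3³ : S₄`: the subgroup `S₆` of the normaliser of `⟨e₃⟩`. -/

set_option autoImplicit false
set_option synthInstance.maxSize 4096
set_option maxRecDepth 20000
set_option linter.unusedSectionVars false

namespace Cfsg.Agent.H12.A9

open Equiv Subgroup Cfsg Cfsg.Agent.H63 Cfsg.Agent.H67 Cfsg.Agent.H57 Cfsg.Agent.H93.Hay
  Cfsg.Agent.H12.L3 DihedralGroup
open Cfsg.Agent.H21.L3 (Sig SigQ SQ L0q cjm cjc cje mem_zp2 mem_zp3 fact3 T6 norm6 perm_ext cmc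
  conj_rep)

/-- the normaliser of `⟨e₃⟩` in the model -/
def NC : Subgroup HH where
  carrier := {x | x * hc * x⁻¹ = hc ∨ x * hc * x⁻¹ = hc⁻¹}
  one_mem' := by decide
  mul_mem' := by
    rintro x y (a | a) (b | b)
    · exact .inl (by rw [cjc, b, a])
    · exact .inr (by rw [cjc, b, conj_inv_of a])
    · exact .inr (by rw [cjc, b, a])
    · exact .inl (by rw [cjc, b, conj_inv_of a, inv_inv])
  inv_mem' := by
    rintro x (a | a)
    · exact .inl (by conv_lhs => rw [← a]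
                     group)
    · refine .inr ?_
      calc _ = (x⁻¹ * hc⁻¹ * x)⁻¹ := by group
        _ = (x⁻¹ * (x * hc * x⁻¹) * x)⁻¹ := by rw [a]
        _ = _ := by group

instance : DecidablePred (· ∈ NC) := fun x =>
  inferInstanceAs (Decidable (x * hc * x⁻¹ = hc ∨ x * hc * x⁻¹ = hc⁻¹))

theorem card_NC : Nat.card NC = 216 := by rw [Nat.card_eq_fintype_card]; decide +kernel

theorem nc_four : ∀ x ∈ NC, x ^ 4 ∈ JJ := by decide +kernel

theorem nc_cent : ∀ x : HH, (x * ha * x⁻¹ * ha⁻¹ = 1 ∨ x * ha * x⁻¹ * ha⁻¹ = hc ∨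
    x * ha * x⁻¹ * ha⁻¹ = hc⁻¹) → (x * hb * x⁻¹ * hb⁻¹ = 1 ∨ x * hb * x⁻¹ * hb⁻¹ = hc ∨
    x * hb * x⁻¹ * hb⁻¹ = hc⁻¹) → x ∈ JJ := by decide +kernel

variable {G : Type*} [Group G]

/-- A complement `S₆` to `⟨e₃⟩` in its normaliser. -/
structure K6 (φ : HH →* G) (κ : Perm (Fin 6) →* G) : Prop where
  k01 : κ (swap 0 1) = φ u2
  k12 : κ (swap 1 2) = φ (ha * u2 * ha⁻¹)
  k34 : κ (swap 3 4) = φ u1
  k45 : κ (swap 4 5) = φ (hb * u1 * hb⁻¹)
  kt : κ T6 = φ hr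
  act : ∀ π, κ π * φ hc * (κ π)⁻¹ = φ hc ^ (Perm.sign π : ℤ)
  all : ∀ g ∈ N[zpowers (φ hc)], ∃ c ∈ zpowers (φ hc), ∃ π, g = c * κ π
  dis : ∀ π, κ π ∈ zpowers (φ hc) → π = 1

namespace St

variable {φ : HH →* G} (h : St φ)
include h

theorem e3 : φ hc ^ 3 = 1 := exp (inJ hc)

theorem e1 : φ hc ≠ 1 := h.ne1 (by decide)

theorem mzp {x : HH} (hx : φ x ∈ zpowers (φ hc)) : x = 1 ∨ x = hc ∨ x = hc⁻¹ := by
  have := mem_zp3 h.e3 hx
  rwa [← map_inv, ← map_one φ, h.eq, h.eq, h.eq] at this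

omit h in
theorem cj {a x y : HH} (e : a * x * a⁻¹ = y) : φ a * φ x * (φ a)⁻¹ = φ y := by
  rw [← e, map_mul, map_mul, map_inv]

variable [Finite G]

theorem mNe {g : G} : g ∈ N[zpowers (φ hc)] ↔
    g * φ hc * g⁻¹ = φ hc ∨ g * φ hc * g⁻¹ = (φ hc)⁻¹ := by
  refine ⟨fun hg => (mem_zp3 h.e3 (conj_mem_of_mem_normalizer hg (mem_zpowers _))).resolve_left
    (mt conj_eq_one_iff.1 h.e1), fun hg => mem_normalizer_fintype ?_⟩
  rintro _ ⟨i, rfl⟩
  show g * φ hc ^ i * g⁻¹ ∈ _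
  rw [← conj_zpow]
  rcases hg with e | e <;> rw [e]
  exacts [zpow_mem_zpowers _ _, zpow_mem (inv_mem (mem_zpowers _)) _]

theorem mNC {x : HH} : φ x ∈ N[zpowers (φ hc)] ↔ x ∈ NC := by
  rw [h.mNe, cj rfl, ← map_inv, h.eq, h.eq]; rfl

theorem ce_le : C1[φ hc] ≤ N[zpowers (φ hc)] := fun _ hg =>
  h.mNe.2 (.inl (cje.2 (mem_centralizer_singleton_iff.1 hg)))

theorem sq : SQ (zpowers (φ hc)) (JJ.map φ) N[zpowers (φ hc)] := by
  have cent : ∀ g ∈ N[zpowers (φ hc)], (∀ d ∈ JJ.map φ, g * d * g⁻¹ * d⁻¹ ∈ zpowers (φ hc)) →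
      g ∈ JJ.map φ := fun g _ hd => by
    obtain ⟨x, rfl⟩ : g ∈ φ.range := h.rng ▸ mem_normalizer_fintype fun d dJ =>
      (mul_mem_cancel_right (inv_mem dJ)).1 (zpowers_le.2 (inJ hc) (hd d dJ))
    have k : ∀ y ∈ JJ, _ := fun y hy => h.mzp (x := x * y * x⁻¹ * y⁻¹) (by
      simpa only [map_mul, map_inv] using hd _ (inJ y hy))
    exact inJ x (nc_cent x (k _ (by decide)) (k _ (by decide)))
  have JC := le_cent (φ := φ) (inJ hc)
  refine ⟨⟨le_normalizer, le_rfl⟩, zpowers_le.2 (inJ hc), JC.trans h.ce_le, ?_, fun x hx y hy => ?_,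
    fun x hx => exp hx ▸ one_mem _, cent, fun n hn hN => ?_, fun K a1 a2 a3 a4 t ht => ?_⟩
  · have := card_mul_relIndex (zpowers_le.2 (inJ (φ := φ) hc))
    rw [Nat.card_zpowers, orderOf_eq_three h.e3 h.e1, h.card] at this
    omega
  · rw [cm hx hy, mul_inv_cancel_right, mul_inv_cancel]; exact one_mem _
  · obtain ⟨x, rfl⟩ := h.rng.ge hN
    exact map_pow φ x 4 ▸ inJ _ (nc_four x (h.mNC.1 hn))
  have h0 : K ⊓ C1[φ hc] ≤ zpowers (φ hc) :=
    (h.sig.mono le_top).sigQ (isPGroup_zpowers_of_pow h.e3) (centralizer_zpowers _).ge _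
      (le_inf a1 (zpowers_le.2 (mem_centralizer_singleton_self _))) inf_le_right
      (a3.coprime_dvd_left (relIndex_dvd_of_le_of_norm inf_le_left a2)) (le_normalizer_inf a4 (JC.trans le_normalizer))
  refine h0 ⟨ht, JC (cent t (a2 ht) fun d hd => h0 ⟨?_, ?_⟩)⟩
  · rw [mul_assoc t, mul_assoc t]
    exact mul_mem ht (conj_mem_of_mem_normalizer (a4 hd) (K.inv_mem ht))
  · refine mul_mem ?_ (C1[φ hc].inv_mem (JC hd))
    rw [← centralizer_zpowers]
    exact conj_mem_of_mem_normalizer (le_normalizer_centralizer le_rfl (a2 ht))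
      ((centralizer_zpowers _).ge (JC hd))

theorem exists_K6 (hn : ¬ N[zpowers (φ hc)] ≤ φ.range) : ∃ κ, K6 φ κ := by
  obtain ⟨f₀, s₀, k₀⟩ := (h.sq.d8 (ρ := φ (hr * u2)) (σ := φ u2) (by
      have := card_mul_relIndex (show zpowers (φ hc) ≤ N[zpowers (φ hc)] ⊓ N[JJ.map φ] from
        le_inf le_normalizer ((zpowers_le.2 (inJ hc)).trans le_normalizer))
      have c : Nat.card ↥(N[zpowers (φ hc)] ⊓ N[JJ.map φ]) = 216 := by
        rw [show N[zpowers (φ hc)] ⊓ N[JJ.map φ] = NC.map φ from le_antisymm (fun g hg => by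
          obtain ⟨x, rfl⟩ := h.rng.ge hg.2
          exact ⟨x, h.mNC.1 hg.1, rfl⟩) (by
          rintro _ ⟨x, hx, rfl⟩; exact ⟨h.mNC.2 hx, h.rng.le ⟨x, rfl⟩⟩),
          card_map_of_injective h.inj, card_NC]
      rw [Nat.card_zpowers, orderOf_eq_three h.e3 h.e1, c] at this
      omega) ⟨h.mNC.2 (by decide), h.rng.le ⟨_, rfl⟩⟩ ⟨h.mNC.2 (by decide), h.rng.le ⟨_, rfl⟩⟩
      (by rw [← map_mul, h.mJ]; decide) (by rw [← map_mul, ← map_mul, h.mJ]; decide)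
      (by rw [← map_mul, h.mJ]; decide)).resolve_left (h.rng ▸ hn)
  let θ : NC →* N[zpowers (φ hc)] := (φ.comp NC.subtype).codRestrict _ fun x => h.mNC.2 x.2
  let m : ∀ x : HH, (e : x ∈ NC := by decide) → NC := fun x e => ⟨x, e⟩
  refine (norm6 (S₁ := f₀ (θ (m u2))) (S₂ := f₀ (θ (m (ha * u2 * ha⁻¹)))) (T := f₀ (θ (m hr)))
    (c := f₀ (θ (m ha⁻¹))) ?_ ?_ (fun e => ?_) ?_ ?_ ?_ ?_ ?_ ?_).elim fun α ⟨a1, a2, a3⟩ => ?_
  · rw [← map_mul, ← map_mul, show m (ha * u2 * ha⁻¹) * m (ha * u2 * ha⁻¹) = 1 from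
      Subtype.ext (by decide), map_one, map_one]
  · rw [← map_inv, ← map_inv, ← map_mul, ← map_mul, ← map_mul, ← map_mul]
    exact congrArg _ (congrArg _ (Subtype.ext (by decide)))
  · rw [← mul_inv_eq_one, ← map_inv, ← map_mul, k₀, ← map_inv, ← map_mul] at e
    exact absurd (h.mzp e) (by decide)
  · rw [← map_mul, ← map_mul, ← map_pow, ← map_pow,
      show (m u2 * m (ha * u2 * ha⁻¹)) ^ 3 = 1 from Subtype.ext (by decide), map_one, map_one]
  · rw [← map_mul, ← map_mul, show m hr * m hr = 1 from Subtype.ext (by decide), map_one, map_one]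
  iterate 4
    rw [← map_inv, ← map_inv, ← map_mul, ← map_mul, ← map_mul, ← map_mul]
    exact Commute.map (Commute.map (Subtype.ext (by decide)) _) _
  let f := α.toMonoidHom.comp f₀
  have sf : Function.Surjective f := α.surjective.comp s₀
  have kf : ∀ y, f y = 1 ↔ y.1 ∈ zpowers (φ hc) := fun y => α.map_eq_one_iff.trans (k₀ y)
  have kf' : ∀ {y z}, f y = f z → y.1 * z.1⁻¹ ∈ zpowers (φ hc) := fun {y z} e =>
    (kf (y * z⁻¹)).1 (by rw [map_mul, map_inv, e, mul_inv_cancel])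
  have a4 : f (θ (m u1)) = swap 3 4 := by
    rw [show m u1 = m hr * m u2 * (m hr)⁻¹ from Subtype.ext (by decide)]
    simp only [map_mul, map_inv]
    exact (congrArg₂ (fun x y => x * y * x⁻¹) a3 a1).trans (by decide)
  have a5 : f (θ (m (hb * u1 * hb⁻¹))) = swap 4 5 := by
    rw [show m (hb * u1 * hb⁻¹) = m hr * m (ha * u2 * ha⁻¹) * (m hr)⁻¹ from Subtype.ext (by decide)]
    simp only [map_mul, map_inv]
    exact (congrArg₂ (fun x y => x * y * x⁻¹) a3 a2).trans (by decide)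
  have a6 : f (θ (m ha⁻¹)) = swap 1 2 * swap 0 1 := by
    rw [show m ha⁻¹ = m (ha * u2 * ha⁻¹) * m u2 from Subtype.ext (by decide)]
    simp only [map_mul]
    exact congrArg₂ (· * ·) a2 a1
  -- elements inverting `e₃`
  let I : G → Prop := fun y => ∀ c ∈ zpowers (φ hc), y * c * y⁻¹ = c⁻¹
  have I0 : ∀ {y}, y * φ hc * y⁻¹ = (φ hc)⁻¹ → I y := by
    rintro y e _ ⟨i, rfl⟩
    show y * φ hc ^ i * y⁻¹ = _
    rw [← conj_zpow, e, inv_zpow]
  have Ic : ∀ {y} (g : N[zpowers (φ hc)]), I y → I (g * y * g.1⁻¹) := fun {y} g e c hc' => by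
    have := e _ (conj_mem_of_mem_normalizer (inv_mem g.2) hc')
    calc _ = g * (y * (g.1⁻¹ * c * g.1⁻¹⁻¹) * y⁻¹) * g.1⁻¹ := by group
      _ = _ := by rw [this]; group
  have c3 : ∀ {c}, c ∈ zpowers (φ hc) → c ^ 3 = 1 := fun hc' => exp (zpowers_le.2 (inJ hc) hc')
  have sq1 : ∀ {c}, c ∈ zpowers (φ hc) → c⁻¹ = c → c = 1 := fun {c} hc' e => by
    have := c3 hc'
    rwa [pow_succ, pow_two, inv_eq_iff_mul_eq_one.1 e, one_mul] at this
  have i0 : I (φ u2) := I0 ((cj (by decide)).trans (map_inv φ _))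
  have cube : ∀ y : N[zpowers (φ hc)], (f y).support.card = 3 → f y ^ 3 = 1 → y ^ 3 = 1 :=
    fun y hy y3 => by
      obtain ⟨q, hq⟩ := conj_rep (x := swap 1 2 * swap 0 1) (by decide) y3 (hy.trans (by decide)).symm
      obtain ⟨q, rfl⟩ := sf q
      rw [← a6, ← map_inv, ← map_mul, ← map_mul] at hq
      have h1 := kf' hq.symm
      have h2 : Commute (y.1 * (q * θ (m ha⁻¹) * q⁻¹ : N[zpowers (φ hc)]).1⁻¹)
          (q * θ (m ha⁻¹) * q⁻¹ : N[zpowers (φ hc)]).1 := by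
        have := cmc (cm (zpowers_le.2 (inJ hc) (conj_mem_of_mem_normalizer (inv_mem q.2) h1))
          (inJ ha⁻¹)) q.1
        rwa [inv_inv, mul_assoc q.1⁻¹, mul_inv_cancel_left, mul_inv_cancel_right] at this
      have h3 := h2.mul_pow 3
      rw [inv_mul_cancel_right, c3 h1, one_mul] at h3
      refine Subtype.ext (h3.trans ?_)
      show (q.1 * φ ha⁻¹ * q.1⁻¹) ^ 3 = 1
      rw [conj_pow, exp (inJ _), mul_one, mul_inv_cancel]
  have u22 : φ u2 * φ u2 = 1 := by rw [← map_mul, ← map_one φ, h.eq]; decide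
  obtain ⟨y, y1, y2, y3, y4⟩ : ∃ y : N[zpowers (φ hc)], f y = swap 2 3 ∧ y * y = 1 ∧ I y ∧
      Commute (θ (m u2)) y := by
    obtain ⟨q, hq⟩ := sf (swap 0 2 * swap 1 3)
    set y := q * θ (m u2) * q⁻¹ with hy
    have y1 : f y = swap 2 3 := by
      rw [hy, map_mul, map_mul, map_inv, hq]
      exact (congrArg (fun x => _ * x * _) a1).trans (by decide)
    have y2 : y.1 * y.1 = 1 := by
      show q.1 * φ u2 * q.1⁻¹ * (q.1 * φ u2 * q.1⁻¹) = 1
      rw [← cjm, u22, mul_one, mul_inv_cancel]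
    have y3 : I y := Ic q i0
    have hc' : φ u2 * y * (φ u2)⁻¹ * y.1⁻¹ ∈ zpowers (φ hc) :=
      kf' (y := θ (m u2) * y * (θ (m u2))⁻¹) (by
        rw [map_mul, map_mul, map_inv, y1]
        exact (congrArg (fun x => x * _ * x⁻¹) a1).trans (by decide))
    set c := φ u2 * y * (φ u2)⁻¹ * y.1⁻¹ with hcd
    refine ⟨⟨c⁻¹, le_normalizer (inv_mem hc')⟩ * y, ?_, Subtype.ext ?_, fun d hd => ?_,
      Subtype.ext (cje.1 ?_)⟩
    · rw [map_mul, (kf _).2 (inv_mem hc'), one_mul, y1]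
    · show c⁻¹ * y * (c⁻¹ * y) = 1
      calc _ = c⁻¹ * (y * c⁻¹ * y.1⁻¹) * (y * y) := by group
        _ = 1 := by rw [y3 _ (inv_mem hc'), y2]; group
    · show c⁻¹ * y * d * (c⁻¹ * y)⁻¹ = d⁻¹
      rw [cjc, y3 d hd, cje]
      exact cm (zpowers_le.2 (inJ hc) (inv_mem hc')) (zpowers_le.2 (inJ hc) (inv_mem hd))
    · show φ u2 * (c⁻¹ * y) * (φ u2)⁻¹ = c⁻¹ * y
      rw [cjm, i0 _ (inv_mem hc'), inv_inv, show φ u2 * y * (φ u2)⁻¹ = c * y by rw [hcd]; group,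
        ← mul_assoc, ← pow_two, sq_eq_inv_of_cube (c3 hc')]
  let x : Fin 5 → N[zpowers (φ hc)] := ![θ (m u2), θ (m (ha * u2 * ha⁻¹)), y, θ (m u1),
    θ (m (hb * u1 * hb⁻¹))]
  have fx : ∀ i, f (x i) = swap i.castSucc i.succ := fun i => by
    fin_cases i
    exacts [a1, a2, y1, a4, a5]
  have k1 : ∀ z : NC, z.1 * z.1 = 1 → θ z * θ z = 1 := fun z e => by
    rw [← map_mul, show z * z = 1 from Subtype.ext e, map_one]
  have k2 : ∀ z w : NC, z.1 * w.1 = w.1 * z.1 → Commute (θ z) (θ w) := fun z w e =>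
    Commute.map (Subtype.ext e) θ
  obtain ⟨κ, hκ⟩ := H78.exists_hom_perm_of_coxeter 5 x (fun i => by
      fin_cases i
      exacts [k1 _ (by decide), k1 _ (by decide), y2, k1 _ (by decide), k1 _ (by decide)])
    (fun i j e => cube _ (by rw [map_mul, fx, fx]; revert i j; decide)
      (by rw [map_mul, fx, fx]; revert i j; decide)) fun i j e => by
      obtain ⟨rfl, rfl⟩ | ⟨rfl, rfl⟩ | ⟨rfl, rfl⟩ | ⟨rfl, rfl⟩ | ⟨rfl, rfl⟩ | ⟨rfl, rfl⟩ :
        (i = 0 ∧ j = 2) ∨ (i = 0 ∧ j = 3) ∨ (i = 0 ∧ j = 4) ∨ (i = 1 ∧ j = 3) ∨ (i = 1 ∧ j = 4) ∨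
          (i = 2 ∧ j = 4) := by revert i j; decide
      · exact y4
      iterate 4 exact k2 _ _ (by decide)
      have h1 := kf' (y := x 2 * x 4) (z := x 4 * x 2) (by rw [map_mul, map_mul, fx, fx]; decide)
      have h2 : Commute (x 0) (x 4) := k2 _ _ (by decide)
      have h3 : Commute (x 0) (x 2 * x 4 * (x 4 * x 2)⁻¹) :=
        (y4.mul_right h2).mul_right (h2.mul_right y4).inv_right
      exact Subtype.ext (mul_inv_eq_one.1 (sq1 h1 ((i0 _ h1).symm.trans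
        (cje.2 (congrArg Subtype.val h3.eq)))))
  have fκ : ∀ π, f (κ π) = π := DFunLike.congr_fun
    (perm_ext (f := f.comp κ) (g := MonoidHom.id _) fun i => by rw [MonoidHom.comp_apply, hκ, fx]; rfl)
  have k0 : κ (swap 0 1) = θ (m u2) := hκ 0
  have k3 : κ (swap 3 4) = θ (m u1) := hκ 3
  refine ⟨(N[zpowers (φ hc)]).subtype.comp κ, congrArg Subtype.val k0, congrArg Subtype.val (hκ 1),
    congrArg Subtype.val k3, congrArg Subtype.val (hκ 4), ?_, fun π => ?_,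
    fun g hg => ⟨_, kf' (y := ⟨g, hg⟩) (fκ _).symm, _, (inv_mul_cancel_right _ _).symm⟩,
    fun π hπ => (fκ π).symm.trans ((kf _).2 hπ)⟩
  · have h1 := kf' (y := θ (m hr)) (z := κ T6) (a3.trans (fκ _).symm)
    have h2 : (κ T6).1 * φ u2 * (κ T6).1⁻¹ = φ u1 := by
      have := congrArg κ (show T6 * swap 0 1 * T6⁻¹ = swap 3 4 by decide)
      rw [map_mul, map_mul, map_inv, k0, k3] at this
      exact congrArg Subtype.val this
    have h3 : φ hr * φ u2 * (φ hr)⁻¹ = φ u1 := cj (by decide)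
    have i1 : I (φ u1) := I0 ((cj (by decide)).trans (map_inv φ _))
    refine (mul_inv_eq_one.1 (sq1 h1 ((i1 _ h1).symm.trans (cje.2 (cje.1 ?_).symm)))).symm
    show φ hr * (κ T6).1⁻¹ * φ u1 * (φ hr * (κ T6).1⁻¹)⁻¹ = φ u1
    conv_lhs => rw [← h2]
    rw [← h3]; group
  · show (κ π).1 * φ hc * (κ π).1⁻¹ = _
    induction π using Perm.swap_induction_on with
    | one => simp
    | swap_mul π a b hab ih =>
      obtain ⟨q, hq⟩ := isConj_iff.1 (Perm.isConj_swap (show (0 : Fin 6) ≠ 1 by decide) hab)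
      have : I (κ (swap a b)) := by
        rw [← hq, map_mul, map_mul, map_inv, k0]
        exact Ic (κ q) i0
      rw [map_mul, Subgroup.coe_mul, cjc, ih, this _ (zpow_mem_zpowers _ _), Perm.sign_mul,
        Perm.sign_swap hab]
      simp

end St

end Cfsg.Agent.H12.A9
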