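import Cfsg.Agent.H12.N9B
import Cfsg.Agent.H63.L3A8Core

/-! Groups with a `3`-local subgroup `3³ : S₄`: centralisers of four-groups. -/

set_option autoImplicit false
set_option synthInstance.maxSize 4096
set_option synthInstance.maxHeartbeats 200000
set_option maxRecDepth 20000
set_option linter.unusedSectionVars false

namespace Cfsg.Agent.H12.A9

open Equiv Subgroup Cfsg Cfsg.Agent.H63 Cfsg.Agent.H67 Cfsg.Agent.H57 Cfsg.Agent.H93.Hay
  Cfsg.Agent.H12.L3 DihedralGroup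
open Cfsg.Agent.H21.L3 (Sig SigQ SQ L0q cjm cjc cje mem_zp2 mem_zp3 fact3 T6 norm6 perm_ext cmc
  conj_rep dvd_supp eq_one_of_cube)

/-- `(2 5)(3 4)` -/
def p6 : Perm (Fin 6) := swap 2 5 * swap 3 4
/-- `(2 3)(4 5)` -/
def q6 : Perm (Fin 6) := swap 2 3 * swap 4 5
/-- `(3 4 5)` -/
def t6 : Perm (Fin 6) := swap 3 4 * swap 4 5

/-- A self-centralising four-group of the alternating group of degree six. -/
def Four (p q : Perm (Fin 6)) : Prop := (p * p = 1 ∧ q * q = 1 ∧ p * q = q * p) ∧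
  (Perm.sign p = 1 ∧ Perm.sign q = 1) ∧ ∀ π, Perm.sign π = 1 → π * p = p * π → π * q = q * π →
    π = 1 ∨ π = p ∨ π = q ∨ π = p * q

theorem four_V : Four p6 q6 := by unfold Four; decide +kernel

theorem four_F : Four (swap 0 3 * swap 1 4) (swap 1 4 * swap 2 5) := by unfold Four; decide +kernel

theorem p16 : ∀ π : Perm (Fin 6), π * p6 = p6 * π → π ^ 4 = 1 ∧ π * swap 0 1 = swap 0 1 * π ∧
    (π * π = 1 → π.support.card = 6 → π = swap 0 1 * p6 ∨ π = swap 0 1 * q6 ∨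
      π = swap 0 1 * (p6 * q6)) ∧ (π * q6 = q6 * π → π * π = 1) := by decide +kernel

/-- a code for a permutation of six points -/
def cd (π : Perm (Fin 6)) : ℕ :=
  π 0 + 8 * (π 1 + 8 * (π 2 + 8 * (π 3 + 8 * (π 4 + 8 * (π 5 : ℕ)))))
/-- decoding -/
def ap (u i : ℕ) : ℕ := u / 8 ^ i % 8
/-- composing codes -/
def co (u v : ℕ) : ℕ := ap u (ap v 0) + 8 * (ap u (ap v 1) + 8 * (ap u (ap v 2) +
  8 * (ap u (ap v 3) + 8 * (ap u (ap v 4) + 8 * ap u (ap v 5)))))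

theorem ap_cd (π : Perm (Fin 6)) (i : Fin 6) : ap (cd π) i = π i := by
  unfold ap cd
  obtain rfl | rfl | rfl | rfl | rfl | rfl : i = 0 ∨ i = 1 ∨ i = 2 ∨ i = 3 ∨ i = 4 ∨ i = 5 := by omega
  all_goals norm_num; omega

theorem cd_mul (π ρ : Perm (Fin 6)) : cd (π * ρ) = co (cd π) (cd ρ) := by
  have a := ap_cd ρ
  rw [co, show ap (cd ρ) 0 = _ from a 0, show ap (cd ρ) 1 = _ from a 1,
    show ap (cd ρ) 2 = _ from a 2, show ap (cd ρ) 3 = _ from a 3, show ap (cd ρ) 4 = _ from a 4,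
    show ap (cd ρ) 5 = _ from a 5]
  simp only [ap_cd]; rfl

theorem cd_eq {π ρ : Perm (Fin 6)} : π = ρ ↔ cd π = cd ρ :=
  ⟨congrArg cd, fun e => Equiv.ext fun i => Fin.ext (by rw [← ap_cd, e, ap_cd])⟩

theorem inv_aux : ∀ k : Perm (Fin 6), Perm.sign k = 1 → ∀ k1, k1 = t6 * k * t6⁻¹ →
    ∀ k2, k2 = t6 * k1 * t6⁻¹ → ((k * k * k1 * k2) ^ 3 = 1 → k * k * k1 * k2 = 1) →
    ((k * k * k2 * k1) ^ 3 = 1 → k * k * k2 * k1 = 1) →
    ((k * k1 * k * k2) ^ 3 = 1 → k * k1 * k * k2 = 1) → k = 1 ∨ ∃ i : Fin 6, i < 3 ∧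
      (k = swap i 5 * swap 3 4 ∨ k1 = swap i 5 * swap 3 4 ∨ k2 = swap i 5 * swap 3 4) := by
  simp only [forall_eq, pow_three]
  simp only [cd_eq, cd_mul]
  decide +kernel

theorem cent_dr : ∀ x : HH, x * hd2 = hd2 * x → x * hr = hr * x → x ^ 9 = 1 →
    x = 1 ∨ x = hd2 ∨ x = hd2⁻¹ := by decide +kernel

theorem not_cd : ∀ x : HH, x * hd2 * x⁻¹ ≠ hc ∧ x * hd2 * x⁻¹ ≠ hc⁻¹ := by decide +kernel

variable {G : Type*} [Group G]

theorem mem_cent_pair {a b g : G} : g ∈ C[closure {a, b}] ↔ Commute g a ∧ Commute g b := by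
  rw [centralizer_closure, mem_centralizer_iff]
  simp only [Set.mem_insert_iff, Set.mem_singleton_iff, forall_eq_or_imp, forall_eq]
  exact and_congr eq_comm eq_comm

theorem norm_pair [Finite G] {y a b : G} (h1 : y * a * y⁻¹ ∈ closure {a, b})
    (h2 : y * b * y⁻¹ ∈ closure {a, b}) : y ∈ N[closure {a, b}] :=
  mem_normalizer_fintype fun _ hx => (closure_le ((closure {a, b}).comap
    (MulAut.conj y).toMonoidHom)).2 (by rintro _ (rfl | rfl) <;> assumption) hx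

theorem np [Finite G] (κ : Perm (Fin 6) →* G) {y p q : Perm (Fin 6)}
    (e : y * p * y⁻¹ = q ∧ y * q * y⁻¹ = p * q) : κ y ∈ N[closure {κ p, κ q}] := by
  have a : κ p ∈ closure {κ p, κ q} := subset_closure (by simp)
  have b : κ q ∈ closure {κ p, κ q} := subset_closure (by simp)
  refine norm_pair ?_ ?_ <;> rw [← map_inv, ← map_mul, ← map_mul]
  · rwa [e.1]
  · rw [e.2, map_mul]; exact mul_mem a b

theorem one_of_cop [Finite G] {K : Subgroup G} (hK : (Nat.card K).Coprime 3) {g : G} (hg : g ∈ K)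
    (h : g ^ 3 = 1) : g = 1 :=
  orderOf_eq_one_iff.1 (Nat.eq_one_of_dvd_coprimes hK (orderOf_dvd_card_of_mem hg)
    (orderOf_dvd_of_pow_eq_one h))

namespace K6

variable {φ : HH →* G} {κ : Perm (Fin 6) →* G} (hk : K6 φ κ)
include hk

theorem inj : Function.Injective κ :=
  (injective_iff_map_eq_one κ).2 fun π e => hk.dis π (e ▸ one_mem _)

theorem ev {π : Perm (Fin 6)} (e : Perm.sign π = 1) {c : G} (hc' : c ∈ zpowers (φ hc)) :
    Commute (κ π) c := by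
  obtain ⟨i, rfl⟩ := hc'
  have := hk.act π
  rw [e, Units.val_one, zpow_one] at this
  exact Commute.zpow_right (cje.1 this) i

theorem od {π : Perm (Fin 6)} (e : Perm.sign π = -1) {c : G} (hc' : c ∈ zpowers (φ hc)) :
    κ π * c * (κ π)⁻¹ = c⁻¹ := by
  obtain ⟨i, rfl⟩ := hc'
  show κ π * φ hc ^ i * (κ π)⁻¹ = _
  rw [← conj_zpow, hk.act, e]; simp

theorem cjz (π : Perm (Fin 6)) {c : G} (hc' : c ∈ zpowers (φ hc)) :
    κ π * c * (κ π)⁻¹ ∈ zpowers (φ hc) := by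
  rcases Int.units_eq_one_or (Perm.sign π) with e | e
  · rwa [cje.2 (hk.ev e hc')]
  · exact hk.od e hc' ▸ inv_mem hc'

theorem ka : κ (swap 0 1 * swap 1 2) = φ ha := by
  rw [map_mul, hk.k01, hk.k12, ← map_mul]; exact congrArg φ (by decide)

theorem kb : κ t6 = φ hb := by
  rw [t6, map_mul, hk.k34, hk.k45, ← map_mul]; exact congrArg φ (by decide)

theorem ku : κ (swap 0 1 * swap 3 4) = φ ht := by
  rw [map_mul, hk.k01, hk.k34, ← map_mul]; exact congrArg φ (by decide)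

theorem cm {a b : Perm (Fin 6)} : Commute (κ a) (κ b) ↔ a * b = b * a :=
  ⟨fun e => e.of_map hk.inj, fun e => Commute.map e κ⟩

theorem cls {π : Perm (Fin 6)} (h2 : π * π = 1) (h1 : π ≠ 1) :
    (π.support.card = 6 ∧ IsConj (φ hr) (κ π)) ∨ IsConj (φ ht) (κ π) := by
  have : Fact (Nat.Prime 2) := ⟨Nat.prime_two⟩
  have h2' : π ^ 2 = 1 := (pow_two π).trans h2
  have k : ∀ ρ : Perm (Fin 6), ρ ^ 2 = 1 → ρ.support.card = π.support.card → IsConj (κ ρ) (κ π) :=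
    fun ρ a b => κ.map_isConj (isConj_iff.2 (conj_rep a h2' b))
  obtain ⟨⟨m, hm⟩, h6⟩ := dvd_supp h2'
  obtain rfl | rfl | rfl | rfl : m = 0 ∨ m = 1 ∨ m = 2 ∨ m = 3 := by omega
  · exact absurd (Perm.card_support_eq_zero.1 hm) h1
  · exact .inr ((φ.map_isConj (isConj_iff.2 ⟨hw, by decide⟩)).trans
      (hk.k01 ▸ k (swap 0 1) (by decide) (.trans (by decide) hm.symm)))
  · exact .inr (hk.ku ▸ k _ (by decide) (.trans (by decide) hm.symm))
  · exact .inl ⟨hm, hk.kt ▸ k T6 (by decide) (.trans (by decide) hm.symm)⟩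

end K6

namespace St

variable [Finite G] {φ : HH →* G} (h : St φ)
include h

theorem nf : ¬ IsConj (φ ht) (φ hr) := fun hg => by
  obtain ⟨g, hg⟩ := isConj_iff.1 hg
  have b3 : φ hd2 ^ 3 = 1 := exp (inJ hd2)
  obtain ⟨a, -, ha'⟩ := (H63.L3A.syl3 (X := C1[φ hr]) (orderOf_eq_three b3 (h.ne1 (by decide)))
    (h.mC.2 (by decide)) fun y hy e y9 => by
      obtain ⟨x, rfl⟩ := h.cb (mem_centralizer_singleton_iff.2 e)
      rcases cent_dr x (h.cm_iff.1 e) (h.mC.1 hy) (h.inj (by rw [map_pow, y9, map_one])) with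
        rfl | rfl | rfl
      exacts [map_one φ ▸ one_mem _, mem_zpowers _,
        map_inv φ _ ▸ inv_mem (mem_zpowers _)]).exists_conj_le (Q := zpowers (g * φ hc * g⁻¹))
    (isPGroup_zpowers_of_pow (by rw [conj_pow, h.e3]; simp))
    (zpowers_le.2 (mem_centralizer_singleton_iff.2 (hg ▸ cmc (h.cm_iff.2 (by decide)) g)))
  have h1 := mem_zp3 b3 (ha' (H8.conj_mem_conj_smul.2 (mem_zpowers _)))
  rw [← cjc] at h1
  have k : ∀ x, (x = hc ∨ x = hc⁻¹) → (a * g)⁻¹ * φ hd2 * (a * g)⁻¹⁻¹ ≠ φ x := fun x hx e => by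
    obtain ⟨y, hy⟩ := h.ti' h.cb (e ▸ inJ x (by rcases hx with rfl | rfl <;> decide))
    rw [← hy, cj rfl, h.eq] at e
    rcases hx with rfl | rfl
    exacts [(not_cd y).1 e, (not_cd y).2 e]
  rcases h1 with e | e | e
  · exact h.e1 (conj_eq_one_iff.1 e)
  · exact k _ (.inl rfl) (by rw [← e]; group)
  · exact k _ (.inr rfl) (by rw [← inv_inv (φ hd2), ← e, map_inv]; group)

theorem cJ {K : Subgroup G} (hK : (Nat.card K).Coprime 3) (he : φ hc ∈ N[K]) {w : G}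
    (hw' : C1[w] ≤ φ.range) : K ⊓ C1[w] ≤ C1[φ hc] := fun y hy => by
  rw [mem_centralizer_singleton_iff, ← cje, ← mul_inv_eq_one]
  refine one_of_cop hK ?_ (exp (mul_mem (conj_mem_of_mem_normalizer (h.rng.le (hw' hy.2)) (inJ hc))
    (inv_mem (inJ hc))))
  rw [mul_assoc y, mul_assoc y]
  exact mul_mem hy.1 (conj_mem_of_mem_normalizer he (K.inv_mem hy.1))

variable {κ : Perm (Fin 6) →* G} (hk : K6 φ κ)
include hk

theorem cen {g : G} (e : Commute g (φ hc)) :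
    ∃ c ∈ zpowers (φ hc), ∃ π, Perm.sign π = 1 ∧ g = c * κ π := by
  obtain ⟨c, hc', π, rfl⟩ := hk.all g (h.ce_le (mem_centralizer_singleton_iff.2 e))
  refine ⟨c, hc', π, (Int.units_eq_one_or _).resolve_right fun s => ?_, rfl⟩
  have h1 := cje.2 e.eq
  rw [cjc, hk.od s (mem_zpowers _), cje.2 (cm (zpowers_le.2 (inJ hc) hc') (inv_mem (inJ hc))),
    ← map_inv, h.eq] at h1
  exact absurd h1 (by decide)

theorem cop {K : Subgroup G} (hK : (Nat.card K).Coprime 3) {g : G} (hg : g ∈ K)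
    (e : Commute g (φ hc)) : ∃ π, Perm.sign π = 1 ∧ g = κ π := by
  obtain ⟨c, hc', π, s, rfl⟩ := h.cen hk e
  have h1 : (c * κ π) ^ Nat.card K = 1 := congrArg Subtype.val (pow_card_eq_one' (x := (⟨_, hg⟩ : K)))
  rw [(hk.ev s hc').symm.mul_pow, ← map_pow, mul_eq_one_iff_eq_inv] at h1
  rw [hk.dis (π ^ Nat.card K) (inv_mem_iff.1 (h1 ▸ pow_mem hc' _)), map_one, inv_one] at h1
  rw [orderOf_eq_one_iff.1 (Nat.eq_one_of_dvd_coprimes hK (orderOf_dvd_of_pow_eq_one h1)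
    (orderOf_dvd_of_pow_eq_one (exp (zpowers_le.2 (inJ hc) hc')))), one_mul]
  exact ⟨π, s, rfl⟩

section Four

variable {p q : Perm (Fin 6)} (F : Four p q)
include F

omit h in
theorem zB : zpowers (φ hc) ≤ C[closure {κ p, κ q}] := fun _ hc' =>
  mem_cent_pair.2 ⟨(hk.ev F.2.1.1 hc').symm, (hk.ev F.2.1.2 hc').symm⟩

omit h hk in
theorem pB : IsPGroup 2 (closure {κ p, κ q}) :=
  H10.isPGroup_closure_pair (by rw [← map_mul, F.1.1, map_one]) (by rw [← map_mul, F.1.2.1, map_one])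
    (Commute.map F.1.2.2 κ)

omit h hk in
theorem BZ : closure {κ p, κ q} ≤ C[closure {κ p, κ q}] := (closure_le _).2 (by
  rintro _ (rfl | rfl)
  exacts [mem_cent_pair.2 ⟨.refl _, Commute.map F.1.2.2 κ⟩,
    mem_cent_pair.2 ⟨(Commute.map F.1.2.2 κ).symm, .refl _⟩])

omit h in
theorem mB {π : Perm (Fin 6)} (s : Perm.sign π = 1) (hπ : κ π ∈ C[closure {κ p, κ q}]) :
    κ π ∈ closure {κ p, κ q} := by
  have a : κ p ∈ closure {κ p, κ q} := subset_closure (by simp)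
  have b : κ q ∈ closure {κ p, κ q} := subset_closure (by simp)
  rcases F.2.2 π s (hk.cm.1 (mem_cent_pair.1 hπ).1) (hk.cm.1 (mem_cent_pair.1 hπ).2) with
    rfl | rfl | rfl | rfl
  exacts [map_one κ ▸ one_mem _, a, b, map_mul κ _ _ ▸ mul_mem a b]

theorem b1 {g r c : G} (hr' : r ∈ closure {κ p, κ q}) (hc' : c ∈ zpowers (φ hc))
    (e : g * φ hc * g⁻¹ = r * c) : r = 1 := by
  refine eq_one_of_cube (pB F) hr' ?_
  have := congrArg (· ^ 3) e
  simpa only [conj_pow, h.e3, (show Commute r c from zB hk F hc' r hr').mul_pow,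
    exp (zpowers_le.2 (inJ hc) hc'), mul_one, mul_inv_cancel, eq_comm] using this

theorem selfc {g : G} (hg : g ∈ C[closure {κ p, κ q}])
    (e : g * φ hc * g⁻¹ * (φ hc)⁻¹ ∈ closure {κ p, κ q}) :
    g ∈ closure {κ p, κ q} ⊔ zpowers (φ hc) := by
  obtain ⟨c, hc', π, s, rfl⟩ := h.cen hk (cje.1 (mul_inv_eq_one.1
    (h.b1 hk F e (mem_zpowers _) (inv_mul_cancel_right _ _).symm)))
  exact mul_mem (mem_sup_right hc')
    (mem_sup_left (mB hk F s ((mul_mem_cancel_left (zB hk F hc')).1 hg)))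

theorem lf {y : HH} (yJ : y ∈ JJ) (y1 : φ y ∉ zpowers (φ hc)) (hy : φ y ∈ N[closure {κ p, κ q}])
    (c1 : C1[φ hc * φ y] ≤ φ.range) (c2 : C1[φ hc * (φ y)⁻¹] ≤ φ.range)
    (c3 : ∀ K ≤ C[closure {κ p, κ q}], (Nat.card K).Coprime 3 → φ hc ∈ N[K] →
      K ⊓ C1[φ y] ≤ C1[φ hc]) : C[closure {κ p, κ q}] ≤ N[zpowers (φ hc)] := fun g hg => by
  have eZ := zB hk F (mem_zpowers _)
  have eN := le_normalizer_of_le_centralizer le_rfl eZ
  have hN := L0q (D := JJ.map φ ⊓ N[closure {κ p, κ q}])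
    ⟨BZ F, le_normalizer_of_le_centralizer le_rfl⟩ pJ.to_inf_left
    (le_normalizer_centralizer inf_le_right) inf_le_right (fun K a1 a2 a3 a4 g hg => by
      have c0 : (Nat.card K).Coprime 3 := by
        obtain ⟨n, hn⟩ := IsPGroup.iff_card.1 (pB (κ := κ) F)
        rw [← card_mul_relIndex a1, hn]
        exact Nat.Coprime.mul_left (Nat.Coprime.pow_left _ (by norm_num)) a3
      have n1 := a4 ⟨inJ hc, eN⟩
      obtain ⟨π, s, rfl⟩ := h.cop hk c0 hg (mem_centralizer_singleton_iff.1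
        (gen4 (cm (inJ hc) (inJ y yJ)) h.e3 (exp (inJ y yJ)) h.e1 y1 n1 (a4 ⟨inJ y yJ, hy⟩) c0
          inf_le_right (c3 K a2 c0 n1) (h.cJ c0 n1 c1) (h.cJ c0 n1 c2) hg))
      exact mB hk F s (a2 hg))
    eZ (fun e => h.e1 (eq_one_of_cube (pB F) e h.e3)) (h.e3 ▸ one_mem _)
    (fun g hg e => h.selfc hk F hg e) hg
  obtain ⟨r, hr', c, hc', e⟩ := (mem_sup_of_le_normalizer' (zpowers_le.2 eN)).1
    (conj_mem_of_mem_normalizer hN (mem_sup_right (mem_zpowers _)))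
  rw [h.b1 hk F hr' hc' e.symm, one_mul] at e
  exact h.mNe.2 ((mem_zp3 h.e3 (e ▸ hc')).resolve_left (mt conj_eq_one_iff.1 h.e1))

end Four

omit hk in
theorem cz' (c : HH) {x : HH} (e : x = c * hz * c⁻¹ ∨ x = c * hz⁻¹ * c⁻¹) : C1[φ x] ≤ φ.range := by
  rcases e with rfl | rfl
  · exact cjC h.ca c
  · refine cjC ?_ c
    rw [map_inv, ← centralizer_zpowers, zpowers_inv, centralizer_zpowers]; exact h.ca

theorem cF {g : G} (h1 : Commute g (φ ht)) (h2 : Commute g (κ p6)) : g ∈ N[zpowers (φ hc)] := by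
  have kd : κ (swap 0 1 * swap 1 2 * t6) = φ hd2 := by
    rw [map_mul, hk.ka, hk.kb, ← map_mul]; exact congrArg φ (by decide)
  have k : ∀ {x y : Perm (Fin 6)}, swap 1 3 * x * (swap 1 3)⁻¹ = y → Commute g (κ x) →
      Commute (κ (swap 1 3) * g * (κ (swap 1 3))⁻¹) (κ y) := fun e c => by
    rw [← e, map_mul, map_mul, map_inv]; exact cmc c _
  have := h.lf hk four_F (y := hd2) (by decide) (fun e => absurd (h.mzp e) (by decide))
    (by rw [← kd]; exact np κ (by decide))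
    (by rw [← map_mul]; exact h.cz' 1 (by decide)) (by
      rw [← map_inv, ← map_mul]; exact h.cz' ht (by decide))
    (fun K _ a2 a3 => h.cJ a2 a3 h.cb)
    (mem_cent_pair.2 ⟨k (by decide) (hk.ku ▸ h1), k (by decide) h2⟩)
  have m : κ (swap 1 3) ∈ N[zpowers (φ hc)] := mem_normalizer_fintype fun _ hc' => hk.cjz _ hc'
  rwa [mul_mem_cancel_right (inv_mem m), mul_mem_cancel_left m] at this

theorem noti : ¬ C[closure {κ p6, κ q6}] ≤ N[zpowers (φ hc)] := fun hZ => by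
  have : Fact (Nat.Prime 2) := ⟨Nat.prime_two⟩
  have a : κ p6 ∈ closure {κ p6, κ q6} := subset_closure (by simp)
  have b : κ q6 ∈ closure {κ p6, κ q6} := subset_closure (by simp)
  have mT : ∀ {π}, κ π ∈ C1[p6].map κ ↔ π * p6 = p6 * π :=
    (mem_map_iff_mem hk.inj).trans mem_centralizer_singleton_iff
  have NT : ∀ g ∈ N[C1[p6].map κ], ∃ π, g = κ π := fun g hg => by
    have k1 : ∀ π, π * p6 = p6 * π → π * π = 1 → π.support.card = 6 →
        ∃ r ∈ closure {κ p6, κ q6}, g * κ π * g⁻¹ = κ (swap 0 1) * r := fun π h1 h2 h3 => by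
      obtain ⟨ρ, hρ, e⟩ := conj_mem_of_mem_normalizer hg (mT.2 h1)
      have π1 : π ≠ 1 := by rintro rfl; simp at h3
      have ρ2 : ρ * ρ = 1 := hk.inj (by rw [map_mul, e, ← cjm, ← map_mul, h2]; simp)
      have c1 : IsConj (φ hr) (κ π) := by
        obtain ⟨q, rfl⟩ := conj_rep (x := T6) (by decide) ((pow_two π).trans h2)
          (h3.trans (by decide)).symm
        exact hk.kt ▸ κ.map_isConj (isConj_iff.2 ⟨q, rfl⟩)
      have := ((hk.cls ρ2 (by
        rintro rfl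
        exact π1 (hk.inj (by simpa using e.symm)))).resolve_right fun c =>
          h.nf (c.trans (e ▸ c1.trans (isConj_iff.2 ⟨g, rfl⟩)).symm)).1
      rw [← e]
      rcases (p16 ρ (mem_centralizer_singleton_iff.1 hρ)).2.2.1 ρ2 this with rfl | rfl | rfl
      exacts [⟨_, a, map_mul κ _ _⟩, ⟨_, b, map_mul κ _ _⟩,
        ⟨_, mul_mem a b, by rw [map_mul, map_mul]⟩]
    have k2 : ∀ π ρ, π * p6 = p6 * π ∧ π * π = 1 ∧ π.support.card = 6 →
        ρ * p6 = p6 * ρ ∧ ρ * ρ = 1 ∧ ρ.support.card = 6 →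
        g * κ (π * ρ) * g⁻¹ ∈ closure {κ p6, κ q6} := fun π ρ ⟨a1, a2, a3⟩ ⟨b1, b2, b3⟩ => by
      obtain ⟨r, hr', e⟩ := k1 π a1 a2 a3
      obtain ⟨s, hs', e'⟩ := k1 ρ b1 b2 b3
      have c : r * κ (swap 0 1) = κ (swap 0 1) * r :=
        mem_cent_pair.2 ⟨hk.cm.2 (by decide), hk.cm.2 (by decide)⟩ r hr'
      rw [map_mul, cjm, e, e', ← c, mul_assoc, ← mul_assoc (κ _), ← map_mul, swap_mul_self, map_one,
        one_mul]
      exact mul_mem hr' hs'
    have l1 := k2 (swap 0 1 * q6) (swap 0 1 * (p6 * q6)) (by decide) (by decide)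
    have l2 := k2 (swap 0 1 * p6) (swap 0 1 * (p6 * q6)) (by decide) (by decide)
    rw [show swap 0 1 * q6 * (swap 0 1 * (p6 * q6)) = p6 by decide] at l1
    rw [show swap 0 1 * p6 * (swap 0 1 * (p6 * q6)) = q6 by decide] at l2
    have n1 := le_normalizer_centralizer le_rfl (norm_pair l1 l2)
    have n2 := conj_mem_of_mem_normalizer n1 (zB hk four_V (mem_zpowers _))
    obtain ⟨c, hc', π, e⟩ := hk.all _ (hZ n2)
    have n3 := mem_cent_pair.1 ((mul_mem_cancel_left (zB hk four_V hc')).1 (e ▸ n2))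
    have n4 : κ (π ^ 3) ∈ zpowers (φ hc) := by
      have : κ (π ^ 3) = (c * (κ π * c * (κ π)⁻¹) * (κ π * (κ π * c * (κ π)⁻¹) * (κ π)⁻¹))⁻¹ *
          (c * κ π) ^ 3 := by
        rw [map_pow, pow_three', pow_three']; simp only [mul_inv_rev, inv_inv, mul_assoc,
          inv_mul_cancel_left]
      rw [this, ← e, conj_pow, h.e3, mul_one, mul_inv_cancel, mul_one]
      exact inv_mem (mul_mem (mul_mem hc' (hk.cjz _ hc')) (hk.cjz _ (hk.cjz _ hc')))
    have n5 := hk.dis _ n4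
    rw [pow_succ, pow_two, (p16 π (hk.cm.1 n3.1)).2.2.2 (hk.cm.1 n3.2), one_mul] at n5
    rw [n5, map_one, mul_one] at e
    obtain ⟨d, hd, ρ, rfl⟩ := hk.all g
      (h.mNe.2 ((mem_zp3 h.e3 (e ▸ hc')).resolve_left (mt conj_eq_one_iff.1 h.e1)))
    obtain ⟨σ, -, e'⟩ := conj_mem_of_mem_normalizer hg (mT.2 (show swap 0 1 * p6 = _ by decide))
    have n6 : κ (σ * (ρ * swap 0 1 * ρ⁻¹)⁻¹) = d * d := by
      have := hk.od (π := ρ * swap 0 1 * ρ⁻¹) (by simp) (inv_mem hd)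
      rw [inv_inv] at this
      rw [map_mul, map_inv, e', cjc, ← map_inv κ ρ, ← map_mul, ← map_mul, mul_assoc d, mul_assoc d,
        this]
    have n7 := hk.dis _ (n6 ▸ mul_mem hd hd)
    rw [n7, map_one] at n6
    have n8 := exp (zpowers_le.2 (inJ hc) hd)
    rw [pow_succ, pow_two, ← n6, one_mul] at n8
    exact ⟨ρ, by rw [n8, one_mul]⟩
  have T2 : IsPGroup 2 (C1[p6].map κ) := IsPGroup.map (fun π => ⟨2, Subtype.ext
    (p16 π (mem_centralizer_singleton_iff.1 π.2)).1⟩) κ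
  have TM : C1[p6].map κ ≤ C1[κ p6] := by
    rintro _ ⟨π, hπ, rfl⟩
    exact mem_centralizer_singleton_iff.2 (hk.cm.2 (mem_centralizer_singleton_iff.1 hπ))
  have hS : IsSyl 2 (C1[p6].map κ) C1[κ p6] := by
    by_contra hS
    obtain ⟨Q, h1, h2, -⟩ := exists_lt_pgroup_normalizer TM T2 hS
    refine h1.not_ge fun y hy => ?_
    obtain ⟨π, rfl⟩ := NT y (h2 hy).2
    exact mT.2 (hk.cm.1 (mem_centralizer_singleton_iff.1 (h2 hy).1))
  obtain ⟨g, hg⟩ := isConj_iff.1 (((hk.cls (π := swap 0 1) (by decide) (by decide)).resolve_left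
    fun e => absurd e.1 (by decide)).symm.trans ((hk.cls (π := p6) (by decide)
      (by decide)).resolve_left fun e => absurd e.1 (by decide)))
  obtain ⟨c, hc', h1⟩ := exists_cj_le_syl hS (K := H63.cj g (C1[p6].map κ)) (by
    rw [← hg, ← cj_centralizer_singleton]
    refine cj_mono ?_
    rintro _ ⟨π, hπ, rfl⟩
    exact mem_centralizer_singleton_iff.2 (hk.cm.2 (p16 π (mem_centralizer_singleton_iff.1 hπ)).2.1))
    (isPGroup_cj T2 g)
  rw [cj_cj] at h1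
  obtain ⟨π, e⟩ := NT _ (mem_normalizer_of_cj_le h1)
  have h2 : c * g * κ (swap 0 1) * (c * g)⁻¹ = κ p6 := by
    rw [cjc, hg, cje, mem_centralizer_singleton_iff.1 hc']
  rw [e, ← map_inv, ← map_mul, ← map_mul] at h2
  have := congrArg Perm.sign (hk.inj h2)
  rw [four_V.2.1.1] at this
  simp at this

/-- The key relation. -/
theorem key : φ hw * κ (swap 5 0 * swap 0 1) * (φ hw)⁻¹ ∈ C[closure {κ p6, κ q6}] := by
  by_contra hn
  let κ' := (MulAut.conj (φ hw)).toMonoidHom.comp κ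
  have k' : ∀ π, κ' π = φ hw * κ π * (φ hw)⁻¹ := fun _ => rfl
  have kt' : κ' t6 = φ hc := by rw [k', hk.kb]; exact cj (by decide)
  have ku' : κ' (swap 0 1 * swap 3 4) = κ (swap 0 1) := by
    rw [k', hk.ku, hk.k01]; exact cj (by decide)
  have ks' : κ' (swap 0 1) = φ ht := by rw [k', hk.k01]; exact cj (by decide)
  refine h.noti hk (h.lf hk four_V (y := hb) (by decide) (fun e => absurd (h.mzp e) (by decide))
    (by rw [← hk.kb]; exact np κ (by decide))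
    (by rw [← map_mul, show hc * hb = hs * hd2 * hs⁻¹ by decide]; exact cjC h.cb _)
    (by rw [← map_inv, ← map_mul, show hc * hb⁻¹ = ht * hs * hd2 * (ht * hs)⁻¹ by decide]
        exact cjC h.cb _) fun K a1 a2 a3 y hy => ?_)
  obtain ⟨π, s, e⟩ := h.cop hk (K := H63.cj (φ hw)⁻¹ K) (by rwa [card_cj]) (conj_mem_cj hy.1) (by
    have := cmc (mem_centralizer_singleton_iff.1 hy.2) (φ hw)⁻¹
    rw [← map_inv φ hw, cj (show hw⁻¹ * hb * hw⁻¹⁻¹ = hc⁻¹ by decide), map_inv φ hc] at this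
    exact map_inv φ hw ▸ Commute.inv_right_iff.1 this)
  obtain rfl : κ' π = y := by rw [k', ← e]; group
  have b1 : ∀ l ∈ K.comap κ', t6 * l * t6⁻¹ ∈ K.comap κ' := fun l hl => by
    rw [mem_comap, map_mul, map_mul, map_inv, kt']
    exact conj_mem_of_mem_normalizer a3 hl
  have b2 : ∀ l ∈ K.comap κ', l ^ 3 = 1 → l = 1 := fun l hl e => hk.inj (by
    rw [map_one]
    exact conj_eq_one_iff.1 (one_of_cop a2 hl (show κ' l ^ 3 = 1 by rw [← map_pow, e, map_one])))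
  have m0 : π ∈ K.comap κ' := hy.1
  have m1 := b1 _ m0
  have m2 := b1 _ m1
  rcases inv_aux π s _ rfl _ rfl (b2 _ (mul_mem (mul_mem (mul_mem m0 m0) m1) m2))
    (b2 _ (mul_mem (mul_mem (mul_mem m0 m0) m2) m1))
    (b2 _ (mul_mem (mul_mem (mul_mem m0 m1) m0) m2)) with rfl | ⟨i, hi, h1⟩
  · exact map_one κ' ▸ one_mem _
  have h2 : κ' (swap i 5 * swap 3 4) ∈ C[closure {κ p6, κ q6}] := by
    rcases h1 with e | e | e
    exacts [a1 (e ▸ m0), a1 (e ▸ m1), a1 (e ▸ m2)]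
  have h3 : κ' (swap 0 1 * swap 3 4) ∈ C[closure {κ p6, κ q6}] :=
    ku' ▸ mem_cent_pair.2 ⟨hk.cm.2 (by decide), hk.cm.2 (by decide)⟩
  obtain rfl | rfl | rfl : i = 0 ∨ i = 1 ∨ i = 2 := by omega
  · refine (hn ?_).elim
    rw [← k', show (swap 5 0 * swap 0 1 : Perm (Fin 6)) = swap 0 5 * swap 3 4 * (swap 0 1 * swap 3 4)
      by decide, map_mul]
    exact mul_mem h2 h3
  · refine (hn ?_).elim
    rw [← k', show (swap 5 0 * swap 0 1 : Perm (Fin 6)) = swap 0 1 * swap 3 4 * (swap 1 5 * swap 3 4)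
      by decide, map_mul]
    exact mul_mem h3 h2
  have h4 := h.mNe.1 (h.cF hk (ks' ▸ Commute.map (by unfold Commute SemiconjBy; decide) κ')
    (mem_cent_pair.1 h2).1)
  have ij : Function.Injective κ' := (MulAut.conj (φ hw)).injective.comp hk.inj
  rw [← kt', ← map_inv, ← map_inv, ← map_mul, ← map_mul, ij.eq_iff, ij.eq_iff] at h4
  exact absurd h4 (by decide)

end St

end Cfsg.Agent.H12.A9
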