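import Cfsg.Agent.H63.L3A8End
import Cfsg.Agent.H57.SC3Main

/-! Two lemmas for the recognition of the alternating group of degree nine. -/

set_option autoImplicit false
set_option maxRecDepth 100000

namespace Cfsg.Agent.H12.A9

open Equiv Equiv.Perm Subgroup Cfsg.Agent.H63.L3A
open Cfsg.Agent.H89 Cfsg.Agent.H89.TG Cfsg.Agent.H89.Rec Cfsg.Agent.H89.HA

variable {G : Type*} [Group G] [Finite G]

/-- The order of a Sylow 2-subgroup. -/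
theorem not_dvd_of (φ : A8 →* G) (hφ : Function.Injective φ) {R : Subgroup G} (hR : φ.range ≤ R)
    (h128 : ¬ 128 ∣ Nat.card R) (hne : ¬ IsConj (φ s8) (φ (dt 3 4 5 6)))
    (hV : ∀ g, Commute g (φ (dt 3 4 5 6)) → Commute g (φ (dt 3 5 4 6)) → g ∈ R) :
    ¬ 128 ∣ Nat.card G := fun hd' => by
  have : Fact (Nat.Prime 2) := ⟨by norm_num⟩
  obtain ⟨j, hj, jz, -, ju, jy, jc, jcb, jv, jv2, jt⟩ := exists_j
  have cjA : ∀ {p q : A8} (k : A8), k * p * k⁻¹ = q → IsConj (φ p) (φ q) := fun k e =>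
    φ.map_isConj (isConj_iff.2 ⟨k, e⟩)
  have cjM : ∀ {p q : M} (d : M), d * p * d⁻¹ = q → IsConj (φ (j q)) (φ (j p)) := fun d e =>
    (φ.map_isConj (j.map_isConj (isConj_iff.2 ⟨d, e⟩))).symm
  have hD : ∀ r, Msk mD r → IsConj (φ s8) (φ (j r)) := fun r hr => by
    obtain ⟨d, e | e | e | e⟩ := (by hd : ∀ r : M, Msk mD r → ∃ d, d * r * d⁻¹ = z ∨
      d * r * d⁻¹ = v ∨ d * r * d⁻¹ = v2 ∨ d * r * d⁻¹ = t) r hr
    exacts [jz ▸ cjM d e, (cjA _ jv).symm.trans (cjM d e), (cjA _ jv2).symm.trans (cjM d e),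
      (cjA _ jt).symm.trans (cjM d e)]
  have hN : ∀ r, r * r = 1 → r ≠ 1 → ¬ Msk mD r → IsConj (φ (dt 3 4 5 6)) (φ (j r)) :=
    fun r h1 h2 h3 => by
    obtain ⟨d, e | e⟩ := (by hd : ∀ r : M, r * r = 1 → r ≠ 1 → ¬ Msk mD r →
      ∃ d, d * r * d⁻¹ = u ∨ d * r * d⁻¹ = y1) r h1 h2 h3
    · exact (cjA (dt 0 6 6 3 * dt 3 1 1 5) (by rw [ju]; decide +kernel)).trans (cjM d e)
    · exact (cjA (dt 1 3 3 4 * dt 1 3 3 4 * dt 0 6 6 3 * dt 3 1 1 5)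
        (by rw [jy]; decide +kernel)).trans (cjM d e)
  have cS : Nat.card (S.map (φ.comp j)) = 64 :=
    (card_map_of_injective (f := φ.comp j) (hφ.comp hj)).trans card_S
  obtain ⟨K, hK, hSK⟩ := Sylow.exists_subgroup_card_pow_succ (p := 2) (n := 6) hd' cS
  have hn : ((S.map (φ.comp j)).subgroupOf K).Normal := normal_of_index_eq_two (by
    have := ((S.map (φ.comp j)).subgroupOf K).index_mul_card
    rw [Nat.card_congr (subgroupOfEquivOfLe hSK).toEquiv, cS, hK] at this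
    omega)
  have hle : K ≤ R := fun g hg => by
    have h1 : ∀ p ∈ S, ∃ q ∈ S, g * φ (j p) * g⁻¹ = φ (j q) := fun p hp => by
      obtain ⟨q, hq, e⟩ := hn.conj_mem ⟨_, hSK ⟨p, hp, rfl⟩⟩ ⟨p, hp, rfl⟩ ⟨g, hg⟩
      exact ⟨q, hq, e.symm⟩
    have h2 : ∀ {p q : M}, g * φ (j p) * g⁻¹ = φ (j q) → p * p = 1 → p ≠ 1 →
        q * q = 1 ∧ q ≠ 1 ∧ (Msk mD p ↔ Msk mD q) := fun {p q} e h1 h2 => by
      have a1 : q * q = 1 := hj (hφ (by
        rw [map_mul, map_mul, ← e, conj_mul, ← map_mul, ← map_mul, h1]; simp))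
      have a2 : q ≠ 1 := fun a2 => h2 (hj (hφ (by simpa [a2] using e)))
      have a3 := isConj_iff.2 ⟨g, e⟩
      refine ⟨a1, a2, ⟨fun h => by_contra fun h' => ?_, fun h => by_contra fun h' => ?_⟩⟩
      · exact hne (((hD p h).trans a3).trans (hN q a1 a2 h').symm)
      · exact hne (((hD q h).trans a3.symm).trans (hN p h1 h2 h').symm)
    have h3 : ∀ {p q p' q' : M}, g * φ (j p) * g⁻¹ = φ (j q) → g * φ (j p') * g⁻¹ = φ (j q') →
        g * φ (j (p * p')) * g⁻¹ = φ (j (q * q')) := fun e e' => by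
      simp only [map_mul, ← e, ← e', conj_mul]
    obtain ⟨c1, m1, e1⟩ := h1 c (by hs)
    obtain ⟨c2, m2, e2⟩ := h1 cb (by hs)
    obtain ⟨c3, m3, e3⟩ := h1 u (by hs)
    obtain ⟨a1, a2, a3⟩ := h2 e1 (by hd) (by hd)
    obtain ⟨b1, b2, b3⟩ := h2 e2 (by hd) (by hd)
    obtain ⟨d1, d2, d3⟩ := h2 e3 (by hd) (by hd)
    obtain ⟨f1, f2, f3⟩ := h2 (h3 e1 e2) (by hd) (by hd)
    obtain ⟨d, hd1⟩ := (by hs : ∀ c1 ∈ S, c1 * c1 = 1 → c1 ≠ 1 → ¬ Msk mD c1 →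
      ∀ c2 ∈ S, c2 * c2 = 1 → c2 ≠ 1 → ¬ Msk mD c2 → c1 * c2 * (c1 * c2) = 1 → c1 * c2 ≠ 1 →
      ¬ Msk mD (c1 * c2) → ∀ c3 ∈ S, c3 * c3 = 1 → c3 ≠ 1 → ¬ Msk mD c3 → Msk mD (c1 * c3) →
      Msk mD (c2 * c3) → ∃ d, (d * c1 * d⁻¹ = c ∧ d * c2 * d⁻¹ = cb) ∨
        (d * c1 * d⁻¹ = cb ∧ d * c2 * d⁻¹ = c * cb) ∨ (d * c1 * d⁻¹ = c * cb ∧ d * c2 * d⁻¹ = c))
      c1 m1 a1 a2 (fun h => absurd (a3.2 h) (by hd)) c2 m2 b1 b2
      (fun h => absurd (b3.2 h) (by hd)) f1 f2 (fun h => absurd (f3.2 h) (by hd)) c3 m3 d1 d2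
      (fun h => absurd (d3.2 h) (by hd)) ((h2 (h3 e1 e3) (by hd) (by hd)).2.2.1 (by hd))
      ((h2 (h3 e2 e3) (by hd) (by hd)).2.2.1 (by hd))
    obtain ⟨k, k1, k2⟩ : ∃ k : A8, k * j c1 * k⁻¹ = dt 3 4 5 6 ∧ k * j c2 * k⁻¹ = dt 3 5 4 6 := by
      have h4 : ∀ (w : A8) (p q : M), d * p * d⁻¹ = q → w * j d * j p * (w * j d)⁻¹ =
          w * j q * w⁻¹ := fun w p q e => by rw [← e, map_mul, map_mul, map_inv]; group
      rcases hd1 with ⟨e, e'⟩ | ⟨e, e'⟩ | ⟨e, e'⟩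
      · refine ⟨(dt 2 3 3 5 * dt 5 7 7 4)⁻¹ * j d, ?_, ?_⟩ <;>
          simp only [h4 _ _ _ e, h4 _ _ _ e', jc, jcb] <;> decide +kernel
      · refine ⟨(dt 5 6 6 7 * dt 2 3 3 5 * dt 5 7 7 4)⁻¹ * j d, ?_, ?_⟩ <;>
          simp only [h4 _ _ _ e, h4 _ _ _ e', jc, jcb, map_mul] <;> decide +kernel
      · refine ⟨(dt 5 6 6 7 * dt 5 6 6 7 * dt 2 3 3 5 * dt 5 7 7 4)⁻¹ * j d, ?_, ?_⟩ <;>
          simp only [h4 _ _ _ e, h4 _ _ _ e', jc, jcb, map_mul] <;> decide +kernel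
    have h5 : ∀ {p q : M} {w : A8}, g * φ (j p) * g⁻¹ = φ (j q) → k * j q * k⁻¹ = w →
        (dt 2 3 3 5 * dt 5 7 7 4 : A8) * w * (dt 2 3 3 5 * dt 5 7 7 4)⁻¹ = j p →
        Commute (φ k * g * φ (dt 2 3 3 5 * dt 5 7 7 4)) (φ w) := fun {p q w} e e' e'' => by
      refine mul_inv_eq_iff_eq_mul.1 ?_
      calc _ = φ k * (g * φ ((dt 2 3 3 5 * dt 5 7 7 4) * w * (dt 2 3 3 5 * dt 5 7 7 4)⁻¹) * g⁻¹) *
            (φ k)⁻¹ := by rw [map_mul φ _ _⁻¹, map_mul φ _ w, map_inv]; group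
        _ = _ := by rw [e'', e, ← map_inv, ← map_mul, ← map_mul, e']
    have := hV _ (h5 e1 k1 (by rw [jc]; decide +kernel)) (h5 e2 k2 (by rw [jcb]; decide +kernel))
    exact (R.mul_mem_cancel_left (hR ⟨_, rfl⟩)).1 ((R.mul_mem_cancel_right (hR ⟨_, rfl⟩)).1 this)
  have := card_dvd_of_le hle
  rw [hK] at this
  exact h128 this

theorem ft3_le (h : H57.Concl G) {K : Subgroup G}
    (hO : ∀ N : Subgroup G, N.Normal → (Nat.card N).Coprime 3 → N ≤ K) (θ : A5 →* G)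
    (hθ : θ.range ≤ K) {y : A5} (y3 : y ^ 3 = 1) (y1 : θ y ≠ 1) : K = ⊤ := by
  have := alternatingGroup.isSimpleGroup (α := Fin 5) (by simp)
  have c60 : Nat.card A5 = 60 := by rw [nat_card_alternatingGroup]; simp [Nat.factorial]
  have key : ∀ (N : Subgroup G) [N.Normal], (Nat.card N).Coprime 3 →
      Function.Injective ((QuotientGroup.mk' N).comp θ) := fun N _ hN => by
    refine (MonoidHom.ker_eq_bot_iff _).1 ((MonoidHom.normal_ker _).eq_bot_or_eq_top.resolve_right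
      fun e => y1 ?_)
    have h1 : θ y ∈ N := (QuotientGroup.eq_one_iff _).1 (e.ge (mem_top y))
    have h2 := orderOf_dvd_natCard (⟨_, h1⟩ : N)
    rw [Subgroup.orderOf_mk] at h2
    exact orderOf_eq_one_iff.1 (Nat.eq_one_of_dvd_coprimes hN h2
      (orderOf_dvd_of_pow_eq_one (by rw [← map_pow, y3, map_one])))
  rcases h with ⟨N, hn, -, h1, h2⟩ | ⟨N, hn, -, h1, ⟨e⟩⟩ | ⟨⟨e⟩⟩
  · have := card_dvd_of_injective _ (key N h1)
    rcases h2 with h2 | ⟨⟨e⟩⟩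
    · rw [c60, h2] at this; omega
    · rw [c60, Nat.card_congr e.toEquiv, Nat.card_perm, Nat.card_fin] at this
      simp only [Nat.factorial] at this; omega
  · have : Fact (Nat.Prime 2) := ⟨Nat.prime_two⟩
    have h2 : (Nat.card N).Coprime 3 := by
      obtain ⟨k, hk⟩ := IsPGroup.iff_card.1 (show IsPGroup 2 N from fun g => ⟨1, Subtype.ext (h1 g g.2)⟩)
      rw [hk]; exact Nat.Coprime.pow_left _ (by norm_num)
    have h3 := (Finite.injective_iff_surjective_of_equiv e.symm.toEquiv).1 (key N h2)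
    refine eq_top_iff.2 fun g _ => ?_
    obtain ⟨σ, hσ⟩ := h3 (QuotientGroup.mk' N g)
    exact (K.mul_mem_cancel_left (inv_mem (hθ ⟨σ, rfl⟩))).1 (hO N hn h2 (QuotientGroup.eq.1 hσ))
  · have := (card_dvd_of_injective _ (key ⊥ (by simp))).trans (card_quotient_dvd_card _)
    rw [c60, Nat.card_congr e.toEquiv, H57.card_L27] at this
    omega

end Cfsg.Agent.H12.A9
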