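import Cfsg.Agent.H12.N9C
import Cfsg.Agent.H12.N9D

/-! Groups with a `3`-local subgroup `3³ : S₄`: the subgroup `A₉`. -/

set_option autoImplicit false
set_option synthInstance.maxSize 4096
set_option synthInstance.maxHeartbeats 200000
set_option maxRecDepth 20000
set_option linter.unusedSectionVars false

namespace Cfsg.Agent.H12.A9

open Equiv Subgroup Cfsg Cfsg.Agent.H63 Cfsg.Agent.H67 Cfsg.Agent.H57 Cfsg.Agent.H93.Hay
  Cfsg.Agent.H12.L3 DihedralGroup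
open Cfsg.Agent.H21.L3 (cjm cjc cje mem_zp3 fact3 T6 cmc conj_rep dvd_supp A9 up9 up9_inj endA9)
open Cfsg.Agent.H63.L3A (dt s8 A5)

/-- The alternating group of degree six. -/
abbrev A6 := alternatingGroup (Fin 6)

/-- the embedding of `A₆` in `A₉` -/
def up6 : A6 →* A9 :=
  ((Perm.extendDomainHom (⟨fun i => ⟨i.castLE (by norm_num), i.2⟩, fun i => ⟨i.1.1, i.2⟩,
    fun _ => rfl, fun _ => rfl⟩ : Fin 6 ≃ {i : Fin 9 // i.1 < 6})).comp
      (alternatingGroup _).subtype).codRestrict _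
    fun σ => Perm.mem_alternatingGroup.2 ((Perm.sign_extendDomain _ _).trans σ.2)

/-- `(3 6 4 7)(5 8)` -/
def g9 : A9 := dt 3 6 4 7 * dt 5 8 6 7

/-- `(i 0 1)` -/
def X6 (i : Fin 6) : Perm (Fin 6) := swap i 0 * swap 0 1

theorem d3_gen : ∀ p : DihedralGroup 3, ∃ i j l : Fin 2,
    p * (pr hr ^ i.1 * pr (hw * hr * hw⁻¹) ^ j.1 * pr hr ^ l.1) = 1 := by decide +kernel

theorem up6_c3 : ∀ (i : Fin 6) (h0 : i ≠ 0), i ≠ 1 →
    (up6 ⟨H78.c3 i 0 1, H78.sign_c3 h0 (by decide)⟩).1 = H78.c3 (![0, 1, 2, 3, 4, 5] i) 0 1 ∧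
    (g9 * up6 ⟨H78.c3 i 0 1, H78.sign_c3 h0 (by decide)⟩ * g9⁻¹).1 =
      H78.c3 (![0, 1, 2, 6, 7, 8] i) 0 1 ∧ (![0, 1, 2, 3, 4, 5] i : Fin 9) ≠ 0 ∧
      (![0, 1, 2, 3, 4, 5] i : Fin 9) ≠ 1 ∧ (![0, 1, 2, 6, 7, 8] i : Fin 9) ≠ 0 ∧
      (![0, 1, 2, 6, 7, 8] i : Fin 9) ≠ 1 := by decide +kernel

variable {G : Type*} [Group G]

/-- the second copy of `S₆` -/
def kp (φ : HH →* G) (κ : Perm (Fin 6) →* G) : Perm (Fin 6) →* G :=
  (MulAut.conj (φ hw)).toMonoidHom.comp κ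

theorem kp_eq (φ : HH →* G) (κ : Perm (Fin 6) →* G) (π : Perm (Fin 6)) :
    kp φ κ π = φ hw * κ π * (φ hw)⁻¹ := rfl

theorem alt_ext {n : ℕ} {u v : Fin n} (huv : u ≠ v) {f g : alternatingGroup (Fin n) →* G}
    (h : ∀ i (hiu : i ≠ u), i ≠ v → f ⟨H78.c3 i u v, H78.sign_c3 hiu huv⟩ =
      g ⟨H78.c3 i u v, H78.sign_c3 hiu huv⟩) (σ : alternatingGroup (Fin n)) : f σ = g σ :=
  H42.PI.alt_mem huv (MonoidHom.id _) (f.eqLocus g) h σ

namespace St

variable [Finite G] {φ : HH →* G} (h : St φ) {κ : Perm (Fin 6) →* G} (hk : K6 φ κ)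
include h hk

omit h in
theorem kpt : kp φ κ t6 = φ hc := by rw [kp_eq, hk.kb]; exact cj (by decide)

omit h in
theorem kpu : kp φ κ (swap 0 1 * swap 3 4) = κ (swap 0 1) := by
  rw [kp_eq, hk.ku, hk.k01]; exact cj (by decide)

omit h in
theorem kps : kp φ κ (swap 0 1) = κ (swap 0 1 * swap 3 4) := by
  rw [kp_eq, hk.ku, hk.k01]; exact cj (by decide)

theorem keyX {j : Fin 6} (hj : 3 ≤ j) : kp φ κ (X6 j) ∈ C[closure {κ p6, κ q6}] := by
  have e := zB hk four_V (mem_zpowers _)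
  have k : ∀ {x y}, t6 * x * t6⁻¹ = y → kp φ κ x ∈ C[closure {κ p6, κ q6}] →
      kp φ κ y ∈ C[closure {κ p6, κ q6}] := fun a b => by
    rw [← a, map_mul, map_mul, map_inv, kpt hk]
    exact mul_mem (mul_mem e b) (inv_mem e)
  have h5 : kp φ κ (X6 5) ∈ C[closure {κ p6, κ q6}] := h.key hk
  have h3 := k (show _ = X6 3 by decide) h5
  obtain rfl | rfl | rfl : j = 3 ∨ j = 4 ∨ j = 5 := by omega
  exacts [h3, k (by decide) h3, h5]

theorem exists_psi : ∃ ψ : A9 →* G, Function.Injective ψ ∧ (∀ σ : A6, ψ (up6 σ) = κ σ) ∧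
    ∀ σ : A6, ψ (g9 * up6 σ * g9⁻¹) = kp φ κ σ := by
  have k2 : kp φ κ (X6 2) = κ (X6 2) := by
    rw [kp_eq, show X6 2 = swap 0 1 * swap 1 2 by decide, hk.ka]; exact cj (by decide)
  have r3 : ∀ (f : Perm (Fin 6) →* G) (i : Fin 6), 2 ≤ i → f (X6 i) ^ 3 = 1 := fun f i hi => by
    rw [← map_pow, show X6 i ^ 3 = 1 by revert i; decide, map_one]
  have r2 : ∀ (f : Perm (Fin 6) →* G) (i j : Fin 6), 2 ≤ i ∧ 2 ≤ j ∧ i ≠ j →
      (f (X6 i) * f (X6 j)) ^ 2 = 1 := fun f i j hi => by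
    rw [← map_mul, ← map_pow, show (X6 i * X6 j) ^ 2 = 1 by revert i j; decide, map_one]
  have mix : ∀ i j : Fin 6, 2 ≤ i ∧ 3 ≤ j → (κ (X6 i) * kp φ κ (X6 j)) ^ 2 = 1 := fun i j ⟨hi, hj⟩ => by
    have c := mem_cent_pair.1 (h.keyX hk hj)
    have k : ∀ v, Commute (kp φ κ (X6 j)) (κ v) → v * X6 2 * v⁻¹ = X6 i →
        (κ (X6 i) * kp φ κ (X6 j)) ^ 2 = 1 := fun v a b => by
      rw [← b, map_mul, map_mul, map_inv, ← cje.2 a.symm.eq, ← cjm, conj_pow, ← k2,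
        r2 _ 2 j ⟨le_rfl, by omega, by omega⟩, mul_one, mul_inv_cancel]
    obtain rfl | rfl | rfl | rfl : i = 2 ∨ i = 3 ∨ i = 4 ∨ i = 5 := by omega
    · exact k 1 (map_one κ ▸ .one_right _) (by decide)
    · exact k q6 c.2 (by decide)
    · exact k (p6 * q6) (map_mul κ _ _ ▸ c.1.mul_right c.2) (by decide)
    · exact k p6 c.1 (by decide)
  have mix' : ∀ i j : Fin 6, 2 ≤ i ∧ 3 ≤ j → (kp φ κ (X6 j) * κ (X6 i)) ^ 2 = 1 := fun i j a => by
    have e : kp φ κ (X6 j) * κ (X6 i) =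
        (κ (X6 i))⁻¹ * (κ (X6 i) * kp φ κ (X6 j)) * (κ (X6 i))⁻¹⁻¹ := by group
    rw [e, conj_pow, mix i j a, mul_one, mul_inv_cancel]
  let a : Fin 9 → G := ![1, 1, κ (X6 2), κ (X6 3), κ (X6 4), κ (X6 5), kp φ κ (X6 3), kp φ κ (X6 4),
    kp φ κ (X6 5)]
  obtain ⟨ψ, hψ⟩ := H78.exists_hom_carmichael_alternating (u := (0 : Fin 9)) (v := 1)
    (by decide) a (fun i h0 h1 => by
      fin_cases i <;>
        first
        | exact absurd rfl h0
        | exact absurd rfl h1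
        | exact r3 _ _ (by decide))
    (fun i j h0 h1 h0' h1' hij => by
      fin_cases i <;> fin_cases j <;>
        first
        | exact absurd rfl hij
        | exact absurd rfl h0
        | exact absurd rfl h1
        | exact absurd rfl h0'
        | exact absurd rfl h1'
        | exact mix _ _ (by decide)
        | exact mix' _ _ (by decide)
        | exact r2 _ _ _ (by decide))
  have := alternatingGroup.isSimpleGroup (α := Fin 9) (by simp)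
  refine ⟨ψ, (MonoidHom.ker_eq_bot_iff ψ).1 ((MonoidHom.normal_ker ψ).eq_bot_or_eq_top.resolve_right
    fun e => absurd (hk.inj ((hψ 2 (by decide) (by decide)).symm.trans
      ((e.ge (mem_top _)).trans (map_one κ).symm))) (by decide)),
    alt_ext (u := 0) (v := 1) (by decide) (f := ψ.comp up6)
      (g := κ.comp (Subgroup.subtype _)) fun i h0 h1 => ?_,
    alt_ext (u := 0) (v := 1) (by decide) (f := ψ.comp ((MulAut.conj g9).toMonoidHom.comp up6))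
      (g := (kp φ κ).comp (Subgroup.subtype _)) fun i h0 h1 => ?_⟩
  · exact (congrArg ψ (Subtype.ext (up6_c3 i h0 h1).1)).trans ((hψ _ (up6_c3 i h0 h1).2.2.1
      (up6_c3 i h0 h1).2.2.2.1).trans (by fin_cases i <;> first | contradiction | rfl))
  · exact (congrArg ψ (Subtype.ext (up6_c3 i h0 h1).2.1)).trans ((hψ _ (up6_c3 i h0 h1).2.2.2.2.1
      (up6_c3 i h0 h1).2.2.2.2.2).trans (by fin_cases i <;> first | contradiction | rfl | exact k2.symm))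

theorem zv {R : Subgroup G} (hκ : ∀ π, κ π ∈ R) (hκ' : ∀ π, kp φ κ π ∈ R)
    (hC : ∀ w ∈ JJ.map φ, w ≠ 1 → C1[w] ≤ R) : C[closure {κ p6, κ q6}] ≤ R := by
  have eZ := zB hk four_V (mem_zpowers _)
  have B2 := pB (κ := κ) four_V
  have BR : closure {κ p6, κ q6} ≤ R := (closure_le _).2 (by rintro _ (rfl | rfl) <;> exact hκ _)
  have bN : φ hb ∈ N[closure {κ p6, κ q6}] := by rw [← hk.kb]; exact np κ (by decide)
  have sc := fun g hg => h.selfc hk four_V (g := g) hg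
  have kx := fun j hj => h.keyX hk (j := j) hj
  have bz := BZ (κ := κ) four_V
  generalize closure {κ p6, κ q6} = B at *
  have : (B.subgroupOf C[B]).Normal :=
    (show B ⊴ C[B] from ⟨bz, le_normalizer_of_le_centralizer le_rfl⟩).normal_subgroupOf
  let π := QuotientGroup.mk' (B.subgroupOf C[B])
  have kπ : ∀ y, π y = 1 ↔ y.1 ∈ B := fun y => QuotientGroup.eq_one_iff y
  have one : ∀ y : C[B], y ^ 3 = 1 → π y = 1 → y = 1 := fun y a b => Subtype.ext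
    (H21.L3.eq_one_of_cube B2 ((kπ y).1 b) (congrArg Subtype.val a))
  have e3' : (⟨φ hc, eZ⟩ : C[B]) ^ 3 = 1 := Subtype.ext h.e3
  have p3 : π ⟨φ hc, eZ⟩ ^ 3 = 1 := by rw [← map_pow, e3', map_one]
  have hS : SC3 (π ⟨φ hc, eZ⟩) := ⟨orderOf_eq_three p3 fun e => h.e1 (congrArg Subtype.val
    (one _ e3' e)), fun y hy => by
      obtain ⟨y, rfl⟩ : ∃ z, π z = y := QuotientGroup.mk'_surjective _ y
      obtain ⟨r, hr', _, ⟨i, rfl⟩, e⟩ := (mem_sup_of_le_normalizer' (zpowers_le.2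
        (le_normalizer_of_le_centralizer le_rfl eZ))).1 (sc y y.2 ((kπ (y * ⟨φ hc, eZ⟩ * y⁻¹ *
          ⟨φ hc, eZ⟩⁻¹)).1 (by simp only [map_mul, map_inv]; rw [hy]; group)))
      refine mem_zp3 p3 ⟨i, ?_⟩
      rw [show y = ⟨r, bz hr'⟩ * ⟨φ hc, eZ⟩ ^ i from Subtype.ext e.symm, map_mul,
        (kπ ⟨r, bz hr'⟩).2 hr',
        one_mul, map_zpow]⟩
  let a : Fin 5 → C[B] := ![1, 1, ⟨_, kx 3 (by decide)⟩, ⟨_, kx 4 (by decide)⟩, ⟨_, kx 5 (by decide)⟩]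
  have r3 : ∀ i : Fin 6, 2 ≤ i → kp φ κ (X6 i) ^ 3 = 1 := fun i hi => by
    rw [← map_pow, show X6 i ^ 3 = 1 by revert i; decide, map_one]
  have r2 : ∀ i j : Fin 6, 2 ≤ i ∧ 2 ≤ j ∧ i ≠ j →
      (kp φ κ (X6 i) * kp φ κ (X6 j)) ^ 2 = 1 := fun i j hi => by
    rw [← map_mul, ← map_pow, show (X6 i * X6 j) ^ 2 = 1 by revert i j; decide, map_one]
  obtain ⟨θ, hθ⟩ := H78.exists_hom_carmichael_alternating (u := (0 : Fin 5)) (v := 1)
    (by decide) a (fun i h0 h1 => by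
      fin_cases i <;>
        first
        | exact absurd rfl h0
        | exact absurd rfl h1
        | exact Subtype.ext (r3 _ (by decide)))
    (fun i j h0 h1 h0' h1' hij => by
      fin_cases i <;> fin_cases j <;>
        first
        | exact absurd rfl hij
        | exact absurd rfl h0
        | exact absurd rfl h1
        | exact absurd rfl h0'
        | exact absurd rfl h1'
        | exact Subtype.ext (r2 _ _ (by decide)))
  have top := ft3_le hS.concl (K := (R.subgroupOf C[B]).map π) (fun N hN hc' => ?_) (π.comp θ)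
    (by
      rintro _ ⟨σ, rfl⟩
      refine mem_map_of_mem π (H42.PI.alt_mem (u := (0 : Fin 5)) (v := 1) (by decide) θ _
        (fun i h0 h1 => ?_) σ)
      rw [hθ i h0 h1]
      fin_cases i
      exacts [one_mem _, one_mem _, hκ' _, hκ' _, hκ' _])
    (y := ⟨H78.c3 2 0 1, H78.sign_c3 (by decide) (by decide)⟩) (by decide) fun e => by
      rw [MonoidHom.comp_apply, hθ 2 (by decide) (by decide)] at e
      exact absurd (hk.inj ((conj_eq_one_iff.1 (congrArg Subtype.val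
        (one _ (Subtype.ext (r3 3 (by decide))) e))).trans (map_one κ).symm)) (by decide)
  · intro g hg
    obtain ⟨y, hy, e⟩ := top.ge (mem_top (π ⟨g, hg⟩))
    have := BR ((kπ (y⁻¹ * ⟨g, hg⟩)).1 (by rw [map_mul, map_inv, e, inv_mul_cancel]))
    exact (mul_mem_cancel_left (R.inv_mem hy)).1 this
  have hO : O[{3}ᶜ](C[B]) ≤ R := by
    have n : ∀ {y}, y ∈ N[B] → y ∈ N[O[{3}ᶜ](C[B])] := fun hy =>
      le_normalizer_piCoreOf (le_normalizer_centralizer le_rfl) hy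
    refine gen4 (cm (inJ hc) (inJ hb)) h.e3 (exp (inJ hb)) h.e1
      (fun e => absurd (h.mzp e) (by decide)) (n (le_normalizer_of_le_centralizer le_rfl eZ)) (n bN)
      ((isPi_compl_singleton_iff_coprime Nat.prime_three).1 (isPi_piCoreOf _ _))
      (inf_le_right.trans (hC _ (inJ hc) h.e1)) (inf_le_right.trans (hC _ (inJ hb) (h.ne1 (by decide))))
      (inf_le_right.trans ?_) (inf_le_right.trans ?_)
    · rw [← map_mul]; exact hC _ (inJ _) (h.ne1 (by decide))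
    · rw [← map_inv, ← map_mul]; exact hC _ (inJ _) (h.ne1 (by decide))
  intro y hy
  obtain ⟨y, rfl⟩ : ∃ z, π z = y := QuotientGroup.mk'_surjective _ y
  refine mem_map_of_mem π (hO (le_piCoreOf (π := {3}ᶜ) (map_subtype_normalIn (N.comap π))
    ((isPi_compl_singleton_iff_coprime Nat.prime_three).2 ?_) ⟨y, hy, rfl⟩))
  obtain ⟨n, hn⟩ := IsPGroup.iff_card.1 (B2.comap_subtype (K := C[B]))
  rw [card_map_subtype, H3.card_comap_mk']
  exact Nat.Coprime.mul_left (hn ▸ Nat.Coprime.pow_left _ (by norm_num)) hc'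

theorem iso : Nonempty (G ≃* A9) := by
  obtain ⟨ψ, inj, f1, f2⟩ := h.exists_psi hk
  have od : ∀ (f : Perm (Fin 6) →* G), (∀ σ : A6, f σ ∈ ψ.range) → f (swap 0 1) ∈ ψ.range →
      ∀ π, f π ∈ ψ.range := fun f a b π => by
    rcases Int.units_eq_one_or (Perm.sign π) with e | e
    · exact a ⟨π, e⟩
    · exact (mul_mem_cancel_right b).1 (map_mul f _ _ ▸ a ⟨π * swap 0 1, by
        rw [Perm.mem_alternatingGroup, map_mul, e]; decide⟩)
  have m0 := od κ (fun σ => ⟨_, f1 σ⟩) (kpu hk ▸ ⟨_, f2 (dt 0 1 3 4)⟩)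
  have m1 := od (kp φ κ) (fun σ => ⟨_, f2 σ⟩) (kps hk ▸ m0 _)
  have b1 : ψ (dt 0 1 1 2) = φ ha := by
    rw [show dt 0 1 1 2 = up6 (dt 0 1 1 2) by decide +kernel, f1]; exact hk.ka
  have b2 : ψ (dt 3 4 4 5) = φ hb := by
    rw [show dt 3 4 4 5 = up6 (dt 3 4 4 5) by decide +kernel, f1]; exact hk.kb
  have b3 : ψ (dt 6 7 7 8) = φ hc := by
    rw [show dt 6 7 7 8 = g9 * up6 (dt 3 4 4 5) * g9⁻¹ by decide +kernel, f2]; exact kpt hk
  have b4 : ψ (dt 0 1 3 4) = φ ht := by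
    rw [show dt 0 1 3 4 = up6 (dt 0 1 3 4) by decide +kernel, f1]; exact hk.ku
  have hH : φ.range ≤ ψ.range := by
    rintro _ ⟨x, rfl⟩
    show x ∈ ψ.range.comap φ
    have a1 : hr ∈ ψ.range.comap φ := by rw [mem_comap, ← hk.kt]; exact m0 T6
    have a2 : hw * hr * hw⁻¹ ∈ ψ.range.comap φ := by
      rw [mem_comap, ← cj rfl, ← hk.kt]; exact m1 T6
    have a3 : hs * ht * hs⁻¹ ∈ ψ.range.comap φ := by
      rw [show hs * ht * hs⁻¹ = u1 by decide, mem_comap, ← hk.k34]; exact m0 _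
    obtain ⟨i, j, l, e⟩ := d3_gen (pr x)
    obtain ⟨m, n, e'⟩ := gen2 (x * (hr ^ i.1 * (hw * hr * hw⁻¹) ^ j.1 * hr ^ l.1)) (by
      rwa [map_mul, map_mul, map_mul, map_pow, map_pow, map_pow])
    obtain ⟨i', j', l', e''⟩ := jj_comm' _ e'
    refine (mul_mem_cancel_right (mul_mem (mul_mem (pow_mem a1 i.1) (pow_mem a2 j.1))
      (pow_mem a1 l.1))).1 ((mul_mem_cancel_right (mul_mem
        (pow_mem (show ht ∈ ψ.range.comap φ from ⟨_, b4⟩) m.1) (pow_mem a3 n.1))).1 ?_)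
    rw [e'']
    exact mul_mem (mul_mem (pow_mem (show ha ∈ ψ.range.comap φ from ⟨_, b1⟩) _)
      (pow_mem (show hb ∈ ψ.range.comap φ from ⟨_, b2⟩) _))
      (pow_mem (show hc ∈ ψ.range.comap φ from ⟨_, b3⟩) _)
  have tri : ∀ w ∈ JJ.map φ, w ≠ 1 → C1[w] ≤ φ.range ∨ ∃ c, φ c * φ hc * (φ c)⁻¹ = w := by
    rintro _ ⟨y, hy, rfl⟩ w1
    obtain ⟨c, rfl | rfl | rfl⟩ := jj_types y hy (by rintro rfl; exact w1 (map_one φ))
    exacts [.inr ⟨c, cj rfl⟩, .inl (cjC h.cb c), .inl (cjC h.ca c)]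
  have hC : ∀ w ∈ JJ.map φ, w ≠ 1 → C1[w] ≤ ψ.range := fun w hw' w1 => by
    rcases tri w hw' w1 with e | ⟨c, rfl⟩
    · exact e.trans hH
    · rw [← cj_centralizer_singleton]
      refine cj_le_of_mem (hH ⟨c, rfl⟩) fun g hg => ?_
      obtain ⟨d, hd, π, rfl⟩ := hk.all g (h.ce_le hg)
      exact mul_mem (zpowers_le.2 (hH ⟨hc, rfl⟩) hd) (m0 π)
  have hF : ∀ w ∈ JJ.map φ, w ≠ 1 → ∀ g, g * w * g⁻¹ ∈ JJ.map φ → g ∈ ψ.range :=
    fun w hw' w1 g hg => by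
    rcases tri _ hg (mt conj_eq_one_iff.1 w1) with e | ⟨n, e⟩
    · exact hH (h.ti hw' e)
    have e' : (φ n)⁻¹ * g * w * ((φ n)⁻¹ * g)⁻¹ = φ hc := by rw [cjc, ← e]; group
    obtain ⟨c, hc', h1⟩ := exists_cj_le_syl (h.sylJ (le_cent (inJ hc)) fun x hx =>
      nc_four x (h.mNC.1 (h.ce_le hx))) (K := H63.cj ((φ n)⁻¹ * g) (JJ.map φ))
      ((cj_mono (le_cent hw')).trans ((cj_centralizer_singleton _ w).trans (e' ▸ rfl)).le)
      (isPGroup_cj pJ _)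
    rw [cj_cj] at h1
    have := hH (h.rng.ge (mem_normalizer_of_cj_le h1))
    rwa [mul_mem_cancel_left (hC _ (inJ hc) h.e1 hc'),
      mul_mem_cancel_left (inv_mem (hH ⟨n, rfl⟩))] at this
  have hJ : ∀ y : A9, y ^ 3 = 1 → ∃ q, ψ q * ψ y * (ψ q)⁻¹ ∈ JJ.map φ := fun y hy => by
    have hy' : y.1 ^ 3 = 1 := congrArg Subtype.val hy
    have k : ∀ z z' : A9, z.1 ^ 3 = 1 ∧ swap 0 1 * z.1 * (swap 0 1)⁻¹ = z'.1 →
        y.1.support.card = z.1.support.card → ψ z ∈ JJ.map φ → ψ z' ∈ JJ.map φ →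
        ∃ q, ψ q * ψ y * (ψ q)⁻¹ ∈ JJ.map φ := fun z z' ⟨a, b⟩ c d d' => by
      obtain ⟨q, hq⟩ := conj_rep hy' a c
      rcases Int.units_eq_one_or (Perm.sign q) with e | e
      · exact ⟨⟨q, e⟩, by rwa [← map_inv, ← map_mul, ← map_mul,
          show (⟨q, e⟩ : A9) * y * ⟨q, e⟩⁻¹ = z from Subtype.ext hq]⟩
      · have e' : swap 0 1 * q ∈ alternatingGroup (Fin 9) := by
          rw [Perm.mem_alternatingGroup, map_mul, e]; decide
        exact ⟨⟨_, e'⟩, by rwa [← map_inv, ← map_mul, ← map_mul,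
          show (⟨_, e'⟩ : A9) * y * ⟨_, e'⟩⁻¹ = z' from Subtype.ext ((cjc _ _ _).trans (hq ▸ b))]⟩
    have j1 := b1 ▸ inJ (φ := φ) ha
    have j2 := b2 ▸ inJ (φ := φ) hb
    have j3 := b3 ▸ inJ (φ := φ) hc
    have j0 := map_one ψ ▸ (JJ.map φ).one_mem
    have j4 := map_inv ψ _ ▸ inv_mem j1
    have j5 := map_mul ψ _ _ ▸ mul_mem j1 j2
    have j6 := map_mul ψ _ _ ▸ mul_mem j4 j2
    have j7 := mul_mem j5 j3
    have j8 := mul_mem j6 j3
    rw [← map_mul] at j7 j8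
    obtain ⟨⟨m, hm⟩, h9⟩ := dvd_supp hy'
    obtain rfl | rfl | rfl | rfl : m = 0 ∨ m = 1 ∨ m = 2 ∨ m = 3 := by omega
    exacts [k _ _ (by decide) (hm.trans (by decide)) j0 j0,
      k _ _ (by decide) (hm.trans (by decide)) j1 j4,
      k _ _ (by decide) (hm.trans (by decide)) j5 j6, k _ _ (by decide) (hm.trans (by decide)) j7 j8]
  refine ⟨(MulEquiv.ofBijective ψ ⟨inj, endA9 ψ inj (fun y y3 y1 g ⟨z, hz'⟩ => ?_) ?_⟩).symm⟩
  · obtain ⟨q, hq⟩ := hJ y y3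
    obtain ⟨r, hr'⟩ := hJ z (inj (by rw [map_pow, hz', conj_pow, ← map_pow, y3]; simp))
    have := hF _ hq (mt conj_eq_one_iff.1 (mt (map_eq_one_iff ψ inj).1 y1)) (ψ r * g * (ψ q)⁻¹) (by
      convert hr' using 1; rw [hz']; group)
    rwa [mul_mem_cancel_right (ψ.range.inv_mem ⟨q, rfl⟩),
      mul_mem_cancel_left (show ψ r ∈ ψ.range from ⟨r, rfl⟩)] at this
  refine not_dvd_of (ψ.comp up9) (inj.comp up9_inj) (R := ψ.range)
    (by rintro _ ⟨σ, rfl⟩; exact ⟨_, rfl⟩) ?_ (fun hc' => h.nf ?_) fun g c1 c2 => ?_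
  · rw [← Nat.card_congr (MonoidHom.ofInjective inj).toEquiv, nat_card_alternatingGroup]
    simp [Nat.factorial]
  · have e1 : ψ (up9 s8) = φ hr := by
      rw [show up9 s8 = up6 (dt 0 3 1 4 * dt 2 5 0 1) * (g9 * up6 (dt 0 1 3 4) * g9⁻¹) by
        decide +kernel, map_mul, f1, f2, ← hk.kt]
      exact (congrArg (_ * ·) (kpu hk)).trans ((map_mul κ _ _).symm.trans (congrArg κ (by decide)))
    have e2 : IsConj (ψ (dt 0 1 3 4)) (ψ (up9 (dt 3 4 5 6))) :=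
      ψ.map_isConj (isConj_iff.2 ⟨dt 0 5 1 6, by decide +kernel⟩)
    exact (b4 ▸ e2).trans (e1 ▸ hc').symm
  · have k : ∀ {x y : A9}, dt 2 6 7 8 * x * (dt 2 6 7 8)⁻¹ = y → Commute g (ψ x) →
        Commute (ψ (dt 2 6 7 8) * g * (ψ (dt 2 6 7 8))⁻¹) (ψ y) := fun e c => by
      rw [← e, map_mul, map_mul, map_inv]; exact cmc c _
    have := h.zv hk m0 m1 hC (mem_cent_pair.2 ⟨f1 (dt 2 5 3 4) ▸ k (by decide +kernel) c1,
      f1 (dt 2 3 4 5) ▸ k (by decide +kernel) (map_mul ψ _ _ ▸ c1.mul_right c2)⟩)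
    rwa [mul_mem_cancel_right (ψ.range.inv_mem ⟨_, rfl⟩),
      mul_mem_cancel_left (show ψ _ ∈ ψ.range from ⟨_, rfl⟩)] at this

end St

end Cfsg.Agent.H12.A9
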