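import Cfsg.Agent.H12.N9E

/-! Groups with a `3`-local subgroup `3³ : S₄`: the main theorem. -/

set_option autoImplicit false
set_option synthInstance.maxSize 4096
set_option maxRecDepth 20000

namespace Cfsg.Agent.H12.A9

open Equiv Subgroup Cfsg Cfsg.Agent.H63 Cfsg.Agent.H67 Cfsg.Agent.H57 Cfsg.Agent.H93.Hay
  Cfsg.Agent.H12.L3 DihedralGroup
open Cfsg.Agent.H21.L3 (A9)

theorem St.main {G : Type*} [Group G] [Finite G] {φ : HH →* G} (h : St φ) :
    φ.range = ⊤ ∨ Nonempty (G ≃* A9) := by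
  by_cases hn : N[zpowers (φ hc)] ≤ φ.range
  · refine .inl (M5.top ⟨h.inj, fun x hx x1 y hy g e => h.ti' ?_ (e ▸ St.inJ y hy)⟩)
    obtain ⟨c, rfl | rfl | rfl⟩ := jj_types x hx x1
    exacts [St.cjC (h.ce_le.trans hn) c, St.cjC h.cb c, St.cjC h.ca c]
  · obtain ⟨κ, hk⟩ := h.exists_K6 hn
    exact .inr (h.iso hk)

theorem map_JJ : JJ.map (io.comp HH.subtype) = Subgroup.closure {swap (0 : Fin 9) 1 * swap 1 2,
    swap (3 : Fin 9) 4 * swap 4 5, swap (6 : Fin 9) 7 * swap 7 8} := by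
  rw [← show io.comp HH.subtype ha = swap (0 : Fin 9) 1 * swap 1 2 by decide +kernel,
    ← show io.comp HH.subtype hb = swap (3 : Fin 9) 4 * swap 4 5 by decide +kernel,
    ← show io.comp HH.subtype hc = swap (6 : Fin 9) 7 * swap 7 8 by decide +kernel]
  refine le_antisymm ?_ ((closure_le _).2 ?_)
  · rintro _ ⟨x, hx, rfl⟩
    obtain ⟨i, j, k, rfl⟩ := jj_comm' x hx
    rw [map_mul, map_mul, map_pow, map_pow, map_pow]
    refine mul_mem (mul_mem (pow_mem ?_ _) (pow_mem ?_ _)) (pow_mem ?_ _) <;>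
      exact subset_closure (by simp)
  · rintro _ (rfl | rfl | rfl) <;> exact St.inJ _

theorem mem_io {g : Perm (Fin 9)} (hg : g ∈ N[JJ.map (io.comp HH.subtype)]) : g ∈ io.range := by
  have A : ∀ x ∈ JJ, ∀ i, (e9.symm (io.comp HH.subtype x i)).1 = (e9.symm i).1 := by
    decide +kernel
  have B : ∀ i j, (e9.symm i).1 = (e9.symm j).1 → ∃ x ∈ JJ, io.comp HH.subtype x i = j := by
    intro i j e
    obtain ⟨k, hk⟩ := (by decide +kernel : ∀ i j, (e9.symm i).1 = (e9.symm j).1 →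
      ∃ k : Fin 3, io.comp HH.subtype (hz ^ k.1) i = j) i j e
    exact ⟨_, pow_mem (by decide) _, hk⟩
  have P : ∀ g ∈ N[JJ.map (io.comp HH.subtype)], ∀ i j, (e9.symm i).1 = (e9.symm j).1 →
      (e9.symm (g i)).1 = (e9.symm (g j)).1 := fun g hg i j e => by
    obtain ⟨x, hx, rfl⟩ := B i j e
    obtain ⟨y, hy, e'⟩ := conj_mem_of_mem_normalizer hg (St.inJ (φ := io.comp HH.subtype) x hx)
    rw [← A y hy (g i), e']; simp
  have D : ∀ f : ZMod 3 → ZMod 3, Function.Injective f → ∃ d, ∀ s, sm d s = f s := by decide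
  obtain ⟨p, hp⟩ := D (fun i => (e9.symm (g (e9 (i, 0)))).1) fun i j e => by
    simpa using P _ (inv_mem hg) _ _ e
  have hp' : ∀ i s, sm p i = (e9.symm (g (e9 (i, s)))).1 := fun i s =>
    (hp i).trans (P g hg _ _ (by simp))
  choose d hd using fun k => D (fun s => (e9.symm (g (e9 (sm p⁻¹ k, s)))).2) fun s t e => by
    simpa using (Prod.ext ((hp' _ s).symm.trans (hp' _ t)) e :
      e9.symm (g (e9 (sm p⁻¹ k, s))) = e9.symm (g (e9 (sm p⁻¹ k, t))))
  have c : ∀ k, cp (d 0, d 1, d 2) k = d k := fun k => by fin_cases k <;> rfl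
  refine ⟨⟨(d 0, d 1, d 2), p⟩, Equiv.ext fun i => ?_⟩
  obtain ⟨⟨i, s⟩, rfl⟩ := e9.surjective i
  refine (congrArg e9 ?_).trans (e9.apply_symm_apply _)
  rw [Equiv.trans_apply, e9.symm_apply_apply]
  refine Prod.ext (hp' i s) ?_
  show sm (cp _ (sm p i)) s = _
  rw [c, hd, ← sm_mul, inv_mul_cancel, show sm 1 i = i by revert i; decide]

theorem range_io : (io.comp HH.subtype).range =
    alternatingGroup (Fin 9) ⊓ N[JJ.map (io.comp HH.subtype)] := by
  have a : (io.comp HH.subtype).range ≤ alternatingGroup (Fin 9) := by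
    rw [map_io, closure_le]
    rintro _ (rfl | rfl | rfl | rfl) <;> exact Perm.mem_alternatingGroup.2 (by decide)
  refine le_antisymm (le_inf a ?_) fun g hg => ?_
  · rintro _ ⟨x, rfl⟩
    exact le_normalizer_map _ ⟨x, mem_normalizer_fintype fun y hy => (jj_conj y x).2 hy, rfl⟩
  obtain ⟨w, rfl⟩ := mem_io hg.2
  by_contra hw'
  have t : ∀ w : WW, w ∉ HH → w * ⟨(sr 0, 1, 1), 1⟩ ∈ HH := by decide +kernel
  have := a ⟨⟨_, t w fun e => hw' ⟨⟨w, e⟩, rfl⟩⟩, rfl⟩
  rw [MonoidHom.comp_apply, coe_subtype, map_mul, (alternatingGroup _).mul_mem_cancel_left hg.1,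
    Perm.mem_alternatingGroup] at this
  exact absurd this (by decide +kernel)

theorem main {G : Type*} [Group G] [Finite G] {J : Subgroup G} (hJexp : ∀ a ∈ J, a ^ 3 = 1)
    (hJcard : Nat.card J = 27) (eH : N[J] ≃* (io.comp HH.subtype).range)
    (hc : ∀ x ∈ N[J], orderOf x = 3 → pPrimeCore 3 C1[x] = ⊥) :
    N[J] = ⊤ ∨ Nonempty (G ≃* A9) := by
  obtain ⟨φ, hφ, e⟩ := H20.T27.exists_emb (φ := io.comp HH.subtype)
    (io_inj.comp HH.subtype_injective) eH
  have hJ : J = JJ.map φ := by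
    have : (J.comap φ).Normal := ⟨fun x hx g => by
      rw [mem_comap, map_mul, map_mul, map_inv]
      exact conj_mem_of_mem_normalizer (e.le ⟨g, rfl⟩) hx⟩
    have l : J.comap φ ≤ JJ := pCore_HH ▸ H3.le_pCore_iff.2 fun x => ⟨1, Subtype.ext (hφ (by
      rw [pow_one, coe_pow, map_pow, hJexp _ x.2, coe_one, map_one]))⟩
    refine eq_of_le_of_card_ge (fun g hg => ?_) (by
      rw [card_map_of_injective hφ, card_JJ, hJcard])
    obtain ⟨x, rfl⟩ := e.ge (le_normalizer hg)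
    exact ⟨x, l hg, rfl⟩
  subst hJ
  exact e ▸ St.main ⟨hφ, e, fun x x3 x1 => hc _ (e.le ⟨x, rfl⟩) (by
    rw [orderOf_injective φ hφ]; exact orderOf_eq_three x3 x1)⟩

end Cfsg.Agent.H12.A9
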