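import Cfsg.Agent.H68.O8Defs

/-! Piece ORB: the affine action on the unitary space. -/

set_option autoImplicit false

namespace Cfsg.Agent.H12.Orb

open Cfsg Subgroup Cfsg.Agent.H68.O8 H84.U6 H68.F6 H28

/-- the vector with code `n` -/
def dv (n : ℕ) : V := ![dec4 (n % 4), dec4 (n / 4 % 4), dec4 (n / 16 % 4), dec4 (n / 64)]

/-- the code of a scalar -/
def e4 (x : K4) : ℕ := if x = 0 then 0 else if x = 1 then 1 else if x = om then 2 else 3

/-- the code of a vector -/
def enc (v : V) : ℕ := e4 (v 0) + 4 * e4 (v 1) + 16 * e4 (v 2) + 64 * e4 (v 3)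

/-- the tables of the generators -/
def tbl : Fin 7 → ℕ := ![0xaaaea6a2abafa7a3a9ada5a1a8aca4a0eaeee6e2ebefe7e3e9ede5e1e8ece4e06a6e66626b6f6763696d6561686c64602a2e26222b2f2723292d2521282c2420babeb6b2bbbfb7b3b9bdb5b1b8bcb4b0fafef6f2fbfff7f3f9fdf5f1f8fcf4f07a7e76727b7f7773797d7571787c74703a3e36323b3f3733393d3531383c34309a9e96929b9f9793999d9591989c9490daded6d2dbdfd7d3d9ddd5d1d8dcd4d05a5e56525b5f5753595d5551585c54501a1e16121b1f1713191d1511181c14108a8e86828b8f8783898d8581888c8480cacec6c2cbcfc7c3c9cdc5c1c8ccc4c04a4e46424b4f4743494d4541484c44400a0e06020b0f0703090d0501080c0400,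
  0x2844f09cfb97234f9af6422e492591fdaec2761a7d11a5c91c70c4a8cfa3177b6509bdd1b6da6e02d7bb0f630468dcb0e38f3b57305ce884513d89e582ee5a360569ddb1d6ba0e62b7db6f036408bcd083ef5b37503c88e4315de985e28e3a56482490fc9bf7432ffa96224e2945f19dcea2167a1d71c5a97c10a4c8afc3771b335feb87e08c385481ed5935523e8ae6b5d96d01660abed2076bdfb3d4b80c607e12a6caadc17519cca014781f73c7abf894204c2b47f39f4a2692fe99f5412d1e72c6aacda11579acc074187f13a7cb98f4402c4b2793ff2a46f29ef995214d533f8be780ec5834e18d3955325eea86d5b90d61066adeb2670bbfd3b4d86c00,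
  0xaafe5602fbaf0753590da5f1085cf4a0efbb1347beea42161c48e0b44d19b1e5653199cd3460c89c96c26a3ec7933b6f2074dc8871258dd9d3872f7b82d67e2abfeb4317eeba12464c18b0e41d49e1b5faae0652abff5703095df5a1580ca4f070248cd82175dd8983d77f2bd2862e7a3561c99d643098ccc6923a6e97c36b3f95c1693dc490386c66329ace3763cb9fd0842c7881d57d292377df8b72268eda5a0ea6f20b5ff7a3a9fd5501f8ac04501f4be3b74e1ab2e6ecb81044bde9411580d47c28d1852d7973278fdb2276de8ac591396d94c0683c3662ca9e67339bcf4f1bb3e71e4ae2b6bce84014edb911450a5ef6a25b0fa7f3f9ad0551a8fc5400,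
  0xdda931454c38a0d4aeda42363f4bd3a79aee76020b7fe793e99d0571780c94e01367ff8b82f66e1a60148cf8f1851d695420b8ccc5b1295d2753cbbfb6c25a2ec4b0285c5521b9cdb7c35b2f2652cabe83f76f1b1266fe8af0841c6861158df90a7ee6929bef7703790d95e1e89c04704d39a1d5dca830443e4ad2a6afdb4337ea9e06727b0f97e399ed7501087ce490add941353c48d0a4deaa32464f3ba3d72450c8bcb5c1592d5723bbcfc6b22a5e63178ffbf2861e6a1064fc8881f56d19f3871f6b62168efa80f46c181165fd89b4c0582c2551c9bdc7b32b5f5622bace3d49d1a5acd840344e3aa2d6dfab33477a0e96e2eb9f0773097de59198ec7400,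
  0xa0443cd841a5dd3933d7af4bd2364eaaea0e76920bef9773799de501987c04e06581f91d846018fcf6126a8e17f38b6f2fcbb357ce2a52b6bc5820c45db9c125bf5b23c75ebac2262cc8b054cd2951b5f511698d14f0886c6682fa1e87631bff7a9ee6029b7f07e3e90d759108ec947030d4ac48d1354da9a3473fdb42a6de3a9a7e06e27b9fe70309ed9571e80c7490d0344ca831d5ad4943a7df3ba2463eda5fbbc327be5a22c6cc2850b42dc9b15515f1896df410688c86621afe6783fb1f856119fd6480f81c16f28a6ef7136b8fcf2b53b72ecab2565cb8c024bd5921c540a4dc38a1453dd9d3374fab32d6ae4a0aee9672eb0f7793997d05e1789ce400,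
  0xaae56f2fb5fa703a90df55158fc04a044e018bcb511e94de743bb1f16b24aeec3679f3b32966eca60c43c989135cd698d29d1757cd820842e8a72d6df7b832714b048ece541b91db713eb4f46e21abe5afe06a2ab0ff753f95da50108ac54f0dd7981252c8870d47eda22868f2bd3779337cf6b62c63e9a30946cc8c1659d3933976fcbc2669e3a9034cc6861c53d997dd921858c28d074de7a82262f8b73d7fa5ea6020baf57f359fd05a1a80cf450b410e84c45e119bd17b34befe642ba1e2d8971d5dc7880248e2ad2767fdb238763c73f9b9236ce6ac0649c3831956dc9e440b81c15b149ed47e31bbfb612ea4eaa0ef6525bff07a309ad55f1f85ca400,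
  0xfafef2f6fbfff3f7f8fcf0f4f9fdf1f5eaeee2e6ebefe3e7e8ece0e4e9ede1e5daded2d6dbdfd3d7d8dcd0d4d9ddd1d5cacec2c6cbcfc3c7c8ccc0c4c9cdc1c5babeb2b6bbbfb3b7b8bcb0b4b9bdb1b5aaaea2a6abafa3a7a8aca0a4a9ada1a59a9e92969b9f9397989c9094999d91958a8e82868b8f8387888c8084898d81857a7e72767b7f7377787c7074797d71756a6e62666b6f6367686c6064696d61655a5e52565b5f5357585c5054595d51554a4e42464b4f4347484c4044494d41453a3e32363b3f3337383c3034393d31352a2e22262b2f2327282c2024292d21251a1e12161b1f1317181c1014191d11150a0e02060b0f0307080c0004090d0105]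

/-- the action of a generator on codes -/
def tb (i : Fin 7) (n : ℕ) : ℕ := tbl i >>> (8 * n) % 256

/-- the distance from the base point -/
def rk (n : ℕ) : ℕ := 0x2856514567365574647777354626467356356676745464665767655657534525274633677565756727644375552665634277554327785876645666466756356461674535586646755755546564675657045571767426656367566765677754475584655235576765466675634761574676635776746365774576835557174660 >>> (4 * n) % 16

/-- the orbit of zero -/
def bit (n : ℕ) : Bool := Nat.testBit 0x8004021104220148f8808000800080008002014402110420800104220144021 n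

/-- the action of a word on codes -/
def afn (l : List (Fin 7)) (n : ℕ) : ℕ := l.foldr tb n

theorem dv_enc : ∀ v : V, dv (enc v) = v ∧ enc v < 256 := forall_V (by decide +kernel)
theorem enc_dv : ∀ n < 256, enc (dv n) = n := by decide +kernel
theorem tb_ok : ∀ i, ∀ n < 256, gm i • dv n + gc i = dv (tb i n) := by decide +kernel
theorem tb_tb : ∀ i, ∀ n < 256, tb i (tb i n) = n := by decide +kernel
theorem tb_lt (i : Fin 7) (n : ℕ) : tb i n < 256 := Nat.mod_lt _ (by norm_num)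
theorem gm_sq : ∀ i, gm i * gm i = 1 := by decide +kernel
theorem dv_zero : dv 0 = 0 := by decide +kernel

theorem aff_cons (i : Fin 7) (l : List (Fin 7)) (v : V) : aff (i :: l) v = gm i • aff l v + gc i := rfl
theorem lin_cons (i : Fin 7) (l : List (Fin 7)) : lin (i :: l) = gm i * lin l := by simp [lin]
theorem lin_append (l l' : List (Fin 7)) : lin (l ++ l') = lin l * lin l' := by simp [lin]
theorem aff_append (l l' : List (Fin 7)) (v : V) : aff (l ++ l') v = aff l (aff l' v) := by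
  simp [aff]

theorem aff_dv (l : List (Fin 7)) {n : ℕ} (h : n < 256) :
    aff l (dv n) = dv (afn l n) ∧ afn l n < 256 := by
  induction l with
  | nil => exact ⟨rfl, h⟩
  | cons i l ih => exact ⟨by rw [aff_cons, ih.1, tb_ok i _ ih.2]; rfl, tb_lt _ _⟩

theorem aff_lin (l : List (Fin 7)) (v : V) : aff l v = lin l • v + aff l 0 := by
  induction l with
  | nil => simp [aff, lin]
  | cons i l ih => rw [aff_cons, aff_cons, ih, lin_cons, mul_smul, smul_add, add_assoc]

theorem lin_dv (l : List (Fin 7)) {n : ℕ} (h : n < 256) :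
    lin l • dv n + dv (afn l 0) = dv (afn l n) := by
  rw [← (aff_dv l h).1, aff_lin, ← (aff_dv l (by norm_num : 0 < 256)).1, dv_zero]

theorem lin_eq {l : List (Fin 7)} {y : Gam}
    (h : ∀ n < 256, y • dv n + dv (afn l 0) = dv (afn l n)) : lin l = y := by
  rw [← inv_mul_eq_one]
  refine eq_one_of_smul fun v => ?_
  obtain ⟨e, k⟩ := dv_enc v
  rw [mul_smul, inv_smul_eq_iff, ← e]
  exact add_right_cancel ((h _ k).trans (lin_dv l k).symm)

theorem lin_pow (l : List (Fin 7)) (k : ℕ) : lin (List.replicate k l).flatten = lin l ^ k := by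
  induction k with
  | zero => rfl
  | succ k ih => rw [List.replicate_succ, List.flatten_cons, lin_append, ih, pow_succ']

/-- the property of the points outside the orbit of zero -/
def Pp (v : V) : Prop := ∃ l, aff l v = v ∧ lin l ^ 36 ≠ 1

theorem key : ∀ (k n : ℕ), n < 256 → rk n = k →
    (bit n = true → ∃ l, aff l 0 = dv n) ∧ (bit n = false → Pp (dv n)) := by
  intro k
  induction k using Nat.strong_induction_on with
  | _ k ih =>
    intro n hn e
    rcases (by decide +kernel : ∀ n < 256, n = 0 ∨ n = 95 ∨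
      ∃ i, rk (tb i n) < rk n ∧ bit (tb i n) = bit n) n hn with rfl | rfl | ⟨i, h1, h2⟩
    · exact ⟨fun _ => ⟨[], dv_zero.symm⟩, fun h => absurd h (by decide +kernel)⟩
    · refine ⟨fun h => absurd h (by decide +kernel), fun _ => ⟨[0, 1, 3, 6], ?_, fun h => ?_⟩⟩
      · rw [(aff_dv _ hn).1]; congr 1
      · have := lin_dv (List.replicate 36 [0, 1, 3, 6]).flatten (by norm_num : 1 < 256)
        rw [lin_pow, h, one_smul] at this
        revert this; decide +kernel
    · obtain ⟨a, b⟩ := ih _ (e ▸ h1) _ (tb_lt i n) rfl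
      have e1 : gm i • dv (tb i n) + gc i = dv n := by rw [tb_ok i _ (tb_lt i n), tb_tb i n hn]
      refine ⟨fun h => ?_, fun h => ?_⟩
      · obtain ⟨l, hl⟩ := a (h2.trans h)
        exact ⟨i :: l, by rw [aff_cons, hl, e1]⟩
      · obtain ⟨l, hl, hp⟩ := b (h2.trans h)
        refine ⟨i :: (l ++ [i]), ?_, fun k => hp ?_⟩
        · rw [aff_cons, aff_append, show aff [i] (dv n) = dv (tb i n) from tb_ok i n hn, hl, e1]
        · rw [lin_cons, lin_append, lin_cons, show lin [] = 1 from rfl, mul_one, ← mul_assoc] at k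
          nth_rewrite 2 [← inv_eq_of_mul_eq_one_right (gm_sq i)] at k
          rwa [conj_pow, conj_eq_one_iff] at k

theorem lin_surj (y : Gam) : ∃ l, lin l = y := by
  let S : Subgroup Gam :=
    { carrier := {y | ∃ l, lin l = y}
      one_mem' := ⟨[], rfl⟩
      mul_mem' := by rintro _ _ ⟨l, rfl⟩ ⟨l', rfl⟩; exact ⟨_, lin_append l l'⟩
      inv_mem' := by
        rintro _ ⟨l, rfl⟩
        induction l with
        | nil => exact ⟨[], inv_one.symm⟩
        | cons i l ih =>
          obtain ⟨l', e⟩ := ih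
          exact ⟨l' ++ [i], by rw [lin_append, e, lin_cons, lin_cons, mul_inv_rev,
            inv_eq_of_mul_eq_one_right (gm_sq i), show lin [] = 1 from rfl, mul_one]⟩ }
  have h : SUG ≤ S := closure_gen.ge.trans ((closure_le S).2 (by
    rintro _ ⟨k, rfl⟩
    exact ⟨![[6, 1, 0, 6, 3, 5, 6, 1, 0], [1, 0, 4, 6, 1, 3, 2, 5, 6, 1], [1, 3, 6, 3, 6, 1, 5, 6, 1, 3, 2], [0, 1, 0, 2, 6, 3, 2, 5, 6, 1, 6]] k,
      lin_eq (by revert k; decide +kernel)⟩))
  have h0 : gm 0 ∈ S := ⟨[0], by simp [lin]⟩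
  by_cases hs : y.s = false
  · exact h hs
  · exact (mul_mem_cancel_right h0).1 (h (show xor y.s true = false by simpa using hs))

theorem orb : OrbS := by
  have e21 : lin w21 = t1 := lin_eq (by decide +kernel)
  refine ⟨⟨{v | bit (enc v) = true}, fun v hv => ?_, fun v hv => ?_, fun c hc => ?_⟩, lin_surj, e21,
    fun v => ?_⟩
  · exact (dv_enc v).1 ▸ (key _ _ (dv_enc v).2 rfl).1 hv
  · exact (dv_enc v).1 ▸ (key _ _ (dv_enc v).2 rfl).2 (by simpa using hv)
  · by_contra h0
    obtain ⟨n, hn, h1, h2⟩ := (by decide +kernel : ∀ m < 256, dv m ≠ 0 →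
      ∃ n < 256, bit n = true ∧ bit (enc (dv n + dv m)) = false) _ (dv_enc c).2
        ((dv_enc c).1.symm ▸ h0)
    have := hc (dv n) (show bit _ = true by rwa [enc_dv n hn])
    rw [(dv_enc c).1] at h2
    exact absurd (h2.symm.trans this) (by decide)
  · obtain ⟨e, k⟩ := dv_enc v
    have t : ∀ l, afn l (enc v) ≠ enc v → aff l v ≠ v := fun l h h' => h (by
      have := (aff_dv l k).1
      rw [e, h'] at this
      rw [← enc_dv _ (aff_dv l k).2, ← this])
    rcases (by decide +kernel : ∀ n < 256, afn [6] n ≠ n ∨ afn w21 n ≠ n ∨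
      afn (4 :: w21 ++ [4]) n ≠ n) _ k with h | h | h
    · exact ⟨_, by rw [lin_cons, show lin [] = 1 from rfl, mul_one]; exact H8.F6.t0_Y0, t _ h⟩
    · exact ⟨_, e21 ▸ H8.F6.t1_Y0, t _ h⟩
    · refine ⟨_, H8.F6.mem_Y0.2 fun w hw => ?_, t _ h⟩
      obtain ⟨e', k'⟩ := dv_enc w
      rw [← e'] at hw ⊢
      exact add_right_cancel ((lin_dv _ k').trans ((by decide +kernel : ∀ n < 256, dv n ∈ l0 →
        dv (afn (4 :: w21 ++ [4]) n) = dv n + dv (afn (4 :: w21 ++ [4]) 0)) _ k' hw))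

end Cfsg.Agent.H12.Orb
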