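import Cfsg.Agent.Lead.PcDefs

/-! Project PL, piece Nc. -/

set_option autoImplicit false

namespace Cfsg.Agent.H12.PlNc

open Subgroup Cfsg.Agent.Lead.Pc

universe u

section
variable {G : Type u} [Group G] [Finite G]

theorem mx {S T B : Subgroup G} (le : T ≤ S) (odd : Odd (T.relIndex S)) (hB : IsPGroup 2 B)
    (tb : T ≤ B) {x : G} (xb : x ∈ B) (xs : x ∈ S) : x ∈ T := by
  have h1 := relIndex_mul_relIndex T (B ⊓ S) S (le_inf tb le) inf_le_right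
  obtain ⟨n, hn⟩ := (hB.to_inf_left (K := S)).index (T.subgroupOf (B ⊓ S))
  change T.relIndex (B ⊓ S) = 2 ^ n at hn
  rw [← h1, hn] at odd
  have h0 : n = 0 := by
    by_contra h
    exact (Nat.not_even_iff_odd.2 odd) ((Nat.even_pow.2 ⟨even_two, h⟩).mul_right _)
  rw [h0, pow_zero, relIndex_eq_one] at hn
  exact hn ⟨xb, xs⟩

omit [Finite G] in
theorem zp {y : G} (h : Tw y) : IsPGroup 2 (zpowers y) := by
  obtain ⟨k, hk⟩ := h
  rintro ⟨_, m, rfl⟩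
  refine ⟨k, Subtype.ext ?_⟩
  change (y ^ m) ^ 2 ^ k = 1
  rw [← zpow_natCast, ← zpow_mul, mul_comm, zpow_mul, zpow_natCast, hk, one_zpow]

end

theorem nc : NcStmt.{u} := by
  intro nf G _ _ S T h y y' ty ty' ys yn yn' ho
  have := h.nm
  obtain ⟨g, hg⟩ := h.cp y' y ty' ho
  set z := g * y * g⁻¹ with hz
  have zn : z ∈ Nm T := (zpowers_le.2 yn') hg
  have zs : z ∉ S := fun e => ys (by
    have := h.nm.conj_mem _ e g⁻¹
    rwa [hz, show g⁻¹ * (g * y * g⁻¹) * g⁻¹⁻¹ = y by group] at this)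
  have tz : Tw z := by
    obtain ⟨k, hk⟩ := ty
    exact ⟨k, by rw [hz, conj_pow, hk]; group⟩
  have q1 : IsPGroup 2 (T ⊔ zpowers z : Subgroup G) :=
    IsPGroup.to_sup_of_normal_left' h.two (zp tz) (zpowers_le.2 zn)
  have q2 : IsPGroup 2 ((T ⊔ zpowers y : Subgroup G).map (MulAut.conj g).toMonoidHom) :=
    (IsPGroup.to_sup_of_normal_left' h.two (zp ty) (zpowers_le.2 yn)).map _
  let H : Subgroup G := S ⊔ zpowers z
  obtain ⟨P, hP⟩ := (q1.comap_subtype (K := H)).exists_le_sylow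
  obtain ⟨P', hP'⟩ := (q2.comap_subtype (K := H)).exists_le_sylow
  obtain ⟨c, hc⟩ := MulAction.exists_smul_eq H P' P
  have zH : z ∈ H := mem_sup_right (mem_zpowers z)
  have pB : IsPGroup 2 ((P : Subgroup H).map H.subtype) := P.2.map _
  have inB : ∀ a ∈ (T ⊔ zpowers z : Subgroup G), a ∈ H → a ∈ (P : Subgroup H).map H.subtype :=
    fun a h1 h2 => ⟨⟨a, h2⟩, hP h1, rfl⟩
  have tB : T ≤ (P : Subgroup H).map H.subtype :=
    fun a ha => inB a (mem_sup_left ha) (mem_sup_left (h.le ha))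
  have cj : ∀ a ∈ (T ⊔ zpowers y : Subgroup G), g * a * g⁻¹ ∈ H →
      c * (g * a * g⁻¹) * (c : G)⁻¹ ∈ (P : Subgroup H).map H.subtype := by
    intro a h1 h2
    have h3 : (⟨_, h2⟩ : H) ∈ (P' : Subgroup H) := hP' ⟨a, h1, rfl⟩
    refine ⟨c * ⟨_, h2⟩ * c⁻¹, ?_, rfl⟩
    rw [← hc]
    exact smul_mem_pointwise_smul _ (MulAut.conj c) _ h3
  have n0 : (c : G) * g ∈ Nm T := by
    refine mem_normalizer_fintype fun t ht => ?_
    have h1 : g * t * g⁻¹ ∈ S := h.nm.conj_mem _ (h.le ht) g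
    have h2 := mx h.le h.odd pB tB (cj t (mem_sup_left ht) (mem_sup_left h1))
      (h.nm.conj_mem _ h1 c)
    rwa [show (c : G) * g * t * (c * g)⁻¹ = c * (g * t * g⁻¹) * (c : G)⁻¹ by group]
  obtain ⟨s, hs, _, ⟨k, rfl⟩, e⟩ := mem_sup_of_normal_left.1 c.2
  have e1 : (c : G) * z * (c : G)⁻¹ = s * z * s⁻¹ := by rw [← e]; group
  have h1 := cj y (mem_sup_right (mem_zpowers y)) zH
  rw [← hz, e1] at h1
  have h2 : z⁻¹ * (s * z * s⁻¹) ∈ T := by
    refine mx h.le h.odd pB tB (mul_mem (inv_mem (inB z (mem_sup_right (mem_zpowers z)) zH)) h1) ?_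
    rw [show z⁻¹ * (s * z * s⁻¹) = z⁻¹ * s * z⁻¹⁻¹ * s⁻¹ by group]
    exact mul_mem (h.nm.conj_mem _ hs _) (inv_mem hs)
  obtain ⟨r, hr, e2⟩ := nf G S T h.nm h.cp h.le h.two h.odd z tz zs zn _ h2 s hs (by group)
  refine ⟨r⁻¹ * (c * g), mul_mem (inv_mem (le_normalizer hr)) n0, ?_⟩
  have e3 : r⁻¹ * (c * g) * y * (r⁻¹ * (c * g))⁻¹ = z := by
    calc _ = r⁻¹ * (c * (g * y * g⁻¹) * (c : G)⁻¹) * r := by group
      _ = r⁻¹ * (z * (z⁻¹ * (s * z * s⁻¹))) * r := by rw [← hz, e1]; group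
      _ = z := by rw [← e2]; group
  rw [e3]; exact hg

end Cfsg.Agent.H12.PlNc
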