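import Mathlib

/-! Four-groups in `PSL₂(F)`, odd characteristic. -/

set_option autoImplicit false

namespace Cfsg.Agent.H12.Psl2Four

open Matrix

variable {F : Type} [Field F]

abbrev M2 (F : Type) := Matrix (Fin 2) (Fin 2) F
abbrev S2 (F : Type) [Field F] := SpecialLinearGroup (Fin 2) F

theorem ch (X : M2 F) : X * X = X.trace • X - X.det • (1 : M2 F) := by
  ext i j
  fin_cases i <;> fin_cases j <;> simp [mul_apply, Fin.sum_univ_two, trace_fin_two, det_fin_two] <;> ring

theorem half (h2 : (2 : F) ≠ 0) {t : F} (h : t = -t) : t = 0 :=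
  (mul_eq_zero.1 (show 2 * t = 0 by linear_combination h)).resolve_left h2

theorem cm (a b : S2 F) : (a * b).1 = a.1 * b.1 := rfl
theorem cn (a : S2 F) : (-a).1 = -a.1 := rfl

theorem pm {r : F} (h : r * r = 1) {X : S2 F} (e : X.1 = r • (1 : M2 F)) : X = 1 ∨ X = -1 := by
  rcases mul_self_eq_one_iff.1 h with rfl | rfl
  · exact Or.inl (Subtype.ext (by rw [e, one_smul]; rfl))
  · exact Or.inr (Subtype.ext (by rw [e, neg_one_smul]; rfl))

theorem sq_one (h2 : (2 : F) ≠ 0) {X : S2 F} (h : X * X = 1) : X = 1 ∨ X = -1 := by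
  have e : X.1 * X.1 = 1 := congrArg Subtype.val h
  have k := ch X.1
  rw [e, X.2, one_smul] at k
  have k2 : X.1.trace • X.1 = (2 : F) • (1 : M2 F) := by
    rw [two_smul]; exact (sub_eq_iff_eq_add.1 k.symm)
  have t0 : X.1.trace ≠ 0 := fun e0 => by
    rw [e0, zero_smul] at k2
    have := congrFun (congrFun k2 0) 0
    simp at this
    exact h2 this.symm
  have k3 : X.1 = (X.1.trace⁻¹ * 2) • (1 : M2 F) := by
    rw [mul_smul, ← k2, smul_smul, inv_mul_cancel₀ t0, one_smul]
  refine pm ?_ k3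
  have := X.2
  rw [k3] at this
  simpa [det_smul, sq] using this

theorem mk_eq (x y : S2 F) : (QuotientGroup.mk x : ProjectiveSpecialLinearGroup (Fin 2) F) =
    QuotientGroup.mk y ↔ y = x ∨ y = -x := by
  rw [QuotientGroup.eq]
  constructor
  · intro h
    obtain ⟨r, hr, e⟩ := Matrix.SpecialLinearGroup.mem_center_iff.1 h
    rcases pm (r := r) (X := x⁻¹ * y) (by simpa [sq] using hr) (by
      rw [← show _ = (x⁻¹ * y).1 from e]; ext i j; simp [diagonal_apply, one_apply]) with h | h
    · exact Or.inl (inv_mul_eq_one.1 h).symm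
    · exact Or.inr (by rw [← mul_inv_cancel_left x y, h, mul_neg, mul_one])
  · rintro (rfl | rfl)
    · rw [inv_mul_cancel]; exact one_mem _
    · rw [mul_neg, inv_mul_cancel]
      exact Subgroup.mem_center_iff.2 fun g => by rw [mul_neg, neg_mul, mul_one, one_mul]

theorem tr0 (h2 : (2 : F) ≠ 0) {X B : S2 F} (h : B * X = -(X * B)) : X.1.trace = 0 := by
  have e : X = -(B⁻¹ * (X * B)) := by rw [← mul_neg, ← h, inv_mul_cancel_left]
  refine half h2 ?_
  conv_lhs => rw [e, cn, trace_neg, cm, trace_mul_comm, ← cm, mul_inv_cancel_right]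

theorem cen (h2 : (2 : F) ≠ 0) {A B L : S2 F} (hA : A * A = -1) (h : B * A = -(A * B))
    (l1 : A * L = L * A) (l2 : B * L = L * B) : L = 1 ∨ L = -1 := by
  have t := tr0 h2 (X := L * A) (B := B) (by
    rw [← mul_assoc, l2, mul_assoc, h, mul_neg, mul_assoc])
  have k : L * A * (L * A) = -1 := Subtype.ext (by
    rw [cm, ch, t, (L * A).2, zero_smul, one_smul, zero_sub]; rfl)
  refine sq_one h2 (neg_inj.1 ?_)
  rw [← k, mul_assoc L, ← mul_assoc A, l1, mul_assoc L A, hA, mul_neg, mul_neg, mul_one]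

theorem fact (h2 : (2 : F) ≠ 0) (a b : ProjectiveSpecialLinearGroup (Fin 2) F) (ha : a * a = 1)
    (hb : b * b = 1) (a1 : a ≠ 1) (b1 : b ≠ 1) (ab : a ≠ b) (c : Commute a b) :
    (∀ l, Commute a l → Commute b l → l = 1 ∨ l = a ∨ l = b ∨ l = a * b) ∧
      ∃ w, w * a * w⁻¹ = b ∧ w * b * w⁻¹ = a * b := by
  obtain ⟨A, rfl⟩ := QuotientGroup.mk_surjective a
  obtain ⟨B, rfl⟩ := QuotientGroup.mk_surjective b
  have one : ∀ X : S2 F, X = 1 ∨ X = -1 →
      (QuotientGroup.mk X : ProjectiveSpecialLinearGroup (Fin 2) F) = 1 := fun X h =>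
    ((mk_eq 1 X).2 h).symm
  have sq : ∀ X : S2 F, (QuotientGroup.mk X : ProjectiveSpecialLinearGroup (Fin 2) F) *
      QuotientGroup.mk X = 1 → (QuotientGroup.mk X : ProjectiveSpecialLinearGroup (Fin 2) F) ≠ 1 →
      X * X = -1 := fun X h h1 =>
    ((mk_eq 1 (X * X)).1 h.symm).resolve_left fun e => h1 (one X (sq_one h2 e))
  have hA := sq A ha a1
  have hB := sq B hb b1
  have hBA : B * A = -(A * B) := by
    refine ((mk_eq (A * B) (B * A)).1 c.eq).resolve_left fun e => ab ?_
    have k := one _ (sq_one h2 (X := A * B) (by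
      rw [mul_assoc, ← mul_assoc B, e, mul_assoc, hB, ← mul_assoc, hA, neg_mul_neg, one_mul]))
    exact mul_left_cancel (ha.trans k.symm)
  have hAB : A * B = -(B * A) := by rw [hBA, neg_neg]
  constructor
  · intro l l1 l2
    obtain ⟨L, rfl⟩ := QuotientGroup.mk_surjective l
    rcases (mk_eq (L * A) (A * L)).1 l1.eq.symm with e1 | e1 <;>
      rcases (mk_eq (L * B) (B * L)).1 l2.eq.symm with e2 | e2
    · exact Or.inl (one _ (cen h2 hA hBA e1 e2))
    · have k := one _ (cen h2 (L := L * A) hA hBA (by rw [← mul_assoc, e1]) (by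
        rw [← mul_assoc, e2, neg_mul, mul_assoc, hBA, mul_neg, neg_neg, mul_assoc]))
      rw [QuotientGroup.mk_mul] at k
      exact Or.inr (Or.inl (mul_right_cancel (k.trans ha.symm)))
    · have k := one _ (cen h2 (L := L * B) hA hBA (by
        rw [← mul_assoc, e1, neg_mul, mul_assoc, hAB, mul_neg, neg_neg, mul_assoc])
        (by rw [← mul_assoc, e2]))
      rw [QuotientGroup.mk_mul] at k
      exact Or.inr (Or.inr (Or.inl (mul_right_cancel (k.trans hb.symm))))
    · have k := one _ (cen h2 (L := L * (A * B)) hA hBA (by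
        rw [← mul_assoc, e1, neg_mul, mul_assoc L, mul_assoc L, mul_assoc A B, hBA, mul_neg, mul_neg])
        (by rw [← mul_assoc, e2, neg_mul, mul_assoc L, mul_assoc L, ← mul_assoc B, hBA, neg_mul,
          mul_neg, neg_neg]))
      have k2 : (QuotientGroup.mk A * QuotientGroup.mk B : ProjectiveSpecialLinearGroup (Fin 2) F) *
          (QuotientGroup.mk A * QuotientGroup.mk B) = 1 := by
        rw [mul_assoc, ← mul_assoc (QuotientGroup.mk B), ← c.eq, mul_assoc, hb, mul_one, ha]
      rw [QuotientGroup.mk_mul, QuotientGroup.mk_mul] at k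
      exact Or.inr (Or.inr (Or.inr (mul_right_cancel (k.trans k2.symm))))
  · have m1 : A.1 * A.1 = -1 := congrArg Subtype.val hA
    have m2 : B.1 * B.1 = -1 := congrArg Subtype.val hB
    have m3 : B.1 * A.1 = -(A.1 * B.1) := congrArg Subtype.val hBA
    have m4 : ∀ X : M2 F, A.1 * (A.1 * X) = -X := fun X => by rw [← mul_assoc, m1, neg_one_mul]
    have m5 : ∀ X : M2 F, B.1 * (A.1 * X) = -(A.1 * (B.1 * X)) := fun X => by
      rw [← mul_assoc, m3, neg_mul, mul_assoc]
    have t1 := tr0 h2 hBA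
    have t2 := tr0 h2 hAB
    have t3 : (A.1 * B.1).trace = 0 := half h2 (by
      conv_lhs => rw [trace_mul_comm, m3, trace_neg])
    obtain ⟨U, hU⟩ : ∃ U : M2 F, U = 1 + A.1 + B.1 + A.1 * B.1 := ⟨_, rfl⟩
    have u1 : U * A.1 = B.1 * U := by
      simp only [hU, add_mul, mul_add, mul_assoc, m1, m2, m3, m4, m5, mul_neg, mul_one, one_mul,
        neg_neg]
      abel
    have u2 : U * B.1 = A.1 * B.1 * U := by
      simp only [hU, add_mul, mul_add, mul_assoc, m1, m2, m3, m4, m5, mul_neg, mul_one, one_mul,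
        neg_neg]
      abel
    have u3 : U * U = (2 : F) • U - (4 : F) • (1 : M2 F) := by
      rw [show (4 : F) = 2 + 2 by norm_num, add_smul]
      simp only [hU, add_mul, mul_add, mul_assoc, m1, m2, m3, m4, m5, mul_neg, mul_one, one_mul,
        neg_neg, two_smul]
      abel
    have u4 : U.trace = 2 := by
      rw [hU, trace_add, trace_add, trace_add, t1, t2, t3, trace_one]; simp
    have u5 : U.det = 4 := by
      have k := ch U
      rw [u3, u4, sub_right_inj] at k
      simpa using (congrFun (congrFun k 0) 0).symm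
    let W : S2 F := ⟨(2 : F)⁻¹ • U, by
      rw [det_smul, u5, Fintype.card_fin]; field_simp; norm_num⟩
    refine ⟨QuotientGroup.mk W, mul_inv_eq_iff_eq_mul.2 ?_, mul_inv_eq_iff_eq_mul.2 ?_⟩
    · refine congrArg QuotientGroup.mk (show W * A = B * W from Subtype.ext ?_)
      change (2 : F)⁻¹ • U * A.1 = B.1 * (2 : F)⁻¹ • U
      rw [Matrix.smul_mul, Matrix.mul_smul, u1]
    · refine congrArg QuotientGroup.mk (show W * B = A * B * W from Subtype.ext ?_)
      change (2 : F)⁻¹ • U * B.1 = A.1 * B.1 * (2 : F)⁻¹ • U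
      rw [Matrix.smul_mul, Matrix.mul_smul, u2]

end Cfsg.Agent.H12.Psl2Four
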