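import Mathlib

/-!
Bases of linear groups, part 1: invariant subgroups, complete reducibility, systems of
imprimitivity (given by projections) and the two reduction steps.
-/

set_option autoImplicit false

namespace Cfsg.Agent.H12.RO

open MulAction
open scoped Pointwise

universe u

section Defs

variable (G : Type*) {V : Type*} [Group G] [AddCommGroup V] [DistribMulAction G V]

/-- `U` is `G`-invariant. -/
def Inv (U : AddSubgroup V) : Prop := ∀ g : G, ∀ v ∈ U, g • v ∈ U

variable (V) in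
/-- complete reducibility -/
def CR : Prop := ∀ U : AddSubgroup V, Inv G U → ∃ W : AddSubgroup V, Inv G W ∧ U ⊓ W = ⊥ ∧ U ⊔ W = ⊤

variable (V) in
/-- irreducibility (the zero module is allowed) -/
def Irr : Prop := ∀ U : AddSubgroup V, Inv G U → U = ⊥ ∨ U = ⊤

/-- `v` is a base modulo the kernel of the action. -/
def IsBase {ι : Type*} (v : ι → V) : Prop :=
  ∀ g : G, (∀ i, g • v i = v i) → ∀ x : V, g • x = x

variable {G}

/-- The action on an invariant subgroup. -/
@[reducible] def subAct {U : AddSubgroup V} (h : Inv G U) : DistribMulAction G U where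
  smul g x := ⟨g • x.1, h g x.1 x.2⟩
  one_smul x := Subtype.ext (one_smul G x.1)
  mul_smul a b x := Subtype.ext (mul_smul a b x.1)
  smul_zero g := Subtype.ext (smul_zero g)
  smul_add g x y := Subtype.ext (smul_add g x.1 y.1)

theorem Irr.cr (h : Irr G V) : CR G V := by
  intro U hU
  rcases h U hU with rfl | rfl
  · exact ⟨⊤, fun _ _ _ => trivial, by simp, by simp⟩
  · exact ⟨⊥, fun g v hv => by rw [AddSubgroup.mem_bot] at hv ⊢; rw [hv, smul_zero], by simp,
      by simp⟩

theorem CR.sub (h : CR G V) {U : AddSubgroup V} (hU : Inv G U) :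
    letI := subAct hU
    CR G U := by
  letI := subAct hU
  intro A hA
  obtain ⟨W, hW, h1, h2⟩ := h (A.map U.subtype) (by
    rintro g _ ⟨a, ha, rfl⟩
    exact ⟨g • a, hA g a ha, rfl⟩)
  refine ⟨W.comap U.subtype, fun g v hv => hW g _ hv, ?_, ?_⟩
  · rw [eq_bot_iff]
    rintro x ⟨hx1, hx2⟩
    have : (x : V) ∈ A.map U.subtype ⊓ W := ⟨⟨x, hx1, rfl⟩, hx2⟩
    rw [h1, AddSubgroup.mem_bot] at this
    exact AddSubgroup.mem_bot.2 (Subtype.ext this)
  · rw [eq_top_iff]
    intro x _
    have : (x : V) ∈ A.map U.subtype ⊔ W := h2 ▸ AddSubgroup.mem_top _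
    obtain ⟨_, ⟨a, ha, rfl⟩, w, hw, e⟩ := AddSubgroup.mem_sup.1 this
    have hwU : w ∈ U := by
      have : w = x - a := by rw [← e]; simp
      rw [this]
      exact U.sub_mem x.2 a.2
    exact AddSubgroup.mem_sup.2 ⟨a, ha, ⟨w, hwU⟩, hw, Subtype.ext e⟩

theorem fix_of_fix_add {U W : AddSubgroup V} (hU : Inv G U) (hW : Inv G W) (h1 : U ⊓ W = ⊥)
    {g : G} {u w : V} (hu : u ∈ U) (hw : w ∈ W) (e : g • (u + w) = u + w) :
    g • u = u ∧ g • w = w := by
  rw [smul_add] at e
  have h2 : g • u - u = w - g • w := by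
    rw [sub_eq_sub_iff_add_eq_add, e, add_comm]
  have h3 : g • u - u ∈ U ⊓ W :=
    ⟨U.sub_mem (hU g u hu) hu, h2 ▸ W.sub_mem hw (hW g w hw)⟩
  rw [h1, AddSubgroup.mem_bot] at h3
  exact ⟨sub_eq_zero.1 h3, (sub_eq_zero.1 (h2 ▸ h3)).symm⟩

theorem IsBase.add {ι : Type*} {U W : AddSubgroup V} (hU : Inv G U) (hW : Inv G W)
    (h1 : U ⊓ W = ⊥) (h2 : U ⊔ W = ⊤) {u : ι → U} {w : ι → W}
    (bu : letI := subAct hU; IsBase G u) (bw : letI := subAct hW; IsBase G w) :
    IsBase G (fun i => (u i : V) + w i) := by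
  intro g hg x
  have h3 := fun i => fix_of_fix_add hU hW h1 (u i).2 (w i).2 (hg i)
  have h4 := bu g fun i => Subtype.ext (h3 i).1
  have h5 := bw g fun i => Subtype.ext (h3 i).2
  obtain ⟨a, ha, b, hb, rfl⟩ := AddSubgroup.mem_sup.1 (h2 ▸ AddSubgroup.mem_top x)
  rw [smul_add]
  exact congrArg₂ (· + ·) (congrArg Subtype.val (h4 ⟨a, ha⟩)) (congrArg Subtype.val (h5 ⟨b, hb⟩))

/-- An element some power of which (with exponent prime to `|G|`) fixes `x` fixes `x`. -/
theorem smul_eq_of_pow {X : Type*} [MulAction G X] [Finite G] {g : G} {n : ℕ}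
    (hn : n.Coprime (Nat.card G)) {x : X} (h : g ^ n • x = x) : g • x = x := by
  have h1 : g ∈ Subgroup.zpowers (g ^ n) := by
    rw [mem_zpowers_pow_iff]
    exact Nat.Coprime.coprime_dvd_right (orderOf_dvd_natCard g) hn
  have h2 : Subgroup.zpowers (g ^ n) ≤ stabilizer G x := by
    rw [Subgroup.zpowers_le]
    exact h
  exact h2 h1

theorem card_lt_of_ne_top [Finite V] {A : AddSubgroup V} (h : A ≠ ⊤) :
    Nat.card A < Nat.card V := by
  refine lt_of_le_of_ne (Nat.card_le_card_of_injective _ Subtype.val_injective) fun e => h ?_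
  exact AddSubgroup.eq_top_of_card_eq A e

end Defs

section Sys

variable (G V Ω : Type*) [Group G] [AddCommGroup V] [DistribMulAction G V] [MulAction G Ω]
  [Fintype Ω]

/-- A system of imprimitivity, given by its projections. -/
structure Sys where
  e : Ω → V →+ V
  sum : ∀ x, ∑ ω, e ω x = x
  orth : ∀ ω ω', ω ≠ ω' → ∀ x, e ω (e ω' x) = 0
  equiv : ∀ (g : G) ω x, e (g • ω) (g • x) = g • e ω x
  ne : ∀ ω, ∃ x, e ω x ≠ 0

variable {G V Ω}

theorem Sys.idem (S : Sys G V Ω) (ω : Ω) (x : V) : S.e ω (S.e ω x) = S.e ω x := by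
  classical
  conv_rhs => rw [← S.sum x]
  rw [map_sum, Finset.sum_eq_single ω]
  · intro b _ hb
    exact S.orth _ _ hb.symm _
  · simp

theorem Sys.trans (S : Sys G V Ω) (hirr : Irr G V) (ω ω' : Ω) : ∃ g : G, g • ω = ω' := by
  by_contra hne
  push Not at hne
  let U : AddSubgroup V :=
    { carrier := {x | ∀ g : G, S.e (g • ω') x = 0}
      add_mem' := fun {a b} ha hb g => by rw [map_add, ha g, hb g, add_zero]
      zero_mem' := fun g => map_zero _
      neg_mem' := fun {a} ha g => by rw [map_neg, ha g, neg_zero] }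
  have hU : Inv G U := by
    intro h x hx g
    have := S.equiv h ((h⁻¹ * g) • ω') x
    rw [← mul_smul, mul_inv_cancel_left, hx, smul_zero] at this
    exact this
  rcases hirr U hU with h | h
  · obtain ⟨x, hx⟩ := S.ne ω
    have : S.e ω x ∈ U := fun g => S.orth _ _ (fun e => hne g⁻¹ (by rw [← e, inv_smul_smul])) x
    rw [h, AddSubgroup.mem_bot] at this
    exact hx this
  · obtain ⟨x, hx⟩ := S.ne ω'
    have : x ∈ U := h ▸ AddSubgroup.mem_top x
    have := this 1
    rw [one_smul] at this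
    exact hx this

/-- Coarsening a system along an equivariant surjection. -/
noncomputable def Sys.map (S : Sys G V Ω) {Ω' : Type*} [MulAction G Ω'] [Fintype Ω'] (φ : Ω → Ω')
    (hφ : ∀ (g : G) ω, φ (g • ω) = g • φ ω) (hs : Function.Surjective φ) : Sys G V Ω' := by
  classical
  exact
  { e := fun ω' => ∑ ω ∈ Finset.univ.filter (fun ω => φ ω = ω'), S.e ω
    sum := fun x => by
      simp only [AddMonoidHom.finset_sum_apply]
      rw [Finset.sum_fiberwise (s := Finset.univ) (g := φ) (f := fun ω => S.e ω x), S.sum]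
    orth := fun a b hab x => by
      simp only [AddMonoidHom.finset_sum_apply, map_sum]
      refine Finset.sum_eq_zero fun ω' hω' => Finset.sum_eq_zero fun ω hω => S.orth _ _ ?_ _
      rintro rfl
      exact hab ((Finset.mem_filter.1 hω).2.symm.trans (Finset.mem_filter.1 hω').2)
    equiv := fun g a x => by
      simp only [AddMonoidHom.finset_sum_apply, Finset.smul_sum]
      symm
      refine Finset.sum_bij' (fun ω _ => g • ω) (fun ω _ => g⁻¹ • ω) ?_ ?_ ?_ ?_ ?_
      · intro ω hω
        rw [Finset.mem_filter] at hω ⊢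
        exact ⟨Finset.mem_univ _, by rw [hφ, hω.2]⟩
      · intro ω hω
        rw [Finset.mem_filter] at hω ⊢
        exact ⟨Finset.mem_univ _, by rw [hφ, hω.2, inv_smul_smul]⟩
      · intro ω _; simp
      · intro ω _; simp
      · intro ω _; exact (S.equiv g ω x).symm
    ne := fun a => by
      obtain ⟨ω, rfl⟩ := hs a
      obtain ⟨x, hx⟩ := S.ne ω
      refine ⟨S.e ω x, ?_⟩
      simp only [AddMonoidHom.finset_sum_apply]
      rw [Finset.sum_eq_single ω, S.idem]
      · exact hx
      · intro b _ hb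
        exact S.orth _ _ hb _
      · simp }

theorem Sys.inv_range (S : Sys G V Ω) (ω : Ω) : Inv (stabilizer G ω) (S.e ω).range := by
  rintro ⟨h, hh⟩ _ ⟨x, rfl⟩
  refine ⟨h • x, ?_⟩
  have := S.equiv h ω x
  rw [show h • ω = ω from hh] at this
  exact this

theorem Sys.irr_range (S : Sys G V Ω) (hirr : Irr G V) (ω : Ω) :
    letI := subAct (S.inv_range ω)
    Irr (stabilizer G ω) (S.e ω).range := by
  letI := subAct (S.inv_range ω)
  intro A hA
  let U : AddSubgroup V :=
    { carrier := {x | ∀ g : G, (⟨S.e ω (g • x), g • x, rfl⟩ : (S.e ω).range) ∈ A}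
      add_mem' := fun {a b} ha hb g => by
        have := A.add_mem (ha g) (hb g)
        convert this using 1
        exact Subtype.ext (by simp)
      zero_mem' := fun g => by
        convert A.zero_mem using 1
        exact Subtype.ext (by simp)
      neg_mem' := fun {a} ha g => by
        have := A.neg_mem (ha g)
        convert this using 1
        exact Subtype.ext (by simp) }
  have hU : Inv G U := by
    intro h x hx g
    have := hx (g * h)
    simp only [mul_smul] at this
    exact this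
  rcases hirr U hU with h | h
  · left
    rw [eq_bot_iff]
    rintro ⟨_, y, rfl⟩ hx
    have : S.e ω y ∈ U := by
      intro g
      by_cases hg : g • ω = ω
      · have := hA ⟨g, hg⟩ _ hx
        convert this using 1
        refine Subtype.ext ?_
        change S.e ω (g • S.e ω y) = g • S.e ω y
        rw [← S.equiv, hg, S.idem]
      · convert A.zero_mem using 1
        refine Subtype.ext ?_
        change S.e ω (g • S.e ω y) = 0
        rw [← S.equiv]
        exact S.orth _ _ (Ne.symm hg) _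
    rw [h, AddSubgroup.mem_bot] at this
    exact AddSubgroup.mem_bot.2 (Subtype.ext this)
  · right
    rw [eq_top_iff]
    rintro ⟨_, y, rfl⟩ _
    have : y ∈ U := h ▸ AddSubgroup.mem_top y
    have := this 1
    convert this using 1
    exact Subtype.ext (by simp)

theorem Sys.card_lt (S : Sys G V Ω) [Finite V] : Fintype.card Ω < Nat.card V := by
  classical
  choose x hx using S.ne
  have : Function.Injective (fun o : Option Ω => o.elim 0 fun ω => S.e ω (x ω)) := by
    rintro (_ | a) (_ | b) h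
    · rfl
    · exact absurd h.symm (hx b)
    · exact absurd h (hx a)
    · by_contra hne
      have hab : a ≠ b := fun e => hne (by rw [e])
      have h' : S.e a (x a) = S.e b (x b) := h
      apply hx a
      rw [← S.idem, h', S.orth _ _ hab]
  have := Nat.card_le_card_of_injective _ this
  simp only [Nat.card_eq_fintype_card, Fintype.card_option] at this
  omega

theorem Sys.card_range_lt (S : Sys G V Ω) [Finite V] [Nontrivial Ω] (ω : Ω) :
    Nat.card (S.e ω).range < Nat.card V := by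
  obtain ⟨ω', h⟩ := exists_ne ω
  obtain ⟨x, hx⟩ := S.ne ω'
  have : (S.e ω).range ≠ ⊤ := by
    intro e
    obtain ⟨y, hy⟩ : S.e ω' x ∈ (S.e ω).range := e ▸ AddSubgroup.mem_top _
    apply hx
    rw [← S.idem, ← hy, S.orth _ _ h]
  exact card_lt_of_ne_top this

/-- The components of a vector built from a colouring. -/
theorem Sys.e_sum (S : Sys G V Ω) {ω₀ : Ω} (t : Ω → G) (ht : ∀ ω, t ω • ω₀ = ω)
    (f : Ω → (S.e ω₀).range) (ω : Ω) : S.e ω (∑ a, t a • (f a : V)) = t ω • (f ω : V) := by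
  classical
  have h1 : ∀ a, t a • (f a : V) = S.e a (t a • (f a : V)) := by
    intro a
    obtain ⟨y, hy⟩ := (f a).2
    have := S.equiv (t a) ω₀ (f a)
    rw [ht a] at this
    rw [this, ← hy, S.idem]
  rw [map_sum, Finset.sum_eq_single ω, ← h1]
  · intro b _ hb
    rw [h1 b]
    exact S.orth _ _ hb.symm _
  · simp

/-- **The imprimitive step.** -/
theorem Sys.step (S : Sys G V Ω) (hirr : Irr G V) (ω₀ : Ω) {ι κ : Type*} (col : Ω → κ)
    (w : κ → ι → (S.e ω₀).range)
    (hineq : ∀ a b (h : G), h • ω₀ = ω₀ → (∀ i, h • (w a i : V) = w b i) → a = b) :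
    ∃ (t : Ω → G) (v : ι → V), (∀ ω, t ω • ω₀ = ω) ∧ (∀ ω i, S.e ω (v i) = t ω • (w (col ω) i : V)) ∧
      ∀ g : G, (∀ i, g • v i = v i) → ∀ ω, col (g • ω) = col ω ∧
        ∀ i, ((t (g • ω))⁻¹ * g * t ω) • (w (col ω) i : V) = w (col ω) i := by
  choose t ht using S.trans hirr ω₀
  refine ⟨t, fun i => ∑ a, t a • (w (col a) i : V), ht, fun ω i => S.e_sum t ht _ ω, ?_⟩
  intro g hg ω
  have h1 : ∀ i, ((t (g • ω))⁻¹ * g * t ω) • (w (col ω) i : V) = w (col (g • ω)) i := by
    intro i
    have h2 := S.equiv g ω (∑ a, t a • (w (col a) i : V))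
    rw [hg i, S.e_sum t ht (fun a => w (col a) i), S.e_sum t ht (fun a => w (col a) i)] at h2
    rw [mul_smul, mul_smul, ← h2, inv_smul_smul]
  have h3 := hineq _ _ _ (by rw [mul_smul, mul_smul, ht, inv_smul_eq_iff, ht]) h1
  exact ⟨h3.symm, fun i => by rw [h1, h3]⟩

theorem Sys.base (S : Sys G V Ω) (hirr : Irr G V) (ω₀ : Ω) {ι κ : Type*} (col : Ω → κ)
    (hcol : ∀ g : G, (∀ ω, col (g • ω) = col ω) → ∀ ω : Ω, g • ω = ω)
    (w : κ → ι → (S.e ω₀).range)
    (hb : letI := subAct (S.inv_range ω₀); ∀ a, IsBase (stabilizer G ω₀) (w a))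
    (hineq : ∀ a b (h : G), h • ω₀ = ω₀ → (∀ i, h • (w a i : V) = w b i) → a = b) :
    ∃ v : ι → V, IsBase G v := by
  obtain ⟨t, v, ht, -, hv⟩ := S.step hirr ω₀ col w hineq
  refine ⟨v, fun g hg x => ?_⟩
  have h1 := hcol g fun ω => (hv g hg ω).1
  rw [← S.sum x, Finset.smul_sum]
  refine Finset.sum_congr rfl fun ω _ => ?_
  have h2 := (hv g hg ω).2
  rw [h1] at h2
  have h3 : ((t ω)⁻¹ * g * t ω) • ω₀ = ω₀ := by
    rw [mul_smul, mul_smul, ht, h1, inv_smul_eq_iff, ht]
  have h4 := hb (col ω) ⟨_, h3⟩ (fun i => Subtype.ext (h2 i))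
    ⟨S.e ω₀ ((t ω)⁻¹ • x), _, rfl⟩
  have h5 : ((t ω)⁻¹ * g * t ω) • S.e ω₀ ((t ω)⁻¹ • x) = S.e ω₀ ((t ω)⁻¹ • x) :=
    congrArg Subtype.val h4
  rw [mul_smul, mul_smul, inv_smul_eq_iff, ← S.equiv, ht, smul_inv_smul] at h5
  exact h5

end Sys

end Cfsg.Agent.H12.RO
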