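import Cfsg.Agent.H12.RO3

/-!
Bases of linear groups, part 9: colourings of finite abelian groups.
-/

set_option autoImplicit false

namespace Cfsg.Agent.H12.RO

open MulAction Finset
open scoped commutatorElement

/-- A rigid colouring with few uncoloured points. -/
def HasCol (Γ J : Type*) [Group Γ] [AddCommGroup J] [DistribMulAction Γ J] (κ : Type) : Prop :=
  ∃ col : J → Option κ, 4 * Set.ncard {x | x ≠ 0 ∧ col x = none} < Nat.card J ∧
    ∀ g : Γ, (∀ x, x ≠ 0 → col (g • x) = col x) → ∀ x : J, g • x = x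

variable {Γ J : Type*} [Group Γ] [AddCommGroup J] [DistribMulAction Γ J]

theorem HasCol.mono {κ κ' : Type} (h : HasCol Γ J κ) (f : κ → κ') (hf : Function.Injective f) :
    HasCol Γ J κ' := by
  obtain ⟨col, h1, h2⟩ := h
  exact ⟨fun x => (col x).map f, by simpa using h1,
    fun g hg => h2 g fun x hx => Option.map_injective hf (hg x hx)⟩

theorem hasCol_of_triv [Finite J] {κ : Type} [Inhabited κ] (h : ∀ (g : Γ) (x : J), g • x = x) :
    HasCol Γ J κ :=
  ⟨fun _ => some default, by simp, fun g _ => h g⟩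

theorem hasCol_of_card [Finite J] {k : ℕ} (h : Nat.card J ≤ k + 1) : HasCol Γ J (Fin k) := by
  classical
  have := Fintype.ofFinite J
  obtain ⟨f⟩ : Nonempty ({x : J // x ≠ 0} ↪ Fin k) := by
    apply Function.Embedding.nonempty_of_card_le
    rw [Nat.card_eq_fintype_card] at h
    simp only [ne_eq, Fintype.card_subtype_compl, Fintype.card_unique, Fintype.card_fin]
    omega
  refine ⟨fun x => if hx : x = 0 then none else some (f ⟨x, hx⟩), ?_, fun g hg x => ?_⟩
  · have : {x : J | x ≠ 0 ∧ (if hx : x = 0 then none else some (f ⟨x, hx⟩)) = none} = ∅ := by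
      ext x
      by_cases hx : x = 0 <;> simp [hx]
    rw [this]
    simpa using Fintype.card_pos
  · by_cases hx : x = 0
    · rw [hx, smul_zero]
    have := hg x hx
    simp only [hx, (smul_ne_zero_iff_ne g).2 hx, dite_false, Option.some.injEq] at this
    exact congrArg Subtype.val (f.injective this)

/-- Coordinates. -/
structure Coord (J : Type*) [AddCommGroup J] (k : ℕ) where
  n : Fin k → ℕ
  c : ∀ i, J →+ ZMod (n i)
  g : Fin k → J
  lt : ∀ i, 1 < n i
  cg : ∀ i j, c i (g j) = if j = i then 1 else 0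
  ext : ∀ φ : J →+ J, (∀ i, φ (g i) = g i) → ∀ x, φ x = x
  card : Nat.card J = ∏ i, n i

theorem exists_coord (J : Type*) [AddCommGroup J] [Finite J] : ∃ k, Nonempty (Coord J k) := by
  classical
  obtain ⟨ι, _, n, hn, ⟨f₀⟩⟩ := AddCommGroup.equiv_directSum_zmod_of_finite' J
  let f := f₀.trans (DirectSum.addEquivProd _)
  let e := (Fintype.equivFin ι).symm
  refine ⟨_, ⟨fun i => n (e i), fun i => (Pi.evalAddMonoidHom _ (e i)).comp f.toAddMonoidHom,
    fun i => f.symm (Pi.single (e i) 1), fun i => hn _, fun i j => ?_, fun φ hφ x => ?_, ?_⟩⟩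
  · by_cases h : j = i
    · subst h; simp
    · simp [h, Pi.single_eq_of_ne (e.injective.ne (Ne.symm h))]
  · obtain ⟨y, rfl⟩ := f.symm.surjective x
    rw [← Finset.univ_sum_single y, map_sum, map_sum]
    refine Finset.sum_congr rfl fun i _ => ?_
    obtain ⟨i, rfl⟩ := e.surjective i
    have : NeZero (n (e i)) := ⟨by have := hn (e i); omega⟩
    have h1 : (Pi.single (e i) (y (e i)) : ∀ i, ZMod (n i)) =
        (y (e i)).val • Pi.single (e i) 1 := by
      rw [← Pi.single_smul, nsmul_one, ZMod.natCast_zmod_val]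
    rw [h1, map_nsmul, map_nsmul, hφ]
  · rw [Nat.card_congr f.toEquiv, Nat.card_pi, ← e.prod_comp]
    simp

/-- coordinates from a basis over `F₂` -/
noncomputable def Coord.ofBasis [Module (ZMod 2) J] {k : ℕ} (b : Module.Basis (Fin k) (ZMod 2) J) :
    Coord J k where
  n _ := 2
  c i := (b.coord i).toAddMonoidHom
  g := b
  lt _ := by norm_num
  cg i j := by simp [Finsupp.single_apply]
  ext φ hφ x := LinearMap.congr_fun (b.ext (f₁ := φ.toZModLinearMap 2) (f₂ := LinearMap.id) hφ) x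
  card := by rw [Nat.card_congr b.equivFun.toEquiv]; simp

theorem perm_seg {k : ℕ} (τ : Fin k → Fin k) (hτ : Function.Injective τ)
    (h : ∀ j : ℕ, 2 ≤ j → j < k → ∃ j' : ℕ, ∀ l : Fin k, (∃ i : Fin k, i.1 < j ∧ τ i = l) ↔ l.1 < j') :
    ∀ i : Fin k, 2 ≤ i.1 → τ i = i := by
  have h1 : ∀ j : ℕ, 2 ≤ j → j ≤ k → ∀ i : Fin k, (τ i).1 < j ↔ i.1 < j := by
    intro j h2 hj i
    rcases hj.eq_or_lt with rfl | hj
    · simp
    obtain ⟨j', h3⟩ := h j h2 hj
    have h4 : (univ.filter fun i : Fin k => i.1 < j).image τ = univ.filter fun l : Fin k => l.1 < j' := by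
      ext l
      simp [h3]
    have h5 := congrArg Finset.card h4
    rw [card_image_of_injective _ hτ, Fin.card_filter_val_lt, Fin.card_filter_val_lt] at h5
    rw [show j = j' by omega, ← h3, ← show j = j' by omega]
    exact ⟨fun ⟨i', h6, h7⟩ => hτ h7 ▸ h6, fun h6 => ⟨i, h6, rfl⟩⟩
  intro i hi
  have h2 := h1 i hi i.2.le i
  have h3 := h1 (i + 1) (by omega) i.2 i
  exact Fin.ext (by omega)

namespace Coord

variable {k : ℕ} (C : Coord J k)

instance (i : Fin k) : Fact (1 < C.n i) := ⟨C.lt i⟩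

/-- initial segments -/
def seg (j : ℕ) : J := ∑ i with i.1 < j, C.g i

theorem c_seg (l : Fin k) (j : ℕ) : C.c l (C.seg j) = if l.1 < j then 1 else 0 := by
  simp [seg, map_sum, C.cg]

theorem g_inj : Function.Injective C.g := fun i j e => by
  have := C.cg i i
  rw [e, C.cg] at this
  by_contra hne
  simp [Ne.symm hne] at this

theorem g_ne (i : Fin k) : C.g i ≠ 0 := fun e => by
  have := C.cg i i
  simp [e] at this

theorem c_map_seg (φ : J →+ J) (τ : Fin k → Fin k) (hτ : Function.Injective τ)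
    (h : ∀ i, φ (C.g i) = C.g (τ i)) (l : Fin k) (j : ℕ) :
    C.c l (φ (C.seg j)) = if ∃ i : Fin k, i.1 < j ∧ τ i = l then 1 else 0 := by
  simp only [seg, map_sum, h, C.cg]
  split_ifs with h1
  · obtain ⟨i, hi, rfl⟩ := h1
    rw [Finset.sum_eq_single i]
    · simp
    · intro b _ hb
      simp [hτ.ne hb]
    · simp [hi]
  · refine Finset.sum_eq_zero fun i hi => if_neg fun e => h1 ⟨i, by simpa using hi, e⟩

theorem tau_inj (φ : J →+ J) (hφ : Function.Injective φ) (τ : Fin k → Fin k)
    (h : ∀ i, φ (C.g i) = C.g (τ i)) : Function.Injective τ := fun i j e =>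
  C.g_inj (hφ (by rw [h, h, e]))

theorem fix_of_seg (φ : J →+ J) (hφ : Function.Injective φ) (τ : Fin k → Fin k)
    (h : ∀ i, φ (C.g i) = C.g (τ i))
    (hs : ∀ j, 2 ≤ j → j < k → ∃ j', φ (C.seg j) = C.seg j') : ∀ i : Fin k, 2 ≤ i.1 → τ i = i := by
  have hτ := C.tau_inj φ hφ τ h
  refine perm_seg τ hτ fun j h1 h2 => ?_
  obtain ⟨j', e⟩ := hs j h1 h2
  refine ⟨j', fun l => ?_⟩
  have h3 := C.c_map_seg φ τ hτ h l j
  rw [e, C.c_seg] at h3
  by_cases h4 : l.1 < j' <;> by_cases h5 : ∃ i : Fin k, i.1 < j ∧ τ i = l <;>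
    simp only [h4, h5, if_true, if_false, one_ne_zero, zero_ne_one] at h3 ⊢

end Coord

theorem tau_cases {m : ℕ} (τ : Fin (m + 2) → Fin (m + 2)) (hτ : Function.Injective τ)
    (h : ∀ i : Fin (m + 2), 2 ≤ i.1 → τ i = i) : (∀ i, τ i = i) ∨ (τ 0 = 1 ∧ τ 1 = 0) := by
  have h1 : ∀ i : Fin (m + 2), i.1 < 2 → τ i = 0 ∨ τ i = 1 := by
    intro i hi
    by_cases h2 : 2 ≤ (τ i).1
    · have := hτ (h _ h2)
      rw [this] at h2
      omega
    · rcases (by omega : (τ i).1 = 0 ∨ (τ i).1 = 1) with e | e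
      · exact Or.inl (Fin.ext e)
      · exact Or.inr (Fin.ext e)
  have h01 : τ 0 ≠ τ 1 := hτ.ne Fin.zero_ne_one
  rcases h1 0 (by simp) with e0 | e0 <;> rcases h1 1 (by simp) with e1 | e1
  · exact absurd (e0.trans e1.symm) h01
  · refine Or.inl fun i => ?_
    rcases (by omega : i.1 = 0 ∨ i.1 = 1 ∨ 2 ≤ i.1) with e | e | e
    · rw [show i = 0 from Fin.ext e, e0]
    · rw [show i = 1 from Fin.ext e, e1]
    · exact h i e
  · exact Or.inr ⟨e0, e1⟩
  · exact absurd (e0.trans e1.symm) h01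

/-- `φ` swaps the first two generators. -/
def Sw {m : ℕ} (g : Fin (m + 2) → J) (φ : J → J) : Prop :=
  φ (g 0) = g 1 ∧ φ (g 1) = g 0 ∧ ∀ i : Fin (m + 2), 2 ≤ i.1 → φ (g i) = g i

theorem Coord.id_or_sw {m : ℕ} (C : Coord J (m + 2)) (φ : J →+ J) (hφ : Function.Injective φ)
    (h : ∀ i, ∃ j, φ (C.g i) = C.g j)
    (hs : ∀ j, 2 ≤ j → j < m + 2 → ∃ j', φ (C.seg j) = C.seg j') :
    (∀ x, φ x = x) ∨ Sw C.g φ := by
  choose τ hτ using h
  have h1 := C.fix_of_seg φ hφ τ hτ hs
  refine (tau_cases τ (C.tau_inj φ hφ τ hτ) h1).imp (fun e => C.ext φ fun i => by rw [hτ, e])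
    fun e => ⟨by rw [hτ, e.1], by rw [hτ, e.2], fun i hi => by rw [hτ, h1 i hi]⟩

/-! ### odd order -/

/-- the marked set -/
def Coord.Z {m : ℕ} (C : Coord J (m + 2)) (b : Prop) : Set J :=
  {x | (∃ i, x = C.g i) ∨ ∃ y, (x = y ∨ x = -y) ∧
    ((∃ j, 2 ≤ j ∧ j < m + 2 ∧ y = C.seg j) ∨ (b ∧ y = C.g 0 + C.g 0 + C.g 1))}

theorem Coord.two_ne {k : ℕ} (C : Coord J k) (hodd : Odd (Nat.card J)) (i : Fin k) :
    (1 + 1 : ZMod (C.n i)) ≠ 0 := by
  intro e
  have h1 : ((2 : ℕ) : ZMod (C.n i)) = 0 := by rw [← e]; norm_num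
  rw [ZMod.natCast_eq_zero_iff] at h1
  have h2 := C.lt i
  have h3 : C.n i = 2 := le_antisymm (Nat.le_of_dvd two_pos h1) h2
  have h4 : C.n i ∣ Nat.card J := C.card ▸ Finset.dvd_prod_of_mem _ (mem_univ i)
  rw [h3] at h4
  exact (Nat.not_even_iff_odd.2 hodd) (even_iff_two_dvd.2 h4)

theorem Coord.Z_core {m : ℕ} (C : Coord J (m + 2)) (hodd : Odd (Nat.card J)) (b : Prop)
    (φ : J →+ J) (hφ : Function.Injective φ) (h : ∀ x, x ≠ 0 → (φ x ∈ C.Z b ↔ x ∈ C.Z b)) :
    (∀ x, φ x = x) ∨ Sw C.g φ := by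
  have t := C.two_ne hodd
  have t' : ∀ i, (-1 : ZMod (C.n i)) ≠ 1 := fun i e => t i (by rw [← neg_eq_iff_add_eq_zero, e])
  have t0 := t 0
  have hg : ∀ i, ∃ j, φ (C.g i) = C.g j := by
    intro i
    have h1 : -C.g i ∉ C.Z b := by
      rintro (⟨j, e⟩ | ⟨y, e, hy⟩)
      · have := congrArg (C.c i) e
        rw [map_neg, C.cg, C.cg] at this
        by_cases hji : j = i <;> simp [hji, t'] at this
      · have h2 : C.c 0 y ≠ 0 ∧ C.c 1 y ≠ 0 := by
          rcases hy with ⟨j, h1, h2, rfl⟩ | ⟨-, rfl⟩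
          · simp [C.c_seg, show 0 < j by omega, show 1 < j by omega]
          · simp [C.cg, t0]
        have h3 : y = C.g i ∨ y = -C.g i := by
          rcases e with e | e
          · exact Or.inr e.symm
          · exact Or.inl (neg_injective e).symm
        rcases h3 with rfl | rfl <;> simp [C.cg] at h2 <;>
          exact Fin.zero_ne_one (h2.1.symm.trans h2.2)
    rcases (h _ (C.g_ne i)).2 (Or.inl ⟨i, rfl⟩) with e | ⟨y, e, hy⟩
    · exact e
    · refine absurd ((h _ (neg_ne_zero.2 (C.g_ne i))).1 (Or.inr ⟨y, ?_, hy⟩)) h1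
      rw [map_neg]
      rcases e with e | e <;> simp [e]
  refine C.id_or_sw φ hφ hg fun j h1 h2 => ?_
  choose τ hτ using hg
  have hi := C.tau_inj φ hφ τ hτ
  have h3 := C.c_map_seg φ τ hi hτ
  have h4 : ∀ l, C.c l (φ (C.seg j)) = 0 ∨ C.c l (φ (C.seg j)) = 1 := fun l => by
    rw [h3]; split_ifs <;> simp
  have h5 : C.seg j ≠ 0 := fun e => by
    have := C.c_seg 0 j
    simp [e, show 0 < j by omega] at this
  rcases (h _ h5).2 (Or.inr ⟨_, Or.inl rfl, Or.inl ⟨j, h1, h2, rfl⟩⟩) with
    ⟨i, e⟩ | ⟨y, e | e, ⟨j', h6, h7, rfl⟩ | ⟨-, rfl⟩⟩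
  · exfalso
    have h6 := h3 (τ 0) j
    have h7 := h3 (τ 1) j
    rw [if_pos ⟨0, by simp; omega, rfl⟩, e, C.cg] at h6
    rw [if_pos ⟨1, by simp; omega, rfl⟩, e, C.cg] at h7
    simp at h6 h7
    exact Fin.zero_ne_one (hi (h6.symm.trans h7))
  · exact ⟨j', e⟩
  · have := h4 0
    simp [e, C.cg, t0] at this
  · have := h4 0
    simp [e, C.c_seg, show 0 < j' by omega, t'] at this
  · have := h4 1
    simp [e, C.cg, t'] at this

theorem Coord.Z_card {m : ℕ} (C : Coord J (m + 2)) (b : Prop) [Decidable b] :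
    (C.Z b).ncard ≤ 3 * m + 2 + if b then 2 else 0 := by
  classical
  let A : Finset J := (Finset.Ico 2 (m + 2)).image C.seg
  let B : Finset J := if b then {C.g 0 + C.g 0 + C.g 1} else ∅
  have h1 : C.Z b ⊆ ((univ.image C.g ∪ ((A ∪ B) ∪ (A ∪ B).image Neg.neg) : Finset J) : Set J) := by
    rintro x (⟨i, rfl⟩ | ⟨y, e, hy⟩)
    · simp
    · have : y ∈ A ∪ B := by
        rcases hy with ⟨j, h1, h2, rfl⟩ | ⟨hb, rfl⟩
        · exact mem_union_left _ (mem_image_of_mem _ (mem_Ico.2 ⟨h1, h2⟩))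
        · simp [B, hb]
      rcases e with rfl | rfl
      · exact mem_coe.2 (mem_union_right _ (mem_union_left _ this))
      · exact mem_coe.2 (mem_union_right _ (mem_union_right _ (mem_image_of_mem _ this)))
  have h2 := Set.ncard_le_ncard h1 (Finset.finite_toSet _)
  rw [Set.ncard_coe_finset] at h2
  have h3 := card_union_le (univ.image C.g) ((A ∪ B) ∪ (A ∪ B).image Neg.neg)
  have h4 := card_union_le (A ∪ B) ((A ∪ B).image Neg.neg)
  have h5 : ((A ∪ B).image Neg.neg).card ≤ _ := card_image_le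
  have h6 := card_union_le A B
  have h7 : A.card ≤ m := card_image_le.trans (by simp)
  have h8 : (univ.image C.g).card ≤ m + 2 := card_image_le.trans (by simp)
  have h9 : 2 * B.card = if b then 2 else 0 := by by_cases hb : b <;> simp [B, hb]
  omega

theorem Coord.pow_le {k : ℕ} (C : Coord J k) {a : ℕ} (h : ∀ i, a ≤ C.n i) : a ^ k ≤ Nat.card J := by
  rw [C.card]
  simpa using Finset.pow_card_le_prod univ C.n a fun i _ => h i

theorem Coord.three_le {k : ℕ} (C : Coord J k) (hodd : Odd (Nat.card J)) (i : Fin k) :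
    3 ≤ C.n i := by
  have h1 := C.lt i
  by_contra h2
  have h4 : C.n i ∣ Nat.card J := C.card ▸ Finset.dvd_prod_of_mem _ (mem_univ i)
  rw [show C.n i = 2 by omega] at h4
  exact (Nat.not_even_iff_odd.2 hodd) (even_iff_two_dvd.2 h4)

theorem lin_lt_three (m : ℕ) : 4 * (3 * m + 2) < 3 ^ (m + 2) := by
  induction m with
  | zero => norm_num
  | succ m ih => rw [pow_succ]; omega

theorem lin_lt_five (m : ℕ) : 4 * (3 * m + 4) < 5 ^ (m + 2) := by
  induction m with
  | zero => norm_num
  | succ m ih => rw [pow_succ]; omega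

theorem hasCol_of_set [Finite J] (Z : Set J) (h1 : 4 * Z.ncard < Nat.card J)
    (h2 : ∀ g : Γ, (∀ x, x ≠ 0 → (g • x ∈ Z ↔ x ∈ Z)) → ∀ x : J, g • x = x) :
    HasCol Γ J (Fin 1) := by
  classical
  refine ⟨fun x => if x ∈ Z then none else some 0, lt_of_le_of_lt (Nat.mul_le_mul_left 4
    (Set.ncard_le_ncard fun x hx => by simpa using hx.2)) h1, fun g hg => h2 g fun x hx => ?_⟩
  have := hg x hx
  by_cases h3 : g • x ∈ Z <;> by_cases h4 : x ∈ Z <;> simp_all

theorem col2 [Finite Γ] [Finite J] (hodd : Odd (Nat.card J))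
    (h : Odd (Nat.card Γ) ∨ ¬ 3 ∣ Nat.card J) : HasCol Γ J (Fin 1) := by
  classical
  obtain ⟨k, ⟨C⟩⟩ := exists_coord J
  have hinj : ∀ g : Γ, Function.Injective (DistribSMul.toAddMonoidHom J g) := fun g =>
    MulAction.injective g
  match k, C with
  | 0, C => exact hasCol_of_triv fun g => C.ext (DistribSMul.toAddMonoidHom J g) fun i => i.elim0
  | 1, C =>
    by_cases h5 : 4 < Nat.card J
    · refine hasCol_of_set {C.g 0} (by simpa using h5) fun g hg =>
        C.ext (DistribSMul.toAddMonoidHom J g) fun i => ?_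
      rw [Subsingleton.elim i 0]
      exact (hg _ (C.g_ne 0)).2 rfl
    have h3 : Nat.card J = 3 := by
      have := C.pow_le (C.three_le hodd)
      obtain ⟨j, hj⟩ := hodd
      omega
    have hΓ := h.resolve_right (by simp [h3])
    refine hasCol_of_triv fun g x => ?_
    by_cases hx : x = 0
    · rw [hx, smul_zero]
    by_contra hgx
    have := Fintype.ofFinite J
    have h6 : ({0, x, g • x} : Finset J) = univ := by
      apply Finset.eq_univ_of_card
      rw [← Nat.card_eq_fintype_card, h3, card_eq_three]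
      exact ⟨_, _, _, Ne.symm hx, ((smul_ne_zero_iff_ne g).2 hx).symm, Ne.symm hgx, rfl⟩
    have h7 : g • g • x ∈ ({0, x, g • x} : Finset J) := h6 ▸ mem_univ _
    simp only [mem_insert, smul_eq_zero_iff_eq, hx, mem_singleton, smul_left_cancel_iff, hgx,
      false_or, or_false] at h7
    exact hgx (smul_eq_of_pow (Nat.coprime_two_left.2 hΓ) (by rw [sq, mul_smul, h7]))
  | m + 2, C =>
    rcases h with h | h
    · refine hasCol_of_set (C.Z False) ?_ fun g hg => ?_
      · have h1 := C.Z_card False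
        have h2 := C.pow_le (C.three_le hodd)
        have h3 := lin_lt_three m
        simp only [if_false] at h1
        omega
      rcases C.Z_core hodd False _ (hinj g) hg with h1 | ⟨h1, h2, h3⟩
      · exact h1
      intro x
      refine smul_eq_of_pow (Nat.coprime_two_left.2 h)
        (C.ext (DistribSMul.toAddMonoidHom J (g ^ 2)) (fun i => ?_) x)
      simp only [DistribSMul.toAddMonoidHom_apply] at h1 h2 h3 ⊢
      rw [sq, mul_smul]
      rcases (by omega : i.1 = 0 ∨ i.1 = 1 ∨ 2 ≤ i.1) with e | e | e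
      · rw [show i = 0 from Fin.ext e, h1, h2]
      · rw [show i = 1 from Fin.ext e, h2, h1]
      · rw [h3 i e, h3 i e]
    have h5 : ∀ i, ¬ 3 ∣ C.n i := fun i e =>
      h (e.trans (C.card ▸ Finset.dvd_prod_of_mem _ (mem_univ i)))
    refine hasCol_of_set (C.Z True) ?_ fun g hg => ?_
    · have h1 := C.Z_card True
      have h2 := C.pow_le (a := 5) fun i => by
        have h6 := C.three_le hodd i
        have h7 := h5 i
        have h8 : C.n i ∣ Nat.card J := C.card ▸ Finset.dvd_prod_of_mem _ (mem_univ i)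
        have h9 := (hodd.of_dvd_nat h8)
        rw [Nat.odd_iff] at h9
        omega
      have h3 := lin_lt_five m
      simp only [if_true] at h1
      omega
    rcases C.Z_core hodd True _ (hinj g) hg with h1 | ⟨h1, h2, h3⟩
    · exact h1
    exfalso
    have t := C.two_ne hodd
    have t0 := t 0
    have t1 := t 1
    have t' : ∀ i, (1 : ZMod (C.n i)) ≠ -1 := fun i e => t i (by rw [← eq_neg_iff_add_eq_zero, ← e])
    have h6 : C.g 0 + C.g 0 + C.g 1 ≠ 0 := fun e => by
      have := congrArg (C.c 1) e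
      simp [C.cg] at this
    have h7 := (hg _ h6).2 (Or.inr ⟨_, Or.inl rfl, Or.inr ⟨trivial, rfl⟩⟩)
    simp only [DistribSMul.toAddMonoidHom_apply] at h1 h2
    rw [smul_add, smul_add, h1, h2] at h7
    rcases h7 with ⟨i, e⟩ | ⟨y, e | e, ⟨j', h8, h9, rfl⟩ | ⟨-, rfl⟩⟩
    · have := congrArg (C.c 1) e
      by_cases hi : i = 1 <;> simp [C.cg, hi, t1] at this
    · have := congrArg (C.c 1) e
      simp [C.cg, C.c_seg, show 1 < j' by omega] at this
    · have := congrArg (C.c 1) e
      simp [C.cg] at this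
    · have := congrArg (C.c 0) e
      simp [C.cg, C.c_seg, show 0 < j' by omega, t'] at this
    · have := congrArg (C.c 0) e
      simp only [map_add, map_neg, C.cg] at this
      refine h5 0 ?_
      have h10 : ((3 : ℕ) : ZMod (C.n 0)) = 0 := by
        simp at this
        push_cast
        linear_combination this
      rw [ZMod.natCast_eq_zero_iff] at h10
      have := (Nat.dvd_prime Nat.prime_three).1 h10
      have := C.lt 0
      omega

theorem col3odd [Finite J] (hodd : Odd (Nat.card J)) : HasCol Γ J (Fin 2) := by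
  classical
  obtain ⟨k, ⟨C⟩⟩ := exists_coord J
  match k, C with
  | 0, C => exact hasCol_of_triv fun g => C.ext (DistribSMul.toAddMonoidHom J g) fun i => i.elim0
  | 1, C =>
    refine ⟨fun x => if x = C.g 0 then some 1 else some 0, ?_, fun g hg =>
      C.ext (DistribSMul.toAddMonoidHom J g) fun i => ?_⟩
    · have : {x : J | x ≠ 0 ∧ (if x = C.g 0 then some (1 : Fin 2) else some 0) = none} = ∅ := by
        ext x
        by_cases hx : x = C.g 0 <;> simp [hx]
      rw [this]
      simp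
    rw [Subsingleton.elim i 0]
    simpa using hg _ (C.g_ne 0)
  | m + 2, C =>
    refine ⟨fun x => if x = C.g 0 then some 1 else if x ∈ C.Z False then none else some 0, ?_,
      fun g hg => ?_⟩
    · refine lt_of_le_of_lt (Nat.mul_le_mul_left 4 (Set.ncard_le_ncard (t := C.Z False)
        fun x hx => ?_)) ?_
      · have := hx.2
        by_cases h1 : x = C.g 0 <;> simp_all
      have h1 := C.Z_card False
      have h2 := C.pow_le (C.three_le hodd)
      have h3 := lin_lt_three m
      simp only [if_false] at h1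
      omega
    have h0 : g • C.g 0 = C.g 0 := by
      have := hg _ (C.g_ne 0)
      by_contra e
      by_cases h1 : g • C.g 0 ∈ C.Z False <;> simp [e, h1] at this
    refine (C.Z_core hodd False (DistribSMul.toAddMonoidHom J g) (MulAction.injective g)
      (fun x hx => ?_)).resolve_right fun h1 => Fin.zero_ne_one (C.g_inj (h0.symm.trans h1.1))
    by_cases h1 : x = C.g 0
    · simp [h1, h0]
    have h2 : g • x ≠ C.g 0 := fun e => h1 (MulAction.injective g (e.trans h0.symm))
    have := hg x hx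
    change g • x ∈ _ ↔ _
    by_cases h3 : g • x ∈ C.Z False <;> by_cases h4 : x ∈ C.Z False <;> simp_all

/-! ### elementary abelian `2`-groups -/

theorem lin_lt_two (m : ℕ) : 4 * (m + 1) < 2 ^ (m + 3) := by
  induction m with
  | zero => simp
  | succ m ih => rw [pow_succ]; omega

section Two

variable [Module (ZMod 2) J]

/-- transvections over `F₂` -/
def tv (f : J →ₗ[ZMod 2] ZMod 2) (a : J) (h : f a = 0) : J ≃ₗ[ZMod 2] J :=
  LinearEquiv.ofInvolutive (LinearMap.id + f.smulRight a) fun x => by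
    simp [h, add_assoc, ← add_smul, CharTwo.add_self_eq_zero]

theorem tv_apply (f : J →ₗ[ZMod 2] ZMod 2) (a : J) (h : f a = 0) (x : J) :
    tv f a h x = x + f x • a := rfl

theorem add_self2 (x : J) : x + x = 0 := by
  rw [← two_smul (ZMod 2), show (2 : ZMod 2) = 0 from rfl, zero_smul]

theorem exists_no_sw [Group.IsSolvable Γ] {m : ℕ} (b₀ : Module.Basis (Fin (m + 3)) (ZMod 2) J) :
    ∃ b : Module.Basis (Fin (m + 3)) (ZMod 2) J, ∀ g : Γ, ¬ Sw (m := m + 1) b (g • ·) := by
  by_contra hh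
  push Not at hh
  let ρ := (toPermHom Γ J).rangeRestrict
  have : Group.IsSolvable (toPermHom Γ J).range :=
    solvable_of_surjective (toPermHom Γ J).rangeRestrict_surjective
  have key := eq_one_of_comm_closed
    {s | ∃ (b : Module.Basis (Fin (m + 3)) (ZMod 2) J) (g : Γ), Sw (m := m + 1) b (g • ·) ∧ s = ρ g}
    (by
      rintro _ ⟨b, g, ⟨g0, g1, g2⟩, rfl⟩
      have n01 : (0 : Fin (m + 3)) ≠ 1 := by simp
      have v2 : ((2 : Fin (m + 3)) : ℕ) = 2 := rfl
      have n02 : (0 : Fin (m + 3)) ≠ 2 := by rw [Ne, Fin.ext_iff, v2]; simp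
      have n12 : (1 : Fin (m + 3)) ≠ 2 := by rw [Ne, Fin.ext_iff, v2]; simp
      have hge : ∀ i : Fin (m + 3), 3 ≤ i.1 → i ≠ 0 ∧ i ≠ 1 ∧ i ≠ 2 := fun i hi => by
        refine ⟨?_, ?_, ?_⟩ <;> rintro rfl
        · simp at hi
        · simp at hi
        · omega
      let θ₁ := tv (b.coord 0 + b.coord 1 + b.coord 2) (b 0 + b 2) (by
        simp [Finsupp.single_apply, n01, n02, n12, n01.symm, n02.symm, n12.symm,
          CharTwo.add_self_eq_zero])
      let θ₂ := tv (b.coord 0 + b.coord 2) (b 0 + b 1 + b 2) (by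
        simp [Finsupp.single_apply, n01, n02, n12, n01.symm, n02.symm, n12.symm,
          CharTwo.add_self_eq_zero])
      obtain ⟨x, x0, x1, x2⟩ := hh (b.map θ₁)
      obtain ⟨y, y0, y1, y2⟩ := hh (b.map θ₂)
      refine ⟨_, ⟨_, x, ⟨x0, x1, x2⟩, rfl⟩, _, ⟨_, y, ⟨y0, y1, y2⟩, rfl⟩, ?_⟩
      have x3 := x2 2 v2.ge
      have y3 := y2 2 v2.ge
      have g3 := g2 2 v2.ge
      have x4 : ∀ i : Fin (m + 3), 3 ≤ i.1 → x • b i = b i := fun i hi => by
        obtain ⟨h0, h1, h2⟩ := hge i hi
        simpa [θ₁, tv_apply, Finsupp.single_apply, h0, h1, h2] using x2 i (by omega)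
      have y4 : ∀ i : Fin (m + 3), 3 ≤ i.1 → y • b i = b i := fun i hi => by
        obtain ⟨h0, h1, h2⟩ := hge i hi
        simpa [θ₂, tv_apply, Finsupp.single_apply, h0, h1, h2] using y2 i (by omega)
      simp only [θ₁, θ₂, Module.Basis.map_apply, tv_apply, LinearMap.add_apply,
        Module.Basis.coord_apply, Module.Basis.repr_self, Finsupp.single_apply, n01, n02, n12,
        n01.symm, n02.symm, n12.symm, if_true, if_false, add_zero, zero_add, one_smul, zero_smul,
        smul_add] at x0 x1 x3 y0 y1 y3 g0 g1 g3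
      have t := add_self2 (J := J)
      have hx2 : x • b 2 = b 0 + b 1 + b 2 := by
        linear_combination (norm := abel) x0 - t (x • b 0)
      have hx0 : x • b 0 = b 0 := by
        linear_combination (norm := abel) x3 - t (x • b 2) + t (b 2)
      have hx1 : x • b 1 = b 1 := by
        linear_combination (norm := abel) x1 - hx0 - hx2 - t (b 1)
      have hy2 : y • b 2 = b 2 := by
        linear_combination (norm := abel) y0 - y1 - t (y • b 0) - t (b 0) - t (b 2)
      have hy1 : y • b 1 = b 1 + b 2 := by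
        linear_combination (norm := abel) y1 + t (b 0)
      have hy0 : y • b 0 = b 0 + b 2 := by
        linear_combination (norm := abel) y3 - hy1 - t (y • b 2)
      have e : ∀ z : J, ((y * x)⁻¹ * g⁻¹ * (x * y)) • z = z := by
        refine (Coord.ofBasis b).ext (DistribSMul.toAddMonoidHom J _) fun i => ?_
        change ((y * x)⁻¹ * g⁻¹ * (x * y)) • b i = b i
        rw [mul_smul, mul_smul, inv_smul_eq_iff, inv_smul_eq_iff, mul_smul, mul_smul]
        rcases (by omega : i.1 = 0 ∨ i.1 = 1 ∨ i.1 = 2 ∨ 3 ≤ i.1) with e | e | e | e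
        · rw [show i = 0 from Fin.ext e]
          simp only [hx0, hy0, hx2, smul_add, g0, g3]
          linear_combination (norm := abel) t (b 0)
        · rw [show i = 1 from Fin.ext e]
          simp only [hx1, hy1, hx2, smul_add, g1, g3]
          linear_combination (norm := abel) t (b 1)
        · rw [show i = 2 from Fin.ext e]
          simp only [hy2, hx2, smul_add, g0, g1, g3, hy0, hy1]
          linear_combination (norm := abel) -t (b 2)
        · rw [y4 i e, x4 i e, y4 i e]
          exact (g2 i (by omega)).symm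
      have e' : ρ ((y * x)⁻¹ * g⁻¹ * (x * y)) = 1 := Subtype.ext (Equiv.ext e)
      rw [map_mul, map_mul, mul_assoc, map_inv, inv_mul_eq_one, map_inv, eq_inv_mul_iff_mul_eq,
        map_mul, map_mul] at e'
      rw [commutatorElement_def, ← e']
      group)
  obtain ⟨g, hg⟩ := hh b₀
  have h1 := key _ ⟨b₀, g, hg, rfl⟩
  have h2 : g • b₀ 0 = b₀ 0 := Equiv.congr_fun (congrArg Subtype.val h1) (b₀ 0)
  exact Fin.zero_ne_one (b₀.injective (h2.symm.trans hg.1))

theorem col3solv [Group.IsSolvable Γ] [Finite J] (h : Nat.card J ≠ 4) : HasCol Γ J (Fin 2) := by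
  classical
  by_cases h3 : Nat.card J ≤ 3
  · exact hasCol_of_card h3
  have hc := Module.natCard_eq_pow_finrank (K := ZMod 2) (V := J)
  rw [Nat.card_zmod] at hc
  obtain ⟨m, hm⟩ : ∃ m, Module.finrank (ZMod 2) J = m + 3 := by
    refine ⟨Module.finrank (ZMod 2) J - 3, ?_⟩
    by_contra hh
    have : Module.finrank (ZMod 2) J ≤ 2 := by omega
    interval_cases Module.finrank (ZMod 2) J <;> omega
  obtain ⟨b, hb⟩ := exists_no_sw (Γ := Γ) (Module.finBasisOfFinrankEq (ZMod 2) J hm)
  let C : Coord J (m + 1 + 2) := Coord.ofBasis b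
  let A : Finset J := (Finset.Ico 2 (m + 3)).image C.seg
  refine ⟨fun x => if ∃ i, x = C.g i then some 0 else if x ∈ A then none else some 1, ?_,
    fun g hg => ?_⟩
  · refine lt_of_le_of_lt (Nat.mul_le_mul_left 4 (Set.ncard_le_ncard (t := A)
      (fun x hx => ?_) A.finite_toSet)) ?_
    · have := hx.2
      by_cases h1 : ∃ i, x = C.g i
      · simp [h1] at this
      · simpa [h1] using this
    have h7 : A.card ≤ m + 1 := card_image_le.trans (by simp)
    have := lin_lt_two m
    rw [Set.ncard_coe_finset, hc, hm]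
    omega
  refine (C.id_or_sw (DistribSMul.toAddMonoidHom J g) (MulAction.injective g) (fun i => ?_)
    fun j h1 h2 => ?_).resolve_right (hb g)
  · have := hg _ (C.g_ne i)
    by_contra e
    change ¬ ∃ j, g • C.g i = _ at e
    simp only [e, if_false, show ∃ j, C.g i = C.g j from ⟨i, rfl⟩, if_true] at this
    split_ifs at this
    simp at this
  have h5 : C.seg j ≠ 0 := fun e => by
    have := C.c_seg 0 j
    simp [e, show 0 < j by omega] at this
  have h6 : ¬ ∃ i, C.seg j = C.g i := by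
    rintro ⟨i, e⟩
    have h7 := C.c_seg 0 j
    have h8 := C.c_seg 1 j
    rw [e, C.cg] at h7 h8
    simp [show 0 < j by omega, show 1 < j by omega] at h7 h8
    exact Fin.zero_ne_one (h7.symm.trans h8)
  have h7 : C.seg j ∈ A := mem_image_of_mem _ (mem_Ico.2 ⟨h1, h2⟩)
  have := hg _ h5
  simp only [h6, h7, if_true, if_false] at this
  split_ifs at this with h8 h9
  obtain ⟨j', -, e⟩ := mem_image.1 h9
  exact ⟨j', e.symm⟩

theorem col4solv [Group.IsSolvable Γ] [Finite J] : HasCol Γ J (Fin 3) := by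
  by_cases h : Nat.card J = 4
  · exact hasCol_of_card h.le
  · exact (col3solv h).mono _ (Fin.castSucc_injective 2)

end Two

end Cfsg.Agent.H12.RO
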