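import Cfsg.Agent.H12.RO8
import Cfsg.Agent.H12.RO9
import Cfsg.Agent.S0205

/-!
Bases of linear groups, part 10: solvable groups (three vectors), groups of odd order.
-/

set_option autoImplicit false

namespace Cfsg.Agent.H12.RO

open MulAction
open scoped commutatorElement

universe u

theorem exists_gen (K : Type*) [Field K] [Finite K] :
    ∃ l : K, ∀ τ : RingAut K, τ l = l → τ = 1 := by
  obtain ⟨l, hl⟩ := IsCyclic.exists_monoid_generator (α := Kˣ)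
  refine ⟨l, fun τ h => RingEquiv.ext fun x => ?_⟩
  by_cases hx : x = 0
  · simp [hx]
  obtain ⟨n, hn⟩ := hl (Units.mk0 x hx)
  have : x = (l : K) ^ n := by simpa using congrArg Units.val hn.symm
  rw [this, map_pow, h]; simp

theorem not_dvd_card {N : Type*} [AddCommGroup N] [Finite N] {p n : ℕ} (hp : p.Prime)
    (hc : p.Coprime n) (h : ∀ x : N, n • x = 0) : ¬ p ∣ Nat.card N := by
  intro hd
  have := Fact.mk hp
  obtain ⟨x, hx⟩ := exists_prime_addOrderOf_dvd_card' p hd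
  have h1 := addOrderOf_dvd_of_nsmul_eq_zero (h x)
  rw [hx] at h1
  exact (hp.coprime_iff_not_dvd.1 hc) h1

section Main

variable {G : Type u} {V K : Type*} [Group G] [Finite G] [AddCommGroup V] [DistribMulAction G V]
  [Field K] [Module K V] {σ : G →* RingAut K} {U To E : Subgroup G}
  {h : Str G V K σ U To E} {u₀ : V}

variable (h u₀) in
/-- colourings exist for the section of `T'` -/
def Str.Col (T' : Subgroup G) (κ : Type) : Prop :=
  ∀ (N : Type u) [AddCommGroup N] [Finite N] [DistribMulAction (stabilizer G u₀) N] (π : G → N),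
    IsSecH (stabilizer G u₀) (h.Cg u₀ ⊓ T') T' π → HasCol (stabilizer G u₀) N κ

theorem Str.IsMax.base_col (hm : h.IsMax u₀) {β : Type} (y₀ : β → V)
    (hy₀ : ∀ b, y₀ b ∈ h.Vg u₀) {X : Set V} (hX : X ⊆ h.Vg u₀)
    (H0 : ∀ g : G, g • u₀ = u₀ → (∀ b, g • y₀ b = y₀ b) → σ g = 1 ∧
      (∀ e ∈ E, e ∈ h.Cg u₀ → g • e • u₀ = e • u₀) ∧ ∀ v ∈ X, g • v = v)
    {κ₁ κ₂ : Type} (v₁ : κ₁ → β → V) (v₂ : κ₂ → β → V) (m₁ : ∀ a b, v₁ a b ∈ X)
    (m₂ : ∀ a b, v₂ a b ∈ X)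
    (s₁ : ∀ e ∈ To, e ∈ h.Cg u₀ → ∀ a a', (∀ b, e • v₁ a b = v₁ a' b) → a = a')
    (s₂ : ∀ e ∈ E, e ∈ h.Cg u₀ → ∀ a a', (∀ b, e • v₂ a b = v₂ a' b) → a = a')
    (n₁ : ∀ a, ∃ b, v₁ a b ≠ 0) (n₂ : ∀ a, ∃ b, v₂ a b ≠ 0)
    (c₁ : h.Col u₀ To κ₁) (c₂ : h.Col u₀ E κ₂) :
    ∃ y : β → V, ∀ g : G, g • u₀ = u₀ → (∀ b, g • y b = y b) → g = 1 := by
  have := h.Ton
  have := h.En
  obtain ⟨N₁, _, _, π₁, p₁⟩ := Str.exists_secT u₀ h To le_sup_left
  obtain ⟨N₂, _, _, π₂, p₂⟩ := Str.exists_secT u₀ h E le_sup_right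
  have := p₁.finite
  have := p₂.finite
  obtain ⟨col₁, a₁, b₁⟩ := c₁ N₁ π₁ p₁
  obtain ⟨col₂, a₂, b₂⟩ := c₂ N₂ π₂ p₂
  refine hm.base y₀ hy₀ hX (fun g hg hy => ?_) ⟨π₁, p₁, col₁, v₁, a₁, b₁, m₁, s₁, n₁⟩
    ⟨π₂, p₂, col₂, v₂, a₂, b₂, m₂, s₂, n₂⟩
  obtain ⟨h1, h2, h3⟩ := H0 g hg hy
  refine ⟨h1, fun e he heC => ?_, h2, h3⟩
  obtain ⟨a, ha⟩ := h.D_sc u₀ e (hm.To_D he heC)
  rw [ha, h.lin h1, hg]

theorem Str.col_To3 : h.Col u₀ To (Fin 2) := by
  intro N _ _ _ π p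
  obtain ⟨n, h1, -, h2⟩ := h.expo
  refine col3odd (Nat.not_even_iff_odd.1 fun e => not_dvd_card Nat.prime_two
    (Nat.coprime_two_left.2 h1) (fun x => ?_) (even_iff_two_dvd.1 e))
  obtain ⟨a, ha, rfl⟩ := p.surj x
  rw [← p.pow ha, h2 a ha, p.one]

theorem Str.col_To2 (hG : Odd (Nat.card G) ∨ (3 : ℕ).Coprime (Nat.card G)) :
    h.Col u₀ To (Fin 1) := by
  intro N _ _ _ π p
  obtain ⟨n, h1, -, h2⟩ := h.expo
  refine col2 (Nat.not_even_iff_odd.1 fun e => not_dvd_card Nat.prime_two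
    (Nat.coprime_two_left.2 h1) (fun x => ?_) (even_iff_two_dvd.1 e)) (hG.imp
      (fun e => e.of_dvd_nat (Subgroup.card_subgroup_dvd_card _))
      fun e => not_dvd_card Nat.prime_three e fun x => ?_)
  · obtain ⟨a, ha, rfl⟩ := p.surj x
    rw [← p.pow ha, h2 a ha, p.one]
  · obtain ⟨a, ha, rfl⟩ := p.surj x
    rw [← p.pow ha, pow_card_eq_one', p.one]

theorem Str.secE_two {N : Type*} [AddCommGroup N] [DistribMulAction (stabilizer G u₀) N]
    {π : G → N} (p : IsSecH (stabilizer G u₀) (h.Cg u₀ ⊓ E) E π) (x : N) : 2 • x = 0 := by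
  obtain ⟨a, ha, rfl⟩ := p.surj x
  rw [← p.pow ha, p.ker _ (E.pow_mem ha 2)]
  exact ⟨h.U_le_C _ (h.sqE a ha), E.pow_mem ha 2⟩

theorem Str.col_E4 [Group.IsSolvable G] : h.Col u₀ E (Fin 3) := by
  intro N _ _ _ π p
  let _ : Module (ZMod 2) N := AddCommGroup.zmodModule (Str.secE_two p)
  exact col4solv

theorem Str.col_E1 (hE : E ≤ U) : h.Col u₀ E (Fin 1) := by
  intro N _ _ _ π p
  refine hasCol_of_triv fun g x => ?_
  obtain ⟨a, ha, rfl⟩ := p.surj x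
  rw [(p.ker a ha).2 ⟨h.U_le_C _ (hE ha), ha⟩, smul_zero]

theorem Str.IsMax.fix_plus (hm : h.IsMax u₀) (hp : ∀ e ∈ E, e ∈ h.Cg u₀ → e ^ 2 = 1) {g : G}
    (hg : g • u₀ = u₀) : ∀ e ∈ E, e ∈ h.Cg u₀ → g • e • u₀ = e • u₀ := by
  intro e he heC
  rcases hm.invol he heC (hp e he heC) with h1 | h1
  · rw [h1 _ (self_mem_V0 _ _), hg]
  · rw [h1 _ (self_mem_V0 _ _), smul_neg, hg]

theorem Str.σ_eq_one (h : Str G V K σ U To E) {l : K} (hl : ∀ τ : RingAut K, τ l = l → τ = 1)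
    {g : G} (hu₀ : u₀ ≠ 0) (hg : g • u₀ = u₀) (e : g • l • u₀ = l • u₀) : σ g = 1 := by
  rw [h.semi, hg] at e
  exact hl _ (smul_left_injective K hu₀ e)

theorem Str.base3 [Group.IsSolvable G] [Finite K] [Nontrivial V] (h : Str G V K σ U To E) :
    ∃ v : Fin 3 → V, IsBase G v := by
  obtain ⟨l, hl⟩ := exists_gen K
  have key : ∀ u₀, h.IsMax u₀ → ∀ w ∈ h.Vg u₀, (∀ g : G, g • u₀ = u₀ → σ g = 1 → g • w = w →
      ∀ e ∈ E, e ∈ h.Cg u₀ → g • e • u₀ = e • u₀) → ∃ v : Fin 3 → V, IsBase G v := by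
    intro u₀ hm w hw H
    have hs : ∀ (e : G) (a a' : Fin 3), (∀ b, e • (![![u₀, 0], ![0, u₀], ![u₀, u₀]] :
        Fin 3 → Fin 2 → V) a b = (![![u₀, 0], ![0, u₀], ![u₀, u₀]] : Fin 3 → Fin 2 → V) a' b) →
        a = a' := by
      intro e a a' hb
      have h0 := hb 0
      have h1 := hb 1
      have h2 := hm.1
      have h3 := h2.symm
      fin_cases a <;> fin_cases a' <;> simp_all
    have hn : ∀ a : Fin 3, ∃ b, (![![u₀, 0], ![0, u₀], ![u₀, u₀]] : Fin 3 → Fin 2 → V) a b ≠ 0 := by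
      intro a
      fin_cases a
      exacts [⟨0, hm.1⟩, ⟨1, hm.1⟩, ⟨0, hm.1⟩]
    have hmem : ∀ (a : Fin 3) b, (![![u₀, 0], ![0, u₀], ![u₀, u₀]] : Fin 3 → Fin 2 → V) a b ∈
        ({0, u₀} : Set V) := by
      intro a b
      fin_cases a <;> fin_cases b <;> simp
    obtain ⟨y, hy⟩ := hm.base_col ![l • u₀, w] (fun b => by
        fin_cases b
        exacts [h.smul_mem_V0 (h.D_le _) (self_mem_V0 _ _) l, hw]) (X := {0, u₀})
      (by rintro _ (rfl | rfl); exacts [zero_mem_V0 _ _, self_mem_V0 _ _])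
      (fun g hg hy => by
        have h1 := h.σ_eq_one hl hm.1 hg (hy 0)
        refine ⟨h1, H g hg h1 (hy 1), ?_⟩
        rintro _ (rfl | rfl)
        exacts [smul_zero _, hg]) _ _ hmem hmem (fun e _ _ => hs e) (fun e _ _ => hs e) hn hn
      (fun N _ _ _ π p => (Str.col_To3 N π p).mono _ (Fin.castSucc_injective 2)) Str.col_E4
    refine ⟨![u₀, y 0, y 1], fun g hg x => ?_⟩
    rw [hy g (hg 0) (fun b => by fin_cases b; exacts [hg 1, hg 2]), one_smul]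
  obtain ⟨u₀, hm⟩ := h.exists_isMax
  rcases hm.cases with hp | ⟨u₁, c, c', α, β, q⟩
  · exact key u₀ hm 0 (zero_mem_V0 _ _) fun g hg _ _ => hm.fix_plus hp hg
  · exact key u₁ q.max _ (h.C_V (Subgroup.mem_sup_right q.cE) q.cC (self_mem_V0 _ _))
      fun g hg h1 h2 => q.fixA hg h1 h2

theorem Str.IsMax.To_part (hm : h.IsMax u₀)
    (hG : (2 : K) = 0 → Odd (Nat.card G) ∨ (3 : ℕ).Coprime (Nat.card G)) :
    ∃ (κ : Type) (v : κ → V), (∀ a, v a = u₀ ∨ v a = -u₀) ∧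
      (∀ e ∈ To, e ∈ h.Cg u₀ → ∀ a a', e • v a = v a' → a = a') ∧ h.Col u₀ To κ := by
  by_cases h2 : (2 : K) = 0
  · exact ⟨Fin 1, fun _ => u₀, fun _ => Or.inl rfl, fun _ _ _ _ _ _ => Subsingleton.elim _ _,
      Str.col_To2 (hG h2)⟩
  refine ⟨Fin 2, ![u₀, -u₀], fun a => by fin_cases a <;> simp, fun e he heC a a' ha => ?_,
    Str.col_To3⟩
  have key : e • u₀ ≠ -u₀ := by
    obtain ⟨-, c, ⟨m, h3, h4⟩, h5⟩ := hm.To_D he heC
    intro h6
    have : c = -1 := smul_left_injective K hm.1 (by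
      change c • u₀ = (-1 : K) • u₀
      rw [← h5, h6, neg_one_smul])
    rw [this, h3.neg_one_pow] at h4
    exact h2 (by linear_combination -h4)
  fin_cases a <;> fin_cases a'
  · rfl
  · exact absurd ha key
  · exact absurd (neg_eq_iff_eq_neg.1 ((smul_neg _ _).symm.trans ha)) key
  · rfl

/-- Two vectors: the general form. -/
theorem Str.IsMax.base2 (hm : h.IsMax u₀)
    (hG : (2 : K) = 0 → Odd (Nat.card G) ∨ (3 : ℕ).Coprime (Nat.card G)) (y₀ : V)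
    (hy₀ : y₀ ∈ h.Vg u₀) (X : Submodule K V) (hX : (X : Set V) ⊆ h.Vg u₀) (hu : u₀ ∈ X)
    (H0 : ∀ g : G, g • u₀ = u₀ → g • y₀ = y₀ → σ g = 1 ∧
      (∀ e ∈ E, e ∈ h.Cg u₀ → g • e • u₀ = e • u₀) ∧ ∀ v ∈ X, g • v = v)
    {κ : Type} (v : κ → V) (m : ∀ a, v a ∈ X) (n : ∀ a, v a ≠ 0)
    (s : ∀ e ∈ E, e ∈ h.Cg u₀ → ∀ a a', e • v a = v a' → a = a') (c : h.Col u₀ E κ) :
    ∃ v : Fin 2 → V, IsBase G v := by
  obtain ⟨κ₁, v₁, h1, h2, h3⟩ := hm.To_part hG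
  obtain ⟨y, hy⟩ := hm.base_col (β := Unit) (fun _ => y₀) (fun _ => hy₀) hX
    (fun g hg hy => H0 g hg (hy ())) (fun a _ => v₁ a) (fun a _ => v a)
    (fun a _ => by rcases h1 a with e | e <;> simp [e, hu]) (fun a _ => m a)
    (fun e he heC a a' ha => h2 e he heC a a' (ha ()))
    (fun e he heC a a' ha => s e he heC a a' (ha ()))
    (fun a => ⟨(), by rcases h1 a with e | e <;> simp [e, hm.1]⟩) (fun a => ⟨(), n a⟩) h3 c
  refine ⟨![u₀, y ()], fun g hg x => ?_⟩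
  rw [hy g (hg 0) (fun _ => hg 1), one_smul]

theorem Str.IsMax.base2_plus [Finite K] (hm : h.IsMax u₀)
    (hG : (2 : K) = 0 → Odd (Nat.card G) ∨ (3 : ℕ).Coprime (Nat.card G))
    (hp : ∀ e ∈ E, e ∈ h.Cg u₀ → e ^ 2 = 1)
    {κ : Type} (v : κ → K) (n : ∀ a, v a ≠ 0)
    (s : ∀ a a', v a = v a' ∨ v a = -v a' → a = a') (c : h.Col u₀ E κ) :
    ∃ v : Fin 2 → V, IsBase G v := by
  obtain ⟨l, hl⟩ := exists_gen K
  have hX : ((K ∙ u₀ : Submodule K V) : Set V) ⊆ h.Vg u₀ :=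
    Submodule.span_le (p := h.Vs u₀).2 (by rintro _ rfl; exact self_mem_V0 _ _)
  refine hm.base2 hG (l • u₀) (h.smul_mem_V0 (h.D_le _) (self_mem_V0 _ _) l) (K ∙ u₀) hX
    (Submodule.mem_span_singleton_self _) (fun g hg hy => ?_) (fun a => v a • u₀)
    (fun a => Submodule.smul_mem _ _ (Submodule.mem_span_singleton_self _))
    (fun a => smul_ne_zero (n a) hm.1) (fun e he heC a a' ha => s a a' ?_) c
  · have h1 := h.σ_eq_one hl hm.1 hg hy
    refine ⟨h1, hm.fix_plus hp hg, fun w hw => ?_⟩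
    obtain ⟨a, rfl⟩ := Submodule.mem_span_singleton.1 hw
    rw [h.lin h1, hg]
  have h2 := h.smul_mem_V0 (h.D_le _) (self_mem_V0 (K := K) (h.Dg u₀) u₀) (v a)
  refine (hm.invol he heC (hp e he heC)).imp (fun h1 => ?_) fun h1 => ?_
  · rw [h1 _ h2] at ha
    exact smul_left_injective K hm.1 ha
  · rw [h1 _ h2, neg_eq_iff_eq_neg, ← neg_smul] at ha
    exact smul_left_injective K hm.1 ha

theorem Str.base2_le [Finite K] [Nontrivial V] (h : Str G V K σ U To E) (hE : E ≤ U)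
    (hG : (2 : K) = 0 → Odd (Nat.card G) ∨ (3 : ℕ).Coprime (Nat.card G)) :
    ∃ v : Fin 2 → V, IsBase G v := by
  obtain ⟨u₀, hm⟩ := h.exists_isMax
  exact hm.base2_plus hG (fun e he _ => h.EU e he (hE he)) (fun _ => 1) (fun _ => one_ne_zero)
    (fun _ _ _ => Subsingleton.elim _ _) (Str.col_E1 hE)

end Main

theorem Aff.card_eq {G Ω N : Type*} [Group G] [MulAction G Ω] [Fintype Ω] [AddCommGroup N]
    [DistribMulAction G N] (A : Aff G Ω N) : Nat.card N = Fintype.card Ω := by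
  rw [← Nat.card_eq_fintype_card, Nat.card_congr A.e]

theorem base_univ {ι : Type} {G : Type*} {V : Type u} [Group G] [Finite G] [AddCommGroup V]
    [DistribMulAction G V] (hcr : CR G V)
    (h : ∀ (G' : Type u) [Group G'] [Finite G'] [DistribMulAction G' V] (f : G →* G'),
      Function.Surjective f → CR G' V → ∃ v : ι → V, IsBase G' v) : ∃ v : ι → V, IsBase G v := by
  let f := DistribMulAction.toModuleAut ℤ V (S := G)
  have hfin : Finite f.range := Finite.of_surjective _ f.rangeRestrict_surjective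
  obtain ⟨v, hv⟩ := h f.range f.rangeRestrict f.rangeRestrict_surjective fun U hU => by
    obtain ⟨W, hW, h1⟩ := hcr U fun g v hv => hU (f.rangeRestrict g) v hv
    refine ⟨W, fun g v hv => ?_, h1⟩
    obtain ⟨g, rfl⟩ := f.rangeRestrict_surjective g
    exact hW g v hv
  exact ⟨v, fun g hg x => hv (f.rangeRestrict g) hg x⟩

theorem seress_u (G V : Type u) [Group G] [Finite G] [AddCommGroup V] [Finite V]
    [DistribMulAction G V] (hG : Group.IsSolvable G) (hcr : CR G V) :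
    ∃ v : Fin 3 → V, IsBase G v := by
  refine induct (fun G _ _ _ => Group.IsSolvable G) (fun _ _ _ _ _ _ _ => inferInstance)
    (fun _ _ _ _ h _ => h) (fun _ _ _ _ _ _ _ _ f hf => solvable_of_surjective hf)
    (fun _ _ _ _ _ h => h) (fun G V _ _ _ _ _ _ hf hp hs _ => ?_)
    (fun G V Ω N _ _ _ _ _ _ _ _ hs A hlt IH => ?_) G V hG hcr
  · obtain ⟨K, _, _, _, σ, U, To, E, h⟩ := exists_str hf hp
    exact h.base3
  · have : Finite N := Finite.of_equiv _ A.e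
    obtain ⟨v, hv⟩ := IH G N (A.card_eq ▸ hlt) hs A.irr.cr
    obtain ⟨col, hcol⟩ := A.col5 hv
    exact ⟨_, col, hcol, fun H W _ _ _ _ _ _ _ _ v hv => five_orbits v hv⟩

/-- **Seress**: three vectors for solvable groups. -/
theorem seress {G V : Type*} [Group G] [Finite G] [AddCommGroup V] [Finite V]
    [DistribMulAction G V] (hG : Group.IsSolvable G) (hcr : CR G V) :
    ∃ v : Fin 3 → V, IsBase G v :=
  base_univ hcr fun G' _ _ _ _ hf h => seress_u G' V (solvable_of_surjective hf) h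

theorem odd_u (G V : Type u) [Group G] [Finite G] [AddCommGroup V] [Finite V]
    [DistribMulAction G V] (hG : Odd (Nat.card G)) (hcr : CR G V) :
    ∃ v : Fin 2 → V, IsBase G v := by
  refine induct (fun G _ _ _ => Odd (Nat.card G))
    (fun _ _ _ _ h H _ => h.of_dvd_nat H.card_subgroup_dvd_card)
    (fun _ _ _ _ h _ => h)
    (fun _ _ _ _ _ h _ _ f hf => h.of_dvd_nat (Subgroup.card_dvd_of_surjective f hf))
    (fun _ _ _ _ _ h => S0205.result h) (fun G V _ _ _ _ _ _ hf hp hs _ => ?_)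
    (fun G V Ω N _ _ _ _ _ _ _ _ hs A hlt IH => ?_) G V hG hcr
  · have := S0205.result hs
    obtain ⟨K, _, _, _, σ, U, To, E, h⟩ := exists_str hf hp
    refine h.base2_le (fun e he => ?_) fun _ => Or.inl hs
    have h1 : e ∈ Subgroup.zpowers (e ^ 2) := by
      rw [mem_zpowers_pow_iff]
      exact Nat.Coprime.coprime_dvd_right (orderOf_dvd_natCard e) (Nat.coprime_two_left.2 hs)
    exact (Subgroup.zpowers_le.2 (h.sqE e he)) h1
  · have : Finite N := Finite.of_equiv _ A.e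
    obtain ⟨v, hv⟩ := IH G N (A.card_eq ▸ hlt) hs A.irr.cr
    obtain ⟨col, hcol⟩ := A.col2 hs hv
    exact ⟨_, col, hcol, fun H W _ _ _ _ _ _ hH _ v hv => two_orbits hH v hv⟩

/-- Two vectors for groups of odd order. -/
theorem odd_base {G V : Type*} [Group G] [Finite G] [AddCommGroup V] [Finite V]
    [DistribMulAction G V] (hG : Odd (Nat.card G)) (hcr : CR G V) :
    ∃ v : Fin 2 → V, IsBase G v :=
  base_univ hcr fun G' _ _ _ f hf h =>
    odd_u G' V (hG.of_dvd_nat (Subgroup.card_dvd_of_surjective f hf)) h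

end Cfsg.Agent.H12.RO
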