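import Cfsg.Agent.H12.RO10

/-!
Bases of linear groups, part 11: two vectors over fields with at least five elements.
-/

set_option autoImplicit false

namespace Cfsg.Agent.H12.RO

open MulAction
open scoped commutatorElement

universe u

theorem exists_sep {V : Type*} (X : Set V) (R : V → V → Prop) (hs : ∀ v w, R v w → R w v)
    (orb : V → Finset V) (m : ℕ) (horb : ∀ v, (orb v).card ≤ m)
    (hR : ∀ v ∈ X, ∀ w, R v w → w ∈ orb v) (k : ℕ) (hk : k * m < X.ncard) :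
    ∃ v : Fin (k + 1) → V, (∀ i, v i ∈ X) ∧ ∀ i j, R (v i) (v j) → i = j := by
  classical
  induction k with
  | zero =>
    obtain ⟨v, hv⟩ := Set.nonempty_of_ncard_ne_zero (s := X) (by omega)
    exact ⟨fun _ => v, fun _ => hv, fun i j _ => Subsingleton.elim (α := Fin 1) i j⟩
  | succ k ih =>
    obtain ⟨v, h1, h2⟩ := ih (lt_of_le_of_lt (Nat.mul_le_mul_right m k.le_succ) hk)
    obtain ⟨w, hw, hw'⟩ := Set.exists_mem_notMem_of_ncard_lt_ncard
      (s := (Finset.univ.biUnion fun i => orb (v i) : Finset V)) (t := X) (by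
        rw [Set.ncard_coe_finset]
        refine lt_of_le_of_lt (Finset.card_biUnion_le_card_mul _ _ m fun i _ => horb _) ?_
        simpa using hk) (Finset.finite_toSet _)
    have h3 : ∀ i, ¬ R (v i) w := fun i e => hw' (by
      simpa using ⟨i, hR _ (h1 i) _ e⟩)
    refine ⟨Fin.cons w v, fun i => by cases i using Fin.cases <;> simp [hw, h1], fun i j e => ?_⟩
    cases i using Fin.cases <;> cases j using Fin.cases <;> simp only [Fin.cons_zero,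
      Fin.cons_succ] at e
    · rfl
    · exact absurd (hs _ _ e) (h3 _)
    · exact absurd e (h3 _)
    · rw [h2 _ _ e]

theorem exists_sep_K (K : Type*) [Field K] [Finite K] (k : ℕ) (hk : 2 * k + 1 < Nat.card K) :
    ∃ v : Fin (k + 1) → K, (∀ a, v a ≠ 0) ∧ ∀ a a', v a = v a' ∨ v a = -v a' → a = a' := by
  classical
  refine exists_sep {a : K | a ≠ 0} (fun a b => a = b ∨ a = -b)
    (fun a b e => e.imp Eq.symm fun e => by rw [e, neg_neg]) (fun a => {a, -a}) 2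
    (fun _ => Finset.card_le_two) (fun a _ b e => by rcases e with e | e <;> simp [e]) k ?_
  have := Set.ncard_add_ncard_compl ({0} : Set K)
  rw [Set.ncard_singleton] at this
  change k * 2 < Set.ncard ({0}ᶜ : Set K)
  omega

section Main

variable {G : Type u} {V K : Type*} [Group G] [Finite G] [AddCommGroup V] [DistribMulAction G V]
  [Field K] [Module K V] {σ : G →* RingAut K} {U To E : Subgroup G}
  {h : Str G V K σ U To E} {u₀ : V}

theorem Str.Quat.base2 [Group.IsSolvable G] [Finite K] {u₁ : V} {c c' : G} {α β : K}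
    (q : h.Quat u₁ c c' α β) (h3 : (3 : K) = 0 → (3 : ℕ).Coprime (Nat.card G))
    (hq : 5 ≤ Nat.card K) : ∃ v : Fin 2 → V, IsBase G v := by
  classical
  obtain ⟨l, hl⟩ := exists_gen K
  have hc := h.C_V (Subgroup.mem_sup_right q.cE) q.cC (self_mem_V0 _ _)
  have hX : ((Submodule.span K {u₁, c • u₁} : Submodule K V) : Set V) ⊆ h.Vg u₁ :=
    Submodule.span_le (p := h.Vs u₁).2 (by rintro _ (rfl | rfl); exacts [self_mem_V0 _ _, hc])
  let φ : K × K → V := fun p => p.1 • u₁ + p.2 • c • u₁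
  have hφ : Function.Injective φ := by
    intro p p' e
    have := q.indep (a := p.1 - p'.1) (b := p.2 - p'.2) (by
      simp only [φ] at e
      generalize c • u₁ = y at e ⊢
      linear_combination (norm := module) e)
    exact Prod.ext (sub_eq_zero.1 this.1) (sub_eq_zero.1 this.2)
  have hφ' : ∀ p, φ p ∈ Submodule.span K {u₁, c • u₁} := fun p =>
    Submodule.mem_span_pair.2 ⟨_, _, rfl⟩
  obtain ⟨v, h1, h2⟩ := exists_sep (φ '' {0}ᶜ) (fun v w => ∃ e ∈ E, e ∈ h.Cg u₁ ∧ e • v = w)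
    (by
      rintro v w ⟨e, he, heC, rfl⟩
      exact ⟨e⁻¹, E.inv_mem he, Subgroup.inv_mem _ heC, inv_smul_smul _ _⟩)
    (fun v => [(1 : G) • v, c • v, c' • v, (c * c') • v, -((1 : G) • v), -(c • v), -(c' • v),
      -((c * c') • v)].toFinset) 8 (fun v => List.toFinset_card_le _)
    (by
      rintro _ ⟨p, -, rfl⟩ w ⟨e, he, heC, rfl⟩
      obtain ⟨d, hd, h1⟩ := q.act he heC
      rcases h1 with h1 | h1 <;> rw [h1 _ (hX (hφ' p))] <;> rcases hd with rfl | rfl | rfl | rfl <;>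
        simp) 2 (by
      rw [Set.ncard_image_of_injective _ hφ]
      have := Set.ncard_add_ncard_compl ({0} : Set (K × K))
      rw [Set.ncard_singleton, Nat.card_prod] at this
      nlinarith)
  refine q.max.base2 (fun e => absurd e q.two) (l • u₁ + c • u₁)
    (add_mem_V0 (h.smul_mem_V0 (h.D_le _) (self_mem_V0 _ _) l) hc) _ hX
    (Submodule.subset_span (by simp)) (fun g hg hy => ?_) v (fun a => ?_) (fun a => ?_)
    (fun e he heC a a' ha => h2 a a' ⟨e, he, heC, ha⟩) Str.col_E4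
  · have h4 := hl _ (q.kill h3 hg hy)
    rw [smul_add, h.lin h4, hg, add_right_inj] at hy
    refine ⟨h4, q.fixA hg h4 hy, fun w hw => ?_⟩
    obtain ⟨a, b, rfl⟩ := Submodule.mem_span_pair.1 hw
    rw [smul_add, h.lin h4, h.lin h4, hg, hy]
  · obtain ⟨p, -, e⟩ := h1 a
    rw [← e]; exact hφ' p
  · obtain ⟨p, hp, e⟩ := h1 a
    rw [← e]
    exact fun e' => hp (hφ (e'.trans (by simp [φ])))

end Main

/-! ### the case `q = 5` -/

theorem zmod2_ne {x : ZMod 2} : x ≠ 0 ↔ x = 1 := by revert x; decide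

theorem zmod2_cases (x : ZMod 2) : x = 0 ∨ x = 1 := by revert x; decide

theorem exists_quat_basis {W : Type*} [AddCommGroup W] [Module (ZMod 2) W]
    (b : LinearMap.BilinForm (ZMod 2) W) (Q : W → ZMod 2) (alt : ∀ x, b x x = 0)
    (symm : ∀ x y, b x y = b y x) (nd : ∀ x, (∀ y, b x y = 0) → x = 0)
    (Qa : ∀ x y, Q (x + y) = Q x + Q y + b x y) (D : Submodule (ZMod 2) W)
    (hQ : ∀ z ∈ D, Q z = 0) (hD : ∀ w, w ∈ D ↔ ∀ z ∈ D, b z w = 0) {x₁ x₂ : W} (h1 : x₁ ∉ D)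
    (h2 : x₂ ∉ D) (h3 : x₁ + x₂ ∉ D)
    (h4 : ∀ w, w ∈ D ∨ w + x₁ ∈ D ∨ w + x₂ ∈ D ∨ w + (x₁ + x₂) ∈ D) :
    ∃ i₁ j₁ i₂ j₂ : W, Q i₁ = 1 ∧ Q j₁ = 1 ∧ Q i₂ = 1 ∧ Q j₂ = 1 ∧ b i₁ j₁ = 1 ∧ b i₂ j₂ = 1 ∧
      b i₁ i₂ = 0 ∧ b i₁ j₂ = 0 ∧ b j₁ i₂ = 0 ∧ b j₁ j₂ = 0 ∧
      ∀ w, w = b w j₁ • i₁ + b w i₁ • j₁ + b w j₂ • i₂ + b w i₂ • j₂ := by
  rw [hD] at h1 h2 h3
  push Not at h1 h2 h3
  have t : (1 + 1 : ZMod 2) = 0 := rfl
  obtain ⟨z₁, m₁, z₂, m₂, a₁, a₂, a₃, a₄⟩ : ∃ z₁ ∈ D, ∃ z₂ ∈ D, b z₁ x₁ = 1 ∧ b z₁ x₂ = 0 ∧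
      b z₂ x₁ = 0 ∧ b z₂ x₂ = 1 := by
    obtain ⟨d₁, n₁, e₁⟩ := h1
    obtain ⟨d₂, n₂, e₂⟩ := h2
    obtain ⟨d₃, n₃, e₃⟩ := h3
    rw [map_add] at e₃
    rw [zmod2_ne] at e₁ e₂
    by_cases c₁ : b d₃ x₁ = 0
    · rw [c₁, zero_add, zmod2_ne] at e₃
      by_cases c₂ : b d₁ x₂ = 0
      · exact ⟨d₁, n₁, d₃, n₃, e₁, c₂, c₁, e₃⟩
      · exact ⟨d₁ + d₃, D.add_mem n₁ n₃, d₃, n₃, by simp [e₁, c₁],
          by simp [zmod2_ne.1 c₂, e₃, t], c₁, e₃⟩
    · have c₃ : b d₃ x₂ = 0 := by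
        by_contra c₃
        rw [zmod2_ne.1 c₁, zmod2_ne.1 c₃] at e₃
        exact e₃ t
      by_cases c₂ : b d₂ x₁ = 0
      · exact ⟨d₃, n₃, d₂, n₂, zmod2_ne.1 c₁, c₃, c₂, e₂⟩
      · exact ⟨d₃, n₃, d₂ + d₃, D.add_mem n₂ n₃, zmod2_ne.1 c₁, c₃,
          by simp [zmod2_ne.1 c₂, zmod2_ne.1 c₁, t], by simp [e₂, c₃]⟩
  have zz : ∀ z ∈ D, ∀ z' ∈ D, b z z' = 0 := fun z hz z' hz' => (hD z').1 hz' z hz
  have z12 := zz _ m₁ _ m₂
  have nd' : ∀ w, b w z₁ = 0 → b w z₂ = 0 → b w x₁ = 0 → b w x₂ = 0 → w = 0 := by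
    intro w w1 w2 w3 w4
    have hw : w ∈ D := by
      rcases h4 w with e | e | e | e
      · exact e
      · have := zz _ m₁ _ e
        simp [symm z₁ w, w1, a₁] at this
      · have := zz _ m₂ _ e
        simp [symm z₂ w, w2, a₄] at this
      · have := zz _ m₁ _ e
        simp [symm z₁ w, w1, a₁, a₂] at this
    refine nd w fun y => ?_
    rcases h4 y with e | e | e | e <;> simpa [w3, w4] using zz _ hw _ e
  -- adjust
  obtain ⟨y₁, y₂, c₁, c₂, c₃, c₄, c₅, c₆, c₇, nd''⟩ : ∃ y₁ y₂ : W, b z₁ y₁ = 1 ∧ b z₁ y₂ = 0 ∧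
      b z₂ y₁ = 0 ∧ b z₂ y₂ = 1 ∧ b y₁ y₂ = 0 ∧ Q y₁ = 0 ∧ Q y₂ = 0 ∧
      ∀ w, b w z₁ = 0 → b w z₂ = 0 → b w y₁ = 0 → b w y₂ = 0 → w = 0 := by
    have hsm : ∀ (c : ZMod 2) (z : W), z ∈ D → ∀ x, b z x = 1 → Q (x + c • z) = Q x + c := by
      intro c z hz x hx
      rw [Qa, hQ _ (D.smul_mem c hz), map_smul, symm, hx]
      simp
    have hsm' : ∀ (c : ZMod 2) (z : W), z ∈ D → ∀ x, b z x = 0 → Q (x + c • z) = Q x := by
      intro c z hz x hx
      rw [Qa, hQ _ (D.smul_mem c hz), map_smul, symm, hx]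
      simp
    refine ⟨x₁ + Q x₁ • z₁, x₂ + Q x₂ • z₂ + b x₁ x₂ • z₁, by simp [a₁, alt],
      by simp [a₂, alt, z12], by simp [a₃, symm z₂ z₁, z12], by simp [a₄, alt, symm z₂ z₁, z12],
      ?_, ?_, ?_, fun w w1 w2 w3 w4 => nd' w w1 w2 (by simpa [w1] using w3)
        (by simpa [w1, w2] using w4)⟩
    · simp [a₂, alt, z12, symm x₁ z₁, symm x₁ z₂, a₁, a₃, CharTwo.add_self_eq_zero]
    · rw [hsm _ _ m₁ _ a₁, CharTwo.add_self_eq_zero]
    · rw [hsm' _ _ m₁ _ (by simp [a₂, z12]), hsm _ _ m₂ _ a₄, CharTwo.add_self_eq_zero]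
  have q₁ := hQ _ m₁
  have q₂ := hQ _ m₂
  have s₁ := symm y₁ z₁
  have s₂ := symm y₂ z₁
  have s₃ := symm y₁ z₂
  have s₄ := symm y₂ z₂
  have s₅ := symm y₂ y₁
  have s₆ := symm z₂ z₁
  refine ⟨y₁ + z₁, z₁ + y₂ + z₂, y₁ + z₁ + y₂, y₁ + z₁ + z₂, ?_, ?_, ?_, ?_, ?_, ?_, ?_, ?_, ?_, ?_,
    fun w => ?_⟩
  iterate 10 simp [Qa, alt, c₁, c₂, c₃, c₄, c₅, c₆, c₇, q₁, q₂, s₁, s₂, s₃, s₄, s₅, s₆, z12, t]
  rw [← sub_eq_zero]
  apply nd'' <;>
    simp only [map_add, map_sub, map_smul, LinearMap.add_apply, LinearMap.sub_apply,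
      LinearMap.smul_apply, smul_eq_mul, alt, c₁, c₂, c₃, c₄, c₅, s₁, s₂, s₃, s₄, s₅, s₆, z12] <;>
    generalize b w z₁ = A <;> generalize b w z₂ = B <;> generalize b w y₁ = C <;>
    generalize b w y₂ = D <;> revert A B C D <;> decide

section Five

variable {G : Type u} {V K : Type*} [Group G] [Finite G] [AddCommGroup V] [DistribMulAction G V]
  [Field K] [Module K V] {σ : G →* RingAut K} {U To E : Subgroup G}
  {h : Str G V K σ U To E} {u₀ : V}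

theorem Str.To_eq (h : Str G V K σ U To E) (hK : ∀ a : K, a ≠ 0 → a ^ 4 = 1) {t : G}
    (ht : t ∈ To) : t = 1 := by
  obtain ⟨n, ⟨j, hj⟩, -, hn⟩ := h.expo
  have key : ∀ t ∈ To, t ∈ U → t = 1 := by
    intro t ht hu
    obtain ⟨c, hc⟩ := h.Usc t hu
    have h1 : ∀ (k : ℕ) (v : V), t ^ k • v = c ^ k • v := by
      intro k v
      induction k with
      | zero => simp
      | succ k ih => rw [pow_succ', mul_smul, ih, hc, pow_succ', mul_smul]
    refine h.faith _ fun v => ?_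
    by_cases h0 : c = 0
    · have := hc v
      rw [h0, zero_smul, smul_eq_zero_iff_eq] at this
      rw [this, smul_zero]
    have h2 := h1 (n * n) v
    rw [pow_mul, hn t ht, one_pow, one_smul, hj,
      show (2 * j + 1) * (2 * j + 1) = 4 * (j * j + j) + 1 by ring, pow_succ, pow_mul, hK c h0,
      one_pow, one_mul] at h2
    rw [hc, ← h2]
  refine key t ht (h.Z_To t ht fun s hs => commutatorElement_eq_one_iff_commute.1
    (key _ ?_ (h.commT t ht s hs)))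
  exact To.mul_mem (To.mul_mem (To.mul_mem ht hs) (To.inv_mem ht)) (To.inv_mem hs)

omit [Finite G] in
theorem Str.exists_eig_i (h : Str G V K σ U To E) {ι : K} (hι : ι * ι = -1) {e : G} (he : e ∈ E)
    (h2 : e ^ 2 ≠ 1) (S : Submodule K V) (hS : ∀ v ∈ S, e • v ∈ S) {u : V} (hu : u ∈ S)
    (hu0 : u ≠ 0) : ∃ a : K, a * a = -1 ∧ ∃ v ∈ S, v ≠ 0 ∧ e • v = a • v := by
  by_cases h0 : e • u + ι • u = 0
  · exact ⟨-ι, by rw [neg_mul_neg, hι], u, hu, hu0, by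
      rw [neg_smul, eq_neg_iff_add_eq_zero, h0]⟩
  refine ⟨ι, hι, _, S.add_mem (hS u hu) (S.smul_mem ι hu), h0, ?_⟩
  rw [smul_add, (h.E_sq he).resolve_left h2, h.lin (h.σE e he), smul_add, smul_smul, hι,
    neg_one_smul, add_comm]

variable {W : Type*} [AddCommGroup W] [Module (ZMod 2) W] [DistribMulAction G W] (F : h.F2 W)

omit [Finite G] in
theorem Str.F2.anti {x y : G} (hx : x ∈ E) (hy : y ∈ E) (e : F.b (F.π x) (F.π y) = 1) (v : V) :
    x • y • v = -(y • x • v) :=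
  (h.E_comm hx hy).resolve_left (fun c => by simp [(F.hb x hx y hy).2 c] at e) v

omit [Finite G] in
theorem Str.F2.comm {x y : G} (hx : x ∈ E) (hy : y ∈ E) (e : F.b (F.π x) (F.π y) = 0) (v : V) :
    x • y • v = y • x • v := by
  rw [← mul_smul, ((F.hb x hx y hy).1 e).eq, mul_smul]

omit [Finite G] in
theorem Str.F2.pm {x y : G} (hx : x ∈ E) (hy : y ∈ E) (e : F.π x = F.π y) :
    y = x ∨ ∀ v : V, y • v = -(x • v) := by
  have h1 := (F.sec.eq_iff hx hy).1 e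
  refine (h.E_pm h1.2 h1.1).imp (fun e => (inv_mul_eq_one.1 e).symm) fun e v => ?_
  have := e v
  rwa [mul_smul, inv_smul_eq_iff, smul_neg] at this

omit [Finite G] in
theorem Str.F2.b_eig (h2 : (2 : K) ≠ 0) {x y : G} (hx : x ∈ E) (hy : y ∈ E) {v : V} (hv : v ≠ 0)
    {a c : K} (e₁ : x • v = a • v) (e₂ : y • v = c • v) : F.b (F.π x) (F.π y) = 0 := by
  by_contra hh
  have h1 := F.anti hx hy (zmod2_ne.1 hh) v
  have h3 : y • x • v = x • y • v := by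
    rw [e₁, e₂, h.lin (h.σE _ hx), h.lin (h.σE _ hy), e₁, e₂, smul_comm]
  rw [h3] at h1
  have := eq_zero_of_eq_neg h2 h1
  rw [smul_eq_zero_iff_eq, smul_eq_zero_iff_eq] at this
  exact hv this

theorem Str.F2.five [Nontrivial V] (h2 : (2 : K) ≠ 0) (hσ : ∀ g, σ g = 1) (hTo : ∀ t ∈ To, t = 1)
    {ι : K} (hι : ι * ι = -1) {i₁ j₁ i₂ j₂ : W} (q₁ : F.Q i₁ = 1) (q₂ : F.Q j₁ = 1)
    (q₃ : F.Q i₂ = 1) (q₄ : F.Q j₂ = 1) (b₁ : F.b i₁ j₁ = 1) (b₂ : F.b i₂ j₂ = 1)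
    (b₃ : F.b i₁ i₂ = 0) (b₄ : F.b i₁ j₂ = 0) (b₅ : F.b j₁ i₂ = 0) (b₆ : F.b j₁ j₂ = 0)
    (hw : ∀ w, w = F.b w j₁ • i₁ + F.b w i₁ • j₁ + F.b w j₂ • i₂ + F.b w i₂ • j₂) :
    ∃ v : Fin 2 → V, IsBase G v := by
  obtain ⟨I₁, m₁, rfl⟩ := F.sec.surj i₁
  obtain ⟨J₁, m₂, rfl⟩ := F.sec.surj j₁
  obtain ⟨I₂, m₃, rfl⟩ := F.sec.surj i₂
  obtain ⟨J₂, m₄, rfl⟩ := F.sec.surj j₂
  have sq : ∀ x ∈ E, F.Q (F.π x) = 1 → x ^ 2 ≠ 1 := fun x hx e e' => by
    simp [(F.hQ x hx).2 e'] at e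
  obtain ⟨u, hu⟩ := exists_ne (0 : V)
  obtain ⟨a, ha, u', -, hu', e₀⟩ := h.exists_eig_i hι m₁ (sq _ m₁ q₁) ⊤ (fun _ _ => trivial)
    (u := u) trivial hu
  obtain ⟨c, hc, v, e₁, hv, e₂⟩ := h.exists_eig_i hι m₃ (sq _ m₃ q₃)
    (Module.End.eigenspace (h.toEnd I₁ (hσ _)) a) (fun v hv => by
      rw [Module.End.mem_eigenspace_iff] at hv ⊢
      change I₁ • v = a • v at hv
      change I₁ • I₂ • v = a • I₂ • v
      rw [F.comm m₁ m₃ b₃, hv, h.lin (hσ _)]) (Module.End.mem_eigenspace_iff.2 e₀) hu'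
  rw [Module.End.mem_eigenspace_iff] at e₁
  change I₁ • v = a • v at e₁
  have a0 : a ≠ 0 := by rintro rfl; simp at ha
  have c0 : c ≠ 0 := by rintro rfl; simp at hc
  have nz : ∀ {s : K} {x : V}, s ≠ 0 → x ≠ 0 → s • x ≠ -(s • x) := fun hs hx e =>
    smul_ne_zero hs hx (eq_zero_of_eq_neg h2 e)
  have J0 : J₁ • v ≠ 0 := (smul_ne_zero_iff_ne _).2 hv
  have t : (1 + 1 : ZMod 2) = 0 := rfl
  have s₃ := F.symm (F.π I₂) (F.π I₁)
  -- elements with eigenvector `v`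
  have eig : ∀ x ∈ E, ∀ s : K, x • v = s • v →
      F.π x = F.b (F.π x) (F.π J₁) • F.π I₁ + F.b (F.π x) (F.π J₂) • F.π I₂ := by
    intro x hx s e
    have := hw (F.π x)
    rw [F.b_eig h2 hx m₁ hv e e₁, F.b_eig h2 hx m₃ hv e e₂] at this
    simpa using this
  have eig1 : ∀ x ∈ E, ∀ s : K, x • v = s • v → F.Q (F.π x) = 1 →
      F.π x = F.π I₁ ∨ F.π x = F.π I₂ := by
    intro x hx s e hq
    have h1 := eig x hx s e
    have Q0 : F.Q 0 = 0 := by rw [← F.sec.one]; exact (F.hQ 1 E.one_mem).2 (one_pow 2)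
    rcases zmod2_cases (F.b (F.π x) (F.π J₁)) with c₁ | c₁ <;>
      rcases zmod2_cases (F.b (F.π x) (F.π J₂)) with c₂ | c₂ <;>
      simp only [c₁, c₂, zero_smul, one_smul, add_zero, zero_add] at h1
    · simp [h1, Q0] at hq
    · exact Or.inr h1
    · exact Or.inl h1
    · simp [h1, F.Q_add, q₁, q₃, b₃, t] at hq
  have eig0 : ∀ x ∈ E, x • v = v → F.π x = 0 ∨ F.π x = F.π I₁ + F.π I₂ := by
    intro x hx e
    have h1 := eig x hx 1 (by rw [e, one_smul])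
    have hq : F.Q (F.π x) = 0 := (F.hQ x hx).2 (h.U_fix (h.sqE x hx) hv (by
      rw [pow_two, mul_smul, e, e]))
    rcases zmod2_cases (F.b (F.π x) (F.π J₁)) with c₁ | c₁ <;>
      rcases zmod2_cases (F.b (F.π x) (F.π J₂)) with c₂ | c₂ <;>
      simp only [c₁, c₂, zero_smul, one_smul, add_zero, zero_add] at h1
    · exact Or.inl h1
    · simp [h1, q₃] at hq
    · simp [h1, q₁] at hq
    · exact Or.inr h1
  have f₁ : I₁ • J₁ • v = -(a • J₁ • v) := by rw [F.anti m₁ m₂ b₁, e₁, h.lin (hσ _)]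
  have f₂ : I₁ • J₁ • J₂ • v = -(a • J₁ • J₂ • v) := by
    rw [F.anti m₁ m₂ b₁, F.comm m₁ m₄ b₄, e₁, h.lin (hσ _), h.lin (hσ _)]
  have f₃ : I₂ • J₁ • v = c • J₁ • v := by rw [← F.comm m₂ m₃ b₅, e₂, h.lin (hσ _)]
  have f₄ : I₂ • J₁ • J₂ • v = -(c • J₁ • J₂ • v) := by
    rw [← F.comm m₂ m₃ b₅, F.anti m₃ m₄ b₂, e₂, h.lin (hσ _), smul_neg, h.lin (hσ _)]
  refine ⟨![v, J₁ • v + J₁ • J₂ • v], fun g hg => ?_⟩
  have g₀ : g • v = v := hg 0
  have g₁ : g • (J₁ • v + J₁ • J₂ • v) = J₁ • v + J₁ • J₂ • v := hg 1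
  have cj : ∀ (x : G) (y : V), g • y = y → (g * x * g⁻¹) • y = g • x • y := fun x y e => by
    rw [mul_smul, mul_smul, inv_smul_eq_iff.2 e.symm]
  have n₁ := h.En.conj_mem _ m₁ g
  have n₃ := h.En.conj_mem _ m₃ g
  have k₁ : (g * I₁ * g⁻¹) • v = a • v := by rw [cj _ _ g₀, e₁, h.lin (hσ _), g₀]
  have k₃ : (g * I₂ * g⁻¹) • v = c • v := by rw [cj _ _ g₀, e₂, h.lin (hσ _), g₀]
  have p₁ : F.π (g * I₁ * g⁻¹) = F.π I₁ := by
    refine (eig1 _ n₁ a k₁ (by rw [F.sec.conj g _ m₁, F.Q_smul, q₁])).resolve_right fun e => ?_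
    have k₂ : (g * I₁ * g⁻¹) • (J₁ • v + J₁ • J₂ • v) = -(a • (J₁ • v + J₁ • J₂ • v)) := by
      rw [cj _ _ g₁, smul_add I₁, f₁, f₂, ← neg_add, ← smul_add, smul_neg, h.lin (hσ _), g₁]
    rcases F.pm m₃ n₁ e.symm with e' | e'
    · rw [e', e₂] at k₁
      rw [e', smul_add, f₃, f₄, smul_left_injective K hv k₁, smul_add, neg_add,
        add_left_inj] at k₂
      exact nz a0 J0 k₂
    · rw [e', e₂, neg_eq_iff_eq_neg, ← neg_smul] at k₁
      rw [e', smul_add, f₃, f₄, smul_left_injective K hv k₁, smul_add, neg_inj, neg_smul,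
        neg_smul, neg_neg, add_left_inj] at k₂
      exact nz a0 J0 k₂.symm
  have p₃ : F.π (g * I₂ * g⁻¹) = F.π I₂ := by
    refine (eig1 _ n₃ c k₃ (by rw [F.sec.conj g _ m₃, F.Q_smul, q₃])).resolve_left fun e => ?_
    rw [← p₁, F.sec.conj g _ m₃, F.sec.conj g _ m₁, smul_left_cancel_iff] at e
    rw [e, b₄] at b₂
    exact zero_ne_one b₂
  have r₁ : g * I₁ * g⁻¹ = I₁ := (F.pm m₁ n₁ p₁.symm).resolve_right fun e => by
    rw [e, e₁] at k₁
    exact nz a0 hv k₁.symm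
  have r₃ : g * I₂ * g⁻¹ = I₂ := (F.pm m₃ n₃ p₃.symm).resolve_right fun e => by
    rw [e, e₂] at k₃
    exact nz c0 hv k₃.symm
  have g₂ := cj I₂ _ g₁
  rw [r₃, smul_add, f₃, f₄, smul_add, smul_neg, h.lin (hσ g), h.lin (hσ g)] at g₂
  rw [smul_add] at g₁
  have g₃ : g • J₁ • v = J₁ • v := by
    refine smul_right_injective V (mul_ne_zero h2 c0) ?_
    change (2 * c) • _ = (2 * c) • _
    generalize g • J₁ • v = x at g₁ g₂ ⊢
    generalize g • J₁ • J₂ • v = y at g₁ g₂ ⊢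
    generalize J₁ • J₂ • v = y' at g₁ g₂ ⊢
    generalize J₁ • v = x' at g₁ g₂ ⊢
    linear_combination (norm := module) c • g₁ - g₂
  rw [g₃, add_right_inj] at g₁
  have fin : ∀ J ∈ E, F.Q (F.π J) = 1 → F.b (F.π J) (F.π I₁ + F.π I₂) = 1 → g • J • v = J • v →
      g * J * g⁻¹ = J := by
    intro J hJ hq hb e
    have n := h.En.conj_mem _ hJ g
    have m := E.mul_mem (E.inv_mem hJ) n
    have k : (J⁻¹ * (g * J * g⁻¹)) • v = v := by rw [mul_smul, cj _ _ g₀, e, inv_smul_smul]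
    rcases eig0 _ m k with e' | e'
    · exact (inv_mul_eq_one.1 (h.U_fix ((F.sec.ker _ m).1 e').1 hv k)).symm
    rw [F.sec.mul _ (E.inv_mem hJ) _ n, F.sec.inv hJ, neg_add_eq_iff_eq_add,
      F.sec.conj g _ hJ] at e'
    have := F.Q_smul g (F.π J)
    rw [e', F.Q_add, F.Q_add, hq, hb, q₁, q₃, b₃] at this
    exact absurd this (by decide)
  have r₂ := fin J₁ m₂ q₂ (by simp [F.symm (F.π J₁) (F.π I₁), b₁, b₅]) g₃
  have r₄ := fin J₂ m₄ q₄ (by simp [F.symm (F.π J₂), b₂, b₄]) (by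
    rw [← smul_left_cancel_iff J₁, ← g₁]
    conv_lhs => rw [← r₂]
    simp [mul_smul])
  have hm : ∀ x ∈ E, g * x * g⁻¹ = x → F.π x ∈ F.img (Subgroup.centralizer {g}) := fun x hx e =>
    ⟨x, Subgroup.mem_centralizer_singleton_iff.2 (mul_inv_eq_iff_eq_mul.1 e).symm, hx, rfl⟩
  have hU : g ∈ U := h.cent g (hσ g) (fun t ht => hTo t ht ▸ Commute.one_right g) fun e he => by
    obtain ⟨d, hd, hd', e'⟩ : F.π e ∈ F.img (Subgroup.centralizer {g}) := by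
      rw [hw (F.π e)]
      exact Submodule.add_mem _ (Submodule.add_mem _ (Submodule.add_mem _
        (Submodule.smul_mem _ _ (hm _ m₁ r₁)) (Submodule.smul_mem _ _ (hm _ m₂ r₂)))
        (Submodule.smul_mem _ _ (hm _ m₃ r₃))) (Submodule.smul_mem _ _ (hm _ m₄ r₄))
    have h5 := (h.comm_U (hσ g) ((F.sec.eq_iff hd' he).1 e').1).symm
    have h6 : Commute g d := (Subgroup.mem_centralizer_singleton_iff.1 hd).symm
    simpa using h6.mul_right h5
  intro x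
  rw [h.U_fix hU hv g₀, one_smul]

theorem Str.F2.mem_img_D (hm : h.IsMax u₀) (hE : ¬ E ≤ U) (hp : ∀ e ∈ E, e ∈ h.Cg u₀ → e ^ 2 = 1)
    {e : G} (he : e ∈ E) : F.π e ∈ F.img (h.Dg u₀) ↔ e ∈ h.Cg u₀ := by
  constructor
  · rintro ⟨d, hd, hdE, e'⟩
    refine h.mem_C_of_E he fun d' hd' hd'E => (F.hb _ hd'E _ he).1 ?_
    rw [← e']
    exact F.b_eig (h.two_ne hE) hd'E hdE hm.1 (a := 1) (c := 1)
      (by rw [h.D_fix hm.1 hd' hd'E, one_smul]) (by rw [h.D_fix hm.1 hd hdE, one_smul])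
  · intro hc
    rcases hm.invol he hc (hp e he hc) with h1 | h1
    · exact ⟨e, (hm.fix (self_mem_V0 _ _) hm.1 (Subgroup.mem_sup_right he)
        (h1 _ (self_mem_V0 _ _))).1, he, rfl⟩
    obtain ⟨z, hz, hzU, -, hz'⟩ := h.exists_z hE
    refine ⟨z * e, (hm.fix (self_mem_V0 _ _) hm.1 (Subgroup.mem_sup_right (E.mul_mem hz he))
      (by rw [mul_smul, h1 _ (self_mem_V0 _ _), hz', neg_neg])).1, E.mul_mem hz he, ?_⟩
    rw [F.sec.mul z hz e he, (F.sec.ker z hz).2 ⟨hzU, hz⟩, zero_add]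

end Five

theorem card_four {N : Type*} [AddCommGroup N] [Finite N] (h : Nat.card N = 4)
    (h2 : ∀ x : N, x + x = 0) :
    ∃ a b : N, a ≠ 0 ∧ b ≠ 0 ∧ a + b ≠ 0 ∧ ∀ x, x = 0 ∨ x = a ∨ x = b ∨ x = a + b := by
  classical
  have := Fintype.ofFinite N
  rw [Nat.card_eq_fintype_card] at h
  have hex : ∀ s : Finset N, s.card < 4 → ∃ x, x ∉ s := fun s hs =>
    (Finset.exists_mem_notMem_of_card_lt_card (t := Finset.univ) (by simpa [h] using hs)).imp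
      fun _ e => e.2
  obtain ⟨a, ha⟩ := hex {0} (by simp)
  obtain ⟨b, hb⟩ := hex {0, a} (Finset.card_le_two.trans_lt (by norm_num))
  simp only [Finset.mem_insert, Finset.mem_singleton, not_or] at ha hb
  have hab : a + b ≠ 0 := fun e => hb.2 (by rw [← add_right_inj a, e, h2])
  refine ⟨a, b, ha, hb.1, hab, fun x => ?_⟩
  have : ({0, a, b, a + b} : Finset N) = Finset.univ := by
    apply Finset.eq_univ_of_card
    rw [h, Finset.card_eq_four]
    exact ⟨_, _, _, _, Ne.symm ha, Ne.symm hb.1, hab.symm, Ne.symm hb.2, by simp [hb.1],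
      by simp [ha], rfl⟩
  simpa using (this ▸ Finset.mem_univ x : x ∈ ({0, a, b, a + b} : Finset N))

theorem ringAut_eq_one {K : Type*} [Field K] [Finite K] (hp : (Nat.card K).Prime) (τ : RingAut K) :
    τ = 1 := by
  have := Fintype.ofFinite K
  let e := ZMod.ringEquivOfPrime K hp Nat.card_eq_fintype_card.symm
  have := Fact.mk hp
  refine RingEquiv.ext fun x => ?_
  obtain ⟨y, rfl⟩ := e.surjective x
  rw [← ZMod.natCast_zmod_val y, map_natCast, map_natCast, map_natCast]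

theorem Str.base2_big {G : Type u} {V K : Type*} [Group G] [Finite G] [Group.IsSolvable G]
    [AddCommGroup V] [Nontrivial V] [DistribMulAction G V] [Field K] [Finite K] [Module K V]
    {σ : G →* RingAut K} {U To E : Subgroup G} (h : Str G V K σ U To E)
    (hG : (2 : K) = 0 → Odd (Nat.card G) ∨ (3 : ℕ).Coprime (Nat.card G))
    (h3 : (3 : K) = 0 → (3 : ℕ).Coprime (Nat.card G)) (hq : Nat.card K ≠ 3) :
    ∃ v : Fin 2 → V, IsBase G v := by
  by_cases hE : E ≤ U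
  · exact h.base2_le hE hG
  have h2 := h.two_ne hE
  have := Fintype.ofFinite K
  have hodd : Nat.card K % 2 = 1 := by
    rw [Nat.card_eq_fintype_card]
    refine FiniteField.odd_card_of_char_ne_two fun e => h2 ?_
    exact_mod_cast (ringChar.spec K 2).2 (by rw [e])
  have h1 : 1 < Nat.card K := Finite.one_lt_card
  obtain ⟨u₀, hm⟩ := h.exists_isMax
  rcases hm.cases with hp | ⟨u₁, c, c', α, β, q⟩
  swap
  · exact q.base2 h3 (by omega)
  by_cases h5 : 5 < Nat.card K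
  · obtain ⟨v, h6, h7⟩ := exists_sep_K K 2 h5
    exact hm.base2_plus hG hp v h6 h7 Str.col_E4
  have h5' : Nat.card K = 5 := by omega
  by_cases hc : h.Col u₀ E (Fin 2)
  · obtain ⟨v, h6, h7⟩ := exists_sep_K K 1 (by omega)
    exact hm.base2_plus hG hp v h6 h7 hc
  unfold Str.Col at hc
  push Not at hc
  obtain ⟨N, _, _, _, π, p, hc⟩ := hc
  let _ : Module (ZMod 2) N := AddCommGroup.zmodModule (Str.secE_two p)
  have h4 : Nat.card N = 4 := by
    by_contra e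
    exact hc (col3solv e)
  obtain ⟨a, b, ha, hb, hab, hall⟩ := card_four h4 add_self2
  obtain ⟨a, ma, rfl⟩ := p.surj a
  obtain ⟨b, mb, rfl⟩ := p.surj b
  obtain ⟨W, _, _, _, ⟨F⟩⟩ := h.exists_F2
  have key : ∀ e ∈ E, F.π e ∈ F.img (h.Dg u₀) ↔ π e = 0 := fun e he => by
    rw [F.mem_img_D hm hE hp he, p.ker e he]
    exact ⟨fun e => ⟨e, he⟩, fun e => e.1⟩
  have mab := E.mul_mem ma mb
  obtain ⟨i₁, j₁, i₂, j₂, q₁, q₂, q₃, q₄, b₁, b₂, b₃, b₄, b₅, b₆, hw⟩ := exists_quat_basis F.b F.Q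
    F.alt F.symm (fun x hx => F.nd hx) F.Q_add (F.img (h.Dg u₀)) (x₁ := F.π a) (x₂ := F.π b)
    (by
      rintro _ ⟨d, hd, hdE, rfl⟩
      refine (F.hQ d hdE).2 (h.U_fix (h.sqE d hdE) hm.1 ?_)
      rw [sq, mul_smul, h.D_fix hm.1 hd hdE, h.D_fix hm.1 hd hdE])
    (fun w => by
      obtain ⟨e, he, rfl⟩ := F.sec.surj w
      rw [F.mem_img_D hm hE hp he]
      constructor
      · rintro hc _ ⟨d, hd, hdE, rfl⟩
        exact (F.hb d hdE e he).2 (Subgroup.mem_centralizer_iff.1 hc d hd)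
      · exact fun hc => h.mem_C_of_E he fun d hd hdE => (F.hb d hdE e he).1 (hc _ ⟨d, hd, hdE, rfl⟩))
    (fun e => ha ((key a ma).1 e)) (fun e => hb ((key b mb).1 e))
    (fun e => hab (by
      rw [← F.sec.mul a ma b mb, key _ mab, p.mul a ma b mb] at e
      exact e))
    (fun w => by
      obtain ⟨e, he, rfl⟩ := F.sec.surj w
      rw [← F.sec.mul a ma b mb, ← F.sec.mul e he a ma, ← F.sec.mul e he b mb,
        ← F.sec.mul e he _ mab, key e he, key _ (E.mul_mem he ma), key _ (E.mul_mem he mb),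
        key _ (E.mul_mem he mab), p.mul e he a ma, p.mul e he b mb, p.mul e he _ mab,
        p.mul a ma b mb]
      rcases hall (π e) with e' | e' | e' | e' <;> simp [e', add_self2])
  have h6 : ∀ a : K, a ≠ 0 → a ^ 4 = 1 := fun a ha => by
    have := FiniteField.pow_card_sub_one_eq_one a ha
    rwa [← Nat.card_eq_fintype_card, h5'] at this
  have h7 : (5 : K) = 0 := by
    have := FiniteField.cast_card_eq_zero K
    rw [← Nat.card_eq_fintype_card, h5'] at this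
    exact_mod_cast this
  exact F.five h2 (fun g => ringAut_eq_one (by rw [h5']; norm_num) _) (fun t ht => h.To_eq h6 ht)
    (ι := 2) (by linear_combination h7) q₁ q₂ q₃ q₄ b₁ b₂ b₃ b₄ b₅ b₆ hw

end Cfsg.Agent.H12.RO
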