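import Cfsg.Agent.H12.RO11
import Cfsg.Agent.H3.Fitting
import Cfsg.Agent.H5.FrobAction
import Cfsg.Agent.H27.AltBasis

/-!
Bases of linear groups, part 12: solvable `3'`-groups of isometries over `F₂`.
-/

set_option autoImplicit false

namespace Cfsg.Agent.H12.RO

open MulAction Module

universe u

theorem dvd_ncard {X Ω : Type*} [Group X] [Finite X] [MulAction X Ω] {y : X} {r : ℕ}
    (hr : r.Prime) (hy : orderOf y = r) (S : Set Ω) (hS : ∀ a ∈ S, y • a ∈ S)
    (hf : ∀ a ∈ S, y • a ≠ a) : r ∣ S.ncard := by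
  have hc : Nat.card (Subgroup.zpowers y) = r := by rw [Nat.card_zpowers, hy]
  rw [← hc]
  refine H5.card_dvd_ncard_of_free S (fun g a ha => ?_) fun a ha => ?_
  · obtain ⟨n, hn⟩ := (mem_powers_iff_mem_zpowers (x := y)).2 g.2
    change (g : X) • a ∈ S
    rw [← hn]
    clear hn
    induction n with
    | zero => simpa using ha
    | succ n ih => simpa [pow_succ', mul_smul] using hS _ ih
  · have := Fact.mk (hc ▸ hr)
    refine (Subgroup.eq_bot_or_eq_top_of_prime_card _).resolve_right fun e => hf a ha ?_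
    exact (e ▸ Subgroup.mem_top _ : (⟨y, Subgroup.mem_zpowers y⟩ : Subgroup.zpowers y) ∈
      stabilizer _ a)

theorem ncard_split {W : Type*} [Finite W] (P : Set W) (f : W → ZMod 2) :
    P.ncard = {w | w ∈ P ∧ f w = 0}.ncard + {w | w ∈ P ∧ f w = 1}.ncard := by
  rw [← Set.ncard_union_eq (by
    rw [Set.disjoint_left]
    rintro w ⟨-, e⟩ ⟨-, e'⟩
    simp [e] at e')]
  congr 1
  ext w
  have := zmod2_cases (f w)
  simp only [Set.mem_union, Set.mem_setOf_eq]
  tauto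

theorem ncard_half {W : Type*} [AddCommGroup W] [Finite W] (P : Set W) (f : W → ZMod 2) (u : W)
    (hP : ∀ w ∈ P, w + u ∈ P) (hf : ∀ w ∈ P, f (w + u) = f w + 1) (c : ZMod 2) :
    2 * {w | w ∈ P ∧ f w = c}.ncard = P.ncard := by
  have key : ∀ c : ZMod 2, {w | w ∈ P ∧ f w = c}.ncard ≤ {w | w ∈ P ∧ f w = c + 1}.ncard :=
    fun c => Set.ncard_le_ncard_of_injOn (· + u) (fun w hw => ⟨hP w hw.1, by rw [hf w hw.1, hw.2]⟩)
      (add_left_injective u).injOn
  have h1 := key c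
  have h2 := key (c + 1)
  have h4 := ncard_split P f
  rcases zmod2_cases c with rfl | rfl <;>
    simp only [zero_add, show (1 + 1 : ZMod 2) = 0 from rfl] at h1 h2 <;> omega

/-- Isometries of a quadratic space over `F₂` without invariant totally isotropic subspace. -/
structure Sp (X W : Type*) [Group X] [AddCommGroup W] [Module (ZMod 2) W] [DistribMulAction X W]
    (b : LinearMap.BilinForm (ZMod 2) W) (Q : W → ZMod 2) : Prop where
  alt : ∀ x, b x x = 0
  symm : ∀ x y, b x y = b y x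
  nd : ∀ x, (∀ y, b x y = 0) → x = 0
  Qa : ∀ x y, Q (x + y) = Q x + Q y + b x y
  bs : ∀ (g : X) x y, b (g • x) (g • y) = b x y
  Qs : ∀ (g : X) x, Q (g • x) = Q x
  iso : ∀ A : Submodule (ZMod 2) W, (∀ g : X, ∀ x ∈ A, g • x ∈ A) →
    (∀ x ∈ A, ∀ y ∈ A, b x y = 0) → A = ⊥

section Sp

variable {X W : Type*} [Group X] [AddCommGroup W] [Module (ZMod 2) W] [DistribMulAction X W]
  {b : LinearMap.BilinForm (ZMod 2) W} {Q : W → ZMod 2}

theorem smul_z2 (g : X) (c : ZMod 2) (w : W) : g • c • w = c • g • w := by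
  rcases zmod2_cases c with rfl | rfl <;> simp

variable (W) in
/-- fixed vectors -/
def fixS (S : Set X) : Submodule (ZMod 2) W where
  carrier := {w | ∀ g ∈ S, g • w = w}
  add_mem' := fun ha hb g hg => by rw [smul_add, ha g hg, hb g hg]
  zero_mem' := fun g _ => smul_zero g
  smul_mem' := fun c w hw g hg => by rw [smul_z2, hw g hg]

theorem mem_fixS {y : X} {w : W} : w ∈ fixS W {y} ↔ y • w = w := by
  change (∀ g ∈ ({y} : Set X), g • w = w) ↔ _
  simp

theorem card_z2 [Finite W] (A : Submodule (ZMod 2) W) :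
    (A : Set W).ncard = 2 ^ finrank (ZMod 2) A := by
  rw [← Nat.card_coe_set_eq]
  exact (Module.natCard_eq_pow_finrank (K := ZMod 2) (V := A)).trans (by rw [Nat.card_zmod])

variable (S : Sp X W b Q)
include S

theorem Sp.nondeg : b.Nondegenerate :=
  ⟨fun _ hx => S.nd _ hx, fun _ hx => S.nd _ fun y => by rw [S.symm, hx]⟩

theorem Sp.refl : b.IsRefl := fun x y e => by rw [S.symm, e]

theorem Sp.adj (g : X) (x y : W) : b (g • x) y = b x (g⁻¹ • y) := by
  rw [← S.bs g x, smul_inv_smul]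

theorem Sp.Q0 : Q 0 = 0 := by simpa using S.Qa 0 0

theorem Sp.inv_orth {A : Submodule (ZMod 2) W} {g : X} (hA : ∀ x ∈ A, g⁻¹ • x ∈ A) {x : W}
    (hx : x ∈ b.orthogonal A) : g • x ∈ b.orthogonal A := fun a ha => by
  rw [S.symm, S.adj, S.symm]
  exact hx _ (hA a ha)

theorem Sp.disj {A : Submodule (ZMod 2) W} (hA : ∀ g : X, ∀ x ∈ A, g • x ∈ A) :
    Disjoint A (b.orthogonal A) :=
  disjoint_iff.2 (S.iso _ (fun g x hx => ⟨hA g x hx.1, S.inv_orth (hA _) hx.2⟩)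
    fun _ hx _ hy => hy.2 _ hx.1)

theorem Sp.cr [Finite W] : CR X W := by
  intro U hU
  have h1 := (LinearMap.BilinForm.isCompl_orthogonal_iff_disjoint S.refl).2
    (S.disj (A := AddSubgroup.toZModSubmodule 2 U) hU)
  refine ⟨(b.orthogonal (AddSubgroup.toZModSubmodule 2 U)).toAddSubgroup,
    fun g x hx => S.inv_orth (A := AddSubgroup.toZModSubmodule 2 U) (hU _) hx, ?_, ?_⟩
  · rw [eq_bot_iff]
    exact fun x hx => h1.disjoint.le_bot (show x ∈ _ ⊓ _ from hx)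
  · rw [eq_top_iff]
    intro x _
    obtain ⟨a, ha, c, hc, rfl⟩ := Submodule.mem_sup.1 (h1.codisjoint.top_le (Submodule.mem_top
      (x := x)))
    exact AddSubgroup.add_mem_sup ha hc

theorem Sp.eq_top_of_orth [Finite W] {A : Submodule (ZMod 2) W} (h : b.orthogonal A = ⊥) :
    A = ⊤ := by
  rw [← LinearMap.BilinForm.orthogonal_orthogonal S.nondeg S.refl A, h,
    LinearMap.BilinForm.orthogonal_bot]

theorem Sp.pCore_triv [Finite X] [Finite W] {g : X} (hg : g ∈ pCore 2 X) (w : W) : g • w = w := by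
  have hN : (pCore 2 X).Normal := inferInstance
  have hC : ∀ g : X, ∀ x ∈ fixS W (pCore 2 X : Set X), g • x ∈ fixS W (pCore 2 X : Set X) := by
    intro g x hx ρ hρ
    have := hx _ (hN.conj_mem ρ hρ g⁻¹)
    rwa [inv_inv, mul_smul, mul_smul, inv_smul_eq_iff] at this
  have hA : Inv X (b.orthogonal (fixS W (pCore 2 X : Set X))).toAddSubgroup :=
    fun g x hx => S.inv_orth (hC _) hx
  by_cases h0 : b.orthogonal (fixS W (pCore 2 X : Set X)) = ⊥
  · exact (S.eq_top_of_orth h0 ▸ Submodule.mem_top : w ∈ fixS W (pCore 2 X : Set X)) g hg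
  exfalso
  letI := subAct hA
  have : Nontrivial (b.orthogonal (fixS W (pCore 2 X : Set X))).toAddSubgroup :=
    Submodule.nontrivial_iff_ne_bot.2 h0
  obtain ⟨x, hx0, hx⟩ := exists_fixed_of_ppow
    (N := (b.orthogonal (fixS W (pCore 2 X : Set X))).toAddSubgroup) (pCore 2 X) Nat.prime_two
    (fun w => Subtype.ext (by simpa [two_nsmul] using add_self2 w.1)) (fun ρ hρ => by
      obtain ⟨k, hk⟩ := H3.pCore_isPGroup 2 X ⟨ρ, hρ⟩
      refine ⟨k, fun w => ?_⟩
      rw [show ρ ^ 2 ^ k = 1 from congrArg Subtype.val hk, one_smul])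
  exact hx0 (Subtype.ext ((S.disj hC).le_bot (show x.1 ∈ _ ⊓ _ from
    ⟨fun ρ hρ => congrArg Subtype.val (hx ρ hρ), x.2⟩)))

theorem Sp.disj_fix {y : X} {r : ℕ} (hr : Odd r) (hy : y ^ r = 1) :
    Disjoint (fixS W {y}) (b.orthogonal (fixS W {y})) := by
  rw [disjoint_iff, eq_bot_iff]
  rintro w ⟨h1, h2⟩
  rw [SetLike.mem_coe, mem_fixS] at h1
  refine S.nd w fun v => ?_
  have h3 : ∀ n : ℕ, b w (∑ i ∈ Finset.range n, y ^ i • v) = n * b w v := by
    intro n
    induction n with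
    | zero => simp
    | succ n ih =>
      rw [Finset.sum_range_succ, map_add, ih, ← S.bs (y ^ n) w v,
        show y ^ n • w = w from (stabilizer X w).pow_mem h1 n]
      push_cast
      ring
  have h4 := h2 (∑ i ∈ Finset.range r, y ^ i • v) (mem_fixS.2 (by
    have := Finset.sum_range_succ (fun i => y ^ i • v) r
    rw [Finset.sum_range_succ', hy, pow_zero, add_left_inj] at this
    rw [Finset.smul_sum, ← this]
    simp [pow_succ', mul_smul]))
  rw [S.symm, h3, (ZMod.natCast_eq_one_iff_odd).2 hr, one_mul] at h4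
  exact h4

theorem Sp.even [Finite W] {A : Submodule (ZMod 2) W} (hA : Disjoint A (b.orthogonal A)) :
    Even (finrank (ZMod 2) A) :=
  H27.even_finrank_of_alt (LinearMap.BilinForm.nondegenerate_restrict_of_disjoint_orthogonal b
    S.refl hA) fun x => S.alt x

theorem Sp.dvd_M [Finite X] {y : X} {r : ℕ} (hr : r.Prime) (h5 : 5 ≤ r) (hy : orderOf y = r)
    (P : Set W) [Finite W] (hP : ∀ w ∈ P, y • w ∈ P) (h0 : 0 ∈ P) :
    r ∣ {w | w ∈ b.orthogonal (fixS W {y}) ∧ w ∈ P}.ncard - 1 := by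
  rw [← Set.ncard_diff_singleton_of_mem (a := 0)
    (s := {w | w ∈ b.orthogonal (fixS W {y}) ∧ w ∈ P}) ⟨zero_mem _, h0⟩]
  refine dvd_ncard hr hy _ (fun a ha => ⟨⟨S.inv_orth (fun x hx => ?_) ha.1.1, hP a ha.1.2⟩,
    (smul_ne_zero_iff_ne y).2 ha.2⟩) fun a ha e => ha.2 ?_
  · rw [mem_fixS] at hx ⊢
    rw [inv_smul_eq_iff.2 hx.symm, hx]
  · exact (S.disj_fix (hr.odd_of_ne_two (by omega)) (hy ▸ pow_orderOf_eq_one y)).le_bot
      (show a ∈ _ ⊓ _ from ⟨mem_fixS.2 e, ha.1.1⟩)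

theorem Sp.four_le [Finite X] [Finite W] (faith : ∀ g : X, (∀ w : W, g • w = w) → g = 1) {y : X}
    {r : ℕ} (hr : r.Prime) (h5 : 5 ≤ r) (hy : orderOf y = r) :
    4 ≤ finrank (ZMod 2) (b.orthogonal (fixS W {y})) ∧
      Even (finrank (ZMod 2) (b.orthogonal (fixS W {y}))) := by
  have h1 := S.disj_fix (hr.odd_of_ne_two (by omega)) (hy ▸ pow_orderOf_eq_one y)
  have h2 := S.even (A := b.orthogonal (fixS W {y})) (by
    rw [LinearMap.BilinForm.orthogonal_orthogonal S.nondeg S.refl]; exact h1.symm)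
  refine ⟨?_, h2⟩
  have h3 := S.dvd_M hr h5 hy Set.univ (fun _ _ => trivial) trivial
  simp only [Set.mem_univ, and_true] at h3
  change r ∣ (b.orthogonal (fixS W {y}) : Set W).ncard - 1 at h3
  rw [card_z2] at h3
  by_contra h4
  obtain ⟨j, hj⟩ := h2
  have : j = 0 ∨ j = 1 := by omega
  rcases this with rfl | rfl
  · have h6 := S.eq_top_of_orth (Submodule.finrank_eq_zero.1 hj)
    rw [faith y fun w => mem_fixS.1 (h6 ▸ Submodule.mem_top), orderOf_one] at hy
    omega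
  · rw [hj] at h3
    have := Nat.le_of_dvd (by norm_num) h3
    omega

omit S in
theorem exists_sep2 {M : Submodule (ZMod 2) W} (nd : ∀ x ∈ M, x ≠ 0 → ∃ u ∈ M, b u x = 1)
    {a₁ a₂ : W} (m₁ : a₁ ∈ M) (m₂ : a₂ ∈ M) (h2 : a₂ ≠ 0) (h : a₁ ≠ a₂) :
    ∃ u ∈ M, b u a₁ = 0 ∧ b u a₂ = 1 := by
  obtain ⟨u, hu, e⟩ := nd a₂ m₂ h2
  obtain ⟨u', hu', e'⟩ := nd (a₁ + a₂) (M.add_mem m₁ m₂) fun e =>
    h (by rw [← add_left_inj a₂, e, add_self2])
  rw [map_add] at e'
  rcases zmod2_cases (b u a₁) with c | c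
  · exact ⟨u, hu, c, e⟩
  rcases zmod2_cases (b u' a₁) with c' | c'
  · exact ⟨u', hu', c', by simpa [c'] using e'⟩
  refine ⟨u + u', M.add_mem hu hu', by simp [c, c', CharTwo.add_self_eq_zero], ?_⟩
  simpa [c', e] using e'

theorem Sp.no_pair [Finite X] [Finite W] {y : X} {r : ℕ} (hr : r.Prime) (h5 : 5 ≤ r)
    (hy : orderOf y = r) (h4 : finrank (ZMod 2) (b.orthogonal (fixS W {y})) = 4) {a₁ a₂ : W}
    (m₁ : a₁ ∈ b.orthogonal (fixS W {y})) (m₂ : a₂ ∈ b.orthogonal (fixS W {y})) (n₁ : a₁ ≠ 0)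
    (n₂ : a₂ ≠ 0) (n : a₁ ≠ a₂) (q₁ : Q a₁ = 0) (q₂ : Q a₂ = 0) (o : b a₁ a₂ = 0) : False := by
  have d₁ := S.dvd_M hr h5 hy Set.univ (fun _ _ => trivial) trivial
  have d₂ := S.dvd_M hr h5 hy {w | Q w = 0} (fun w hw => (S.Qs y w).trans hw) S.Q0
  have h1 := S.disj_fix (hr.odd_of_ne_two (by omega)) (hy ▸ pow_orderOf_eq_one y)
  have nd : ∀ x ∈ b.orthogonal (fixS W {y}), x ≠ 0 → ∃ u ∈ b.orthogonal (fixS W {y}),
      b u x = 1 := by
    intro x hx h0
    by_contra hh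
    push Not at hh
    refine h0 (h1.le_bot (show x ∈ _ ⊓ _ from ⟨?_, hx⟩))
    rw [← LinearMap.BilinForm.orthogonal_orthogonal S.nondeg S.refl (fixS W {y})]
    exact fun u hu => (zmod2_cases _).resolve_right (hh u hu)
  have c₀ := card_z2 (b.orthogonal (fixS W {y}))
  rw [h4] at c₀
  generalize b.orthogonal (fixS W {y}) = M at *
  simp only [Set.mem_univ, and_true] at d₁
  change r ∣ (M : Set W).ncard - 1 at d₁
  rw [c₀] at d₁
  have r5 : r = 5 := by
    have := Nat.le_of_dvd (by norm_num) d₁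
    interval_cases r <;> first | rfl | omega | (norm_num at hr)
  subst r5
  obtain ⟨u₁, hu₁, e₁⟩ := nd a₁ m₁ n₁
  obtain ⟨u₂, hu₂, e₂, e₃⟩ := exists_sep2 nd m₁ m₂ n₂ n
  have k₁ := fun c => ncard_half (M : Set W) (fun w => b w a₁) u₁ (fun w hw => M.add_mem hw hu₁)
    (fun w _ => by simp [e₁]) c
  have k₂ := fun c => ncard_half {w | w ∈ (M : Set W) ∧ b w a₁ = 0} (fun w => b w a₂) u₂
    (fun w hw => ⟨M.add_mem hw.1 hu₂, by simp [hw.2, e₂]⟩) (fun w _ => by simp [e₃]) c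
  have k₃ := ncard_half {w | w ∈ (M : Set W) ∧ b w a₁ = 1} Q a₁
    (fun w hw => ⟨M.add_mem hw.1 m₁, by simp [hw.2, S.alt]⟩)
    (fun w hw => by rw [S.Qa, q₁, hw.2, add_zero]) 0
  have k₄ := ncard_half {w | w ∈ {w | w ∈ (M : Set W) ∧ b w a₁ = 0} ∧ b w a₂ = 1} Q a₂
    (fun w hw => ⟨⟨M.add_mem hw.1.1 m₂, by simp [hw.1.2, S.symm a₂, o]⟩, by simp [hw.2, S.alt]⟩)
    (fun w hw => by rw [S.Qa, q₂, hw.2, add_zero]) 0
  have k₅ := ncard_split {w | w ∈ M ∧ w ∈ {w | Q w = 0}} (fun w => b w a₁)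
  have k₆ := ncard_split {w | w ∈ {w | w ∈ M ∧ w ∈ {w | Q w = 0}} ∧ b w a₁ = 0} (fun w => b w a₂)
  have k₇ : {w | w ∈ {w | w ∈ {w | w ∈ M ∧ w ∈ {w | Q w = 0}} ∧ b w a₁ = 0} ∧ b w a₂ = 0}.ncard ≤
      {w | w ∈ {w | w ∈ (M : Set W) ∧ b w a₁ = 0} ∧ b w a₂ = 0}.ncard :=
    Set.ncard_le_ncard fun w hw => ⟨⟨hw.1.1.1, hw.1.2⟩, hw.2⟩
  have k₈ : 0 < {w | w ∈ {w | w ∈ {w | w ∈ M ∧ w ∈ {w | Q w = 0}} ∧ b w a₁ = 0} ∧
      b w a₂ = 0}.ncard := (Set.ncard_pos).2 ⟨0, ⟨⟨zero_mem _, S.Q0⟩, by simp⟩, by simp⟩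
  have k₉ : {w | w ∈ {w | w ∈ M ∧ w ∈ {w | Q w = 0}} ∧ b w a₁ = 1} =
      {w | w ∈ {w | w ∈ (M : Set W) ∧ b w a₁ = 1} ∧ Q w = 0} := by
    ext w
    simp only [Set.mem_setOf_eq, SetLike.mem_coe]
    tauto
  have k₁₀ : {w | w ∈ {w | w ∈ {w | w ∈ M ∧ w ∈ {w | Q w = 0}} ∧ b w a₁ = 0} ∧ b w a₂ = 1} =
      {w | w ∈ {w | w ∈ {w | w ∈ (M : Set W) ∧ b w a₁ = 0} ∧ b w a₂ = 1} ∧ Q w = 0} := by
    ext w
    simp only [Set.mem_setOf_eq, SetLike.mem_coe]
    tauto
  rw [k₉] at k₅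
  rw [k₁₀] at k₆
  have := k₁ 0
  have := k₁ 1
  have := k₂ 0
  have := k₂ 1
  omega

omit S in
theorem exists_prime_pow [Finite X] {f : X} (hf : f ≠ 1) :
    ∃ r n : ℕ, r.Prime ∧ orderOf (f ^ n) = r := by
  have h1 : orderOf f ≠ 1 := fun e => hf (orderOf_eq_one_iff.1 e)
  exact ⟨_, _, Nat.minFac_prime h1,
    orderOf_pow_orderOf_div (orderOf_pos f).ne' (Nat.minFac_dvd _)⟩

variable [Finite X] [Finite W] (faith : ∀ g : X, (∀ w : W, g • w = w) → g = 1)
  (h3 : (3 : ℕ).Coprime (Nat.card X))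
include faith h3

theorem Sp.five_le {y : X} (hF : y ∈ fittingSubgroup X) {r : ℕ} (hr : r.Prime)
    (hy : orderOf y = r) : 5 ≤ r := by
  have h1 : r ≠ 2 := by
    rintro rfl
    have := H3.le_pCore_of_le_fitting (p := 2) (P := Subgroup.zpowers y)
      (IsPGroup.of_card (n := 1) (by rw [Nat.card_zpowers, hy]; rfl))
      (Subgroup.zpowers_le.2 hF) (Subgroup.mem_zpowers y)
    rw [faith y (S.pCore_triv this), orderOf_one] at hy
    omega
  have h2 : r ≠ 3 := by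
    rintro rfl
    exact Nat.prime_three.coprime_iff_not_dvd.1 h3 (hy ▸ orderOf_dvd_natCard y)
  exact hr.five_le_of_ne_two_of_ne_three h1 h2

theorem Sp.no_invol [Group.IsSolvable X] {t : X} (h1 : t ≠ 1) (h2 : t ^ 2 = 1) {a₁ a₂ : W}
    (ht : ∀ w v, b a₁ w = 0 → b a₂ w = 0 → b (t • v + v) w = 0) (n₁ : a₁ ≠ 0)
    (n₂ : a₂ ≠ 0) (n : a₁ ≠ a₂) (q₁ : Q a₁ = 0) (q₂ : Q a₂ = 0) (o : b a₁ a₂ = 0) : False := by
  have hN := H3.fitting_normal X
  have hF : t ∉ fittingSubgroup X := fun e => by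
    have := S.five_le faith h3 e Nat.prime_two (orderOf_eq_prime h2 h1)
    omega
  obtain ⟨a, ha, hc⟩ : ∃ a ∈ fittingSubgroup X, a⁻¹ * (t * a * t⁻¹) ≠ 1 := by
    by_contra hh
    push Not at hh
    refine hF (H3.centralizer_fitting_le X (Subgroup.mem_centralizer_iff.2 fun a ha => ?_))
    have := hh a ha
    rwa [inv_mul_eq_one, eq_mul_inv_iff_mul_eq] at this
  obtain ⟨r, m, hr, hy⟩ := exists_prime_pow hc
  have h5 := S.five_le faith h3 (Subgroup.pow_mem _ (Subgroup.mul_mem _ (Subgroup.inv_mem _ ha)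
    (hN.conj_mem a ha t)) m) hr hy
  have fix : ∀ w, b a₁ w = 0 → b a₂ w = 0 → t • w = w := by
    intro w e₁ e₂
    rw [← add_left_inj w, add_self2]
    refine S.nd _ fun v => ?_
    have := ht w (t⁻¹ • v) e₁ e₂
    rw [smul_inv_smul, map_add, LinearMap.add_apply] at this
    rw [map_add, LinearMap.add_apply, S.adj, S.symm, S.symm w, add_comm, this]
  let A := Submodule.span (ZMod 2) (Set.range ![a₁, a₂, a⁻¹ • a₁, a⁻¹ • a₂])
  have hA : finrank (ZMod 2) A ≤ 4 := finrank_range_le_card _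
  have mA : ∀ i, ![a₁, a₂, a⁻¹ • a₁, a⁻¹ • a₂] i ∈ A := fun i => Submodule.subset_span ⟨i, rfl⟩
  have hle : b.orthogonal (fixS W {(a⁻¹ * (t * a * t⁻¹)) ^ m}) ≤ A := by
    rw [← LinearMap.BilinForm.orthogonal_orthogonal S.nondeg S.refl A]
    refine LinearMap.BilinForm.orthogonal_le fun w hw => mem_fixS.2
      ((stabilizer X w).pow_mem ?_ m)
    have e₁ := fix w (hw _ (mA 0)) (hw _ (mA 1))
    have e₂ := fix (a • w) (by rw [← S.bs a⁻¹, inv_smul_smul]; exact hw _ (mA 2))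
      (by rw [← S.bs a⁻¹, inv_smul_smul]; exact hw _ (mA 3))
    rw [mem_stabilizer_iff, mul_smul, mul_smul, mul_smul, inv_smul_eq_iff.2 e₁.symm, e₂,
      inv_smul_smul]
  have h4 := (S.four_le faith hr h5 hy).1
  have e := Submodule.eq_of_le_of_finrank_le hle (hA.trans h4)
  exact S.no_pair hr h5 hy (le_antisymm (e ▸ hA) h4) (e ▸ mA 0) (e ▸ mA 1) n₁ n₂ n q₁ q₂ o

theorem Sp.exists_y [Group.IsSolvable X] [Nontrivial W] :
    ∃ y ∈ fittingSubgroup X, y ∈ Subgroup.centralizer (fittingSubgroup X : Set X) ∧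
      ∃ r : ℕ, r.Prime ∧ 5 ≤ r ∧ orderOf y = r := by
  have : Nontrivial X := by
    by_contra hh
    rw [not_nontrivial_iff_subsingleton] at hh
    obtain ⟨w, hw⟩ := exists_ne (0 : W)
    refine hw (Submodule.span_singleton_eq_bot.1 (S.iso _ (fun g x hx => by
      rwa [Subsingleton.elim g 1, one_smul]) fun x hx y hy => ?_))
    obtain ⟨c, rfl⟩ := Submodule.mem_span_singleton.1 hx
    obtain ⟨d, rfl⟩ := Submodule.mem_span_singleton.1 hy
    simp [S.alt]
  obtain ⟨z, hz, h1⟩ := (Subgroup.ne_bot_iff_exists_ne_one.1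
    (H3.inf_centralizer_ne_bot_of_isNilpotent (H3.fitting_isNilpotent X) le_rfl
      Subgroup.le_normalizer (H3.fitting_ne_bot X))).imp fun z hz => And.intro z.2 hz
  obtain ⟨r, m, hr, hy⟩ := exists_prime_pow (f := z.1) fun e => h1 (Subtype.ext e)
  have hF := Subgroup.pow_mem _ hz.1 m
  exact ⟨_, hF, Subgroup.pow_mem _ hz.2 m, r, hr, S.five_le faith h3 hF hr hy, hy⟩

theorem Sp.four_le_top [Group.IsSolvable X] [Nontrivial W] : 4 ≤ finrank (ZMod 2) W := by
  obtain ⟨y, -, -, r, hr, h5, hy⟩ := S.exists_y faith h3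
  exact (S.four_le faith hr h5 hy).1.trans (Submodule.finrank_le _)

theorem Sp.no_pair_top [Group.IsSolvable X] (h4 : finrank (ZMod 2) W = 4) {a₁ a₂ : W}
    (n₁ : a₁ ≠ 0) (n₂ : a₂ ≠ 0) (n : a₁ ≠ a₂) (q₁ : Q a₁ = 0) (q₂ : Q a₂ = 0)
    (o : b a₁ a₂ = 0) : False := by
  have : Nontrivial W := ⟨⟨_, _, n⟩⟩
  obtain ⟨y, -, -, r, hr, h5, hy⟩ := S.exists_y faith h3
  have h6 := (S.four_le faith hr h5 hy).1
  have e := Submodule.eq_top_of_finrank_eq (le_antisymm (Submodule.finrank_le _) (h4 ▸ h6))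
  exact S.no_pair hr h5 hy (by rw [e, finrank_top, h4]) (e ▸ Submodule.mem_top)
    (e ▸ Submodule.mem_top) n₁ n₂ n q₁ q₂ o

theorem Sp.card_le [Group.IsSolvable X] (h6 : finrank (ZMod 2) W = 6) : Nat.card X ≤ 28 := by
  have : Nontrivial W := Module.nontrivial_of_finrank_pos (R := ZMod 2) (by omega)
  have hN := H3.fitting_normal X
  obtain ⟨z, hz, hz', r, hr, h5, hy⟩ := S.exists_y faith h3
  have hC : ∀ {y : X} {r : ℕ}, r.Prime → 5 ≤ r → orderOf y = r →
      finrank (ZMod 2) (fixS W {y}) = 0 ∨ finrank (ZMod 2) (fixS W {y}) = 2 := by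
    intro y r hr h5 hy
    obtain ⟨h1, j, hj⟩ := S.four_le faith hr h5 hy
    have := Submodule.finrank_le (fixS W {y})
    rw [LinearMap.BilinForm.finrank_orthogonal S.nondeg] at h1 hj
    omega
  have key : ∀ {y y' : X} {r r' : ℕ}, r.Prime → 5 ≤ r → orderOf y = r → r'.Prime → 5 ≤ r' →
      orderOf y' = r' → y * y' = y' * y → ∀ w : W, y • w = w → y' • w = w := by
    intro y y' r r' hr h5 hy hr' h5' hy' hc w hw
    by_contra hw'
    have h1 := dvd_ncard hr' hy' {w : W | y • w = w ∧ y' • w ≠ w}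
      (fun a ha => ⟨by rw [← mul_smul, hc, mul_smul, ha.1], fun e => ha.2 (MulAction.injective _ e)⟩)
      fun a ha => ha.2
    have h2 := Nat.le_of_dvd ((Set.ncard_pos).2 ⟨w, And.intro hw hw'⟩) h1
    have h3 : {w : W | y • w = w ∧ y' • w ≠ w}.ncard ≤ (fixS W {y} : Set W).ncard :=
      Set.ncard_le_ncard fun a ha => mem_fixS.2 ha.1
    rw [card_z2] at h3
    rcases hC hr h5 hy with e | e <;> rw [e] at h3 <;> omega
  have h1 : Nat.card (fittingSubgroup X) ∣ (fixS W {z} : Set W)ᶜ.ncard := by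
    refine H5.card_dvd_ncard_of_free _ (fun g a ha e => ha (mem_fixS.2 ?_)) fun a ha => ?_
    · have e := mem_fixS.1 e
      change z • (g : X) • a = (g : X) • a at e
      rwa [← mul_smul, ← Subgroup.mem_centralizer_iff.1 hz' g g.2, mul_smul,
        smul_left_cancel_iff] at e
    · rw [eq_bot_iff]
      intro g hg
      by_contra h1
      obtain ⟨r', m, hr', hy'⟩ := exists_prime_pow (f := g.1) fun e => h1 (Subtype.ext e)
      have hF := Subgroup.pow_mem _ g.2 m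
      exact ha (mem_fixS.2 (key hr' (S.five_le faith h3 hF hr' hy') hy' hr h5 hy
        (Subgroup.mem_centralizer_iff.1 hz' _ hF) a ((stabilizer X a).pow_mem hg m)))
  have h2 := Set.ncard_add_ncard_compl (fixS W {z} : Set W)
  rw [card_z2, Module.natCard_eq_pow_finrank (K := ZMod 2), Nat.card_zmod, h6] at h2
  have h4 : ∀ p : ℕ, p.Prime → p ∣ Nat.card (fittingSubgroup X) → 5 ≤ p := by
    intro p hp hd
    have := Fact.mk hp
    obtain ⟨y, hy⟩ := exists_prime_orderOf_dvd_card' p hd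
    exact S.five_le faith h3 y.2 hp (by rw [Subgroup.orderOf_coe, hy])
  have h7 : r ∣ Nat.card (fittingSubgroup X) := hy ▸ Subgroup.orderOf_dvd_natCard _ hz
  have h8 : Nat.card (fittingSubgroup X) = 5 ∨ Nat.card (fittingSubgroup X) = 7 := by
    have a2 : ¬ 2 ∣ Nat.card (fittingSubgroup X) := fun e => by
      have := h4 2 Nat.prime_two e
      omega
    have a3 : ¬ 3 ∣ Nat.card (fittingSubgroup X) := fun e => by
      have := h4 3 Nat.prime_three e
      omega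
    have a1 := h5.trans (Nat.le_of_dvd Nat.card_pos h7)
    generalize Nat.card (fittingSubgroup X) = n at *
    rcases hC hr h5 hy with e | e <;> rw [e] at h2
    · rw [show (fixS W {z} : Set W)ᶜ.ncard = 63 by omega] at h1
      have := Nat.le_of_dvd (by norm_num) h1
      interval_cases n <;> omega
    · rw [show (fixS W {z} : Set W)ᶜ.ncard = 60 by omega] at h1
      have := Nat.le_of_dvd (by norm_num) h1
      interval_cases n <;> omega
  have hp : (Nat.card (fittingSubgroup X)).Prime := by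
    rcases h8 with e | e <;> rw [e] <;> norm_num
  have := Fact.mk hp
  have : IsCyclic (fittingSubgroup X) := isCyclic_of_prime_card rfl
  let φ : X →* MulAut (fittingSubgroup X) := MulAut.conjNormal
  have h9 : Nat.card φ.ker ≤ Nat.card (fittingSubgroup X) := by
    refine Subgroup.card_le_of_le fun g hg => H3.centralizer_fitting_le X
      (Subgroup.mem_centralizer_iff.2 fun a ha => ?_)
    have := congrArg (fun x : MulAut (fittingSubgroup X) => (x ⟨a, ha⟩ : X))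
      (MonoidHom.mem_ker.1 hg)
    exact (mul_inv_eq_iff_eq_mul.1 this).symm
  have h10 := Subgroup.card_subgroup_dvd_card φ.range
  rw [IsCyclic.card_mulAut, Nat.totient_prime hp, ← Subgroup.index_ker] at h10
  have h11 : ¬ 3 ∣ φ.ker.index := fun e =>
    Nat.prime_three.coprime_iff_not_dvd.1 h3 (e.trans φ.ker.index_dvd_card)
  have h12 : φ.ker.index ≤ 4 := by
    generalize φ.ker.index = n at *
    rcases h8 with e | e <;> rw [e] at h10 <;> have := Nat.le_of_dvd (by norm_num) h10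
    · exact this
    · interval_cases n <;> omega
  rw [← φ.ker.index_mul_card]
  exact (Nat.mul_le_mul h12 (h9.trans (show _ ≤ 7 by omega))).trans (by norm_num)

end Sp

end Cfsg.Agent.H12.RO
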