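import Cfsg.Agent.H12.RO12
import Cfsg.Agent.H61.Huppert1

/-!
Bases of linear groups, part 13: fixed point ratios.
-/

set_option autoImplicit false

namespace Cfsg.Agent.H12.RO

open MulAction Module

universe u

theorem base_of_count {G V : Type*} [Group G] [Fintype G] [AddCommGroup V] [Finite V]
    [DistribMulAction G V] (B : Finset G) (y : ℕ)
    (h1 : ∀ g, g ≠ 1 → g ∉ B → {v : V | g • v = v}.ncard ^ 2 ≤ Nat.card V)
    (h2 : ∀ g ∈ B, {v : V | g • v = v}.ncard ^ 2 ≤ y)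
    (h : Nat.card G * Nat.card V + B.card * y < Nat.card V ^ 2) :
    ∃ v : Fin 2 → V, IsBase G v := by
  classical
  have := Fintype.ofFinite V
  by_contra hh
  push Not at hh
  let S : G → Finset (V × V) := fun g =>
    {v : V | g • v = v}.toFinset ×ˢ {v : V | g • v = v}.toFinset
  have hS : ∀ g, (S g).card = {v : V | g • v = v}.ncard ^ 2 := fun g => by
    rw [Finset.card_product, Set.ncard_eq_toFinset_card', sq]
  have h3 : (Finset.univ : Finset (V × V)) ⊆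
      ((Finset.univ.erase 1 \ B).biUnion S) ∪ B.biUnion S := by
    rintro ⟨a, b⟩ -
    have := hh ![a, b]
    unfold IsBase at this
    push Not at this
    obtain ⟨g, hg, x, hx⟩ := this
    have h4 : (a, b) ∈ S g := by simpa [S] using And.intro (hg 0) (hg 1)
    have h5 : g ≠ 1 := by rintro rfl; simp at hx
    rw [Finset.mem_union, Finset.mem_biUnion, Finset.mem_biUnion]
    by_cases hB : g ∈ B
    · exact Or.inr ⟨g, hB, h4⟩
    · exact Or.inl ⟨g, by simp [h5, hB], h4⟩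
  have h4 := (Finset.card_le_card h3).trans (Finset.card_union_le _ _)
  have h5 := Finset.card_biUnion_le_card_mul (Finset.univ.erase 1 \ B) S (Nat.card V)
    fun g hg => by
      simp only [Finset.mem_sdiff, Finset.mem_erase] at hg
      exact hS g ▸ h1 g hg.1.1 hg.2
  have h6 := Finset.card_biUnion_le_card_mul B S y fun g hg => hS g ▸ h2 g hg
  have h7 := Nat.mul_le_mul_right (Nat.card V) (Finset.card_le_univ (Finset.univ.erase 1 \ B))
  rw [Finset.card_univ, Fintype.card_prod, ← Nat.card_eq_fintype_card, ← sq] at h4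
  rw [← Nat.card_eq_fintype_card] at h7
  omega

section Eig

variable {G V K : Type*} [Group G] [AddCommGroup V] [DistribMulAction G V] [Field K] [Module K V]
  [SMulCommClass G K V]

variable (V) in
/-- eigenspace -/
def eigS (g : G) (ε : K) : Submodule K V where
  carrier := {v | g • v = ε • v}
  add_mem' := fun {a b} (ha : g • a = _) (hb : g • b = _) => by
    change g • (a + b) = _
    rw [smul_add, ha, hb, smul_add]
  zero_mem' := by simp
  smul_mem' := fun c v (hv : g • v = _) => by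
    change g • c • v = _
    rw [smul_comm g, hv, smul_comm]

theorem mem_eigP {g : G} {v : V} : v ∈ eigS V g (1 : K) ↔ g • v = v := by
  change g • v = (1 : K) • v ↔ _
  rw [one_smul]

theorem mem_eigM {g : G} {v : V} : v ∈ eigS V g (-1 : K) ↔ g • v = -v := by
  change g • v = (-1 : K) • v ↔ _
  rw [neg_one_smul]

variable [FiniteDimensional K V]

theorem rk_move (e : G) {A B : Submodule K V} (h : ∀ v ∈ A, e • v ∈ B) :
    finrank K A ≤ finrank K B :=
  LinearMap.finrank_le_finrank_of_injective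
    (f := (DistribMulAction.toLinearMap K V e).restrict h)
    fun _ _ e' => Subtype.ext (MulAction.injective e (congrArg Subtype.val e'))

omit [SMulCommClass G K V] in
theorem rk_add {A B S : Submodule K V} (hA : A ≤ S) (hB : B ≤ S) (h : Disjoint A B) :
    finrank K A + finrank K B ≤ finrank K S := by
  rw [← Submodule.finrank_sup_add_finrank_inf_eq, h.eq_bot, finrank_bot, add_zero]
  exact Submodule.finrank_mono (sup_le hA hB)

variable (h2 : (2 : K) ≠ 0)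
include h2

omit [FiniteDimensional K V] in
theorem eig_disj (g : G) : Disjoint (eigS V g (1 : K)) (eigS V g (-1)) := by
  rw [disjoint_iff, eq_bot_iff]
  exact fun v hv => eq_zero_of_eq_neg h2 ((mem_eigP.1 hv.1).symm.trans (mem_eigM.1 hv.2))

theorem rk_split {f : G} (hf : f ^ 2 = 1) {S : Submodule K V} (hS : ∀ v ∈ S, f • v ∈ S) :
    finrank K S = finrank K (S ⊓ eigS V f 1 : Submodule K V) +
      finrank K (S ⊓ eigS V f (-1) : Submodule K V) := by
  have hff : ∀ v : V, f • f • v = v := fun v => by rw [← mul_smul, ← sq, hf, one_smul]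
  rw [← Submodule.finrank_sup_add_finrank_inf_eq,
    ((eig_disj h2 f).mono inf_le_right inf_le_right).eq_bot, finrank_bot, add_zero]
  refine congrArg (fun A : Submodule K V => finrank K A)
    (le_antisymm (fun v hv => ?_) (sup_le inf_le_left inf_le_left))
  have h1 := inv_mul_cancel₀ h2
  refine Submodule.mem_sup.2 ⟨(2 : K)⁻¹ • (v + f • v), Submodule.smul_mem _ _
    ⟨S.add_mem hv (hS v hv), mem_eigP.2 (by rw [smul_add, hff, add_comm])⟩,
    (2 : K)⁻¹ • (v - f • v), Submodule.smul_mem _ _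
    ⟨S.sub_mem hv (hS v hv), mem_eigM.2 (by rw [smul_sub, hff, neg_sub])⟩, ?_⟩
  generalize f • v = w
  linear_combination (norm := module) h1 • v

theorem rk_half {g e : G} {S : Submodule K V} (hS : ∀ v ∈ S, e • v ∈ S)
    (h : ∀ v ∈ S, g • v = v → g • e • v = -(e • v)) :
    2 * finrank K (S ⊓ eigS V g 1 : Submodule K V) ≤ finrank K S := by
  have h1 := rk_move e (A := S ⊓ eigS V g 1) (B := S ⊓ eigS V g (-1))
    fun v hv => ⟨hS v hv.1, mem_eigM.2 (h v hv.1 (mem_eigP.1 hv.2))⟩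
  have h3 := rk_add (S := S) inf_le_left inf_le_left
    ((eig_disj h2 g).mono inf_le_right inf_le_right)
  omega

theorem rk_five {g f₁ f₂ e₁ e₂ c₁ c₂ : G} (s₁ : f₁ ^ 2 = 1) (s₂ : f₂ ^ 2 = 1)
    (k : Commute f₁ f₂) (k₁ : Commute g f₁) (k₂ : Commute g f₂) (r₁ : g * e₁ = f₁ * e₁ * g)
    (r₂ : g * e₂ = f₂ * e₂ * g) (l₁ : Commute f₁ e₁) (l₂ : Commute f₁ e₂) (l₃ : Commute f₂ e₂)
    (a₁ : ∀ v : V, f₁ • c₁ • v = -(c₁ • f₁ • v)) (a₂ : Commute f₁ c₂)
    (a₃ : ∀ v : V, f₂ • c₂ • v = -(c₂ • f₂ • v)) :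
    8 * finrank K (eigS V g (1 : K)) ≤ 5 * finrank K V := by
  have cm : ∀ {a b : G}, Commute a b → ∀ (ε : K), ∀ v ∈ eigS V a ε, b • v ∈ eigS V a ε := by
    intro a b hab ε v hv
    change a • b • v = ε • b • v
    rw [← mul_smul, hab.eq, mul_smul, show a • v = ε • v from hv, smul_comm]
  have p₁ := rk_split h2 s₁ (S := (⊤ : Submodule K V)) fun _ _ => trivial
  have p₂ := rk_split h2 s₂ (cm k 1)
  have p₃ := rk_split h2 s₁ (cm k₁ 1)
  have p₄ := rk_split h2 s₂ (S := eigS V g 1 ⊓ eigS V f₁ 1)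
    fun v hv => ⟨cm k₂ 1 v hv.1, cm k 1 v hv.2⟩
  rw [top_inf_eq, top_inf_eq, finrank_top] at p₁
  have p₅ := rk_move c₁ (A := eigS V f₁ (1 : K)) (B := eigS V f₁ (-1))
    fun v hv => mem_eigM.2 (by rw [a₁, mem_eigP.1 hv])
  have p₅' := rk_move c₁ (A := eigS V f₁ (-1 : K)) (B := eigS V f₁ 1)
    fun v hv => mem_eigP.2 (by rw [a₁, mem_eigM.1 hv, smul_neg, neg_neg])
  have p₆ := rk_move c₂ (A := eigS V f₁ 1 ⊓ eigS V f₂ (1 : K)) (B := eigS V f₁ 1 ⊓ eigS V f₂ (-1))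
    fun v hv => ⟨cm a₂ 1 v hv.1, mem_eigM.2 (by rw [a₃, mem_eigP.1 hv.2])⟩
  have p₆' := rk_move c₂ (A := eigS V f₁ 1 ⊓ eigS V f₂ (-1 : K)) (B := eigS V f₁ 1 ⊓ eigS V f₂ 1)
    fun v hv => ⟨cm a₂ 1 v hv.1, mem_eigP.2 (by rw [a₃, mem_eigM.1 hv.2, smul_neg, neg_neg])⟩
  have p₇ := rk_half h2 (g := g) (cm l₁ (-1)) fun v hv e => by
    rw [← mul_smul, r₁, l₁.eq, mul_smul, mul_smul, e, mem_eigM.1 hv, smul_neg]
  have p₈ := rk_half h2 (g := g) (S := eigS V f₁ 1 ⊓ eigS V f₂ (-1))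
    (fun v hv => ⟨cm l₂ 1 v hv.1, cm l₃ (-1) v hv.2⟩) fun v hv e => by
      rw [← mul_smul, r₂, l₃.eq, mul_smul, mul_smul, e, mem_eigM.1 hv.2, smul_neg]
  have p₉ : finrank K (eigS V g 1 ⊓ eigS V f₁ 1 ⊓ eigS V f₂ 1 : Submodule K V) ≤
      finrank K (eigS V f₁ 1 ⊓ eigS V f₂ 1 : Submodule K V) :=
    Submodule.finrank_mono fun v hv => ⟨hv.1.2, hv.2⟩
  rw [inf_comm] at p₇ p₈
  rw [← inf_assoc] at p₈
  omega

end Eig

theorem num_aux {x y n a m c : ℕ} (hm : m ≤ n) (hc : c + a = 2 * n)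
    (h : x * 3 ^ a + y * 3 ^ m < 3 ^ (a + m)) : x * 3 ^ n + y * 3 ^ c < (3 ^ n) ^ 2 := by
  obtain ⟨s, rfl⟩ := Nat.exists_eq_add_of_le hm
  have h1 : (3 ^ (m + s)) ^ 2 = 3 ^ c * 3 ^ a := by rw [← pow_mul, ← pow_add, hc, mul_comm]
  refine lt_of_mul_lt_mul_right (a := 3 ^ (a + m)) ?_ (Nat.zero_le _)
  have h2 : 1 ≤ 3 ^ s := Nat.one_le_pow _ _ (by norm_num)
  calc (x * 3 ^ (m + s) + y * 3 ^ c) * 3 ^ (a + m)
      = x * 3 ^ a * (3 ^ (m + s) * 3 ^ m * 1) + y * 3 ^ m * (3 ^ c * 3 ^ a) := by ring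
    _ ≤ x * 3 ^ a * (3 ^ (m + s) * 3 ^ m * 3 ^ s) + y * 3 ^ m * (3 ^ c * 3 ^ a) := by gcongr
    _ = (x * 3 ^ a + y * 3 ^ m) * (3 ^ (m + s)) ^ 2 := by rw [← h1]; ring
    _ < 3 ^ (a + m) * (3 ^ (m + s)) ^ 2 := by gcongr
    _ = _ := mul_comm _ _

theorem num_big (j : ℕ) : 4 * 64 ^ (j + 5) < 3 ^ (3 * 2 ^ (j + 3)) := by
  induction j with
  | zero => norm_num
  | succ j ih =>
    have h1 : 64 ≤ 4 * 64 ^ (j + 5) := by
      have : 64 ^ 1 ≤ 64 ^ (j + 5) := Nat.pow_le_pow_right (by norm_num) (by omega)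
      omega
    calc 4 * 64 ^ (j + 1 + 5) = 4 * 64 ^ (j + 5) * 64 := by ring
      _ ≤ 4 * 64 ^ (j + 5) * (4 * 64 ^ (j + 5)) := by gcongr
      _ < 3 ^ (3 * 2 ^ (j + 3)) * 3 ^ (3 * 2 ^ (j + 3)) := by gcongr
      _ = _ := by ring

theorem num_main {x k : ℕ} (hk : 3 ≤ k) (h1 : 3 * x ≤ (2 ^ (k + k)) ^ 2) (h2 : k = 3 → x ≤ 28) :
    x * (2 ^ (k + k) * 2) * 3 ^ (3 * 2 ^ (k - 2)) + 2 ^ k * x * 3 ^ 2 ^ k <
      3 ^ (3 * 2 ^ (k - 2) + 2 ^ k) := by
  by_cases h3 : k = 3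
  · have := h2 h3
    subst h3
    norm_num
    omega
  by_cases h4 : k = 4
  · subst h4
    norm_num at h1 ⊢
    omega
  obtain ⟨j, rfl⟩ : ∃ j, k = j + 5 := ⟨k - 5, by omega⟩
  have h5 := num_big j
  have h6 : 3 ^ (3 * 2 ^ (j + 3)) ≤ 3 ^ 2 ^ (j + 5) :=
    Nat.pow_le_pow_right (by norm_num) (by rw [show j + 5 = j + 3 + 2 by rfl, pow_add 2 (j + 3)]; omega)
  rw [show j + 5 - 2 = j + 3 by rfl, pow_add 3]
  have h7 : 64 ^ (j + 5) = (2 ^ (j + 5)) ^ 6 := by rw [← pow_mul, mul_comm, pow_mul]; norm_num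
  rw [pow_add 2 (j + 5)] at h1 ⊢
  rw [h7] at h5
  have h8 : 1 ≤ 2 ^ (j + 5) := Nat.one_le_two_pow
  generalize 2 ^ (j + 5) = t at *
  generalize 3 ^ (3 * 2 ^ (j + 3)) = A at *
  generalize 3 ^ t = C at *
  have h9 : x * (t * t * 2) * 2 ≤ C := by
    calc x * (t * t * 2) * 2 ≤ (t * t) ^ 2 * (t * t * 2) * 2 := by gcongr; omega
      _ = 4 * t ^ 6 := by ring
      _ ≤ C := by omega
  have h10 : t * x * 2 < A := by
    calc t * x * 2 ≤ (t * t) * (t * t) ^ 2 * 4 := by gcongr <;> nlinarith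
      _ = 4 * t ^ 6 := by ring
      _ < A := h5
  nlinarith

theorem sq_lt_three_pow (n : ℕ) : n ^ 2 < 3 ^ n := by
  induction n with
  | zero => simp
  | succ n ih =>
    have := Nat.lt_pow_self (n := n) (show 1 < 3 by norm_num)
    rw [pow_succ 3]
    nlinarith

end Cfsg.Agent.H12.RO
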