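import Cfsg.Agent.H12.RO13

/-!
Bases of linear groups, part 14: the field with three elements.
-/

set_option autoImplicit false

namespace Cfsg.Agent.H12.RO

open MulAction Module
open scoped commutatorElement

universe u

section Three

variable {G : Type u} {V K : Type*} [Group G] [Finite G] [AddCommGroup V] [DistribMulAction G V]
  [Field K] [Module K V] {σ : G →* RingAut K} {U To E : Subgroup G} {h : Str G V K σ U To E}
  {W : Type*} [AddCommGroup W] [Module (ZMod 2) W] [DistribMulAction G W] (F : h.F2 W)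

omit [Finite G] in
theorem Str.F2.comm_or {g e : G} (he : e ∈ E) (hg : g • F.π e = F.π e) :
    Commute g e ∨ ∀ v : V, g • e • v = -(e • g • v) := by
  refine (F.pm he (h.En.conj_mem e he g) (by rw [F.sec.conj g e he, hg])).imp
    mul_inv_eq_iff_eq_mul.1 fun e' v => ?_
  simpa [mul_smul] using e' (g • v)

omit [Finite G] in
theorem Str.F2.sp (hUE : U ≤ E) {X : Type*} [Group X] [DistribMulAction X W] (φ : G →* X)
    (hs : Function.Surjective φ) (hφ : ∀ (g : G) (w : W), φ g • w = g • w) :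
    Sp X W F.b F.Q := by
  have := h.En
  refine ⟨F.alt, F.symm, fun _ => F.nd, F.Q_add, fun g x y => ?_, fun g x => ?_, fun A hA h0 => ?_⟩
  · obtain ⟨g, rfl⟩ := hs g
    rw [hφ, hφ, F.b_smul]
  · obtain ⟨g, rfl⟩ := hs g
    rw [hφ, F.Q_smul]
  have h1 := h.maxU (F.sec.pre A.toAddSubgroup)
    (F.sec.pre_normal fun g x hx => hφ g x ▸ hA _ x hx)
    (fun u hu => ⟨hUE hu, by rw [(F.sec.ker u (hUE hu)).2 ⟨hu, hUE hu⟩]; exact zero_mem _⟩)
    fun a ha b hb => (F.hb a ha.1 b hb.1).1 (h0 _ ha.2 _ hb.2)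
  rw [eq_bot_iff]
  intro x hx
  obtain ⟨a, ha, rfl⟩ := F.sec.surj x
  exact (F.sec.ker a ha).2 ⟨h1 ⟨ha, hx⟩, ha⟩

variable (hσ : ∀ g, σ g = 1) (hTo : ∀ t ∈ To, t = 1) (hUE : U ≤ E)

omit [Finite G] in
include hσ hTo in
theorem Str.mem_U (h : Str G V K σ U To E) {g : G} (hg : ∀ e ∈ E, Commute g e) : g ∈ U :=
  h.cent g (hσ g) (fun t ht => hTo t ht ▸ Commute.one_right g) hg

include F hσ hTo hUE in
theorem Str.F2.mem_E {g : G} (hg : ∀ w : W, g • w = w) : g ∈ E := by
  have := F.sec.finite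
  have hm : ∀ e ∈ E, F.π e ∈ F.img (Subgroup.centralizer {g}) ↔ Commute g e := by
    refine fun e he => ⟨?_, fun c => ⟨e, Subgroup.mem_centralizer_singleton_iff.2 c.symm, he, rfl⟩⟩
    rintro ⟨d, hd, hd', e'⟩
    have h5 := (h.comm_U (hσ g) ((F.sec.eq_iff hd' he).1 e').1).symm
    have h6 : Commute g d := (Subgroup.mem_centralizer_singleton_iff.1 hd).symm
    simpa using h6.mul_right h5
  by_cases h0 : F.b.orthogonal (F.img (Subgroup.centralizer {g})) = ⊥
  · refine hUE (Str.mem_U hσ hTo h fun e he => (hm e he).1 ?_)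
    rw [← LinearMap.BilinForm.orthogonal_orthogonal F.nondeg F.refl (F.img _), h0,
      LinearMap.BilinForm.orthogonal_bot]
    trivial
  obtain ⟨a, ha, ha0⟩ := Submodule.exists_mem_ne_zero_of_ne_bot h0
  obtain ⟨x, hx, rfl⟩ := F.sec.surj a
  have h1 : ∀ e ∈ E, Commute g e → Commute e x := fun e he c =>
    (F.hb e he x hx).1 (ha _ ((hm e he).2 c))
  obtain ⟨e₀, he₀, c₀⟩ : ∃ e₀ ∈ E, ¬ Commute e₀ x := by
    by_contra hh
    push Not at hh
    refine ha0 (F.nd fun y => ?_)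
    obtain ⟨e, he, rfl⟩ := F.sec.surj y
    exact (F.hb x hx e he).2 (hh e he).symm
  have h2 : ∀ e ∈ E, ¬ Commute g e → ∀ v : V, g • e • v = -(e • g • v) := fun e he c =>
    (F.comm_or he (hg _)).resolve_left c
  have h3 : ∀ {a b : G}, (∀ v : V, a • b • v = b • a • v) → Commute a b := fun {a b} e => by
    rw [← commutatorElement_eq_one_iff_commute]
    refine h.faith _ fun v => ?_
    rw [commutatorElement_def, mul_smul, mul_smul, mul_smul, e]
    simp
  have h4 := hUE (Str.mem_U hσ hTo h (g := x⁻¹ * g) fun e he => by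
    by_cases c : Commute g e
    · exact (h1 e he c).symm.inv_left.mul_left c
    have h5 := h1 _ (E.mul_mem he he₀) (h3 fun v => by
      rw [mul_smul, h2 e he c, h2 e₀ he₀ (fun c => c₀ (h1 e₀ he₀ c)), smul_neg, neg_neg, mul_smul])
    rw [h.comm_mul_iff he he₀ hx] at h5
    have h6 := (h.E_comm he hx).resolve_left fun c => c₀ (h5.1 c)
    refine h3 fun v => ?_
    rw [mul_smul, h2 e he c, mul_smul, inv_smul_eq_iff, neg_eq_iff_eq_neg, ← h6, smul_inv_smul])
  simpa using E.mul_mem hx h4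

variable [SMulCommClass G K V] [FiniteDimensional K V] (h2 : (2 : K) ≠ 0) {g : G}
  (hg : finrank K V < 2 * finrank K (eigS V g (1 : K)))
include F h2 hg

omit [Finite G] in
theorem Str.F2.big_alt (w : W) : F.b w (g • w) = 0 := by
  by_contra hh
  obtain ⟨e, he, rfl⟩ := F.sec.surj w
  have m := h.En.conj_mem e he g
  have h1 : (g * e * g⁻¹ * e⁻¹) ^ 2 ≠ 1 := by
    rw [Ne, ← F.hQ _ (E.mul_mem m (E.inv_mem he)), F.sec.mul _ m _ (E.inv_mem he), F.sec.inv he,
      F.sec.conj g e he, neg_eq_of_add_eq_zero_right (add_self2 (F.π e)), F.Q_add, F.Q_smul,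
      CharTwo.add_self_eq_zero, zero_add, F.symm]
    exact hh
  have h3 := (h.E_sq (E.mul_mem m (E.inv_mem he))).resolve_left h1
  have h4 := rk_move e (A := eigS V g (1 : K)) (B := eigS V (e * g * e⁻¹) 1)
    fun v hv => mem_eigP.2 (by rw [mul_smul, inv_smul_smul, mul_smul, mem_eigP.1 hv])
  have h5 := rk_add (A := eigS V g (1 : K)) (B := eigS V (e * g * e⁻¹) 1) le_top le_top (by
    rw [disjoint_iff, eq_bot_iff]
    intro v hv
    have h6 : (g * e * g⁻¹ * e⁻¹) • v = v := by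
      rw [show g * e * g⁻¹ * e⁻¹ = g * (e * g * e⁻¹)⁻¹ by group, mul_smul,
        inv_smul_eq_iff.2 (mem_eigP.1 hv.2).symm, mem_eigP.1 hv.1]
    have h7 := h3 v
    rw [h6, h6] at h7
    exact eq_zero_of_eq_neg h2 h7)
  rw [finrank_top] at h5
  omega

omit [Finite G] in
theorem Str.F2.big_good {e : G} (he : e ∈ E) (h1 : g • F.π e = F.π e) : Commute g e := by
  refine (F.comm_or he h1).resolve_right fun h3 => ?_
  have := rk_half h2 (g := g) (e := e) (S := (⊤ : Submodule K V)) (fun _ _ => trivial)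
    fun v _ e' => by rw [h3, e']
  rw [top_inf_eq, finrank_top] at this
  omega

omit [Finite G] in
theorem Str.F2.big_symm (w w' : W) : F.b w (g • w') = F.b w' (g • w) := by
  have := F.big_alt h2 hg (w + w')
  simp only [smul_add, map_add, LinearMap.add_apply, F.big_alt h2 hg, zero_add, add_zero] at this
  exact (CharTwo.add_eq_zero.1 this).symm

omit [Finite G] in
theorem Str.F2.big_sq (w : W) : g • g • w = w := by
  rw [← add_left_inj w, add_self2]
  refine F.nd fun y => ?_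
  rw [map_add, LinearMap.add_apply, F.symm, F.big_symm h2 hg, F.b_smul, CharTwo.add_self_eq_zero]

omit [Finite G] in
include hσ hTo hUE in
theorem Str.F2.big_ne (h1 : g ≠ 1) : ∃ w : W, g • w ≠ w := by
  by_contra hh
  push Not at hh
  have h3 := Str.mem_U hσ hTo h fun e he => F.big_good h2 hg he (hh _)
  have h4 := (h.E_pm (hUE h3) h3).resolve_left h1
  have : eigS V g (1 : K) = ⊥ := by
    rw [eq_bot_iff]
    exact fun v hv => eq_zero_of_eq_neg h2 ((mem_eigP.1 hv).symm.trans (h4 v))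
  rw [this, finrank_bot] at hg
  omega

omit [Finite G] in
theorem Str.F2.big_five {e₁ e₂ : W} (n₁ : g • e₁ + e₁ ≠ 0) (n₂ : g • e₂ + e₂ ≠ 0)
    (n : g • e₁ + e₁ ≠ g • e₂ + e₂) (o : F.b (g • e₁ + e₁) e₂ = 0) :
    8 * finrank K (eigS V g (1 : K)) ≤ 5 * finrank K V := by
  have nd : ∀ x ∈ (⊤ : Submodule (ZMod 2) W), x ≠ 0 → ∃ u ∈ (⊤ : Submodule (ZMod 2) W),
      F.b u x = 1 := by
    intro x _ hx
    by_contra hh
    push Not at hh
    exact hx (F.nd fun y => F.symm y x ▸ (zmod2_cases _).resolve_right (hh y trivial))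
  obtain ⟨c₁, -, k₁⟩ := nd _ trivial n₁
  obtain ⟨c₂, -, k₂, k₃⟩ := exists_sep2 nd trivial trivial n₂ n
  have fx : ∀ w : W, g • (g • w + w) = g • w + w := fun w => by
    rw [smul_add, F.big_sq h2 hg, add_comm]
  have al : ∀ w : W, F.b (g • w + w) w = 0 := fun w => by
    rw [map_add, LinearMap.add_apply, F.alt, F.symm, F.big_alt h2 hg, add_zero]
  have qq : ∀ w : W, F.Q (g • w + w) = 0 := fun w => by
    rw [F.Q_add, F.Q_smul, CharTwo.add_self_eq_zero, zero_add, F.symm, F.big_alt h2 hg]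
  have oo : F.b (g • e₁ + e₁) (g • e₂ + e₂) = 0 := by
    rw [map_add, ← fx e₁, F.b_smul, fx, CharTwo.add_self_eq_zero]
  obtain ⟨e₁, m₁, rfl⟩ := F.sec.surj e₁
  obtain ⟨e₂, m₂, rfl⟩ := F.sec.surj e₂
  obtain ⟨c₁, p₁, rfl⟩ := F.sec.surj c₁
  obtain ⟨c₂, p₂, rfl⟩ := F.sec.surj c₂
  have mf : ∀ e ∈ E, g * e * g⁻¹ * e⁻¹ ∈ E := fun e he =>
    E.mul_mem (h.En.conj_mem e he g) (E.inv_mem he)
  have pf : ∀ e ∈ E, g • F.π e + F.π e = F.π (g * e * g⁻¹ * e⁻¹) := fun e he => by
    rw [F.sec.mul _ (h.En.conj_mem e he g) _ (E.inv_mem he), F.sec.inv he,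
      F.sec.conj g e he, neg_eq_of_add_eq_zero_right (add_self2 (F.π e))]
  have f₁ := fx (F.π e₁)
  have f₂ := fx (F.π e₂)
  have a₁ := al (F.π e₁)
  have a₂ := al (F.π e₂)
  have q₁ := qq (F.π e₁)
  have q₂ := qq (F.π e₂)
  rw [F.symm] at k₁ k₂ k₃
  rw [pf e₁ m₁] at f₁ a₁ q₁ k₁ k₂ o oo
  rw [pf e₂ m₂] at f₂ a₂ q₂ k₃ oo
  exact rk_five h2 ((F.hQ _ (mf _ m₁)).1 q₁) ((F.hQ _ (mf _ m₂)).1 q₂)
    ((F.hb _ (mf _ m₁) _ (mf _ m₂)).1 oo) (F.big_good h2 hg (mf _ m₁) f₁)
    (F.big_good h2 hg (mf _ m₂) f₂) (e₁ := e₁) (e₂ := e₂) (by group) (by group)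
    ((F.hb _ (mf _ m₁) _ m₁).1 a₁) ((F.hb _ (mf _ m₁) _ m₂).1 o) ((F.hb _ (mf _ m₂) _ m₂).1 a₂)
    (F.anti (mf _ m₁) p₁ k₁) ((F.hb _ (mf _ m₁) _ p₂).1 k₂) (F.anti (mf _ m₂) p₂ k₃)

variable {X : Type*} [Group X] [Finite X] [Group.IsSolvable X] [DistribMulAction X W] {φ : G →* X}
  (hφ : ∀ (g : G) (w : W), φ g • w = g • w) (S : Sp X W F.b F.Q)
  (faith : ∀ g : X, (∀ w : W, g • w = w) → g = 1) (h3 : (3 : ℕ).Coprime (Nat.card X))

include hσ hTo hUE hφ S faith h3 in
theorem Str.F2.big_58 (h1 : g ≠ 1) : 8 * finrank K (eigS V g (1 : K)) ≤ 5 * finrank K V := by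
  have := F.sec.finite
  obtain ⟨e₁, n₁⟩ := F.big_ne hσ hTo hUE h2 hg h1
  have n₁' : g • e₁ + e₁ ≠ 0 := fun e => n₁ (by rw [← add_left_inj e₁, e, add_self2])
  by_contra hh
  have h4 : ∀ e, F.b (g • e₁ + e₁) e = 0 → g • e + e = 0 ∨ g • e + e = g • e₁ + e₁ := by
    intro e he
    by_contra h5
    push Not at h5
    exact hh (F.big_five h2 hg n₁' h5.1 h5.2.symm he)
  obtain ⟨e₂, k⟩ : ∃ e₂, F.b (g • e₁ + e₁) e₂ = 1 := by
    by_contra h5
    push Not at h5
    exact n₁' (F.nd fun y => (zmod2_cases _).resolve_right (h5 y))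
  have sy : ∀ w w' : W, F.b (g • w + w) w' = F.b (g • w' + w') w := fun w w' => by
    rw [map_add, map_add, LinearMap.add_apply, LinearMap.add_apply, F.symm (g • w),
      F.big_symm h2 hg, F.symm w (g • w'), F.symm w]
  have al : F.b (g • e₁ + e₁) e₁ = 0 := by
    rw [map_add, LinearMap.add_apply, F.alt, F.symm, F.big_alt h2 hg, add_zero]
  have qq : ∀ w : W, F.Q (g • w + w) = 0 := fun w => by
    rw [F.Q_add, F.Q_smul, CharTwo.add_self_eq_zero, zero_add, F.symm, F.big_alt h2 hg]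
  have k' := k
  rw [sy] at k'
  refine S.no_invol faith h3 (t := φ g) (fun e => n₁ (by rw [← hφ, e, one_smul]))
    (faith _ fun w => by rw [sq, mul_smul, hφ, hφ, F.big_sq h2 hg]) (fun w v o₁ o₂ => ?_) n₁'
    (a₂ := g • e₂ + e₂) (fun e => by simp [e] at k') (fun e => by rw [← e, al] at k'; exact zero_ne_one k')
    (qq _) (qq _) ?_
  · rw [hφ]
    rcases zmod2_cases (F.b (g • e₁ + e₁) v) with c | c
    · rcases h4 v c with e | e <;> rw [e]
      · simp
      · exact o₁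
    have h5 : g • v + v = g • (v + e₂) + (v + e₂) + (g • e₂ + e₂) := by
      rw [smul_add, add_add_add_comm (g • v), add_assoc (g • v + v), add_self2, add_zero]
    rw [h5, map_add, LinearMap.add_apply, o₂, add_zero]
    rcases h4 (v + e₂) (by rw [map_add, c, k]; rfl) with e | e <;> rw [e]
    · simp
    · exact o₁
  · rw [sy, smul_add, F.big_sq h2 hg, add_comm e₂, add_self2]
    simp

omit [Group.IsSolvable X] [Finite X] in
include hφ S in
theorem Str.F2.big_orth : 2 * finrank (ZMod 2) (F.b.orthogonal (fixS W {φ g})) ≤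
    finrank (ZMod 2) W := by
  have := F.sec.finite
  have h1 : F.b.orthogonal (fixS W {φ g}) ≤ fixS W {φ g} := by
    intro w hw
    rw [mem_fixS, hφ, ← add_left_inj w, add_self2]
    refine F.nd fun v => ?_
    have := hw (g • v + v) (mem_fixS.2 (by rw [hφ, smul_add, F.big_sq h2 hg, add_comm]))
    rw [map_add, LinearMap.add_apply, F.symm, F.big_symm h2 hg, F.symm w, F.symm w]
    rwa [map_add, LinearMap.add_apply] at this
  have h4 := Submodule.finrank_mono h1
  have h5 := Submodule.finrank_le (fixS W {φ g})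
  rw [LinearMap.BilinForm.finrank_orthogonal S.nondeg] at h4 ⊢
  omega

end Three

section Three'

variable {G : Type u} {V K : Type*} [Group G] [Finite G] [AddCommGroup V] [DistribMulAction G V]
  [Field K] [Module K V] {σ : G →* RingAut K} {U To E : Subgroup G} {h : Str G V K σ U To E}
  {W : Type*} [AddCommGroup W] [Module (ZMod 2) W] [DistribMulAction G W] (F : h.F2 W)

theorem Str.F2.card_big [Fintype G] (hσ : ∀ g, σ g = 1) (hTo : ∀ t ∈ To, t = 1) (hUE : U ≤ E)
    [SMulCommClass G K V] [FiniteDimensional K V] (h2 : (2 : K) ≠ 0) {X : Type*} [Group X]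
    [Finite X] [DistribMulAction X W] {φ : G →* X} (hφ : ∀ (g : G) (w : W), φ g • w = g • w)
    (S : Sp X W F.b F.Q) {k : ℕ} (hk : finrank (ZMod 2) W = k + k) (B : Finset G)
    (hB : ∀ g ∈ B, finrank K V < 2 * finrank K (eigS V g (1 : K))) :
    B.card ≤ 2 ^ k * Nat.card X := by
  classical
  have := F.sec.finite
  have := Fintype.ofFinite X
  rw [Nat.card_eq_fintype_card, ← Finset.card_univ]
  refine Finset.card_le_mul_card_image_of_maps_to (f := φ) (fun _ _ => Finset.mem_univ _) _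
    fun x _ => ?_
  rcases (B.filter fun a => φ a = x).eq_empty_or_nonempty with e | ⟨g₀, hg₀⟩
  · simp [e]
  rw [Finset.mem_filter] at hg₀
  have h1 : ∀ g ∈ B.filter fun a => φ a = x, g₀⁻¹ * g ∈ E := fun g hg =>
    F.mem_E hσ hTo hUE fun w => by
      rw [← hφ, map_mul, map_inv, (Finset.mem_filter.1 hg).2, hg₀.2, inv_mul_cancel, one_smul]
  have h3 := F.big_orth h2 (hB g₀ hg₀.1) hφ S
  rw [← Set.ncard_coe_finset]
  refine (Set.ncard_le_ncard_of_injOn (t := (F.b.orthogonal (fixS W {φ g₀}) : Set W))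
    (fun g => F.π (g₀⁻¹ * g)) (fun g hg w hw => ?_) fun g hg g' hg' e => ?_).trans ?_
  · obtain ⟨e, he, rfl⟩ := F.sec.surj w
    rw [mem_fixS] at hw
    have hg' := Finset.mem_filter.1 hg
    refine (F.hb e he _ (h1 g hg)).2 (Commute.symm (Commute.mul_left (Commute.inv_left ?_) ?_))
    · exact F.big_good h2 (hB g₀ hg₀.1) he (hφ _ _ ▸ hw)
    · exact F.big_good h2 (hB g hg'.1) he (by rw [← hφ, hg'.2, ← hg₀.2, hw])
  · rcases F.pm (h1 g hg) (h1 g' hg') e with e' | e'
    · exact (mul_left_cancel e').symm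
    have h4 := hB g (Finset.mem_filter.1 hg).1
    have h5 := hB g' (Finset.mem_filter.1 hg').1
    have h6 := rk_add (A := eigS V g (1 : K)) (B := eigS V g' 1) le_top le_top (by
      rw [disjoint_iff, eq_bot_iff]
      intro v hv
      have h7 := e' v
      rw [mul_smul, mul_smul, mem_eigP.1 hv.1, mem_eigP.1 hv.2] at h7
      exact (smul_eq_zero_iff_eq _).1 (eq_zero_of_eq_neg h2 h7))
    rw [finrank_top] at h6
    omega
  · rw [card_z2]
    exact Nat.pow_le_pow_right (by norm_num) (by omega)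

theorem Str.F2.base2_small [Finite K] [Nontrivial V] (hσ : ∀ g, σ g = 1) (h2 : (2 : K) ≠ 0)
    (h3 : (3 : ℕ).Coprime (Nat.card G))
    (hp : ∀ a₁ a₂ : W, a₁ ≠ 0 → a₂ ≠ 0 → a₁ ≠ a₂ → F.Q a₁ = 0 → F.Q a₂ = 0 → F.b a₁ a₂ ≠ 0) :
    ∃ v : Fin 2 → V, IsBase G v := by
  have key : ∀ u₀, h.IsMax u₀ → h.Col u₀ E (Fin 1) := by
    intro u₀ hm N _ _ _ π p
    obtain ⟨a, ha⟩ : ∃ a : W, ∀ d ∈ h.Dg u₀, d ∈ E → F.π d = 0 ∨ F.π d = a := by
      by_contra hh
      push Not at hh
      obtain ⟨d, hd, hdE, n₁, -⟩ := hh 0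
      obtain ⟨d', hd', hdE', n₂, n⟩ := hh (F.π d)
      have hq : ∀ d ∈ h.Dg u₀, d ∈ E → F.Q (F.π d) = 0 := fun d hd hdE =>
        (F.hQ d hdE).2 (h.U_fix (h.sqE d hdE) hm.1 (by
          rw [sq, mul_smul, h.D_fix hm.1 hd hdE, h.D_fix hm.1 hd hdE]))
      exact hp _ _ n₁ n₂ n.symm (hq d hd hdE) (hq d' hd' hdE') (F.b_eig h2 hdE hdE' hm.1
        (a := 1) (c := 1) (by rw [h.D_fix hm.1 hd hdE, one_smul])
        (by rw [h.D_fix hm.1 hd' hdE', one_smul]))
    choose r hr hr' using p.surj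
    refine hasCol_of_card ((Nat.card_le_card_of_injective (fun n => F.b a (F.π (r n)))
      fun n n' e => ?_).trans (Nat.card_zmod 2).le)
    have m := E.mul_mem (E.inv_mem (hr n)) (hr n')
    rw [← hr' n, ← hr' n', p.eq_iff (hr n) (hr n')]
    refine ⟨h.mem_C_of_E m fun d hd hdE => (F.hb d hdE _ m).1 ?_, m⟩
    rcases ha d hd hdE with e' | e' <;> rw [e']
    · simp
    · rw [F.sec.mul _ (E.inv_mem (hr n)) _ (hr n'), F.sec.inv (hr n), map_add, map_neg]
      exact neg_add_eq_zero.2 e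
  obtain ⟨u₀, hm⟩ := h.exists_isMax
  rcases hm.cases with hp | ⟨u₁, c, c', α, β, q⟩
  · exact hm.base2_plus (fun e => absurd e h2) hp (fun _ => 1) (fun _ => one_ne_zero)
      (fun _ _ _ => Subsingleton.elim _ _) (key u₀ hm)
  have hc := h.C_V (Subgroup.mem_sup_right q.cE) q.cC (self_mem_V0 _ _)
  refine q.max.base2 (fun e => absurd e h2) (c • u₁) hc (K ∙ u₁)
    (Submodule.span_le (p := h.Vs u₁).2 (by rintro _ rfl; exact self_mem_V0 _ _))
    (Submodule.mem_span_singleton_self _) (fun g hg hy => ⟨hσ g, q.fixA hg (hσ g) hy,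
      fun w hw => ?_⟩) (fun _ => u₁) (fun _ => Submodule.mem_span_singleton_self _)
    (fun _ => q.max.1) (fun _ _ _ _ _ _ => Subsingleton.elim _ _) (key u₁ q.max)
  obtain ⟨a, rfl⟩ := Submodule.mem_span_singleton.1 hw
  rw [h.lin (hσ g), hg]

end Three'

theorem card_le_of_base {X W : Type*} [Group X] [Finite X] [AddCommGroup W] [Finite W]
    [Nontrivial W] [DistribMulAction X W] (faith : ∀ g : X, (∀ w : W, g • w = w) → g = 1)
    (h3 : (3 : ℕ).Coprime (Nat.card X)) {v : Fin 2 → W} (hv : IsBase X v) :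
    3 * Nat.card X ≤ Nat.card W ^ 2 := by
  obtain ⟨w, h1, h2⟩ := three_orbits h3 v hv
  have := Nat.card_le_card_of_injective (fun p : Fin 3 × X => fun i => p.2 • w p.1 i) (by
    rintro ⟨a, x⟩ ⟨b, y⟩ e
    have h4 : ∀ i, (y⁻¹ * x) • w a i = w b i := fun i => by
      rw [mul_smul, inv_smul_eq_iff]
      exact congrFun e i
    obtain rfl := h2 a b _ h4
    rw [inv_mul_eq_one.1 (faith _ (h1 a _ h4))])
  simpa [Nat.card_fun] using this

theorem Str.base2_three {G V : Type u} {K : Type*} [Group G] [Finite G] [Group.IsSolvable G]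
    [AddCommGroup V] [Finite V] [Nontrivial V] [DistribMulAction G V] [Field K] [Finite K]
    [Module K V] {σ : G →* RingAut K} {U To E : Subgroup G} (h : Str G V K σ U To E)
    (h3 : (3 : ℕ).Coprime (Nat.card G)) (hq : Nat.card K = 3)
    (IH : ∀ (G' V' : Type u) [Group G'] [Finite G'] [AddCommGroup V'] [Finite V']
      [DistribMulAction G' V'], Nat.card V' < Nat.card V →
        Group.IsSolvable G' ∧ (3 : ℕ).Coprime (Nat.card G') → CR G' V' →
          ∃ v : Fin 2 → V', IsBase G' v) : ∃ v : Fin 2 → V, IsBase G v := by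
  classical
  by_cases hE : E ≤ U
  · exact h.base2_le hE fun _ => Or.inr h3
  have h2 := h.two_ne hE
  have := Fintype.ofFinite K
  have := Fintype.ofFinite G
  have hK : ∀ a : K, a ≠ 0 → a ^ 2 = 1 := fun a ha => by
    have := FiniteField.pow_card_sub_one_eq_one a ha
    rwa [← Nat.card_eq_fintype_card, hq] at this
  have hσ : ∀ g, σ g = 1 := fun g => ringAut_eq_one (by rw [hq]; norm_num) _
  have hTo : ∀ t ∈ To, t = 1 := fun t ht => h.To_eq (fun a ha => by
    rw [show 4 = 2 * 2 by rfl, pow_mul, hK a ha, one_pow]) ht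
  obtain ⟨z, hz, -, -, hz'⟩ := h.exists_z hE
  have hU : ∀ u ∈ U, u = 1 ∨ u = z := by
    intro u hu
    obtain ⟨c, hc⟩ := h.Usc u hu
    obtain ⟨v, hv⟩ := exists_ne (0 : V)
    rcases sq_eq_one_iff.1 (hK c fun e => hv (by
      rw [← smul_eq_zero_iff_eq u, hc, e, zero_smul])) with rfl | rfl
    · exact Or.inl (h.faith _ fun v => by rw [hc, one_smul])
    · exact Or.inr (inv_mul_eq_one.1 (h.faith _ fun v => by
        rw [mul_smul, inv_smul_eq_iff, hc, hz', neg_one_smul])).symm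
  have hUE : U ≤ E := fun u hu => by rcases hU u hu with rfl | rfl; exacts [E.one_mem, hz]
  have : SMulCommClass G K V := ⟨fun g c v => h.lin (hσ g) c v⟩
  obtain ⟨W, _, _, _, ⟨F⟩⟩ := h.exists_F2
  have := F.sec.finite
  let f := DistribMulAction.toModuleAut ℤ W (S := G)
  have hs := f.rangeRestrict_surjective
  have : Finite f.range := Finite.of_surjective _ hs
  have := solvable_of_surjective hs
  have hφ : ∀ (g : G) (w : W), f.rangeRestrict g • w = g • w := fun _ _ => rfl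
  have S := F.sp hUE f.rangeRestrict hs hφ
  have faith : ∀ g : f.range, (∀ w : W, g • w = w) → g = 1 := fun g hg =>
    Subtype.ext (LinearEquiv.ext hg)
  have h3' := h3.of_dvd_right (Subgroup.card_dvd_of_surjective _ hs)
  have : Nontrivial W := by
    obtain ⟨e, he, he'⟩ := SetLike.not_le_iff_exists.1 hE
    exact ⟨⟨F.π e, 0, fun e' => he' ((F.sec.ker e he).1 e').1⟩⟩
  obtain ⟨k, hk⟩ := H27.even_finrank_of_alt F.nondeg F.alt
  have h4 := S.four_le_top faith h3'
  by_cases h5 : k = 2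
  · exact F.base2_small hσ h2 h3 fun a₁ a₂ n₁ n₂ n q₁ q₂ o =>
      S.no_pair_top faith h3' (by omega) n₁ n₂ n q₁ q₂ o
  have cW : Nat.card W = 2 ^ (k + k) := by
    rw [Module.natCard_eq_pow_finrank (K := ZMod 2), Nat.card_zmod, hk]
  have cV : Nat.card V = 3 ^ finrank K V := by rw [Module.natCard_eq_pow_finrank (K := K), hq]
  have cE := F.sec.card
  rw [inf_assoc, inf_idem] at cE
  have h6 := H61.index_le_finrank_sq (D := K) h.faith E (fun g _ => h.lin (hσ g))
    fun x hx y hy => h.Usc _ (h.commE y hy x hx)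
  have h7 : ((Subgroup.centralizer (E : Set G)).subgroupOf E).index = Nat.card W := by
    have h8 : (Subgroup.centralizer (E : Set G)).subgroupOf E = (U ⊓ E).subgroupOf E := by
      ext e
      simp only [Subgroup.mem_subgroupOf, Subgroup.mem_inf, e.2, and_true]
      exact ⟨fun c => h.Z_E e e.2 fun s hs => (Subgroup.mem_centralizer_iff.1 c s hs).symm,
        fun c => Subgroup.mem_centralizer_iff.2 fun s _ => (h.comm_U (hσ s) c).symm⟩
    have h9 := ((U ⊓ E).subgroupOf E).index_mul_card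
    rw [cE, Nat.card_congr (Subgroup.subgroupOfEquivOfLe inf_le_right).toEquiv] at h9
    rw [h8, Nat.eq_of_mul_eq_mul_right Nat.card_pos h9]
  rw [h7] at h6
  obtain ⟨v, hv⟩ := IH f.range W (cV ▸ h6.trans_lt (sq_lt_three_pow _)) ⟨inferInstance, h3'⟩ S.cr
  have h8 := card_le_of_base faith h3' hv
  have h9 : Nat.card G ≤ Nat.card f.range * (2 ^ (k + k) * 2) := by
    rw [← f.ker.index_mul_card, Subgroup.index_ker]
    refine Nat.mul_le_mul_left _ ((Subgroup.card_le_of_le (K := E) fun g hg =>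
      F.mem_E hσ hTo hUE fun w => LinearEquiv.congr_fun (MonoidHom.mem_ker.1 hg) w).trans ?_)
    rw [cE, cW]
    refine Nat.mul_le_mul_left _ ((Set.ncard_le_ncard (t := {1, z})
      fun u hu => hU u hu.1).trans ((Set.ncard_insert_le _ _).trans (by simp)))
  have h10 : 2 ^ k ≤ finrank K V := by
    rw [cW, pow_add, ← sq] at h6
    exact (Nat.pow_le_pow_iff_left two_ne_zero).1 h6
  have h11 : 2 ^ k = 4 * 2 ^ (k - 2) := by
    rw [show k = k - 2 + 2 by omega, pow_add]
    simp [mul_comm]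
  have hN : ∀ g : G, {v : V | g • v = v}.ncard ^ 2 = 3 ^ (2 * finrank K (eigS V g (1 : K))) := by
    intro g
    rw [pow_mul', ← hq, ← Module.natCard_eq_pow_finrank, ← Nat.card_coe_set_eq]
    simp only [← mem_eigP (K := K)]
    rfl
  let B := Finset.univ.filter fun g : G =>
    g ≠ 1 ∧ finrank K V < 2 * finrank K (eigS V g (1 : K))
  have h12 := F.card_big hσ hTo hUE h2 hφ S hk B fun g hg => (Finset.mem_filter.1 hg).2.2
  refine base_of_count B (3 ^ (2 * finrank K V - 3 * 2 ^ (k - 2))) (fun g h1 hg => ?_)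
    (fun g hg => ?_) ?_
  · rw [hN, cV]
    exact Nat.pow_le_pow_right (by norm_num) (not_lt.1 fun e => hg (by simp [B, h1, e]))
  · rw [hN]
    have hg := (Finset.mem_filter.1 hg).2
    have := F.big_58 hσ hTo hUE h2 hg.2 hφ S faith h3' hg.1
    exact Nat.pow_le_pow_right (by norm_num) (by omega)
  rw [cV]
  refine lt_of_le_of_lt (add_le_add (Nat.mul_le_mul_right _ h9) (Nat.mul_le_mul_right _ h12))
    (num_aux h10 (by omega) (num_main (by omega) (cW ▸ h8) fun e => ?_))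
  exact S.card_le faith h3' (by omega)

theorem three_u (G V : Type u) [Group G] [Finite G] [AddCommGroup V] [Finite V]
    [DistribMulAction G V] (hG : Group.IsSolvable G ∧ (3 : ℕ).Coprime (Nat.card G))
    (hcr : CR G V) : ∃ v : Fin 2 → V, IsBase G v := by
  refine induct (fun G _ _ _ => Group.IsSolvable G ∧ (3 : ℕ).Coprime (Nat.card G))
    (fun _ _ _ _ h H _ => ⟨have := h.1; inferInstance, h.2.of_dvd_right H.card_subgroup_dvd_card⟩)
    (fun _ _ _ _ h _ => h)
    (fun _ _ _ _ _ h _ _ f hf => ⟨have := h.1; solvable_of_surjective hf,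
      h.2.of_dvd_right (Subgroup.card_dvd_of_surjective f hf)⟩)
    (fun _ _ _ _ _ h => h.1) (fun G V _ _ _ _ _ _ hf hp hs IH => ?_)
    (fun G V Ω N _ _ _ _ _ _ _ _ hs A hlt IH => ?_) G V hG hcr
  · have := hs.1
    obtain ⟨K, _, _, _, σ, U, To, E, h⟩ := exists_str hf hp
    by_cases hq : Nat.card K = 3
    · exact h.base2_three hs.2 hq IH
    · exact h.base2_big (fun _ => Or.inr hs.2) (fun _ => hs.2) hq
  · have : Finite N := Finite.of_equiv _ A.e
    obtain ⟨v, hv⟩ := IH G N (A.card_eq ▸ hlt) hs A.irr.cr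
    obtain ⟨col, hcol⟩ := A.col3 hs.2 hv
    exact ⟨_, col, hcol, fun H W _ _ _ _ _ _ hH _ v hv => three_orbits hH.2 v hv⟩

/-- Two vectors for solvable groups of order prime to three. -/
theorem three_base {G V : Type*} [Group G] [Finite G] [AddCommGroup V] [Finite V]
    [DistribMulAction G V] (hG : Group.IsSolvable G) (h3 : (3 : ℕ).Coprime (Nat.card G))
    (hcr : CR G V) : ∃ v : Fin 2 → V, IsBase G v :=
  base_univ hcr fun G' _ _ _ f hf h => three_u G' V ⟨solvable_of_surjective hf,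
    h3.of_dvd_right (Subgroup.card_dvd_of_surjective f hf)⟩ h

theorem big_u {p : ℕ} (hp : p.Prime) (h5 : 5 ≤ p) (G V : Type u) [Group G] [Finite G]
    [AddCommGroup V] [Finite V] [DistribMulAction G V]
    (hG : Group.IsSolvable G ∧ p.Coprime (Nat.card G) ∧ ∀ v : V, p • v = 0)
    (hcr : CR G V) : ∃ v : Fin 2 → V, IsBase G v := by
  refine induct (fun G V _ _ => Group.IsSolvable G ∧ p.Coprime (Nat.card G) ∧ ∀ v : V, p • v = 0)
    (fun _ _ _ _ h H _ => ⟨have := h.1; inferInstance,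
      h.2.1.of_dvd_right H.card_subgroup_dvd_card, fun v => Subtype.ext (h.2.2 v)⟩)
    (fun _ _ _ _ h _ => ⟨h.1, h.2.1, fun v => Subtype.ext (h.2.2 v)⟩)
    (fun _ _ _ _ _ h _ _ f hf => ⟨have := h.1; solvable_of_surjective hf,
      h.2.1.of_dvd_right (Subgroup.card_dvd_of_surjective f hf), h.2.2⟩)
    (fun _ _ _ _ _ h => h.1) (fun G V _ _ _ _ _ _ hf hq hs IH => ?_)
    (fun G V Ω N _ _ _ _ _ _ _ _ hs A hlt IH => ?_) G V hG hcr
  · have := hs.1
    obtain ⟨K, _, _, _, σ, U, To, E, h⟩ := exists_str hf hq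
    obtain ⟨v, hv⟩ := exists_ne (0 : V)
    have h1 : (p : K) = 0 := (smul_eq_zero.1 ((Nat.cast_smul_eq_nsmul K p v).trans
      (hs.2.2 v))).resolve_right hv
    have h2 : ∀ q : ℕ, q.Prime → q < 5 → (q : K) ≠ 0 := fun q hq h3 h4 => by
      have := CharP.charP_iff_prime_eq_zero (R := K) hp |>.2 h1
      have := (Nat.prime_dvd_prime_iff_eq hp hq).1 ((CharP.cast_eq_zero_iff K p q).1 h4)
      omega
    have h3 := h2 3 Nat.prime_three (by norm_num)
    refine h.base2_big (fun e => absurd e (h2 2 Nat.prime_two (by norm_num)))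
      (fun e => absurd e h3) fun e => h3 ?_
    have := Fintype.ofFinite K
    rw [← e, Nat.card_eq_fintype_card, FiniteField.cast_card_eq_zero]
  · have : Finite N := Finite.of_equiv _ A.e
    obtain ⟨v, hv⟩ := seress hs.1 A.irr.cr
    obtain ⟨col, hcol⟩ := A.col5 hv
    exact ⟨_, col, hcol, fun H W _ _ _ _ _ _ hH _ v hv => prime_orbits hp h5 hH.2.2 hH.2.1 v hv⟩

/-- Two vectors for coprime solvable groups acting on an elementary abelian group. -/
theorem coprime_base {G V : Type*} [Group G] [Finite G] [AddCommGroup V] [Finite V]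
    [DistribMulAction G V] (hG : Group.IsSolvable G) {p : ℕ} (hp : p.Prime)
    (hc : p.Coprime (Nat.card G)) (hV : ∀ v : V, p • v = 0) (hcr : CR G V) :
    ∃ v : Fin 2 → V, IsBase G v := by
  by_cases h2 : p = 2
  · exact odd_base (Nat.coprime_two_left.1 (h2 ▸ hc)) hcr
  by_cases h3 : p = 3
  · exact three_base hG (h3 ▸ hc) hcr
  exact base_univ hcr fun G' _ _ _ f hf h => big_u hp (hp.five_le_of_ne_two_of_ne_three h2 h3)
    G' V ⟨solvable_of_surjective hf, hc.of_dvd_right (Subgroup.card_dvd_of_surjective f hf), hV⟩ h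

end Cfsg.Agent.H12.RO
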