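import Cfsg.Agent.H12.RO14
import Cfsg.Agent.H98.Marks
import Cfsg.Agent.H4.CoprimeAction
import Cfsg.Agent.H3.Frattini
import Cfsg.Agent.H2.Hall

/-!
Bases of linear groups, part 15: coprime actions of solvable groups.
-/

set_option autoImplicit false

namespace Cfsg.Agent.H12.RO

open MulAction Subgroup
open scoped commutatorElement Pointwise

universe u

theorem cr_of_coprime {G V : Type*} [Group G] [Finite G] [AddCommGroup V] [DistribMulAction G V]
    {p : ℕ} (hp : p.Prime) (hc : p.Coprime (Nat.card G)) (hV : ∀ v : V, p • v = 0) : CR G V := by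
  intro U hU
  have := Fact.mk hp
  have := Fintype.ofFinite G
  let _ : Module (ZMod p) V := AddCommGroup.zmodModule hV
  obtain ⟨W, hW⟩ := (AddSubgroup.toZModSubmodule p U).exists_isCompl
  let q : V →+ V := (Submodule.projection _ _ hW).toAddMonoidHom
  have q1 : ∀ v, q v ∈ U := fun v => Submodule.projection_apply_mem hW v
  have q2 : ∀ v ∈ U, q v = v := fun v hv => Submodule.projection_apply_of_mem_left hW hv
  let φ : V →+ V := AddMonoidHom.mk' (fun v => ∑ g : G, g • q (g⁻¹ • v)) fun a b => by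
    simp [Finset.sum_add_distrib]
  have f1 : ∀ v, φ v ∈ U := fun v => U.sum_mem fun g _ => hU g _ (q1 _)
  have f2 : ∀ v ∈ U, φ v = (Nat.card G : ZMod p) • v := fun v hv => by
    change ∑ g : G, g • q (g⁻¹ • v) = _
    rw [Finset.sum_congr rfl (g := fun _ => v) fun g _ => by rw [q2 _ (hU _ _ hv), smul_inv_smul],
      Finset.sum_const, Finset.card_univ, Nat.cast_smul_eq_nsmul, Nat.card_eq_fintype_card]
  have f3 : ∀ (g : G) v, φ (g • v) = g • φ v := fun g v => by
    change ∑ x : G, x • q (x⁻¹ • g • v) = g • ∑ x : G, x • q (x⁻¹ • v)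
    rw [Finset.smul_sum]
    exact (Fintype.sum_equiv (Equiv.mulLeft g) _ _ fun x => by simp [mul_smul]).symm
  have h0 : (Nat.card G : ZMod p) ≠ 0 := fun e =>
    hp.coprime_iff_not_dvd.1 hc ((ZMod.natCast_eq_zero_iff _ _).1 e)
  refine ⟨φ.ker, fun g v hv => ?_, ?_, ?_⟩
  · rw [AddMonoidHom.mem_ker] at hv ⊢
    rw [f3, hv, smul_zero]
  · rw [eq_bot_iff]
    intro v hv
    have h1 : (Nat.card G : ZMod p) • v = 0 := (f2 v hv.1).symm.trans hv.2
    rw [AddSubgroup.mem_bot, ← one_smul (ZMod p) v, ← inv_mul_cancel₀ h0, mul_smul, h1, smul_zero]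
  · rw [eq_top_iff]
    intro v _
    have h1 : (Nat.card G : ZMod p)⁻¹ • φ v ∈ U :=
      (AddSubgroup.toZModSubmodule p U).smul_mem _ (f1 v)
    refine AddSubgroup.mem_sup.2 ⟨_, h1, v - _, ?_, add_sub_cancel _ _⟩
    rw [AddMonoidHom.mem_ker, map_sub, f2 _ h1, smul_smul, mul_inv_cancel₀ h0, one_smul, sub_self]

/-- Two vectors for a coprime solvable group acting on an elementary abelian group. -/
theorem coprime_base' {G V : Type*} [Group G] [Finite G] [AddCommGroup V] [Finite V]
    [DistribMulAction G V] (hG : Group.IsSolvable G) {p : ℕ} (hp : p.Prime)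
    (hc : p.Coprime (Nat.card G)) (hV : ∀ v : V, p • v = 0) : ∃ v : Fin 2 → V, IsBase G v :=
  coprime_base hG hp hc hV (cr_of_coprime hp hc hV)

variable {G : Type u} [Group G] [Finite G]

theorem good_p {A P : Subgroup G} (hA : Group.IsSolvable A) (hn : A ≤ normalizer (P : Set G))
    {p : ℕ} (hp : p.Prime) (hP : IsPGroup p P) (hc : p.Coprime (Nat.card A)) :
    ∃ x ∈ P, ∃ y ∈ P, ∀ a ∈ A, Commute a x → Commute a y → ∀ k ∈ P, Commute a k := by
  have := Fact.mk hp
  obtain ⟨N, _, _, π, hπ⟩ := exists_secH A ((frattini P).map P.subtype) P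
    (fun a ha b hb => H3.commutator_le_map_frattini hP (commutator_mem_commutator ha hb))
    (map_subtype_le _) (fun g hg a => (mem_normalizer_iff.1
      (H4.normalizer_le_normalizer_map_characteristic _ (hn hg)) a).1)
    fun g hg a => (mem_normalizer_iff.1 (hn hg) a).1
  have := hπ.finite
  obtain ⟨v, hv⟩ := coprime_base' (V := N) hA hp hc fun n => by
    obtain ⟨a, ha, rfl⟩ := hπ.surj n
    rw [← hπ.pow ha, hπ.ker _ (P.pow_mem ha p)]
    exact H3.pow_mem_map_frattini hP ha
  obtain ⟨x, hx, ex⟩ := hπ.surj (v 0)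
  obtain ⟨y, hy, ey⟩ := hπ.surj (v 1)
  refine ⟨x, hx, y, hy, fun a ha h1 h2 k hk => ?_⟩
  have h3 : ∀ z ∈ P, Commute a z → (⟨a, ha⟩ : A) • π z = π z := fun z hz c => by
    rw [← hπ.conj _ z hz, c.eq, mul_inv_cancel_right]
  have h4 := hv ⟨a, ha⟩ fun i => by
    fin_cases i
    exacts [ex ▸ h3 x hx h1, ey ▸ h3 y hy h2]
  have h5 : zpowers a ≤ A := zpowers_le.2 ha
  have h6 : (Nat.card (zpowers a)).Coprime (Nat.card (frattini P)) := by
    obtain ⟨n, hn⟩ := (hP.to_subgroup (frattini P)).exists_card_eq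
    rw [hn]
    exact (hc.symm.of_dvd_left (card_dvd_of_le h5)).pow_right n
  refine H4.le_centralizer_of_commutator_le_frattini (h5.trans hn) h6
    (commutator_le.2 fun z hz b hb => ?_) hk a (mem_zpowers a)
  obtain ⟨n, rfl⟩ := mem_zpowers_iff.1 hb
  have h7 : ∀ w : N, (⟨a ^ n, h5 hb⟩ : A) • w = w := fun w =>
    (stabilizer A w).zpow_mem (x := ⟨a, ha⟩) (h4 w) n
  have h8 : a ^ n * z⁻¹ * (a ^ n)⁻¹ ∈ P := (mem_normalizer_iff.1 (hn (h5 hb)) _).1 (P.inv_mem hz)
  have h9 := hπ.conj ⟨a ^ n, h5 hb⟩ z⁻¹ (P.inv_mem hz)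
  rw [h7] at h9
  have := (hπ.eq_iff (P.inv_mem hz) h8).1 h9.symm
  simpa [commutatorElement_def, mul_assoc] using this

/-- The conjugation action of a subgroup of the normalizer. -/
abbrev cjAct {A K : Subgroup G} (hn : A ≤ normalizer (K : Set G)) : MulAction A K :=
  MulAction.compHom K (inclusion hn)

omit [Finite G] in
theorem mark_cj {A K : Subgroup G} (hn : A ≤ normalizer (K : Set G)) (B : Subgroup A) :
    @H98.mark A _ B K (cjAct hn) =
      Nat.card (K ⊓ centralizer (B.map A.subtype : Set G) : Subgroup G) := by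
  rw [H98.mark, ← Set.ncard_image_of_injective _ Subtype.val_injective]
  refine (congrArg Set.ncard ?_).trans (Nat.card_coe_set_eq _).symm
  ext x
  constructor
  · rintro ⟨x, hx, rfl⟩
    refine ⟨x.2, ?_⟩
    rintro _ ⟨b, hb, rfl⟩
    exact mul_inv_eq_iff_eq_mul.1 (congrArg Subtype.val (hx b hb))
  · rintro ⟨h1, h2⟩
    exact ⟨⟨x, h1⟩, fun b hb => Subtype.ext (mul_inv_eq_iff_eq_mul.2 (h2 b ⟨b, hb, rfl⟩)), rfl⟩

theorem card_sylow_inf {B K : Subgroup G} (hB : Group.IsSolvable B)
    (hn : B ≤ normalizer (K : Set G)) (hc : (Nat.card B).Coprime (Nat.card K)) {p : ℕ}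
    [Fact p.Prime] (P : Sylow p K) (hP : B ≤ normalizer ((P : Subgroup K).map K.subtype : Set G)) :
    Nat.card ((P : Subgroup K).map K.subtype ⊓ centralizer (B : Set G) : Subgroup G) =
      p ^ (Nat.card (K ⊓ centralizer (B : Set G) : Subgroup G)).factorization p := by
  set C : Subgroup G := K ⊓ centralizer (B : Set G)
  obtain ⟨S⟩ : Nonempty (Sylow p C) := inferInstance
  have hS : (S : Subgroup C).map C.subtype ≤ C := map_subtype_le _
  apply Nat.dvd_antisymm
  · obtain ⟨n, hn⟩ := ((P.isPGroup'.map K.subtype).to_inf_left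
      (K := centralizer (B : Set G))).exists_card_eq
    rw [hn]
    refine pow_dvd_pow _ (((Fact.out : p.Prime).pow_dvd_iff_le_factorization
      Nat.card_pos.ne').1 (hn ▸ card_dvd_of_le (inf_le_inf_right _ (map_subtype_le _))))
  · obtain ⟨Q, h1, h2⟩ := H4.exists_invariant_sylow_ge hn hc (Or.inl hB) (hS.trans inf_le_left)
      (S.isPGroup'.map C.subtype) ((le_centralizer_iff.1 (hS.trans inf_le_right)).trans
        (centralizer_le_normalizer _))
    obtain ⟨c, h3, rfl⟩ := H4.invariant_sylow_conj hn hc (Or.inl hB) Q P h2 hP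
    rw [← S.card_eq_multiplicity, ← card_map_of_injective (f := C.subtype) C.subtype_injective,
      ← card_map_of_injective (f := (MulAut.conj (c : G)).toMonoidHom) (MulAut.conj _).injective]
    refine card_dvd_of_le ?_
    rintro _ ⟨x, hx, rfl⟩
    obtain ⟨y, hy, rfl⟩ := h1 hx
    exact ⟨⟨c * y * c⁻¹, ⟨y, hy, rfl⟩, rfl⟩,
      Subgroup.mul_mem _ (Subgroup.mul_mem _ h3 (hS hx).2) (Subgroup.inv_mem _ h3)⟩

/-- Two elements for a coprime solvable group of automorphisms. -/
theorem good {A K : Subgroup G} (hA : Group.IsSolvable A) (hn : A ≤ normalizer (K : Set G))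
    (hc : (Nat.card A).Coprime (Nat.card K)) :
    ∃ x ∈ K, ∃ y ∈ K, ∀ a ∈ A, Commute a x → Commute a y → ∀ k ∈ K, Commute a k := by
  have hp : ∀ p : (Nat.card K).primeFactors, p.1.Prime := fun p => Nat.prime_of_mem_primeFactors p.2
  have (p : (Nat.card K).primeFactors) := Fact.mk (hp p)
  choose P hP using fun p : (Nat.card K).primeFactors =>
    H4.exists_invariant_sylow hn hc (Or.inl hA) p.1
  choose x hx y hy hxy using fun p : (Nat.card K).primeFactors =>
    good_p hA (hP p) (hp p) ((P p).isPGroup'.map K.subtype)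
      (hc.symm.of_dvd_left (Nat.dvd_of_mem_primeFactors p.2))
  let _ := cjAct hn
  let _ := fun p => cjAct (hP p)
  obtain ⟨e, he⟩ := H98.exists_equiv_of_marks (Γ := A) (X := K)
    (Y := ∀ p, (P p : Subgroup K).map K.subtype) fun B => by
      have h1 : B.map A.subtype ≤ A := map_subtype_le _
      have h2 : H98.mark B (∀ p, (P p : Subgroup K).map K.subtype) =
          ∏ p, H98.mark B ((P p : Subgroup K).map K.subtype) := by
        simp only [H98.mark, ← Nat.card_coe_set_eq]
        rw [← Nat.card_pi]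
        refine Nat.card_congr ((Equiv.subtypeEquivRight fun f => ?_).trans
          Equiv.subtypePiEquivPi)
        exact ⟨fun h p b hb => congrFun (h b hb) p, fun h b hb => funext fun p => h p b hb⟩
      rw [h2, mark_cj hn, Finset.prod_congr rfl fun p _ => (mark_cj (hP p) B).trans
        (card_sylow_inf (solvable_of_solvable_injective (inclusion_injective h1)) (h1.trans hn)
          (hc.of_dvd_left (card_dvd_of_le h1)) (P p) (h1.trans (hP p)))]
      rw [Finset.prod_coe_sort (f := fun p => p ^ (Nat.card (K ⊓ centralizer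
        (B.map A.subtype : Set G) : Subgroup G)).factorization p),
        ← Finsupp.prod_of_support_subset _ (Nat.primeFactors_mono (card_dvd_of_le inf_le_left)
          Nat.card_pos.ne') _ fun _ _ => pow_zero _,
        Nat.factorization_prod_pow_eq_self Nat.card_pos.ne']
  have h3 : ∀ (a : A) (k : K), a • k = k ↔ Commute (a : G) k := fun a k =>
    Subtype.ext_iff.trans mul_inv_eq_iff_eq_mul
  have h4 : ∀ (a : A) p (k : (P p : Subgroup K).map K.subtype), a • k = k ↔ Commute (a : G) k :=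
    fun a p k => Subtype.ext_iff.trans mul_inv_eq_iff_eq_mul
  have h5 : ∀ (a : A) f, Commute (a : G) (e.symm f) → a • f = f := fun a f h => by
    rw [← e.apply_symm_apply f, ← he, (h3 a _).2 h]
  refine ⟨_, (e.symm fun p => ⟨x p, hx p⟩).2, _, (e.symm fun p => ⟨y p, hy p⟩).2,
    fun a ha h1 h2 k hk => (h3 ⟨a, ha⟩ ⟨k, hk⟩).1 (e.injective ?_)⟩
  rw [he]
  funext p
  exact (h4 _ p _).2 (hxy p a ha ((h4 _ p _).1 (congrFun (h5 ⟨a, ha⟩ _ h1) p))
    ((h4 _ p _).1 (congrFun (h5 ⟨a, ha⟩ _ h2) p)) _ (e ⟨k, hk⟩ p).2)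

end Cfsg.Agent.H12.RO
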