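import Cfsg.Agent.H12.RO1
import Cfsg.Agent.H14.MGroup

/-!
Bases of linear groups, part 2: section modules, the affine structure on a minimal system of
imprimitivity of a solvable group, and the general induction.
-/

set_option autoImplicit false

namespace Cfsg.Agent.H12.RO

open MulAction
open scoped Pointwise commutatorElement

universe u

section Sec

variable {G : Type*} [Group G]

/-- `N` is the section `M K / K` written additively, `π` the projection. -/
structure IsSec (K M : Subgroup G) {N : Type*} [AddCommGroup N] [DistribMulAction G N]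
    (π : G → N) : Prop where
  mul : ∀ a ∈ M, ∀ b ∈ M, π (a * b) = π a + π b
  surj : ∀ n, ∃ a ∈ M, π a = n
  ker : ∀ a ∈ M, π a = 0 ↔ a ∈ K
  conj : ∀ g : G, ∀ a ∈ M, π (g * a * g⁻¹) = g • π a

theorem exists_sec {G : Type u} [Group G] (K M : Subgroup G) [hK : K.Normal] [hM : M.Normal]
    (h : ⁅M, M⁆ ≤ K) : ∃ (N : Type u) (_ : AddCommGroup N) (_ : DistribMulAction G N) (π : G → N),
      IsSec K M π := by
  classical
  let f := QuotientGroup.mk' K
  let M' : Subgroup (G ⧸ K) := M.map f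
  have hM' : M'.Normal := hM.map f (QuotientGroup.mk'_surjective K)
  have hc : ∀ a b : M', a * b = b * a := by
    rintro ⟨_, a, ha, rfl⟩ ⟨_, b, hb, rfl⟩
    refine Subtype.ext ?_
    change f a * f b = f b * f a
    rw [← commutatorElement_eq_one_iff_mul_comm, ← map_commutatorElement]
    exact (QuotientGroup.eq_one_iff _).2 (h (Subgroup.commutator_mem_commutator ha hb))
  let _ : CommGroup M' := { (inferInstance : Group M') with mul_comm := hc }
  let act : DistribMulAction G (Additive M') :=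
    { smul := fun g x => Additive.ofMul ⟨f g * x.toMul.1 * (f g)⁻¹, hM'.conj_mem _ x.toMul.2 _⟩
      one_smul := fun x => by
        apply Additive.toMul.injective
        refine Subtype.ext ?_
        change f 1 * x.toMul.1 * (f 1)⁻¹ = x.toMul.1
        simp
      mul_smul := fun a b x => by
        apply Additive.toMul.injective
        refine Subtype.ext ?_
        change f (a * b) * x.toMul.1 * (f (a * b))⁻¹ = f a * (f b * x.toMul.1 * (f b)⁻¹) * (f a)⁻¹
        rw [map_mul]; group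
      smul_zero := fun a => by
        apply Additive.toMul.injective
        refine Subtype.ext ?_
        change f a * 1 * (f a)⁻¹ = 1
        simp
      smul_add := fun a x y => by
        apply Additive.toMul.injective
        refine Subtype.ext ?_
        change f a * (x.toMul.1 * y.toMul.1) * (f a)⁻¹ =
          f a * x.toMul.1 * (f a)⁻¹ * (f a * y.toMul.1 * (f a)⁻¹)
        group }
  refine ⟨Additive M', inferInstance, act,
    fun a => if ha : a ∈ M then Additive.ofMul ⟨f a, a, ha, rfl⟩ else 0, ?_, ?_, ?_, ?_⟩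
  · intro a ha b hb
    simp only [dif_pos ha, dif_pos hb, dif_pos (M.mul_mem ha hb)]
    apply Additive.toMul.injective
    exact Subtype.ext (map_mul f a b)
  · rintro n
    obtain ⟨a, ha, e⟩ := n.toMul.2
    have ha : a ∈ M := ha
    refine ⟨a, ha, ?_⟩
    simp only [dif_pos ha]
    apply Additive.toMul.injective
    exact Subtype.ext e
  · intro a ha
    simp only [dif_pos ha]
    rw [← QuotientGroup.eq_one_iff]
    constructor
    · intro e
      exact congrArg (fun x : Additive M' => x.toMul.1) e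
    · intro e
      apply Additive.toMul.injective
      exact Subtype.ext e
  · intro g a ha
    simp only [dif_pos ha, dif_pos (hM.conj_mem a ha g)]
    apply Additive.toMul.injective
    refine Subtype.ext ?_
    change f (g * a * g⁻¹) = f g * f a * (f g)⁻¹
    simp

variable {K M : Subgroup G} {N : Type*} [AddCommGroup N] [DistribMulAction G N] {π : G → N}

theorem IsSec.one (h : IsSec K M π) : π 1 = 0 := (h.ker 1 M.one_mem).2 K.one_mem

theorem IsSec.inv (h : IsSec K M π) {a : G} (ha : a ∈ M) : π a⁻¹ = -π a := by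
  have := h.mul a ha a⁻¹ (M.inv_mem ha)
  rw [mul_inv_cancel, h.one] at this
  exact (neg_eq_of_add_eq_zero_right this.symm).symm

theorem IsSec.pow (h : IsSec K M π) {a : G} (ha : a ∈ M) (n : ℕ) : π (a ^ n) = n • π a := by
  induction n with
  | zero => simp [h.one]
  | succ n ih => rw [pow_succ, h.mul _ (M.pow_mem ha n) _ ha, ih, succ_nsmul]

theorem IsSec.eq_iff (h : IsSec K M π) {a b : G} (ha : a ∈ M) (hb : b ∈ M) :
    π a = π b ↔ a⁻¹ * b ∈ K := by
  rw [← h.ker _ (M.mul_mem (M.inv_mem ha) hb), h.mul _ (M.inv_mem ha) _ hb, h.inv ha,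
    neg_add_eq_zero]

theorem IsSec.finite (h : IsSec K M π) [Finite G] : Finite N :=
  Finite.of_surjective π fun n => (h.surj n).imp fun _ e => e.2

theorem IsSec.smul_of_mem (h : IsSec K M π) {a : G} (ha : a ∈ M) (n : N) : a • n = n := by
  obtain ⟨b, hb, rfl⟩ := h.surj n
  rw [← h.conj a b hb, h.mul _ (M.mul_mem ha hb) _ (M.inv_mem ha), h.mul _ ha _ hb, h.inv ha]
  abel

/-- The preimage in `M` of a subgroup of the section. -/
def IsSec.pre (h : IsSec K M π) (A : AddSubgroup N) : Subgroup G where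
  carrier := {a | a ∈ M ∧ π a ∈ A}
  mul_mem' := fun {a b} ha hb => ⟨M.mul_mem ha.1 hb.1, by
    rw [h.mul _ ha.1 _ hb.1]; exact A.add_mem ha.2 hb.2⟩
  one_mem' := ⟨M.one_mem, by rw [h.one]; exact A.zero_mem⟩
  inv_mem' := fun {a} ha => ⟨M.inv_mem ha.1, by rw [h.inv ha.1]; exact A.neg_mem ha.2⟩

theorem IsSec.mem_pre (h : IsSec K M π) {A : AddSubgroup N} {a : G} :
    a ∈ h.pre A ↔ a ∈ M ∧ π a ∈ A := Iff.rfl

theorem IsSec.pre_normal (h : IsSec K M π) [hM : M.Normal] {A : AddSubgroup N} (hA : Inv G A) :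
    (h.pre A).Normal :=
  ⟨fun a ha g => ⟨hM.conj_mem a ha.1 g, by rw [h.conj g a ha.1]; exact hA g _ ha.2⟩⟩

theorem IsSec.card (h : IsSec K M π) [Finite G] :
    Nat.card M = Nat.card N * Nat.card (K ⊓ M : Subgroup G) := by
  let f : M →* Multiplicative N := MonoidHom.mk' (fun a => Multiplicative.ofAdd (π a))
    fun a b => congrArg Multiplicative.ofAdd (h.mul a a.2 b b.2)
  have h1 : f.range = ⊤ := by
    rw [eq_top_iff]
    intro n _
    obtain ⟨a, ha, e⟩ := h.surj n.toAdd
    exact ⟨⟨a, ha⟩, congrArg Multiplicative.ofAdd e⟩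
  have h2 : f.ker = (K ⊓ M).subgroupOf M := by
    ext a
    rw [MonoidHom.mem_ker, Subgroup.mem_subgroupOf, Subgroup.mem_inf, ← h.ker a a.2]
    exact ⟨fun e => ⟨e, a.2⟩, fun e => e.1⟩
  rw [← f.ker.index_mul_card, Subgroup.index_ker, h1, h2, Subgroup.card_top,
    Nat.card_congr (Subgroup.subgroupOfEquivOfLe inf_le_right).toEquiv]
  rfl

theorem IsSec.irr (h : IsSec K M π) [M.Normal] (hKM : K ≤ M)
    (hmin : ∀ L : Subgroup G, L.Normal → K ≤ L → L ≤ M → L = K ∨ L = M) : Irr G N := by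
  intro A hA
  rcases hmin (h.pre A) (h.pre_normal hA)
    (fun a ha => ⟨hKM ha, by rw [(h.ker a (hKM ha)).2 ha]; exact A.zero_mem⟩)
    (fun a ha => ha.1) with e | e
  · left
    rw [eq_bot_iff]
    intro n hn
    obtain ⟨a, ha, rfl⟩ := h.surj n
    have : a ∈ h.pre A := ⟨ha, hn⟩
    rw [e] at this
    exact (h.ker a ha).2 this
  · right
    rw [eq_top_iff]
    intro n _
    obtain ⟨a, ha, rfl⟩ := h.surj n
    rw [← e] at ha
    exact ha.2

theorem exists_chief_above [Finite G] {K X : Subgroup G} [hX : X.Normal] (h : K < X) :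
    ∃ M : Subgroup G, M.Normal ∧ K < M ∧ M ≤ X ∧
      ∀ L : Subgroup G, L.Normal → K ≤ L → L ≤ M → L = K ∨ L = M := by
  obtain ⟨M, ⟨h1, h2, h3⟩, hmin⟩ := (wellFounded_lt (α := Subgroup G)).has_min
    {M | M.Normal ∧ K < M ∧ M ≤ X} ⟨X, hX, h, le_rfl⟩
  refine ⟨M, h1, h2, h3, fun L hL hKL hLM => ?_⟩
  by_contra hne
  push Not at hne
  exact hmin L ⟨hL, lt_of_le_of_ne hKL hne.1.symm, hLM.trans h3⟩ (lt_of_le_of_ne hLM hne.2)

theorem chief_elem [Finite G] [Group.IsSolvable G] {K M : Subgroup G} [K.Normal] [M.Normal]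
    (h : K < M) (hmin : ∀ L : Subgroup G, L.Normal → K ≤ L → L ≤ M → L = K ∨ L = M) :
    ⁅M, M⁆ ≤ K ∧ ∃ p : ℕ, p.Prime ∧ (∀ x ∈ M, x ^ p ∈ K) ∧ ∃ k, K.relIndex M = p ^ k :=
  H14.chief_elementary_of_solvable K M K inferInstance le_rfl h hmin

end Sec

section Aff

/-- primitivity of a module -/
def Prim (G V : Type u) [Group G] [AddCommGroup V] [DistribMulAction G V] : Prop :=
  Irr G V ∧ ∀ (Ω : Type u) [MulAction G Ω] [Fintype Ω], Sys G V Ω → Subsingleton Ω

/-- An affine structure on a `G`-set. -/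
structure Aff (G Ω N : Type*) [Group G] [MulAction G Ω] [AddCommGroup N]
    [DistribMulAction G N] where
  e : Ω ≃ N
  c : G → N
  he : ∀ (g : G) ω, e (g • ω) = g • e ω + c g
  irr : Irr G N
  tr : ∀ n, ∃ g : G, (∀ x : N, g • x = x) ∧ c g = n

theorem exists_aff {G V : Type u} [Group G] [Finite G] [Group.IsSolvable G] [AddCommGroup V]
    [DistribMulAction G V] (hirr : Irr G V) (hnp : ¬ Prim G V) :
    ∃ (Ω : Type u) (_ : MulAction G Ω) (_ : Fintype Ω) (_ : Nontrivial Ω) (_ : Sys G V Ω)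
      (N : Type u) (_ : AddCommGroup N) (_ : DistribMulAction G N), Nonempty (Aff G Ω N) := by
  classical
  have hex : ∃ n, ∃ (Ω : Type u) (_ : MulAction G Ω) (_ : Fintype Ω) (_ : Nontrivial Ω)
      (_ : Sys G V Ω), Fintype.card Ω = n := by
    by_contra hne
    apply hnp
    refine ⟨hirr, fun Ω _ _ S => ?_⟩
    by_contra hs
    rw [not_subsingleton_iff_nontrivial] at hs
    exact hne ⟨_, Ω, _, _, hs, S, rfl⟩
  obtain ⟨Ω, _, _, _, S, hcard⟩ := Nat.find_spec hex
  have hmin : ∀ (Ω' : Type u) (_ : MulAction G Ω') (_ : Fintype Ω') (_ : Nontrivial Ω')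
      (_ : Sys G V Ω'), Fintype.card Ω ≤ Fintype.card Ω' := by
    intro Ω' _ _ _ S'
    rw [hcard]
    exact Nat.find_min' hex ⟨Ω', _, _, inferInstance, S', rfl⟩
  let K := (toPermHom G Ω).ker
  have hK : ∀ g, g ∈ K ↔ ∀ ω : Ω, g • ω = ω := fun g => by
    rw [MonoidHom.mem_ker, Equiv.ext_iff]; rfl
  have hKt : K < ⊤ := by
    rw [lt_top_iff_ne_top]
    intro e
    obtain ⟨a, b, hab⟩ := exists_pair_ne Ω
    obtain ⟨g, hg⟩ := S.trans hirr a b
    exact hab (((hK g).1 (e ▸ Subgroup.mem_top g) a).symm.trans hg)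
  obtain ⟨M, hM, hKM, -, hMmin⟩ := exists_chief_above hKt
  obtain ⟨hcomm, -⟩ := chief_elem hKM hMmin
  obtain ⟨ω₀⟩ : Nonempty Ω := inferInstance
  -- `M` is transitive
  have htr : ∀ ω : Ω, ∃ a ∈ M, a • ω₀ = ω := by
    let Ω' := orbit G (orbit M ω₀ : Set Ω)
    let φ : Ω → Ω' := fun ω => ⟨orbit M ω, by
      obtain ⟨g, rfl⟩ := S.trans hirr ω₀ ω
      exact ⟨g, smul_orbit_eq_orbit_smul M ω₀ g⟩⟩
    have hφ : ∀ (g : G) ω, φ (g • ω) = g • φ ω := fun g ω =>
      Subtype.ext (smul_orbit_eq_orbit_smul M ω g).symm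
    have hs : Function.Surjective φ := by
      rintro ⟨_, g, rfl⟩
      exact ⟨g • ω₀, Subtype.ext (smul_orbit_eq_orbit_smul M ω₀ g).symm⟩
    let _ : Fintype Ω' := Fintype.ofFinite Ω'
    have hsub : Subsingleton Ω' := by
      by_contra hs'
      rw [not_subsingleton_iff_nontrivial] at hs'
      have h1 := hmin Ω' _ _ hs' (S.map φ hφ hs)
      have h2 := (Fintype.bijective_iff_surjective_and_card φ).2
        ⟨hs, le_antisymm h1 (Fintype.card_le_of_surjective φ hs)⟩
      obtain ⟨a, haM, haK⟩ := SetLike.exists_of_lt hKM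
      apply haK
      rw [hK]
      intro ω
      apply h2.1
      exact Subtype.ext (orbit_smul (⟨a, haM⟩ : M) ω)
    intro ω
    have h3 : orbit M ω = orbit M ω₀ := congrArg Subtype.val (Subsingleton.elim (φ ω) (φ ω₀))
    have h4 : ω ∈ orbit M ω₀ := h3 ▸ mem_orbit_self ω
    obtain ⟨a, ha⟩ := h4
    exact ⟨a, a.2, ha⟩
  have hfree : ∀ a ∈ M, a • ω₀ = ω₀ → a ∈ K := by
    intro a ha e
    rw [hK]
    intro ω
    obtain ⟨b, hb, rfl⟩ := htr ω
    have := (hK _).1 (hcomm (Subgroup.commutator_mem_commutator ha hb)) (b • a • ω₀)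
    rw [commutatorElement_def, mul_smul, mul_smul, mul_smul, inv_smul_smul, inv_smul_smul,
      e] at this
    exact this
  obtain ⟨N, _, _, π, hπ⟩ := exists_sec K M hcomm
  choose r hr hr' using htr
  have key : ∀ a ∈ M, π (r (a • ω₀)) = π a := by
    intro a ha
    rw [hπ.eq_iff (hr _) ha]
    refine hfree _ (M.mul_mem (M.inv_mem (hr _)) ha) ?_
    rw [mul_smul, inv_smul_eq_iff, hr']
  have hbij : Function.Bijective fun ω => π (r ω) := by
    constructor
    · intro a b e
      have h1 := (hK _).1 ((hπ.eq_iff (hr a) (hr b)).1 e) ω₀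
      rw [mul_smul, inv_smul_eq_iff, hr', hr'] at h1
      exact h1.symm
    · intro n
      obtain ⟨a, ha, rfl⟩ := hπ.surj n
      exact ⟨a • ω₀, key a ha⟩
  refine ⟨Ω, inferInstance, inferInstance, inferInstance, S, N, inferInstance, inferInstance,
    ⟨⟨Equiv.ofBijective _ hbij, fun g => π (r (g • ω₀)), fun g ω => ?_, hπ.irr hKM.le hMmin,
      fun n => ?_⟩⟩⟩
  · change π (r (g • ω)) = g • π (r ω) + π (r (g • ω₀))
    rw [← hπ.conj g _ (hr ω), ← hπ.mul _ (hM.conj_mem _ (hr ω) g) _ (hr _),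
      ← key _ (M.mul_mem (hM.conj_mem _ (hr ω) g) (hr _)), mul_smul, hr', mul_smul, mul_smul,
      inv_smul_smul, hr']
  · obtain ⟨a, ha, rfl⟩ := hπ.surj n
    exact ⟨a, hπ.smul_of_mem ha, key a ha⟩

end Aff

/-- **The general induction.** -/
theorem induct {ι : Type} (P : ∀ (G V : Type u) [Group G] [AddCommGroup V], Prop)
    (hsub : ∀ (G V : Type u) [Group G] [AddCommGroup V], P G V →
      ∀ (H : Subgroup G) (W : AddSubgroup V), P H W)
    (hsubV : ∀ (G V : Type u) [Group G] [AddCommGroup V], P G V → ∀ W : AddSubgroup V, P G W)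
    (hquot : ∀ (G V : Type u) [Group G] [Finite G] [AddCommGroup V], P G V →
      ∀ (G' : Type u) [Group G'] (f : G →* G'), Function.Surjective f → P G' V)
    (hsolv : ∀ (G V : Type u) [Group G] [Finite G] [AddCommGroup V], P G V → Group.IsSolvable G)
    (hprim : ∀ (G V : Type u) [Group G] [Finite G] [AddCommGroup V] [Finite V] [Nontrivial V]
      [DistribMulAction G V], (∀ g : G, (∀ x : V, g • x = x) → g = 1) → Prim G V → P G V →
      (∀ (G' V' : Type u) [Group G'] [Finite G'] [AddCommGroup V'] [Finite V']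
        [DistribMulAction G' V'], Nat.card V' < Nat.card V → P G' V' → CR G' V' →
          ∃ v : ι → V', IsBase G' v) → ∃ v : ι → V, IsBase G v)
    (himp : ∀ (G V Ω N : Type u) [Group G] [Finite G] [AddCommGroup V] [Finite V]
      [MulAction G Ω] [Fintype Ω] [AddCommGroup N] [DistribMulAction G N], P G V → Aff G Ω N →
      Fintype.card Ω < Nat.card V →
      (∀ (G' V' : Type u) [Group G'] [Finite G'] [AddCommGroup V'] [Finite V']
        [DistribMulAction G' V'], Nat.card V' < Nat.card V → P G' V' → CR G' V' →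
          ∃ v : ι → V', IsBase G' v) →
      ∃ (κ : Type) (col : Ω → κ), (∀ g : G, (∀ ω, col (g • ω) = col ω) → ∀ ω : Ω, g • ω = ω) ∧
        ∀ (H W : Type u) [Group H] [Finite H] [AddCommGroup W] [Finite W] [Nontrivial W]
          [DistribMulAction H W], P H W → Irr H W → ∀ v : ι → W, IsBase H v →
          ∃ w : κ → ι → W, (∀ a, IsBase H (w a)) ∧
            ∀ a b (h : H), (∀ i, h • w a i = w b i) → a = b)
    (G V : Type u) [Group G] [Finite G] [AddCommGroup V] [Finite V] [DistribMulAction G V]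
    (hP : P G V) (hcr : CR G V) : ∃ v : ι → V, IsBase G v := by
  induction hn : Nat.card V using Nat.strong_induction_on generalizing G V with
  | _ n ih =>
  have IH : ∀ (G' V' : Type u) [Group G'] [Finite G'] [AddCommGroup V'] [Finite V']
      [DistribMulAction G' V'], Nat.card V' < Nat.card V → P G' V' → CR G' V' →
        ∃ v : ι → V', IsBase G' v := fun G' V' _ _ _ _ _ hlt h1 h2 =>
    ih _ (hn ▸ hlt) G' V' h1 h2 rfl
  rcases subsingleton_or_nontrivial V with hV | hV
  · exact ⟨fun _ => 0, fun g _ x => Subsingleton.elim _ _⟩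
  by_cases hirr : Irr G V
  swap
  · unfold Irr at hirr
    push Not at hirr
    obtain ⟨U, hU, h0, h1⟩ := hirr
    obtain ⟨W, hW, h2, h3⟩ := hcr U hU
    have h4 : W ≠ ⊤ := by
      rintro rfl
      exact h0 (by simpa using h2)
    letI := subAct hU
    letI := subAct hW
    obtain ⟨u, hu⟩ := IH G U (card_lt_of_ne_top h1) (hsubV G V hP U) (hcr.sub hU)
    obtain ⟨w, hw⟩ := IH G W (card_lt_of_ne_top h4) (hsubV G V hP W) (hcr.sub hW)
    exact ⟨_, IsBase.add hU hW h2 h3 hu hw⟩
  -- pass to the faithful quotient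
  let f := DistribMulAction.toModuleAut ℤ V (S := G)
  let G' := f.range
  have hfin : Finite G' := Finite.of_surjective _ f.rangeRestrict_surjective
  have hP' : P G' V := hquot G V hP G' f.rangeRestrict f.rangeRestrict_surjective
  have hirr' : Irr G' V := fun U hU => hirr U fun g v hv => hU (f.rangeRestrict g) v hv
  suffices h : ∃ v : ι → V, IsBase G' v by
    obtain ⟨v, hv⟩ := h
    exact ⟨v, fun g hg x => hv (f.rangeRestrict g) hg x⟩
  by_cases hp : Prim G' V
  · exact hprim G' V (fun g hg => Subtype.ext (LinearEquiv.ext hg)) hp hP' IH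
  have := hsolv G' V hP'
  obtain ⟨Ω, _, _, _, S, N, _, _, ⟨A⟩⟩ := exists_aff hirr' hp
  obtain ⟨κ, col, hcol, hw⟩ := himp G' V Ω N hP' A S.card_lt IH
  obtain ⟨ω₀⟩ : Nonempty Ω := inferInstance
  letI := subAct (S.inv_range ω₀)
  have hPW := hsub G' V hP' (stabilizer G' ω₀) (S.e ω₀).range
  obtain ⟨v, hv⟩ := IH (stabilizer G' ω₀) (S.e ω₀).range (S.card_range_lt ω₀) hPW
    (S.irr_range hirr' ω₀).cr
  have : Nontrivial (S.e ω₀).range := by
    obtain ⟨x, hx⟩ := S.ne ω₀
    exact ⟨⟨⟨_, x, rfl⟩, 0, fun e => hx (congrArg Subtype.val e)⟩⟩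
  obtain ⟨w, hw1, hw2⟩ := hw _ _ hPW (S.irr_range hirr' ω₀) v hv
  exact S.base hirr' ω₀ col hcol w hw1 fun a b h hh e =>
    hw2 a b ⟨h, hh⟩ fun i => Subtype.ext (e i)

end Cfsg.Agent.H12.RO
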