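import Cfsg.Agent.H12.RO2
import Cfsg.Agent.H1.TwoPrimes

/-!
Bases of linear groups, part 3: several inequivalent bases from one, and distinguishing
colourings of affine permutation groups.
-/

set_option autoImplicit false

namespace Cfsg.Agent.H12.RO

open MulAction
open scoped Pointwise commutatorElement

theorem eq_one_of_comm_closed {Γ : Type*} [Group Γ] [Group.IsSolvable Γ] (S : Set Γ)
    (h : ∀ s ∈ S, ∃ a ∈ S, ∃ b ∈ S, s = ⁅a, b⁆) : ∀ s ∈ S, s = 1 := by
  have h1 : ∀ n, ∀ s ∈ S, s ∈ derivedSeries Γ n := by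
    intro n
    induction n with
    | zero => intro s _; trivial
    | succ n ih =>
      intro s hs
      obtain ⟨a, ha, b, hb, rfl⟩ := h s hs
      exact Subgroup.commutator_mem_commutator (ih a ha) (ih b hb)
  obtain ⟨n, hn⟩ := ‹Group.IsSolvable Γ›.solvable
  intro s hs
  have := h1 n s hs
  rwa [hn, Subgroup.mem_bot] at this

theorem solvable_perm_of_le_four (X : Type*) [Finite X] (h : Nat.card X ≤ 4) :
    Group.IsSolvable (Equiv.Perm X) := by
  classical
  refine H1.isSolvable_of_two_primes Nat.prime_two Nat.prime_three fun r hr hd => ?_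
  rw [Nat.card_perm, hr.dvd_factorial] at hd
  have h2 := hr.two_le
  have h3 : r ≤ 4 := hd.trans h
  interval_cases r
  · exact Or.inl rfl
  · exact Or.inr rfl
  · exact absurd hr (by decide)

theorem exists_third (i j : Fin 3) : ∃ k, k ≠ i ∧ k ≠ j := by
  revert i j; decide

section Orbits

variable {H W : Type*} [Group H] [AddCommGroup W] [DistribMulAction H W]

/-- elementary operation on triples -/
def elemOp (W : Type*) [AddCommGroup W] {i j : Fin 3} (h : i ≠ j) : Equiv.Perm (Fin 3 → W) where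
  toFun v := Function.update v j (v j + v i)
  invFun v := Function.update v j (v j - v i)
  left_inv v := by
    funext l
    by_cases hl : l = j
    · subst hl; simp [Function.update_of_ne h]
    · simp [Function.update_of_ne hl]
  right_inv v := by
    funext l
    by_cases hl : l = j
    · subst hl; simp [Function.update_of_ne h]
    · simp [Function.update_of_ne hl]

theorem elemOp_apply {i j : Fin 3} (h : i ≠ j) (v : Fin 3 → W) :
    elemOp W h v = Function.update v j (v j + v i) := rfl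

theorem elemOp_inv_apply {i j : Fin 3} (h : i ≠ j) (v : Fin 3 → W) :
    (elemOp W h)⁻¹ v = Function.update v j (v j - v i) := rfl

theorem elemOp_comm {i j k : Fin 3} (h : i ≠ j) (h1 : k ≠ j) (h2 : i ≠ k) :
    elemOp W h = ⁅elemOp W h1, elemOp W h2⁆ := by
  ext v l
  rw [commutatorElement_def]
  simp only [Equiv.Perm.mul_apply, elemOp_apply, elemOp_inv_apply]
  by_cases hl : l = j
  · subst hl
    simp [Function.update_of_ne h, Function.update_of_ne h1, Function.update_of_ne h2,
      Function.update_of_ne h1.symm]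
    abel
  · by_cases hk : l = k
    · subst hk
      simp [Function.update_of_ne h, Function.update_of_ne h1, Function.update_of_ne h2]
    · simp [Function.update_of_ne hl, Function.update_of_ne hk]

theorem five_orbits [Finite H] [Group.IsSolvable H] [Finite W] [Nontrivial W] (v : Fin 3 → W)
    (hv : IsBase H v) : ∃ w : Fin 5 → Fin 3 → W, (∀ a, IsBase H (w a)) ∧
      ∀ a b (h : H), (∀ i, h • w a i = w b i) → a = b := by
  classical
  by_cases htriv : ∀ (g : H) (x : W), g • x = x
  · obtain ⟨x, hx⟩ := exists_ne (0 : W)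
    refine ⟨![![0, 0, 0], ![x, 0, 0], ![0, x, 0], ![0, 0, x], ![x, x, 0]],
      fun a g _ => htriv g, fun a b h e => ?_⟩
    have e0 := e 0
    have e1 := e 1
    have e2 := e 2
    rw [htriv] at e0 e1 e2
    clear e htriv
    fin_cases a <;> fin_cases b <;> simp_all [eq_comm (a := (0 : W))]
  let B := {v : Fin 3 → W // IsBase H v}
  let s : Setoid B :=
    { r := fun a b => ∃ h : H, ∀ i, h • a.1 i = b.1 i
      iseqv := ⟨fun a => ⟨1, fun i => one_smul _ _⟩,
        fun ⟨h, e⟩ => ⟨h⁻¹, fun i => by rw [← e, inv_smul_smul]⟩,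
        fun ⟨h, e⟩ ⟨h', e'⟩ => ⟨h' * h, fun i => by rw [mul_smul, e, e']⟩⟩ }
  by_cases hc : 5 ≤ Nat.card (Quotient s)
  · have : Fintype (Quotient s) := Fintype.ofFinite _
    obtain ⟨f⟩ : Nonempty (Fin 5 ↪ Quotient s) :=
      Function.Embedding.nonempty_of_card_le (by rwa [Fintype.card_fin, ← Nat.card_eq_fintype_card])
    refine ⟨fun a => (f a).out.1, fun a => (f a).out.2, fun a b h e => f.injective ?_⟩
    rw [← (f a).out_eq, ← (f b).out_eq]
    exact Quotient.sound ⟨h, e⟩
  exfalso
  have hsol := solvable_perm_of_le_four (Quotient s) (by omega)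
  let Γ : Subgroup (Equiv.Perm (Fin 3 → W)) :=
    { carrier := {T | ∀ (h : H) (x : Fin 3 → W), T (h • x) = h • T x}
      mul_mem' := fun {a b} ha hb h x => by
        rw [Equiv.Perm.mul_apply, hb, ha, Equiv.Perm.mul_apply]
      one_mem' := fun _ _ => rfl
      inv_mem' := fun {a} ha h x => by
        apply a.injective
        rw [ha]
        simp }
  have hB : ∀ T : Γ, ∀ x : B, IsBase H (T.1 x.1) := by
    intro T x g hg
    refine x.2 g fun i => congrFun (T.1.injective ?_ : g • x.1 = x.1) i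
    rw [T.2]
    exact funext hg
  let act : MulAction Γ (Quotient s) :=
    { smul := fun T => Quotient.map (fun x => ⟨T.1 x.1, hB T x⟩) (by
        rintro a b ⟨h, e⟩
        refine ⟨h, fun i => congrFun (?_ : h • T.1 a.1 = T.1 b.1) i⟩
        rw [← T.2, show h • a.1 = b.1 from funext e])
      one_smul := fun q => Quotient.inductionOn q fun x => rfl
      mul_smul := fun a b q => Quotient.inductionOn q fun x => rfl }
  have hE : ∀ {i j : Fin 3} (h : i ≠ j), elemOp W h ∈ Γ := by
    intro i j h g x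
    funext l
    by_cases hl : l = j
    · subst hl; simp [elemOp_apply]
    · simp [elemOp_apply, Function.update_of_ne hl]
  have h1 := eq_one_of_comm_closed
    {τ | ∃ (i j : Fin 3) (h : i ≠ j), τ = toPermHom Γ (Quotient s) ⟨_, hE h⟩} (by
      rintro _ ⟨i, j, h, rfl⟩
      obtain ⟨k, hk1, hk2⟩ := exists_third i j
      refine ⟨_, ⟨k, j, hk2, rfl⟩, _, ⟨i, k, hk1.symm, rfl⟩, ?_⟩
      rw [← map_commutatorElement]
      congr 1
      exact Subtype.ext (elemOp_comm h hk2 hk1.symm))
  have h2 : ∀ (i j : Fin 3), i ≠ j → ∃ x : H, ∀ l, x • v l = Function.update v j (v j + v i) l := by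
    intro i j h
    have h3 := congrArg (fun τ : Equiv.Perm (Quotient s) => τ ⟦⟨v, hv⟩⟧) (h1 _ ⟨i, j, h, rfl⟩)
    obtain ⟨x, hx⟩ : s.r ⟨v, hv⟩ ⟨elemOp W h v, hB ⟨_, hE h⟩ ⟨v, hv⟩⟩ := Quotient.exact h3.symm
    exact ⟨x, hx⟩
  have hsol2 : Group.IsSolvable (toPermHom H W).range :=
    solvable_of_surjective (toPermHom H W).rangeRestrict_surjective
  have h4 := eq_one_of_comm_closed
    {τ | ∃ (i j : Fin 3) (_ : i ≠ j) (x : H),
      (∀ l, x • v l = Function.update v j (v j + v i) l) ∧
        τ = (toPermHom H W).rangeRestrict x} (by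
      rintro _ ⟨i, j, h, x, hx, rfl⟩
      obtain ⟨k, hk1, hk2⟩ := exists_third i j
      obtain ⟨a, ha⟩ := h2 i k hk1.symm
      obtain ⟨b, hb⟩ := h2 k j hk2
      refine ⟨_, ⟨i, k, hk1.symm, a, ha, rfl⟩, _, ⟨k, j, hk2, b, hb, rfl⟩, ?_⟩
      rw [← map_commutatorElement]
      refine Subtype.ext (Equiv.ext fun y => ?_)
      change x • y = ⁅a, b⁆ • y
      rw [← inv_smul_eq_iff, ← mul_smul]
      refine hv _ (fun l => ?_) y
      rw [mul_smul, inv_smul_eq_iff, hx, commutatorElement_def, mul_smul, mul_smul, mul_smul]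
      have ai : a • v i = v i := by rw [ha, Function.update_of_ne hk1.symm]
      have aj : a • v j = v j := by rw [ha, Function.update_of_ne hk2.symm]
      have ak : a • v k = v k + v i := by rw [ha, Function.update_self]
      have bi : b • v i = v i := by rw [hb, Function.update_of_ne h]
      have bk : b • v k = v k := by rw [hb, Function.update_of_ne hk2]
      have bj : b • v j = v j + v k := by rw [hb, Function.update_self]
      have ai' : a⁻¹ • v i = v i := by rw [inv_smul_eq_iff, ai]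
      have aj' : a⁻¹ • v j = v j := by rw [inv_smul_eq_iff, aj]
      have ak' : a⁻¹ • v k = v k - v i := by rw [inv_smul_eq_iff, smul_sub, ak, ai]; abel
      have bi' : b⁻¹ • v i = v i := by rw [inv_smul_eq_iff, bi]
      have bk' : b⁻¹ • v k = v k := by rw [inv_smul_eq_iff, bk]
      have bj' : b⁻¹ • v j = v j - v k := by rw [inv_smul_eq_iff, smul_sub, bj, bk]; abel
      by_cases hl : l = j
      · subst hl
        simp only [Function.update_self, bj', smul_sub, smul_add, aj', ak', bj, bk, bi, aj, ak, ai]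
        abel
      · rw [Function.update_of_ne hl]
        by_cases hl2 : l = k
        · subst hl2
          simp only [bk', ak', smul_sub, bk, bi, ak, ai]
          abel
        · have : l = i := by omega
          subst this
          rw [bi', ai', bi, ai])
  apply htriv
  intro g
  refine hv g fun i => ?_
  obtain ⟨j, hj, -⟩ := exists_third i i
  obtain ⟨x, hx⟩ := h2 i j hj.symm
  have h5 : x • v j = v j :=
    congrArg (fun τ : (toPermHom H W).range => τ.1 (v j)) (h4 _ ⟨i, j, hj.symm, x, hx, rfl⟩)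
  rw [hx, Function.update_self, add_eq_left] at h5
  rw [h5, smul_zero]

theorem orbits_of_single {a : W} (ha : a ≠ 0) (hb : ∀ g : H, g • a = a → ∀ x : W, g • x = x) :
    ∃ w : Fin 3 → Fin 2 → W, (∀ a, IsBase H (w a)) ∧
      ∀ a b (h : H), (∀ i, h • w a i = w b i) → a = b := by
  refine ⟨![![a, 0], ![0, a], ![a, a]], fun c g hg => hb g ?_, fun c d h e => ?_⟩
  · fin_cases c
    · exact hg 0
    · exact hg 1
    · exact hg 0
  · have e0 := e 0
    have e1 := e 1
    fin_cases c <;> fin_cases d <;> simp_all [eq_comm (a := (0 : W))]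

theorem single_of_eq [Nontrivial W] {v : Fin 2 → W} (hv : IsBase H v) (e : v 0 = v 1) :
    ∃ a : W, a ≠ 0 ∧ ∀ g : H, g • a = a → ∀ x : W, g • x = x := by
  by_cases h0 : v 0 = 0
  · obtain ⟨x, hx⟩ := exists_ne (0 : W)
    refine ⟨x, hx, fun g _ => hv g fun i => ?_⟩
    fin_cases i
    · change g • v 0 = v 0
      rw [h0, smul_zero]
    · change g • v 1 = v 1
      rw [← e, h0, smul_zero]
  · refine ⟨v 0, h0, fun g hg => hv g fun i => ?_⟩
    fin_cases i
    · exact hg
    · change g • v 1 = v 1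
      rw [← e, hg]

theorem two_orbits [Finite H] [Nontrivial W] (hodd : Odd (Nat.card H)) (v : Fin 2 → W)
    (hv : IsBase H v) : ∃ w : Fin 2 → Fin 2 → W, (∀ a, IsBase H (w a)) ∧
      ∀ a b (h : H), (∀ i, h • w a i = w b i) → a = b := by
  by_cases e : v 0 = v 1
  · obtain ⟨a, ha, hb⟩ := single_of_eq hv e
    obtain ⟨w, h1, h2⟩ := orbits_of_single ha hb
    exact ⟨fun c => w c.castSucc, fun c => h1 _, fun c d h e =>
      Fin.castSucc_injective _ (h2 _ _ h e)⟩
  have hc : (2 : ℕ).Coprime (Nat.card H) := Nat.coprime_two_left.2 hodd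
  have key : ∀ h : H, h • v 0 = v 1 → h • v 1 = v 0 → False := fun h e0 e1 => e (by
    rw [← e0, smul_eq_of_pow hc (g := h) (x := v 0) (by rw [sq, mul_smul, e0, e1])])
  refine ⟨![![v 0, v 1], ![v 1, v 0]], fun c g hg => hv g fun i => ?_, fun c d h e => ?_⟩
  · have e0 := hg 0
    have e1 := hg 1
    fin_cases c <;> fin_cases i <;> simp_all
  · have e0 := e 0
    have e1 := e 1
    fin_cases c <;> fin_cases d
    · rfl
    · exact (key h e0 e1).elim
    · exact (key h e1 e0).elim
    · rfl

theorem three_orbits [Finite H] [Nontrivial W] (h3 : (3 : ℕ).Coprime (Nat.card H)) (v : Fin 2 → W)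
    (hv : IsBase H v) : ∃ w : Fin 3 → Fin 2 → W, (∀ a, IsBase H (w a)) ∧
      ∀ a b (h : H), (∀ i, h • w a i = w b i) → a = b := by
  by_cases e : v 0 = v 1
  · obtain ⟨a, ha, hb⟩ := single_of_eq hv e
    exact orbits_of_single ha hb
  have key : ∀ h : H, h • v 0 = v 1 → h • v 1 = -v 0 - v 1 → False := fun h e0 e1 => e (by
    rw [← e0, smul_eq_of_pow h3 (g := h) (x := v 0) (by
      rw [pow_succ, sq, mul_smul, mul_smul, e0, e1, smul_sub, smul_neg, e0, e1]; abel)])
  have key2 : ∀ h : H, h • v 0 = -v 0 - v 1 → h • v 1 = v 0 → False := fun h e0 e1 =>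
    key h⁻¹ (by rw [inv_smul_eq_iff, e1]) (by
      rw [inv_smul_eq_iff, smul_sub, smul_neg, e0, e1]; abel)
  have aux : ∀ (h : H) (x y : W), h • (-v 0 - v 1) = x → h • v 1 = y → h • v 0 = -x - y := by
    rintro h _ _ rfl rfl
    rw [smul_sub, smul_neg]; abel
  have aux2 : ∀ (h : H) (x y : W), h • (-v 0 - v 1) = x → h • v 0 = y → h • v 1 = -x - y := by
    rintro h _ _ rfl rfl
    rw [smul_sub, smul_neg]; abel
  refine ⟨![![v 0, v 1], ![v 1, -v 0 - v 1], ![-v 0 - v 1, v 0]],
    fun c g hg => hv g fun i => ?_, fun c d h e => ?_⟩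
  · have e0 := hg 0
    have e1 := hg 1
    have : g • v 0 = v 0 ∧ g • v 1 = v 1 := by
      fin_cases c
      · exact ⟨e0, e1⟩
      · exact ⟨(aux g _ _ e1 e0).trans (by simp), e0⟩
      · exact ⟨e1, (aux2 g _ _ e0 e1).trans (by simp)⟩
    fin_cases i
    · exact this.1
    · exact this.2
  · have e0 := e 0
    have e1 := e 1
    fin_cases c <;> fin_cases d
    · rfl
    · exact (key h e0 e1).elim
    · exact (key2 h e0 e1).elim
    · exact (key2 h ((aux h _ _ e1 e0).trans (by simp; abel)) e0).elim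
    · rfl
    · exact (key h ((aux h _ _ e1 e0).trans (by simp)) e0).elim
    · exact (key h e1 ((aux2 h _ _ e0 e1).trans (by simp))).elim
    · exact (key2 h e1 ((aux2 h _ _ e0 e1).trans (by simp; abel))).elim
    · rfl

theorem prime_orbits [Finite H] [Nontrivial W] {p m : ℕ} (hp : p.Prime) (hm : m ≤ p)
    (hW : ∀ x : W, p • x = 0) (hc : p.Coprime (Nat.card H)) (v : Fin 2 → W) (hv : IsBase H v) :
    ∃ w : Fin m → Fin 2 → W, (∀ a, IsBase H (w a)) ∧
      ∀ a b (h : H), (∀ i, h • w a i = w b i) → a = b := by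
  obtain ⟨x, y, hx, hb⟩ : ∃ x y : W, x ≠ 0 ∧ ∀ g : H, g • x = x → g • y = y → ∀ z : W, g • z = z := by
    by_cases h0 : v 0 = 0
    · by_cases h1 : v 1 = 0
      · obtain ⟨a, ha, hb⟩ := single_of_eq hv (h0.trans h1.symm)
        exact ⟨a, 0, ha, fun g hg _ => hb g hg⟩
      · exact ⟨v 1, v 0, h1, fun g e1 e0 => hv g fun i => by fin_cases i <;> assumption⟩
    · exact ⟨v 0, v 1, h0, fun g e0 e1 => hv g fun i => by fin_cases i <;> assumption⟩
  refine ⟨fun a => ![x, y + (a : ℕ) • x], fun a g hg => ?_, fun a b h e => ?_⟩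
  · have e0 : g • x = x := hg 0
    have e1 : g • (y + (a : ℕ) • x) = y + (a : ℕ) • x := hg 1
    rw [smul_add, smul_comm, e0, add_left_inj] at e1
    exact hb g e0 e1
  · have e0 : h • x = x := e 0
    have e1 : h • (y + (a : ℕ) • x) = y + (b : ℕ) • x := e 1
    rw [smul_add, smul_comm, e0] at e1
    have e2 : h • y = y + ((b : ℕ) • x - (a : ℕ) • x) := by rw [← add_sub_assoc, ← e1]; abel
    have e3 : ∀ n : ℕ, h ^ n • y = y + n • ((b : ℕ) • x - (a : ℕ) • x) := by
      intro n
      induction n with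
      | zero => simp
      | succ n ih =>
        rw [pow_succ', mul_smul, ih, smul_add, e2, smul_comm h n, smul_sub, smul_comm h,
          smul_comm h, e0, succ_nsmul]
        abel
    have e4 := smul_eq_of_pow hc (g := h) (x := y) (by rw [e3, hW, add_zero])
    rw [e2, add_eq_left, sub_eq_zero] at e4
    have ho : addOrderOf x = p := addOrderOf_eq_prime (hp := ⟨hp⟩) (hW x) hx
    refine Fin.ext (nsmul_injOn_Iio_addOrderOf (x := x) ?_ ?_ e4.symm)
    · rw [ho]; exact lt_of_lt_of_le a.2 hm
    · rw [ho]; exact lt_of_lt_of_le b.2 hm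

end Orbits

section Col

variable {G Ω N : Type*} [Group G] [MulAction G Ω] [AddCommGroup N] [DistribMulAction G N]

theorem Aff.card_smul [Finite G] (A : Aff G Ω N) (n : N) : Nat.card G • n = 0 := by
  obtain ⟨g, hg, rfl⟩ := A.tr n
  have h : ∀ (k : ℕ) ω, A.e (g ^ k • ω) = A.e ω + k • A.c g := by
    intro k ω
    induction k with
    | zero => simp
    | succ k ih => rw [pow_succ', mul_smul, A.he, hg, ih, succ_nsmul, add_assoc]
  have := h (Nat.card G) (A.e.symm 0)
  rw [pow_card_eq_one', one_smul] at this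
  simpa using this.symm

theorem Aff.eq_zero [Finite G] (A : Aff G Ω N) {k : ℕ} (hk : k.Coprime (Nat.card G)) {n : N}
    (h : k • n = 0) : n = 0 := by
  have h1 : addOrderOf n ∣ 1 := by
    rw [← hk]
    exact Nat.dvd_gcd (addOrderOf_dvd_of_nsmul_eq_zero h)
      (addOrderOf_dvd_of_nsmul_eq_zero (A.card_smul n))
  simpa using h1

theorem Aff.triv (A : Aff G Ω N) {g : G} (h0 : A.c g = 0) (h : ∀ x : N, g • x = x) (ω : Ω) :
    g • ω = ω := A.e.injective (by rw [A.he, h, h0, add_zero])

theorem Aff.pres (A : Aff G Ω N) {κ : Type*} (f : N → κ) {g : G}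
    (h : ∀ ω, f (A.e (g • ω)) = f (A.e ω)) (x : N) : f (g • x + A.c g) = f x := by
  have := h (A.e.symm x)
  rwa [A.he, A.e.apply_symm_apply] at this

theorem Aff.col5 (A : Aff G Ω N) {v : Fin 3 → N} (hv : IsBase G v) :
    ∃ col : Ω → Fin 5, ∀ g : G, (∀ ω, col (g • ω) = col ω) → ∀ ω : Ω, g • ω = ω := by
  classical
  let f : N → Fin 5 := fun x => if x = 0 then 0 else if x = v 0 then 1 else if x = v 1 then 2
    else if x = v 2 then 3 else 4
  have hf : ∀ x y, f x = f y → (y = 0 ∨ y = v 0 ∨ y = v 1 ∨ y = v 2) → x = y := by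
    intro x y e hy
    simp only [f] at e
    split_ifs at e <;> simp_all
  refine ⟨fun ω => f (A.e ω), fun g hg => ?_⟩
  have h1 := A.pres f hg
  have h0 : A.c g = 0 := by simpa using hf _ _ (h1 0) (Or.inl rfl)
  simp only [h0, add_zero] at h1
  refine A.triv h0 (hv g fun i => hf _ _ (h1 _) ?_)
  fin_cases i <;> simp

theorem Aff.col3 [Finite G] (A : Aff G Ω N) (h3 : (3 : ℕ).Coprime (Nat.card G)) {v : Fin 2 → N}
    (hv : IsBase G v) :
    ∃ col : Ω → Fin 3, ∀ g : G, (∀ ω, col (g • ω) = col ω) → ∀ ω : Ω, g • ω = ω := by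
  classical
  have key : ∀ a b : N, (∀ g : G, g • a = a → g • b = b → ∀ x : N, g • x = x) →
      (∃ col : Ω → Fin 3, ∀ g : G, (∀ ω, col (g • ω) = col ω) → ∀ ω : Ω, g • ω = ω) ∨
      ∃ g : G, g • a = b ∧ g • b = a ∧ a ≠ b := by
    intro a b hab
    by_contra hne
    push Not at hne
    obtain ⟨hne1, hne2⟩ := hne
    let f : N → Fin 3 := fun x => if x = 0 then 0 else if x = a ∨ x = b then 1 else 2
    obtain ⟨g, hg, ω, hω⟩ := hne1 fun ω => f (A.e ω)
    have h1 := A.pres f hg
    have hf0 : ∀ x, f x = f 0 → x = 0 := by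
      intro x e
      simp only [f] at e
      split_ifs at e <;> simp_all
    have h0 : A.c g = 0 := by simpa using hf0 _ (h1 0)
    simp only [h0, add_zero] at h1
    have hf : ∀ y, (y = a ∨ y = b) → g • y = a ∨ g • y = b := by
      intro y hy
      by_cases hy0 : y = 0
      · rw [hy0, smul_zero, ← hy0]; exact hy
      have e := h1 y
      simp only [f] at e
      split_ifs at e <;> simp_all
    apply hω
    refine A.triv h0 (hab g ?_ ?_) ω
    · rcases hf a (Or.inl rfl) with e | e
      · exact e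
      · rcases hf b (Or.inr rfl) with e' | e'
        · rw [e, hne2 g e e']
        · rw [e, MulAction.injective g (e.trans e'.symm)]
    · rcases hf b (Or.inr rfl) with e | e
      · rcases hf a (Or.inl rfl) with e' | e'
        · rw [e, MulAction.injective g (e.trans e'.symm)]
        · rw [e, hne2 g e' e]
      · exact e
  have hb : ∀ g : G, g • v 0 = v 0 → g • v 1 = v 1 → ∀ x : N, g • x = x := fun g e0 e1 =>
    hv g fun i => by fin_cases i <;> assumption
  rcases key (v 0) (v 1) hb with h | ⟨g, e0, e1, hne⟩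
  · exact h
  rcases key (v 0) (-v 0 - v 1) (fun g e0 e1 => hb g e0 (by
    rw [smul_sub, smul_neg, e0, sub_right_inj] at e1; exact e1)) with h | ⟨g', e0', e1', -⟩
  · exact h
  exfalso
  have e2 : g' • v 1 = v 1 := by
    rw [smul_sub, smul_neg, e0'] at e1'
    rw [← sub_eq_zero, ← neg_eq_zero, ← sub_eq_zero.2 e1']
    abel
  have k1 : (g * g') • v 1 = v 0 := by rw [mul_smul, e2, e1]
  have k0 : (g * g') • v 0 = -v 0 - v 1 := by
    rw [mul_smul, e0', smul_sub, smul_neg, e0, e1]; abel
  have := smul_eq_of_pow h3 (g := g * g') (x := v 1) (by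
    rw [pow_succ, sq, mul_smul, mul_smul (g * g'), k1, k0, smul_sub, smul_neg, k0, k1]; abel)
  exact hne (k1.symm.trans this)

theorem three_cases {X : Type*} (f : X → X) (hf : Function.Injective f) {x y z : X}
    (h : ∀ t, (t = x ∨ t = y ∨ t = z) → f t = x ∨ f t = y ∨ f t = z) :
    (f (f x) = x ∧ f (f y) = y ∧ f (f z) = z) ∨ (f x = y ∧ f z = x) ∨
      (f (f x) = y ∧ f (f z) = x) := by
  have hx := h x (Or.inl rfl)
  have hy := h y (Or.inr (Or.inl rfl))
  have hz := h z (Or.inr (Or.inr rfl))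
  have inj : ∀ a b, f a = f b → a = b := fun a b e => hf e
  grind

theorem Aff.col2 [Finite G] (A : Aff G Ω N) (hodd : Odd (Nat.card G)) {v : Fin 2 → N}
    (hv : IsBase G v) :
    ∃ col : Ω → Fin 2, ∀ g : G, (∀ ω, col (g • ω) = col ω) → ∀ ω : Ω, g • ω = ω := by
  classical
  have hc : (2 : ℕ).Coprime (Nat.card G) := Nat.coprime_two_left.2 hodd
  have hcm : ∀ g : G, A.c (g * g) = g • A.c g + A.c g := by
    intro g
    have h1 := A.he (g * g) (A.e.symm 0)
    rw [mul_smul, A.he, A.he] at h1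
    simpa using h1.symm
  have key : ∀ a b : N, (∀ g : G, g • a = a → g • b = b → ∀ x : N, g • x = x) →
      (∃ col : Ω → Fin 2, ∀ g : G, (∀ ω, col (g • ω) = col ω) → ∀ ω : Ω, g • ω = ω) ∨
      ∃ g : G, (∃ ω : Ω, g • ω ≠ ω) ∧ A.c g = a ∧ g • b + a = 0 := by
    intro a b hab
    by_contra hne
    push Not at hne
    obtain ⟨hne1, hne2⟩ := hne
    let f : N → Fin 2 := fun x => if x = 0 ∨ x = a ∨ x = b then 0 else 1
    obtain ⟨g, hg, ω, hω⟩ := hne1 fun ω => f (A.e ω)
    have h1 := A.pres f hg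
    have hω2 : (g * g) • ω ≠ ω := fun e => hω (smul_eq_of_pow hc (by rwa [sq]))
    have hgg : ∀ x : N, g • (g • x + A.c g) + A.c g = (g * g) • x + A.c (g * g) := by
      intro x
      rw [hcm, mul_smul, smul_add, add_assoc]
    rcases three_cases (fun x => g • x + A.c g) (fun x y e => MulAction.injective g
      (add_right_cancel e)) (x := 0) (y := a) (z := b) (by
        intro t ht
        have e := h1 t
        simp only [f] at e
        split_ifs at e with h
        · exact h
        · simp at e) with h | h | h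
    · simp only [hgg, smul_zero, zero_add, ← hcm] at h
      obtain ⟨h0, ha, hb⟩ := h
      rw [h0, add_zero] at ha hb
      exact hω2 (A.triv h0 (hab _ ha hb) ω)
    · simp only [smul_zero, zero_add] at h
      exact hne2 g ⟨ω, hω⟩ h.1 (by rw [← h.1]; exact h.2)
    · simp only [hgg, smul_zero, zero_add, ← hcm] at h
      exact hne2 (g * g) ⟨ω, hω2⟩ h.1 (by rw [← h.1]; exact h.2)
  have hb : ∀ g : G, g • v 0 = v 0 → g • v 1 = v 1 → ∀ x : N, g • x = x := fun g e0 e1 =>
    hv g fun i => by fin_cases i <;> assumption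
  rcases key (v 0) (v 1) hb with h | ⟨g, ⟨ω, hω⟩, e0, e1⟩
  · exact h
  rcases key (v 0) (-v 1) (fun g e0 e1 => hb g e0 (by
    rw [smul_neg, neg_inj] at e1; exact e1)) with h | ⟨g', -, -, e1'⟩
  · exact h
  exfalso
  have k : (g⁻¹ * g') • v 1 = -v 1 := by
    rw [mul_smul, inv_smul_eq_iff, smul_neg, ← add_eq_zero_iff_eq_neg, add_comm, ← e1]
    congr 1
    rw [smul_neg, neg_add_eq_zero] at e1'
    exact e1'
  have k2 := smul_eq_of_pow hc (g := g⁻¹ * g') (x := v 1) (by
    rw [sq, mul_smul, k, smul_neg, k, neg_neg])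
  have h1 : v 1 = 0 := A.eq_zero hc (by rw [two_nsmul, add_eq_zero_iff_eq_neg, ← k, k2])
  rw [h1, smul_zero, zero_add] at e1
  exact hω (A.triv (e0.trans e1) (hb g (by rw [e1, smul_zero]) (by rw [h1, smul_zero])) ω)

end Col

end Cfsg.Agent.H12.RO
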