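import Cfsg.Agent.H12.RO2

/-!
Bases of linear groups, part 4: an abelian normal subgroup of a primitive linear group acts by
the scalars of a field, on which the group acts semilinearly.
-/

set_option autoImplicit false

namespace Cfsg.Agent.H12.RO

open MulAction

universe u

theorem exists_idem_pow {M : Type*} [Monoid M] [Finite M] (a : M) :
    ∃ k, 0 < k ∧ a ^ k * a ^ k = a ^ k := by
  obtain ⟨i, j, hij, e⟩ := Finite.exists_ne_map_eq_of_infinite (fun n : ℕ => a ^ (n + 1))
  wlog h : i < j generalizing i j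
  · exact this j i hij.symm e.symm (by omega)
  obtain ⟨d, rfl⟩ := Nat.exists_eq_add_of_lt h
  have h1 : ∀ m n, a ^ (i + 1 + n + m * (d + 1)) = a ^ (i + 1 + n) := by
    intro m n
    induction m with
    | zero => simp
    | succ m ih =>
      rw [show i + 1 + n + (m + 1) * (d + 1) = (i + d + 1 + 1) + (n + m * (d + 1)) by ring,
        pow_add, ← e, ← pow_add, ← ih]
      congr 1; ring
  refine ⟨(i + 1) * (d + 1), by positivity, ?_⟩
  have := h1 (i + 1) ((i + 1) * d)
  rw [← pow_add, show (i + 1) * (d + 1) + (i + 1) * (d + 1) =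
    i + 1 + (i + 1) * d + (i + 1) * (d + 1) by ring, this]
  congr 1; ring

theorem common_ker_of_nilpotent {V : Type*} [AddCommGroup V] [Nontrivial V]
    (s : Finset (AddMonoid.End V)) (hc : ∀ a ∈ s, ∀ b ∈ s, a * b = b * a)
    (hn : ∀ a ∈ s, IsNilpotent a) : ∃ x : V, x ≠ 0 ∧ ∀ a ∈ s, a x = 0 := by
  classical
  induction s using Finset.induction_on with
  | empty => obtain ⟨x, hx⟩ := exists_ne (0 : V); exact ⟨x, hx, by simp⟩
  | insert r s hr ih =>
    obtain ⟨x, hx, h⟩ := ih (fun a ha b hb => hc a (by simp [ha]) b (by simp [hb]))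
      (fun a ha => hn a (by simp [ha]))
    obtain ⟨m, hm⟩ := hn r (by simp)
    have hex : ∃ k, (r ^ k) x = 0 := ⟨m, by rw [hm]; rfl⟩
    have h0 : Nat.find hex ≠ 0 := by
      intro e
      have := Nat.find_spec hex
      rw [e, pow_zero] at this
      exact hx this
    obtain ⟨k, hk⟩ := Nat.exists_eq_succ_of_ne_zero h0
    refine ⟨(r ^ k) x, Nat.find_min hex (by omega), fun a ha => ?_⟩
    rcases Finset.mem_insert.1 ha with rfl | ha
    · have := Nat.find_spec hex
      rw [hk, pow_succ'] at this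
      exact this
    · have h1 : Commute a r := hc a (by simp [ha]) r (by simp)
      change (a * r ^ k) x = 0
      rw [(h1.pow_right k).eq]
      change (r ^ k) (a x) = 0
      rw [h a ha, map_zero]

theorem exists_field {G V : Type u} [Group G] [AddCommGroup V] [Finite V] [Nontrivial V]
    [DistribMulAction G V] (hp : Prim G V) (U : Subgroup G) [hU : U.Normal]
    (hc : ∀ a ∈ U, ∀ b ∈ U, a * b = b * a) :
    ∃ (K : Type u) (_ : Field K) (_ : Finite K) (_ : Module K V) (σ : G →* RingAut K),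
      (∀ u ∈ U, ∃ c : K, ∀ v : V, u • v = c • v) ∧
      (∀ (g : G) (c : K) (v : V), g • c • v = σ g c • g • v) ∧
      ∀ g : G, (∀ u ∈ U, g * u = u * g) → σ g = 1 := by
  classical
  let ρ : G →* AddMonoid.End V := DistribMulAction.toAddMonoidEnd G V
  let R : Subring (AddMonoid.End V) := Subring.closure (ρ '' U)
  have : Finite (AddMonoid.End V) := Finite.of_injective (fun f : AddMonoid.End V => (f : V → V))
    DFunLike.coe_injective
  have hconj : ∀ g : G, ∀ r ∈ R, ρ g * r * ρ g⁻¹ ∈ R := by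
    intro g r hr
    induction hr using Subring.closure_induction with
    | mem x hx =>
      obtain ⟨n, hn, rfl⟩ := hx
      rw [← map_mul, ← map_mul]
      exact Subring.subset_closure ⟨_, hU.conj_mem n hn g, rfl⟩
    | zero => simp
    | one => rw [mul_one, ← map_mul, mul_inv_cancel, map_one]; exact R.one_mem
    | add x y _ _ hx hy => rw [mul_add, add_mul]; exact R.add_mem hx hy
    | neg x _ hx => rw [mul_neg, neg_mul]; exact R.neg_mem hx
    | mul x y _ _ hx hy =>
      have : ρ g * (x * y) * ρ g⁻¹ = (ρ g * x * ρ g⁻¹) * (ρ g * y * ρ g⁻¹) := by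
        rw [mul_assoc (ρ g * x), ← mul_assoc (ρ g⁻¹), ← mul_assoc (ρ g⁻¹), ← map_mul,
          inv_mul_cancel, map_one, one_mul]
        simp only [mul_assoc]
      rw [this]
      exact R.mul_mem hx hy
  have hcent : ∀ ψ : AddMonoid.End V, (∀ u ∈ U, ρ u * ψ = ψ * ρ u) → ∀ r ∈ R, r * ψ = ψ * r := by
    intro ψ hψ r hr
    have : R ≤ Subring.centralizer {ψ} := Subring.closure_le.2 (by
      rintro _ ⟨u, hu, rfl⟩ _ rfl
      exact (hψ u hu).symm)
    exact (this hr ψ rfl).symm
  have hcomm : ∀ a ∈ R, ∀ b ∈ R, a * b = b * a := fun a ha b hb =>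
    hcent b (fun u hu => (hcent (ρ u) (fun w hw => by
      rw [← map_mul, ← map_mul, hc w hw u hu]) b hb).symm) a ha
  let cj : G → R →+* R := fun g =>
    { toFun := fun r => ⟨ρ g * r.1 * ρ g⁻¹, hconj g r.1 r.2⟩
      map_one' := Subtype.ext (by
        change ρ g * 1 * ρ g⁻¹ = 1
        rw [mul_one, ← map_mul, mul_inv_cancel, map_one])
      map_mul' := fun a b => Subtype.ext (AddMonoidHom.ext fun v => by
        change g • a.1 (b.1 (g⁻¹ • v)) = g • a.1 (g⁻¹ • g • b.1 (g⁻¹ • v))
        rw [inv_smul_smul])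
      map_zero' := Subtype.ext (by
        change ρ g * 0 * ρ g⁻¹ = 0
        simp)
      map_add' := fun a b => Subtype.ext (by
        change ρ g * (a.1 + b.1) * ρ g⁻¹ = ρ g * a.1 * ρ g⁻¹ + ρ g * b.1 * ρ g⁻¹
        rw [mul_add, add_mul]) }
  let φ₀ : G → RingAut R := fun g => RingEquiv.ofRingHom (cj g) (cj g⁻¹)
    (RingHom.ext fun r => Subtype.ext (AddMonoidHom.ext fun v => by
      change g • g⁻¹ • r.1 (g⁻¹⁻¹ • g⁻¹ • v) = r.1 v
      simp))
    (RingHom.ext fun r => Subtype.ext (AddMonoidHom.ext fun v => by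
      change g⁻¹ • g • r.1 (g⁻¹ • g⁻¹⁻¹ • v) = r.1 v
      simp))
  let φ : G →* RingAut R := MonoidHom.mk' φ₀ fun a b => RingEquiv.ext fun r =>
    Subtype.ext (AddMonoidHom.ext fun v => by
      change (a * b) • r.1 ((a * b)⁻¹ • v) = a • b • r.1 (b⁻¹ • a⁻¹ • v)
      rw [mul_inv_rev, mul_smul, mul_smul])
  have hφ : ∀ (g : G) (r : R) (v : V), (φ g r).1 v = g • r.1 (g⁻¹ • v) := fun _ _ _ => rfl
  have hcR : ∀ a b : R, a * b = b * a := fun a b => Subtype.ext (hcomm _ a.2 _ b.2)
  obtain ⟨v₀, hv₀⟩ := exists_ne (0 : V)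
  have hnt : Nontrivial R := ⟨⟨1, 0, fun h => hv₀ (congrArg (fun k : R => k.1 v₀) h)⟩⟩
  -- minimal idempotents
  let Min : R → Prop := fun e => e * e = e ∧ e ≠ 0 ∧ ∀ f : R, f * f = f → f * e = f → f = 0 ∨ f = e
  have hMin : ∀ g e, Min e → Min (φ g e) := by
    rintro g e ⟨h1, h2, h3⟩
    refine ⟨by rw [← map_mul, h1], by simpa using h2, fun f hf hfe => ?_⟩
    obtain ⟨f, rfl⟩ := (φ g).surjective f
    rw [← map_mul, (φ g).injective.eq_iff] at hf hfe
    rcases h3 f hf hfe with h | h
    · left; rw [h, map_zero]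
    · right; rw [h]
  have hbelow : ∀ f : R, f * f = f → f ≠ 0 → ∃ e, Min e ∧ e * f = e := by
    intro f hf hf0
    obtain ⟨e, ⟨h1, h2, h3⟩, hmin⟩ := (measure fun e : R => Set.ncard {x : V | e.1 x = x}).wf.has_min
      {e | e * e = e ∧ e ≠ 0 ∧ e * f = e} ⟨f, hf, hf0, hf⟩
    refine ⟨e, ⟨h1, h2, fun t ht hte => ?_⟩, h3⟩
    by_contra hne
    push Not at hne
    refine hmin t ⟨ht, hne.1, by rw [← hte, mul_assoc, h3]⟩ ?_
    have hsub : {x : V | t.1 x = x} ⊆ {x : V | e.1 x = x} := by
      intro x hx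
      change e.1 x = x
      rw [← (show t.1 x = x from hx)]
      change (e * t).1 x = t.1 x
      rw [hcR, hte]
    refine Set.ncard_lt_ncard (Set.ssubset_iff_subset_ne.2 ⟨hsub, fun h => hne.2 ?_⟩)
    rw [← hte]
    refine Subtype.ext (AddMonoidHom.ext fun x => ?_)
    have : e.1 x ∈ {x : V | e.1 x = x} := congrArg (fun k : R => k.1 x) h1
    rw [← h] at this
    exact this
  have horth : ∀ e e', Min e → Min e' → e ≠ e' → e * e' = 0 := by
    intro e e' he he' hne
    have hi : e * e' * (e * e') = e * e' := by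
      rw [mul_assoc, ← mul_assoc e', hcR e' e, mul_assoc, he'.1, ← mul_assoc, he.1]
    rcases he.2.2 (e * e') hi (by rw [mul_assoc, hcR e' e, ← mul_assoc, he.1]) with h | h
    · exact h
    · rcases he'.2.2 e he.1 h with h' | h'
      · exact absurd h' he.2.1
      · exact absurd h' hne
  let Ω := {e : R // Min e}
  let _ : Fintype Ω := Fintype.ofFinite Ω
  have hsum : ∑ e : Ω, e.1 = 1 := by
    have h1 : ∀ e : Ω, e.1 * ∑ e : Ω, e.1 = e.1 := by
      intro e
      rw [Finset.mul_sum, Finset.sum_eq_single e, e.2.1]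
      · intro b _ hb
        exact horth _ _ e.2 b.2 fun h => hb (Subtype.ext h.symm)
      · simp
    by_contra hne
    have h2 : (∑ e : Ω, e.1) * ∑ e : Ω, e.1 = ∑ e : Ω, e.1 := by
      conv_lhs => rw [Finset.sum_mul]
      exact Finset.sum_congr rfl fun e _ => h1 e
    obtain ⟨e, he, h3⟩ := hbelow (1 - ∑ e : Ω, e.1) (by
      rw [mul_sub, sub_mul, sub_mul, h2]; simp) (fun h => hne (sub_eq_zero.1 h).symm)
    rw [mul_sub, mul_one, h1 ⟨e, he⟩, sub_self] at h3
    exact he.2.1 h3.symm
  let _ : MulAction G Ω :=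
    { smul := fun g e => ⟨φ g e.1, hMin g e.1 e.2⟩
      one_smul := fun e => Subtype.ext (by
        change φ 1 e.1 = e.1
        rw [map_one]; rfl)
      mul_smul := fun a b e => Subtype.ext (by
        change φ (a * b) e.1 = φ a (φ b e.1)
        rw [map_mul]; rfl) }
  let S : Sys G V Ω :=
    { e := fun e => e.1.1
      sum := fun x => by
        let ev : R →+ V := { toFun := fun k => k.1 x, map_zero' := rfl, map_add' := fun _ _ => rfl }
        have := congrArg ev hsum
        rw [map_sum] at this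
        exact this
      orth := fun a b hab x =>
        congrArg (fun k : R => k.1 x) (horth _ _ a.2 b.2 fun h => hab (Subtype.ext h))
      equiv := fun g e x => by
        change g • e.1.1 (g⁻¹ • g • x) = g • e.1.1 x
        rw [inv_smul_smul]
      ne := fun e => by
        by_contra h
        push Not at h
        exact e.2.2.1 (Subtype.ext (AddMonoidHom.ext h)) }
  have hsub := hp.2 Ω S
  have hidem : ∀ f : R, f * f = f → f ≠ 0 → f = 1 := by
    intro f hf hf0
    obtain ⟨e, he, h3⟩ := hbelow f hf hf0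
    have : e = 1 := by
      rw [← hsum, Fintype.sum_subsingleton _ (⟨e, he⟩ : Ω)]
    rw [this, one_mul] at h3
    exact h3
  have hnil : ∀ r : R, IsNilpotent r → r = 0 := by
    let N : AddSubgroup V :=
      { carrier := {x | ∀ r : R, IsNilpotent r → r.1 x = 0}
        add_mem' := fun {a b} ha hb r hr => by rw [map_add, ha r hr, hb r hr, add_zero]
        zero_mem' := fun r _ => map_zero _
        neg_mem' := fun {a} ha r hr => by rw [map_neg, ha r hr, neg_zero] }
    have hN : Inv G N := by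
      intro g x hx r hr
      have := hx (φ g⁻¹ r) (hr.map _)
      rw [hφ, inv_inv, inv_smul_eq_iff, smul_zero] at this
      exact this
    rcases hp.1 N hN with h | h
    · exfalso
      let _ : Fintype R := Fintype.ofFinite R
      obtain ⟨x, hx, h2⟩ := common_ker_of_nilpotent
        ((Finset.univ.filter fun r : R => IsNilpotent r).image Subtype.val) (by
          intro a ha b hb
          obtain ⟨a, -, rfl⟩ := Finset.mem_image.1 ha
          obtain ⟨b, -, rfl⟩ := Finset.mem_image.1 hb
          exact hcomm _ a.2 _ b.2) (by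
          intro a ha
          obtain ⟨b, hb, rfl⟩ := Finset.mem_image.1 ha
          exact IsNilpotent.map (Finset.mem_filter.1 hb).2 R.subtype)
      have : x ∈ N := fun r hr => h2 _ (Finset.mem_image.2 ⟨r, by simp [hr], rfl⟩)
      rw [h, AddSubgroup.mem_bot] at this
      exact hx this
    · intro r hr
      refine Subtype.ext (AddMonoidHom.ext fun x => ?_)
      have : x ∈ N := h ▸ AddSubgroup.mem_top x
      exact this r hr
  have : NoZeroDivisors R := ⟨fun {a b} hab => by
    by_contra hne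
    push Not at hne
    obtain ⟨k, hk, e⟩ := exists_idem_pow a
    have h1 := hidem _ e fun h => hne.1 (hnil a ⟨k, h⟩)
    obtain ⟨k, rfl⟩ := Nat.exists_eq_succ_of_ne_zero hk.ne'
    apply hne.2
    rw [← one_mul b, ← h1, pow_succ, mul_assoc, hab, mul_zero]⟩
  have : IsDomain R := NoZeroDivisors.to_isDomain R
  have hF : IsField R := Finite.isDomain_to_isField R
  let M : Module R V := inferInstance
  refine ⟨R, hF.toField, inferInstance, M, φ,
    fun n hn => ⟨⟨ρ n, Subring.subset_closure ⟨n, hn, rfl⟩⟩, fun v => rfl⟩, fun g c v => ?_,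
    fun g hg => RingEquiv.ext fun r => Subtype.ext (AddMonoidHom.ext fun v => ?_)⟩
  · change g • c.1 v = g • c.1 (g⁻¹ • g • v)
    rw [inv_smul_smul]
  · change g • r.1 (g⁻¹ • v) = r.1 v
    have := hcent (ρ g) (fun u hu => by rw [← map_mul, ← map_mul, hg u hu]) r.1 r.2
    have h2 : r.1 (g • g⁻¹ • v) = g • r.1 (g⁻¹ • v) := DFunLike.congr_fun this (g⁻¹ • v)
    rw [← h2, smul_inv_smul]

end Cfsg.Agent.H12.RO
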