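import Cfsg.Agent.H12.RO4

/-!
Bases of linear groups, part 5: the structure of a primitive solvable linear group.
-/

set_option autoImplicit false

namespace Cfsg.Agent.H12.RO

open MulAction
open scoped commutatorElement

universe u

section Cls2

variable {G : Type*} [Group G]

theorem pow_mul_cls2 {a b z : G} (h : b * a = a * b * z) (hzb : Commute z b) (n : ℕ) :
    b ^ n * a = a * b ^ n * z ^ n := by
  induction n with
  | zero => simp
  | succ n ih =>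
    rw [pow_succ', mul_assoc, ih, ← mul_assoc, ← mul_assoc, h, mul_assoc (a * b),
      (hzb.pow_right n).eq, pow_succ' z]
    simp only [mul_assoc]

theorem mul_pow_cls2 {a b z : G} (h : b * a = a * b * z) (hza : Commute z a) (hzb : Commute z b)
    (n : ℕ) : (a * b) ^ n = a ^ n * b ^ n * z ^ n.choose 2 := by
  induction n with
  | zero => simp
  | succ n ih =>
    rw [pow_succ, ih, Nat.choose_succ_succ' n 1, Nat.choose_one_right, pow_add z,
      mul_assoc (a ^ n * b ^ n), ((hza.mul_right hzb).pow_left _).eq, mul_assoc (a ^ n),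
      ← mul_assoc (b ^ n), ← mul_assoc (b ^ n), pow_mul_cls2 h hzb, mul_assoc (a * b ^ n),
      (hzb.pow_left n).eq, pow_succ a, pow_succ b]
    simp only [mul_assoc]

theorem swap_comm {a b : G} (ha : Commute ⁅b, a⁆ a) (hb : Commute ⁅b, a⁆ b) :
    b * a = a * b * ⁅b, a⁆ := by
  rw [← (ha.mul_right hb).eq, commutatorElement_def]
  group

theorem comm_pow_eq_one {a b : G} (ha : Commute ⁅b, a⁆ a) (hb : Commute ⁅b, a⁆ b) {n : ℕ}
    (h : Commute (b ^ n) a) : ⁅b, a⁆ ^ n = 1 := by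
  have := pow_mul_cls2 (swap_comm ha hb) hb n
  rw [h.eq] at this
  exact (mul_eq_left.1 this.symm)

end Cls2

theorem exists_norm {G N : Type*} [Group G] [Finite G] [AddCommGroup N] [DistribMulAction G N]
    (R : Subgroup G) [hR : R.Normal] {r : ℕ} (hr : r.Prime)
    (hpow : ∀ ρ ∈ R, ∀ w : N, ρ ^ r • w = w) :
    ∃ (ν : N →+ N) (k : ℕ), (∀ (g : G) w, ν (g • w) = g • ν w) ∧ (∀ ρ ∈ R, ∀ w, ρ • ν w = ν w) ∧
      ∀ w, (∀ ρ ∈ R, ρ • w = w) → ν w = r ^ k • w := by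
  classical
  let f := DistribMulAction.toModuleAut ℤ N (S := G)
  let Γ := R.map f
  have hfin : Finite Γ := Finite.of_surjective (fun x : R => (⟨f x, x, x.2, rfl⟩ : Γ)) (by
    rintro ⟨_, x, hx, rfl⟩
    exact ⟨⟨x, hx⟩, rfl⟩)
  let _ : Fintype Γ := Fintype.ofFinite Γ
  have := Fact.mk hr
  have hp : IsPGroup r Γ := by
    rintro ⟨_, x, hx, rfl⟩
    refine ⟨1, Subtype.ext ?_⟩
    change f x ^ r ^ 1 = 1
    rw [pow_one, ← map_pow]
    exact LinearEquiv.ext (hpow x hx)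
  obtain ⟨k, hk⟩ := IsPGroup.iff_card.1 hp
  have hcj : ∀ g : G, ∀ γ ∈ Γ, f g * γ * (f g)⁻¹ ∈ Γ := by
    rintro g _ ⟨x, hx, rfl⟩
    exact ⟨_, hR.conj_mem x hx g, by simp⟩
  refine ⟨AddMonoidHom.mk' (fun w => ∑ γ : Γ, γ.1 w) fun a b => by
    simp [Finset.sum_add_distrib], k, fun g w => ?_, fun ρ hρ w => ?_, fun w hw => ?_⟩
  · change ∑ γ : Γ, γ.1 (g • w) = g • ∑ γ : Γ, γ.1 w
    rw [Finset.smul_sum]
    symm
    refine Finset.sum_bij' (fun γ _ => ⟨_, hcj g γ.1 γ.2⟩) (fun γ _ => ⟨_, hcj g⁻¹ γ.1 γ.2⟩)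
      (by simp) (by simp) (fun γ _ => Subtype.ext (by simp [mul_assoc]))
      (fun γ _ => Subtype.ext (by simp [mul_assoc])) fun γ _ => ?_
    change g • γ.1 w = f g (γ.1 ((f g)⁻¹ (g • w)))
    rw [← map_inv]
    change g • γ.1 w = g • (γ.1 (g⁻¹ • (g • w)))
    rw [inv_smul_smul]
  · change ρ • ∑ γ : Γ, γ.1 w = ∑ γ : Γ, γ.1 w
    rw [Finset.smul_sum]
    exact Fintype.sum_equiv (Equiv.mulLeft (⟨f ρ, ρ, hρ, rfl⟩ : Γ)) _ _ fun γ => rfl
  · change ∑ γ : Γ, γ.1 w = _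
    rw [Finset.sum_congr rfl (g := fun _ => w), Finset.sum_const, Finset.card_univ,
      ← Nat.card_eq_fintype_card, hk]
    rintro ⟨_, x, hx, rfl⟩ -
    exact hw x hx

theorem exists_fixed_of_ppow {G N : Type*} [Group G] [Finite G] [AddCommGroup N] [Finite N]
    [Nontrivial N] [DistribMulAction G N] (R : Subgroup G) {r : ℕ} (hr : r.Prime)
    (hN : ∀ w : N, r • w = 0) (hpow : ∀ ρ ∈ R, ∃ k, ∀ w : N, ρ ^ r ^ k • w = w) :
    ∃ w : N, w ≠ 0 ∧ ∀ ρ ∈ R, ρ • w = w := by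
  have := Fact.mk hr
  let f := toPermHom G N
  let Γ := R.map f
  have hp : IsPGroup r Γ := by
    rintro ⟨_, x, hx, rfl⟩
    obtain ⟨k, hk⟩ := hpow x hx
    refine ⟨k, Subtype.ext ?_⟩
    change f x ^ r ^ k = 1
    rw [← map_pow]
    exact Equiv.ext hk
  have hd : r ∣ Nat.card N := by
    obtain ⟨x, hx⟩ := exists_ne (0 : N)
    rw [← addOrderOf_eq_prime (hN x) hx]
    exact addOrderOf_dvd_natCard x
  obtain ⟨b, hb, hne⟩ := hp.exists_fixed_point_of_prime_dvd_card_of_fixed_point N hd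
    (a := 0) (by rintro ⟨_, x, hx, rfl⟩; exact smul_zero x)
  exact ⟨b, hne.symm, fun ρ hρ => hb ⟨f ρ, ρ, hρ, rfl⟩⟩

section Omega

variable {G : Type u} [Group G] [Finite G]

theorem exists_omega [Group.IsSolvable G] {U M : Subgroup G} [hU : U.Normal] [hM : M.Normal]
    [IsCyclic U] (hUM : U < M) (hc : ∀ u ∈ U, ∀ x ∈ M, Commute u x)
    (hmin : ∀ L : Subgroup G, L.Normal → U ≤ L → L ≤ M → L = U ∨ L = M)
    (hna : ¬ ∀ a ∈ M, ∀ b ∈ M, a * b = b * a) :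
    ∃ (Ω : Subgroup G) (r : ℕ), Ω.Normal ∧ Ω ≤ M ∧ r.Prime ∧ r ∣ Nat.card G ∧
      (∀ a ∈ M, ∀ b ∈ M, ⁅a, b⁆ ∈ U) ∧ (∀ x ∈ M, x ^ r ∈ U) ∧
      (∀ x ∈ M, ∃ ω ∈ Ω, ∃ u ∈ U, x = ω * u) ∧ (∀ t ∈ Ω, t ∈ U → t ^ r = 1) ∧
      ∀ t ∈ Ω, t ^ (r * 2) = 1 := by
  classical
  obtain ⟨hcomm, r, hr, hpow, k, hk⟩ := chief_elem hUM hmin
  have hcm : ∀ a ∈ M, ∀ b ∈ M, ⁅a, b⁆ ∈ U := fun a ha b hb =>
    hcomm (Subgroup.commutator_mem_commutator ha hb)
  have hrd : r ∣ Nat.card G := by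
    have h1 : k ≠ 0 := by
      rintro rfl
      rw [pow_zero, Subgroup.relIndex_eq_one] at hk
      exact hUM.not_ge hk
    refine (dvd_pow_self r h1).trans (hk ▸ ?_)
    exact (Subgroup.relIndex_dvd_card _ _).trans M.card_subgroup_dvd_card
  have hsw : ∀ a ∈ M, ∀ b ∈ M, ∀ n, (a * b) ^ n = a ^ n * b ^ n * ⁅b, a⁆ ^ n.choose 2 :=
    fun a ha b hb n => mul_pow_cls2 (swap_comm (hc _ (hcm b hb a ha) a ha)
      (hc _ (hcm b hb a ha) b hb)) (hc _ (hcm b hb a ha) a ha) (hc _ (hcm b hb a ha) b hb) n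
  have hcr : ∀ a ∈ M, ∀ b ∈ M, ⁅b, a⁆ ^ r = 1 := fun a ha b hb =>
    comm_pow_eq_one (hc _ (hcm b hb a ha) a ha) (hc _ (hcm b hb a ha) b hb)
      (hc _ (hpow b hb) a ha)
  -- the exponent `m` (`r` for odd `r`, `4` for `r = 2`)
  obtain ⟨j, hj, hmul⟩ : ∃ j, (j = 1 ∨ r = 2 ∧ j = 2) ∧ (r = 2 → j = 2) ∧
      ∀ a ∈ M, ∀ b ∈ M, (a * b) ^ (r * j) = a ^ (r * j) * b ^ (r * j) := by
    rcases hr.eq_two_or_odd' with rfl | ho
    · refine ⟨2, Or.inr ⟨rfl, rfl⟩, fun _ => rfl, fun a ha b hb => ?_⟩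
      rw [hsw a ha b hb, show (2 * 2 : ℕ).choose 2 = 2 * 3 by decide, pow_mul _ 2 3, hcr a ha b hb]
      simp
    · refine ⟨1, Or.inl rfl, fun h => absurd ho (by rw [h]; decide), fun a ha b hb => ?_⟩
      obtain ⟨t, ht⟩ := ho
      rw [mul_one, hsw a ha b hb, show r.choose 2 = r * t by
        rw [Nat.choose_two_right, ht, Nat.add_sub_cancel, ← mul_assoc, mul_comm _ 2, mul_assoc,
          Nat.mul_div_cancel_left _ two_pos], pow_mul, hcr a ha b hb]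
      simp
  obtain ⟨hj2, hmul⟩ := hmul
  have hUc : ∀ u ∈ U, ∀ v ∈ U, Commute u v := fun u hu v hv => hc u hu v (hUM.le hv)
  let Nn : Subgroup G :=
    { carrier := {x | x ∈ M ∧ ∃ u ∈ U, x ^ (r * j) = u ^ (r * j)}
      mul_mem' := by
        rintro a b ⟨ha, u, hu, e⟩ ⟨hb, v, hv, e'⟩
        exact ⟨M.mul_mem ha hb, u * v, U.mul_mem hu hv, by
          rw [hmul a ha b hb, e, e', (hUc u hu v hv).mul_pow]⟩
      one_mem' := ⟨M.one_mem, 1, U.one_mem, rfl⟩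
      inv_mem' := by
        rintro a ⟨ha, u, hu, e⟩
        exact ⟨M.inv_mem ha, u⁻¹, U.inv_mem hu, by rw [inv_pow, inv_pow, e]⟩ }
  have hNn : Nn.Normal := ⟨by
    rintro a ⟨ha, u, hu, e⟩ g
    exact ⟨hM.conj_mem a ha g, _, hU.conj_mem u hu g, by rw [conj_pow, conj_pow, e]⟩⟩
  have hNM : Nn = M := by
    rcases hmin Nn hNn (fun u hu => ⟨hUM.le hu, u, hu, rfl⟩) (fun a ha => ha.1) with h | h
    swap
    · exact h
    exfalso
    apply hna
    obtain ⟨⟨u₁, hu₁⟩, hgen⟩ := IsCyclic.exists_monoid_generator (α := U)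
    have hgen' : ∀ u ∈ U, ∃ a : ℕ, u₁ ^ a = u := fun u hu => by
      obtain ⟨a, ha⟩ := hgen ⟨u, hu⟩
      exact ⟨a, congrArg Subtype.val ha⟩
    intro s hs t ht
    by_cases hsU : s ∈ U
    · exact (hc s hsU t ht).eq
    obtain ⟨a, ha⟩ := hgen' _ (hpow s hs)
    obtain ⟨b, hb⟩ := hgen' _ (hpow t ht)
    have hra : ¬ r ∣ a := by
      rintro ⟨c, rfl⟩
      apply hsU
      rw [← h]
      exact ⟨hs, u₁ ^ c, U.pow_mem hu₁ c, by
        rw [pow_mul, ← ha, ← pow_mul, ← pow_mul]; congr 1; ring⟩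
    obtain ⟨c, d, hcd⟩ : ∃ c d : ℕ, a * c + b = r * d := by
      have := Fact.mk hr
      have ha0 : (a : ZMod r) ≠ 0 := by rwa [Ne, ZMod.natCast_eq_zero_iff]
      obtain ⟨d, hd⟩ : r ∣ a * (-(b : ZMod r) / a).val + b := by
        rw [← ZMod.natCast_eq_zero_iff]
        push_cast
        rw [ZMod.natCast_zmod_val]
        field_simp
        ring
      exact ⟨_, d, hd⟩
    have hmem : s ^ c * t ∈ U := by
      rw [← h]
      refine ⟨M.mul_mem (M.pow_mem hs c) ht, u₁ ^ d, U.pow_mem hu₁ d, ?_⟩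
      rw [hmul _ (M.pow_mem hs c) _ ht, ← pow_mul, mul_comm c, mul_assoc, pow_mul, pow_mul t,
        ← ha, ← hb, ← pow_mul, ← pow_mul, ← pow_add, ← pow_mul]
      congr 1
      calc a * (j * c) + b * j = (a * c + b) * j := by ring
        _ = d * (r * j) := by rw [hcd]; ring
    have := (hc _ hmem s hs).eq
    rw [mul_assoc, ← mul_assoc s, ← pow_succ', pow_succ, mul_assoc, mul_right_inj] at this
    exact this.symm
  let S : Subgroup G :=
    { carrier := {x | x ∈ M ∧ x ^ (r * j) = 1}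
      mul_mem' := by
        rintro a b ⟨ha, e⟩ ⟨hb, e'⟩
        exact ⟨M.mul_mem ha hb, by rw [hmul a ha b hb, e, e', mul_one]⟩
      one_mem' := ⟨M.one_mem, one_pow _⟩
      inv_mem' := by
        rintro a ⟨ha, e⟩
        exact ⟨M.inv_mem ha, by rw [inv_pow, e, inv_one]⟩ }
  have hS : S.Normal := ⟨by
    rintro a ⟨ha, e⟩ g
    exact ⟨hM.conj_mem a ha g, by rw [conj_pow, e]; simp⟩⟩
  have hSU : ∀ x ∈ M, ∃ ω ∈ S, ∃ u ∈ U, x = ω * u := by
    intro x hx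
    obtain ⟨-, u, hu, e⟩ : x ∈ Nn := hNM ▸ hx
    refine ⟨x * u⁻¹, ⟨M.mul_mem hx (M.inv_mem (hUM.le hu)), ?_⟩, u, hu, by simp⟩
    rw [hmul x hx _ (M.inv_mem (hUM.le hu)), e, inv_pow, mul_inv_cancel]
  by_cases hr2 : r ≠ 2
  · have hj1 : j = 1 := hj.resolve_right fun h => hr2 h.1
    have h1 : ∀ t ∈ S, t ^ r = 1 := fun t ht => by
      have := ht.2
      rwa [hj1, mul_one] at this
    exact ⟨S, r, hS, fun a ha => ha.1, hr, hrd, hcm, hpow, hSU, fun t ht _ => h1 t ht,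
      fun t ht => by rw [pow_mul, h1 t ht, one_pow]⟩
  push Not at hr2
  have hj2' := hj2 hr2
  subst hr2 hj2'
  let Z : Subgroup G :=
    { carrier := {x | x ∈ U ∧ x ^ 2 = 1}
      mul_mem' := by
        rintro a b ⟨ha, e⟩ ⟨hb, e'⟩
        exact ⟨U.mul_mem ha hb, by rw [(hUc a ha b hb).mul_pow, e, e', mul_one]⟩
      one_mem' := ⟨U.one_mem, one_pow _⟩
      inv_mem' := by
        rintro a ⟨ha, e⟩
        exact ⟨U.inv_mem ha, by rw [inv_pow, e, inv_one]⟩ }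
  have hZ : Z.Normal := ⟨by
    rintro a ⟨ha, e⟩ g
    exact ⟨hU.conj_mem a ha g, by rw [conj_pow, e]; simp⟩⟩
  have hZc : ∀ z ∈ Z, ∀ g : G, g * z * g⁻¹ = z := by
    intro z hz g
    by_cases h1 : z = 1
    · simp [h1]
    have h2 := hZ.conj_mem z hz g
    have h3 : g * z * g⁻¹ ≠ 1 := by simpa using h1
    let _ : Fintype U := Fintype.ofFinite U
    have h4 := IsCyclic.card_pow_eq_one_le (α := U) (n := 2) two_pos
    by_contra hne
    have h5 : ({1, ⟨z, hz.1⟩, ⟨_, h2.1⟩} : Finset U) ⊆ Finset.univ.filter fun a : U => a ^ 2 = 1 := by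
      intro a ha
      simp only [Finset.mem_insert, Finset.mem_singleton] at ha
      rcases ha with rfl | rfl | rfl
      · simp
      · exact Finset.mem_filter.2 ⟨Finset.mem_univ _, Subtype.ext hz.2⟩
      · exact Finset.mem_filter.2 ⟨Finset.mem_univ _, Subtype.ext h2.2⟩
    have h6 := Finset.card_le_card h5
    rw [Finset.card_eq_three.2 ⟨_, _, _, fun e => h1 (congrArg Subtype.val e).symm,
      fun e => h3 (congrArg Subtype.val e).symm, fun e => hne (congrArg Subtype.val e).symm,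
      rfl⟩] at h6
    omega
  have hsq : ∀ s ∈ S, s ^ 2 ∈ Z := fun s hs => ⟨hpow s hs.1, by rw [← pow_mul]; exact hs.2⟩
  obtain ⟨W, _, _, π, hπ⟩ := exists_sec Z S (Subgroup.commutator_le.2 fun a ha b hb =>
    ⟨hcm a ha.1 b hb.1, hcr b hb.1 a ha.1⟩)
  obtain ⟨W', _, _, π', hπ'⟩ := exists_sec U M hcomm
  have hirr := hπ'.irr hUM.le hmin
  have hfin := hπ'.finite
  let N₀ := (toPermHom G W').ker
  have hN₀ : ∀ g, g ∈ N₀ ↔ ∀ w : W', g • w = w := fun g => by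
    rw [MonoidHom.mem_ker, Equiv.ext_iff]; rfl
  have hN₀W : ∀ g ∈ N₀, ∀ w : W, g • w = w := by
    intro g hg w
    obtain ⟨s, hs, rfl⟩ := hπ.surj w
    rw [← hπ.conj g s hs, eq_comm, hπ.eq_iff hs (hS.conj_mem s hs g)]
    have h1 : s⁻¹ * (g * s * g⁻¹) ∈ U := by
      rw [← hπ'.eq_iff hs.1 (hM.conj_mem s hs.1 g), hπ'.conj g s hs.1, (hN₀ g).1 hg]
    refine ⟨h1, ?_⟩
    have h2 : (s * (s⁻¹ * (g * s * g⁻¹))) ^ 2 = s ^ 2 := by
      rw [mul_inv_cancel_left, conj_pow, hZc _ (hsq s hs)]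
    rwa [(hc _ h1 s hs.1).symm.mul_pow, mul_eq_left] at h2
  obtain ⟨x, hxM, hxU⟩ := SetLike.exists_of_lt hUM
  have hx0 : π' x ≠ 0 := fun e => hxU ((hπ'.ker x hxM).1 e)
  have hN₀t : N₀ < ⊤ := by
    rw [lt_top_iff_ne_top]
    intro e
    have htriv : ∀ (g : G) (w : W'), g • w = w := fun g => (hN₀ g).1 (e ▸ Subgroup.mem_top g)
    rcases hirr (AddSubgroup.zmultiples (π' x)) (fun g v hv => by rwa [htriv]) with h | h
    · exact hx0 (AddSubgroup.mem_bot.1 (h ▸ AddSubgroup.mem_zmultiples _))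
    apply hna
    have key : ∀ a ∈ M, ∃ n : ℕ, ∃ u ∈ U, a = x ^ n * u := by
      intro a ha
      obtain ⟨n, hn⟩ : π' a ∈ AddSubmonoid.multiples (π' x) := by
        rw [mem_multiples_iff_mem_zmultiples, h]; trivial
      refine ⟨n, (x ^ n)⁻¹ * a, ?_, by simp⟩
      rw [← hπ'.eq_iff (M.pow_mem hxM n) ha, hπ'.pow hxM]
      exact hn
    intro a ha b hb
    obtain ⟨m, u, hu, rfl⟩ := key a ha
    obtain ⟨n, v, hv, rfl⟩ := key b hb
    exact (((Commute.refl x).pow_pow m n).mul_right (hc v hv _ (M.pow_mem hxM m)).symm).mul_left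
      (hc u hu _ hb)
  obtain ⟨R, hR, hR1, -, hRmin⟩ := exists_chief_above hN₀t
  obtain ⟨-, r', hr', hpow', -⟩ := chief_elem hR1 hRmin
  have hfix : ∀ w : W', (∀ ρ ∈ R, ρ • w = w) → w = 0 := by
    let F : AddSubgroup W' :=
      { carrier := {w | ∀ ρ ∈ R, ρ • w = w}
        add_mem' := fun {a b} ha hb ρ hρ => by rw [smul_add, ha ρ hρ, hb ρ hρ]
        zero_mem' := fun ρ _ => smul_zero ρ
        neg_mem' := fun {a} ha ρ hρ => by rw [smul_neg, ha ρ hρ] }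
    rcases hirr F (fun g v hv ρ hρ => by
      have := hv _ (hR.conj_mem ρ hρ g⁻¹)
      rw [inv_inv, mul_smul, mul_smul, inv_smul_eq_iff] at this
      exact this) with h | h
    · intro w hw
      have : w ∈ F := hw
      rwa [h, AddSubgroup.mem_bot] at this
    · exfalso
      refine hR1.not_ge fun ρ hρ => (hN₀ ρ).2 fun w => ?_
      have : w ∈ F := h ▸ AddSubgroup.mem_top w
      exact this ρ hρ
  have hodd : Odd r' := by
    refine hr'.eq_two_or_odd'.resolve_left ?_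
    rintro rfl
    have : Nontrivial W' := ⟨⟨_, _, hx0⟩⟩
    obtain ⟨w, hw0, hw⟩ := exists_fixed_of_ppow (N := W') R Nat.prime_two (fun w => by
      obtain ⟨a, ha, rfl⟩ := hπ'.surj w
      rw [← hπ'.pow ha, hπ'.ker _ (M.pow_mem ha 2)]
      exact hpow a ha) fun ρ hρ => ⟨1, (hN₀ _).1 (by rw [pow_one]; exact hpow' ρ hρ)⟩
    exact hw0 (hfix w hw)
  obtain ⟨ν, k', hν1, hν2, hν3⟩ := exists_norm (N := W) R hr' fun ρ hρ => hN₀W _ (hpow' ρ hρ)
  have h2W : ∀ w : W, 2 • w = 0 := fun w => by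
    obtain ⟨a, ha, rfl⟩ := hπ.surj w
    rw [← hπ.pow ha, hπ.ker _ (S.pow_mem ha 2)]
    exact hsq a ha
  have hν4 : ∀ w, (∀ ρ ∈ R, ρ • w = w) → ν w = w := by
    intro w hw
    obtain ⟨t, ht⟩ := hodd.pow (n := k')
    rw [hν3 w hw, ht, add_smul, mul_comm, mul_smul, h2W, smul_zero, zero_add, one_smul]
  have hinv : Inv G ν.ker := fun g w hw => by
    rw [AddMonoidHom.mem_ker] at hw ⊢
    rw [hν1, hw, smul_zero]
  refine ⟨hπ.pre ν.ker, 2, hπ.pre_normal hinv, fun a ha => ha.1.1, hr, hrd, hcm, hpow,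
    fun y hy => ?_, fun t ht htU => ?_, fun t ht => ht.1.2⟩
  · obtain ⟨s, hs, u, hu, rfl⟩ := hSU y hy
    obtain ⟨s', hs', e⟩ := hπ.surj (ν (π s))
    have hs'U : s' ∈ U := by
      rw [← hπ'.ker s' hs'.1]
      refine hfix _ fun ρ hρ => ?_
      rw [← hπ'.conj ρ s' hs'.1, eq_comm, hπ'.eq_iff hs'.1 (hM.conj_mem s' hs'.1 ρ)]
      have : s'⁻¹ * (ρ * s' * ρ⁻¹) ∈ Z := by
        rw [← hπ.eq_iff hs' (hS.conj_mem s' hs' ρ), hπ.conj ρ s' hs', e, hν2 ρ hρ]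
      exact this.1
    refine ⟨s * s'⁻¹, ⟨S.mul_mem hs (S.inv_mem hs'), ?_⟩, s' * u, U.mul_mem hs'U hu, by group⟩
    rw [AddMonoidHom.mem_ker, hπ.mul _ hs _ (S.inv_mem hs'), hπ.inv hs', e, map_add, map_neg,
      hν4 _ fun ρ hρ => hν2 ρ hρ _, add_neg_cancel]
  · have h1 : ∀ g : G, g • π t = π t := by
      intro g
      rw [← hπ.conj g t ht.1, hπ.eq_iff (hS.conj_mem t ht.1 g) ht.1]
      refine ⟨U.mul_mem (U.inv_mem (hU.conj_mem t htU g)) htU, ?_⟩
      rw [(hUc _ (U.inv_mem (hU.conj_mem t htU g)) t htU).mul_pow, inv_pow, conj_pow,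
        hZc _ (hsq t ht.1), inv_mul_cancel]
    have h2 : ν (π t) = 0 := ht.2
    rw [hν4 _ fun ρ _ => h1 ρ] at h2
    exact ((hπ.ker t ht.1).1 h2).2

end Omega

/-- The structure of a primitive solvable linear group. -/
structure Str (G V K : Type*) [Group G] [AddCommGroup V] [DistribMulAction G V] [Field K]
    [Module K V] (σ : G →* RingAut K) (U To E : Subgroup G) : Prop where
  faith : ∀ g : G, (∀ x : V, g • x = x) → g = 1
  semi : ∀ (g : G) (c : K) (v : V), g • c • v = σ g c • g • v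
  Un : U.Normal
  Ton : To.Normal
  En : E.Normal
  Usc : ∀ u ∈ U, ∃ c : K, ∀ v : V, u • v = c • v
  σU : ∀ g : G, (∀ u ∈ U, g * u = u * g) → σ g = 1
  maxU : ∀ B : Subgroup G, B.Normal → U ≤ B → (∀ a ∈ B, ∀ b ∈ B, a * b = b * a) → B ≤ U
  σT : ∀ t ∈ To, σ t = 1
  σE : ∀ t ∈ E, σ t = 1
  commT : ∀ a ∈ To, ∀ b ∈ To, ⁅a, b⁆ ∈ U
  commE : ∀ a ∈ E, ∀ b ∈ E, ⁅a, b⁆ ∈ U
  comm : ∀ a ∈ To, ∀ b ∈ E, Commute a b
  expo : ∃ n, Odd n ∧ Squarefree n ∧ ∀ t ∈ To, t ^ n = 1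
  sqE : ∀ e ∈ E, e ^ 2 ∈ U
  EU : ∀ e ∈ E, e ∈ U → e ^ 2 = 1
  cent : ∀ g : G, σ g = 1 → (∀ t ∈ To, Commute g t) → (∀ e ∈ E, Commute g e) → g ∈ U

theorem isCyclic_of_scalars {G V K : Type*} [Group G] [Finite G] [AddCommGroup V] [Nontrivial V]
    [DistribMulAction G V] [Field K] [Module K V] (faith : ∀ g : G, (∀ x : V, g • x = x) → g = 1)
    {U : Subgroup G} (h : ∀ u ∈ U, ∃ c : K, ∀ v : V, u • v = c • v) : IsCyclic U := by
  choose c hc using h
  obtain ⟨v, hv⟩ := exists_ne (0 : V)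
  let f : U →* K :=
    { toFun := fun u => c u u.2
      map_one' := smul_left_injective K hv (by
        change c 1 U.one_mem • v = (1 : K) • v
        rw [← hc, one_smul, one_smul])
      map_mul' := fun a b => smul_left_injective K hv (by
        change c (a * b) (a * b).2 • v = (c a a.2 * c b b.2) • v
        rw [← hc, mul_smul, mul_smul, ← hc, ← hc]) }
  refine isCyclic_of_injective_ringHom f ((injective_iff_map_eq_one f).2 fun a ha => ?_)
  refine Subtype.ext (faith _ fun x => ?_)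
  rw [hc a a.2, show c a a.2 = 1 from ha, one_smul]

theorem exists_str {G V : Type u} [Group G] [Finite G] [Group.IsSolvable G] [AddCommGroup V]
    [Finite V] [Nontrivial V] [DistribMulAction G V]
    (faith : ∀ g : G, (∀ x : V, g • x = x) → g = 1) (hp : Prim G V) :
    ∃ (K : Type u) (_ : Field K) (_ : Finite K) (_ : Module K V) (σ : G →* RingAut K)
      (U To E : Subgroup G), Str G V K σ U To E := by
  classical
  obtain ⟨U, ⟨hU, hUc⟩, hUmax⟩ := (wellFounded_gt (α := Subgroup G)).has_min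
    {B | B.Normal ∧ ∀ a ∈ B, ∀ b ∈ B, a * b = b * a} ⟨⊥, inferInstance, by simp⟩
  have maxU : ∀ B : Subgroup G, B.Normal → U ≤ B → (∀ a ∈ B, ∀ b ∈ B, a * b = b * a) → B ≤ U := by
    intro B h1 h2 h3
    by_contra h
    exact hUmax B ⟨h1, h3⟩ (lt_of_le_not_ge h2 h)
  obtain ⟨K, _, _, _, σ, Usc, semi, σU⟩ := exists_field hp U hUc
  have hcyc := isCyclic_of_scalars faith Usc
  let n := ∏ p ∈ (Nat.card G).primeFactors.erase 2, p
  have hodd : Odd n := by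
    refine Finset.prod_induction _ Odd (fun a b => Odd.mul) odd_one fun p hp => ?_
    rw [Finset.mem_erase] at hp
    exact (Nat.prime_of_mem_primeFactors hp.2).odd_of_ne_two hp.1
  have hsq : Squarefree n := by
    refine Finset.squarefree_prod_of_pairwise_isCoprime (fun a ha b hb hab => ?_) fun p hp => ?_
    · exact Nat.coprime_iff_isRelPrime.1 ((Nat.coprime_primes
        (Nat.prime_of_mem_primeFactors (Finset.mem_of_mem_erase ha))
        (Nat.prime_of_mem_primeFactors (Finset.mem_of_mem_erase hb))).2 hab)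
    · exact (Nat.prime_of_mem_primeFactors (Finset.mem_of_mem_erase hp)).prime.squarefree
  have hdn : ∀ r, r.Prime → r ∣ Nat.card G → r ∣ 2 * n := by
    intro r hr hd
    by_cases h2 : r = 2
    · rw [h2]; exact dvd_mul_right _ _
    · exact (Finset.dvd_prod_of_mem _ (Finset.mem_erase.2 ⟨h2,
        Nat.mem_primeFactors.2 ⟨hr, hd, Nat.card_pos.ne'⟩⟩)).mul_left 2
  let A := Subgroup.centralizer (U : Set G)
  have hA : ∀ g, g ∈ A ↔ ∀ u ∈ U, Commute u g := fun g => Subgroup.mem_centralizer_iff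
  have hAσ : ∀ g, σ g = 1 → g ∈ A := by
    intro g hg
    rw [hA]
    intro u hu
    obtain ⟨c, hc⟩ := Usc u hu
    rw [← commutatorElement_eq_one_iff_commute]
    refine faith _ fun x => ?_
    rw [commutatorElement_def, mul_smul, mul_smul, mul_smul, hc, ← one_smul (RingAut K) c, ← hg]
    change σ g c • g • _ = x
    rw [← semi, ← hc, smul_inv_smul, smul_inv_smul]
  obtain ⟨T, ⟨hT, hTA, hTc, hT4, hT2, hTU, hTZ⟩, hTmax⟩ :=
    (wellFounded_gt (α := Subgroup G)).has_min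
    {T | T.Normal ∧ T ≤ A ∧ (∀ a ∈ T, ∀ b ∈ T, ⁅a, b⁆ ∈ U) ∧ (∀ t ∈ T, t ^ (2 * n * 2) = 1) ∧
      (∀ t ∈ T, t ^ (2 * n) ∈ U) ∧ (∀ t ∈ T, t ∈ U → t ^ (2 * n) = 1) ∧
      ∀ t ∈ T, (∀ s ∈ T, Commute t s) → t ∈ U}
    ⟨⊥, inferInstance, bot_le, by simp, by simp, by simp, by simp, by simp⟩
  have hcentT : ∀ g ∈ A, (∀ t ∈ T, Commute g t) → g ∈ U := by
    let X := A ⊓ Subgroup.centralizer (T : Set G)
    have hUX : U ≤ X := fun u hu => ⟨(hA u).2 fun w hw => hUc w hw u hu,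
      Subgroup.mem_centralizer_iff.2 fun t ht => ((hA t).1 (hTA ht) u hu).symm⟩
    suffices h : X ≤ U from fun g hg h' =>
      h ⟨hg, Subgroup.mem_centralizer_iff.2 fun t ht => (h' t ht).symm⟩
    by_contra hX
    obtain ⟨M, hM, hUM, hMX, hMmin⟩ := exists_chief_above (lt_of_le_not_ge hUX hX)
    have hna : ¬ ∀ a ∈ M, ∀ b ∈ M, a * b = b * a := fun h => hUM.not_ge (maxU M hM hUM.le h)
    have hUM' : ∀ u ∈ U, ∀ x ∈ M, Commute u x := fun u hu x hx => (hA x).1 (hMX hx).1 u hu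
    obtain ⟨Ω, r, hΩ, hΩM, hr, hrd, hcm, hpow, hdec, hΩU, hΩ2⟩ := exists_omega hUM hUM' hMmin hna
    obtain ⟨m, hm⟩ := hdn r hr hrd
    have hTΩ : ∀ t ∈ T, ∀ ω ∈ Ω, Commute t ω := fun t ht ω hω =>
      Subgroup.mem_centralizer_iff.1 (hMX (hΩM hω)).2 t ht
    have hZM : ∀ x ∈ M, (∀ ω ∈ Ω, Commute x ω) → x ∈ U := by
      intro x hx h
      rcases hMmin (M ⊓ Subgroup.centralizer (M : Set G)) inferInstance
        (fun u hu => ⟨hUM.le hu, Subgroup.mem_centralizer_iff.2 fun y hy => (hUM' u hu y hy).symm⟩)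
        inf_le_left with e | e
      · rw [← e]
        refine ⟨hx, Subgroup.mem_centralizer_iff.2 fun y hy => ?_⟩
        obtain ⟨ω, hω, u, hu, rfl⟩ := hdec y hy
        exact ((h ω hω).mul_right (hUM' u hu x hx).symm).symm
      · exact absurd (fun a ha b hb => by
          rw [← e] at hb
          exact Subgroup.mem_centralizer_iff.1 hb.2 a ha) hna
    have hmem : ∀ x ∈ T ⊔ Ω, ∃ t ∈ T, ∃ ω ∈ Ω, x = t * ω := by
      intro x hx
      rw [← SetLike.mem_coe, Subgroup.mul_normal] at hx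
      obtain ⟨t, ht, ω, hω, rfl⟩ := hx
      exact ⟨t, ht, ω, hω, rfl⟩
    have hsplit : ∀ t ∈ T, ∀ ω ∈ Ω, (∀ s ∈ T, Commute (t * ω) s) → t ∈ U := by
      intro t ht ω hω h
      refine hTZ t ht fun s hs => ?_
      have := (h s hs).mul_left (hTΩ s hs ω hω).symm.inv_left
      rwa [mul_inv_cancel_right] at this
    refine hTmax (T ⊔ Ω) ⟨inferInstance, sup_le hTA fun ω hω => (hMX (hΩM hω)).1, ?_, ?_, ?_, ?_,
      ?_⟩ (lt_of_le_not_ge le_sup_left fun h => ?_)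
    · intro a ha b hb
      obtain ⟨t, ht, ω, hω, rfl⟩ := hmem a ha
      obtain ⟨t', ht', ω', hω', rfl⟩ := hmem b hb
      have : ⁅t * ω, t' * ω'⁆ = ⁅t, t'⁆ * ⁅ω, ω'⁆ := by
        have h1 := (hTΩ t' ht' ω hω).eq
        have h2 := (hTΩ t ht ω' hω').inv_left.eq
        have h3 := (hTΩ t ht ω hω).inv_left.eq
        have h4 := (hTΩ t' ht' ω' hω').inv_left.inv_right.eq
        have h5 := (hTΩ t' ht' ω hω).inv_left.eq
        have h6 := (hTΩ t' ht' ω' hω').inv_left.eq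
        have h7 := (hTΩ t' ht' ω hω).inv_left.inv_right.eq
        have h8 := (hTΩ t ht ω hω).inv_left.inv_right.eq
        have h9 := (hTΩ t ht ω' hω').inv_left.inv_right.eq
        have hc : Commute (t⁻¹ * t'⁻¹) ⁅ω, ω'⁆ := by
          have hh : ∀ s ∈ T, Commute s ⁅ω, ω'⁆ := fun s hs =>
            hTΩ s hs _ (Ω.mul_mem (Ω.mul_mem (Ω.mul_mem hω hω') (Ω.inv_mem hω)) (Ω.inv_mem hω'))
          exact hh _ (T.mul_mem (T.inv_mem ht) (T.inv_mem ht'))
        calc ⁅t * ω, t' * ω'⁆ = t * (ω * t') * ω' * ω⁻¹ * (t⁻¹ * ω'⁻¹) * t'⁻¹ := by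
              rw [commutatorElement_def]; group
          _ = t * t' * (⁅ω, ω'⁆ * (t⁻¹ * t'⁻¹)) := by
              rw [← h1, h9, commutatorElement_def]; group
          _ = ⁅t, t'⁆ * ⁅ω, ω'⁆ := by
              rw [← hc.eq, commutatorElement_def t]; group
      rw [this]
      exact U.mul_mem (hTc t ht t' ht') (hcm ω (hΩM hω) ω' (hΩM hω'))
    · intro a ha
      obtain ⟨t, ht, ω, hω, rfl⟩ := hmem a ha
      rw [(hTΩ t ht ω hω).mul_pow, hT4 t ht, hm, mul_right_comm, pow_mul, hΩ2 ω hω]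
      simp
    · intro a ha
      obtain ⟨t, ht, ω, hω, rfl⟩ := hmem a ha
      rw [(hTΩ t ht ω hω).mul_pow]
      refine U.mul_mem (hT2 t ht) ?_
      rw [hm, pow_mul]
      exact U.pow_mem (hpow ω (hΩM hω)) m
    · intro a ha haU
      obtain ⟨t, ht, ω, hω, rfl⟩ := hmem a ha
      have h1 := hsplit t ht ω hω fun s hs => (hA s).1 (hTA hs) _ haU
      have h2 : ω ∈ U := by simpa using U.mul_mem (U.inv_mem h1) haU
      rw [(hTΩ t ht ω hω).mul_pow, hTU t ht h1, hm, pow_mul, hΩU ω hω h2]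
      simp
    · intro a ha h
      obtain ⟨t, ht, ω, hω, rfl⟩ := hmem a ha
      have h1 := hsplit t ht ω hω fun s hs => h s (Subgroup.mem_sup_left hs)
      refine U.mul_mem h1 (hZM ω (hΩM hω) fun ω' hω' => ?_)
      have := (hTΩ t ht ω' hω').inv_left.mul_left (h ω' (Subgroup.mem_sup_right hω'))
      rwa [inv_mul_cancel_left] at this
    · apply hna
      intro a ha b hb
      obtain ⟨ω, hω, u, hu, rfl⟩ := hdec a ha
      have h1 : ω ∈ U := hZM ω (hΩM hω) fun ω' hω' => hTΩ ω (h (Subgroup.mem_sup_right hω)) ω' hω'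
      exact hUM' _ (U.mul_mem h1 hu) b hb
  have hcu : ∀ a ∈ T, ∀ b ∈ T, ∀ c ∈ T, Commute ⁅a, b⁆ c := fun a ha b hb c hc =>
    (hA c).1 (hTA hc) _ (hTc a ha b hb)
  have hsw : ∀ a ∈ T, ∀ b ∈ T, ∀ n, (a * b) ^ n = a ^ n * b ^ n * ⁅b, a⁆ ^ n.choose 2 :=
    fun a ha b hb n => mul_pow_cls2 (swap_comm (hcu b hb a ha a ha) (hcu b hb a ha b hb))
      (hcu b hb a ha a ha) (hcu b hb a ha b hb) n
  have hcr : ∀ a ∈ T, ∀ b ∈ T, ∀ k, Commute (b ^ k) a → ⁅b, a⁆ ^ k = 1 := fun a ha b hb k =>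
    comm_pow_eq_one (hcu b hb a ha a ha) (hcu b hb a ha b hb)
  obtain ⟨j, hj⟩ := hodd
  have hsqE : ∀ e ∈ T, e ^ 4 = 1 → e ^ (2 * n) = e ^ 2 := by
    intro e _ h
    rw [hj, show 2 * (2 * j + 1) = 4 * j + 2 by ring, pow_add, pow_mul, h, one_pow, one_mul]
  let To : Subgroup G :=
    { carrier := {x | x ∈ T ∧ x ^ n = 1}
      mul_mem' := by
        rintro a b ⟨ha, e⟩ ⟨hb, e'⟩
        refine ⟨T.mul_mem ha hb, ?_⟩
        rw [hsw a ha b hb, e, e', show n.choose 2 = n * j by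
          rw [Nat.choose_two_right, hj, Nat.add_sub_cancel, ← mul_assoc, mul_comm _ 2, mul_assoc,
            Nat.mul_div_cancel_left _ two_pos], pow_mul, hcr a ha b hb n (by
              rw [e']; exact Commute.one_left a)]
        simp
      one_mem' := ⟨T.one_mem, one_pow _⟩
      inv_mem' := by
        rintro a ⟨ha, e⟩
        exact ⟨T.inv_mem ha, by rw [inv_pow, e, inv_one]⟩ }
  let E : Subgroup G :=
    { carrier := {x | x ∈ T ∧ x ^ 4 = 1}
      mul_mem' := by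
        rintro a b ⟨ha, e⟩ ⟨hb, e'⟩
        refine ⟨T.mul_mem ha hb, ?_⟩
        rw [hsw a ha b hb, e, e', show (4 : ℕ).choose 2 = 2 * 3 by decide, pow_mul,
          hcr a ha b hb 2 ((hA a).1 (hTA ha) _ (hsqE b hb e' ▸ hT2 b hb))]
        simp
      one_mem' := ⟨T.one_mem, one_pow _⟩
      inv_mem' := by
        rintro a ⟨ha, e⟩
        exact ⟨T.inv_mem ha, by rw [inv_pow, e, inv_one]⟩ }
  have hcop : Nat.Coprime 4 n := by
    rw [show (4 : ℕ) = 2 ^ 2 by rfl]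
    exact (Nat.coprime_two_left.2 ⟨j, hj⟩).pow_left 2
  have hσT : ∀ t ∈ T, σ t = 1 := fun t ht => σU t fun u hu => ((hA t).1 (hTA ht) u hu).symm
  refine ⟨K, inferInstance, inferInstance, inferInstance, σ, U, To, E,
    { faith := faith, semi := semi, Un := hU, Usc := Usc, σU := σU, maxU := maxU
      Ton := ⟨by
        rintro a ⟨ha, e⟩ g
        exact ⟨hT.conj_mem a ha g, by rw [conj_pow, e]; simp⟩⟩
      En := ⟨by
        rintro a ⟨ha, e⟩ g
        exact ⟨hT.conj_mem a ha g, by rw [conj_pow, e]; simp⟩⟩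
      σT := fun t ht => hσT t ht.1
      σE := fun t ht => hσT t ht.1
      commT := fun a ha b hb => hTc a ha.1 b hb.1
      commE := fun a ha b hb => hTc a ha.1 b hb.1
      comm := fun a ha b hb => ?_
      expo := ⟨n, ⟨j, hj⟩, hsq, fun t ht => ht.2⟩
      sqE := fun e he => hsqE e he.1 he.2 ▸ hT2 e he.1
      EU := fun e he heU => hsqE e he.1 he.2 ▸ hTU e he.1 heU
      cent := fun g hg h1 h2 => hcentT g (hAσ g hg) fun t ht => ?_ }⟩
  · rw [← commutatorElement_eq_one_iff_commute, ← orderOf_eq_one_iff, ← Nat.dvd_one, ← hcop]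
    refine Nat.dvd_gcd ?_ (orderOf_dvd_of_pow_eq_one (hcr b hb.1 a ha.1 n (by
      rw [ha.2]; exact Commute.one_left b)))
    rw [← orderOf_inv, commutatorElement_inv]
    exact orderOf_dvd_of_pow_eq_one (hcr a ha.1 b hb.1 4 (by rw [hb.2]; exact Commute.one_left a))
  · have h4 : t ^ 4 ∈ To := ⟨T.pow_mem ht 4, by
      rw [← pow_mul, ← hT4 t ht]; congr 1; ring⟩
    have hn : t ^ n ∈ E := ⟨T.pow_mem ht n, by
      rw [← pow_mul, ← hT4 t ht]; congr 1; ring⟩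
    have : t = (t ^ 4) ^ Nat.gcdA 4 n * (t ^ n) ^ Nat.gcdB 4 n := by
      rw [← zpow_natCast, ← zpow_natCast, ← zpow_mul, ← zpow_mul, ← zpow_add,
        ← Nat.gcd_eq_gcd_ab, hcop]
      simp
    rw [this]
    exact ((h1 _ h4).zpow_right _).mul_right ((h2 _ hn).zpow_right _)

end Cfsg.Agent.H12.RO
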