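import Cfsg.Agent.H12.RO5

/-!
Bases of linear groups, part 6: the eigenspace frame of a primitive solvable linear group.
-/

set_option autoImplicit false

namespace Cfsg.Agent.H12.RO

open MulAction
open scoped commutatorElement

universe u

theorem eig_indep {K V D ι : Type*} [Field K] [AddCommGroup V] [Module K V] [Monoid D]
    [Fintype ι] (act : D → V →+ V) (χ : ι → D →* K) (x : ι → V)
    (hx : ∀ i d, act d (x i) = χ i d • x i) (h0 : ∑ i, x i = 0) (ψ : D →* K)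
    [DecidablePred fun i => χ i = ψ] : ∑ i with χ i = ψ, x i = 0 := by
  classical
  rw [← Module.forall_dual_apply_eq_zero_iff K]
  intro f
  by_cases hψ : ψ ∈ Finset.univ.image χ
  swap
  · rw [Finset.filter_eq_empty_iff.2, Finset.sum_empty, map_zero]
    intro i _ e
    exact hψ (Finset.mem_image.2 ⟨i, Finset.mem_univ _, e⟩)
  have hli := linearIndependent_iff'.1 (linearIndependent_monoidHom D K) (Finset.univ.image χ)
    (fun φ => ∑ i with χ i = φ, f (x i)) ?_ ψ hψ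
  · rw [map_sum]
    convert hli
  funext d
  have h1 : ∑ i, χ i d * f (x i) = 0 := by
    have := congrArg (fun v => f (act d v)) h0
    simpa only [map_sum, hx, map_smul, map_zero, smul_eq_mul] using this
  rw [← Finset.sum_fiberwise_of_maps_to (g := χ) (t := Finset.univ.image χ)
    (fun i _ => Finset.mem_image_of_mem χ (Finset.mem_univ i))] at h1
  rw [Finset.sum_apply, Pi.zero_apply, ← h1]
  refine Finset.sum_congr rfl fun φ _ => ?_
  rw [Pi.smul_apply, smul_eq_mul, Finset.sum_mul]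
  refine Finset.sum_congr rfl fun i hi => ?_
  rw [(Finset.mem_filter.1 hi).2, mul_comm]

section SecH

variable {G : Type*} [Group G]

/-- A section `M / K` with the action of a subgroup `Γ` normalising `K` and `M`. -/
structure IsSecH (Γ K M : Subgroup G) {N : Type*} [AddCommGroup N] [DistribMulAction Γ N]
    (π : G → N) : Prop where
  mul : ∀ a ∈ M, ∀ b ∈ M, π (a * b) = π a + π b
  surj : ∀ n, ∃ a ∈ M, π a = n
  ker : ∀ a ∈ M, π a = 0 ↔ a ∈ K
  conj : ∀ g : Γ, ∀ a ∈ M, π (g.1 * a * g.1⁻¹) = g • π a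

theorem exists_secH {G : Type u} [Group G] (Γ K M : Subgroup G) (h : ∀ a ∈ M, ∀ b ∈ M, ⁅a, b⁆ ∈ K)
    (hKM : K ≤ M) (hK : ∀ g ∈ Γ, ∀ a ∈ K, g * a * g⁻¹ ∈ K) (hM : ∀ g ∈ Γ, ∀ a ∈ M, g * a * g⁻¹ ∈ M) :
    ∃ (N : Type u) (_ : AddCommGroup N) (_ : DistribMulAction Γ N) (π : G → N),
      IsSecH Γ K M π := by
  classical
  let H := Subgroup.normalizer (K : Set G) ⊓ Subgroup.normalizer (M : Set G)
  have hn : ∀ (X Y : Subgroup G), (∀ g ∈ X, ∀ a ∈ Y, g * a * g⁻¹ ∈ Y) →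
      X ≤ Subgroup.normalizer (Y : Set G) := fun X Y hh g hg =>
    Subgroup.mem_normalizer_iff.2 fun a => ⟨hh g hg a, fun ha => by
      simpa [mul_assoc] using hh g⁻¹ (X.inv_mem hg) _ ha⟩
  have hΓ : Γ ≤ H := le_inf (hn _ _ hK) (hn _ _ hM)
  have hMH : M ≤ H := le_inf (hn _ _ fun g hg a ha => by
    have : g * a * g⁻¹ = ⁅g, a⁆ * a := by rw [commutatorElement_def]; group
    rw [this]
    exact K.mul_mem (h g hg a (hKM ha)) ha) Subgroup.le_normalizer
  have h1 : (K.subgroupOf H).Normal := ⟨fun a ha g =>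
    (Subgroup.mem_normalizer_iff.1 g.2.1 a.1).1 ha⟩
  have h2 : (M.subgroupOf H).Normal := ⟨fun a ha g =>
    (Subgroup.mem_normalizer_iff.1 g.2.2 a.1).1 ha⟩
  obtain ⟨N, _, _, π, hπ⟩ := exists_sec (K.subgroupOf H) (M.subgroupOf H)
    (Subgroup.commutator_le.2 fun a ha b hb => h a ha b hb)
  letI : DistribMulAction Γ N := DistribMulAction.compHom N (Subgroup.inclusion hΓ)
  refine ⟨N, inferInstance, inferInstance,
    fun a => if ha : a ∈ H then π ⟨a, ha⟩ else 0, ?_, ?_, ?_, ?_⟩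
  · intro a ha b hb
    simp only [dif_pos (hMH ha), dif_pos (hMH hb), dif_pos (hMH (M.mul_mem ha hb))]
    exact hπ.mul ⟨a, hMH ha⟩ ha ⟨b, hMH hb⟩ hb
  · intro n
    obtain ⟨a, ha, rfl⟩ := hπ.surj n
    exact ⟨a, ha, by simp only [dif_pos a.2]⟩
  · intro a ha
    simp only [dif_pos (hMH ha)]
    exact hπ.ker ⟨a, hMH ha⟩ ha
  · intro g a ha
    have h3 : g.1 * a * g.1⁻¹ ∈ H := hMH (hM g g.2 a ha)
    simp only [dif_pos (hMH ha), dif_pos h3]
    exact hπ.conj ⟨g, hΓ g.2⟩ ⟨a, hMH ha⟩ ha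

variable {Γ K M : Subgroup G} {N : Type*} [AddCommGroup N] [DistribMulAction Γ N] {π : G → N}

theorem IsSecH.one (h : IsSecH Γ K M π) : π 1 = 0 := (h.ker 1 M.one_mem).2 K.one_mem

theorem IsSecH.inv (h : IsSecH Γ K M π) {a : G} (ha : a ∈ M) : π a⁻¹ = -π a := by
  have := h.mul a ha a⁻¹ (M.inv_mem ha)
  rw [mul_inv_cancel, h.one] at this
  exact (neg_eq_of_add_eq_zero_right this.symm).symm

theorem IsSecH.pow (h : IsSecH Γ K M π) {a : G} (ha : a ∈ M) (n : ℕ) : π (a ^ n) = n • π a := by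
  induction n with
  | zero => simp [h.one]
  | succ n ih => rw [pow_succ, h.mul _ (M.pow_mem ha n) _ ha, ih, succ_nsmul]

theorem IsSecH.eq_iff (h : IsSecH Γ K M π) {a b : G} (ha : a ∈ M) (hb : b ∈ M) :
    π a = π b ↔ a⁻¹ * b ∈ K := by
  rw [← h.ker _ (M.mul_mem (M.inv_mem ha) hb), h.mul _ (M.inv_mem ha) _ hb, h.inv ha,
    neg_add_eq_zero]

theorem IsSecH.finite (h : IsSecH Γ K M π) [Finite G] : Finite N :=
  Finite.of_surjective π fun n => (h.surj n).imp fun _ e => e.2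

/-- Counting in fibres. -/
theorem IsSecH.card_pre (h : IsSecH Γ K M π) [Finite G] (hKM : K ≤ M) (Z : Set N) :
    Set.ncard {a : G | a ∈ M ∧ π a ∈ Z} = Z.ncard * Nat.card K := by
  choose r hr hr' using h.surj
  rw [← Nat.card_coe_set_eq, ← Nat.card_coe_set_eq, ← Nat.card_prod]
  refine Nat.card_congr
    { toFun := fun a => (⟨π a.1, a.2.2⟩, ⟨(r (π a.1))⁻¹ * a.1, (h.eq_iff (hr _) a.2.1).1 (hr' _)⟩)
      invFun := fun p => ⟨r p.1.1 * p.2.1, M.mul_mem (hr _) (hKM p.2.2), by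
        rw [h.mul _ (hr _) _ (hKM p.2.2), hr', (h.ker _ (hKM p.2.2)).2 p.2.2, add_zero]
        exact p.1.2⟩
      left_inv := fun a => Subtype.ext (by simp)
      right_inv := fun p => ?_ }
  have : π (r p.1.1 * p.2.1) = p.1.1 := by
    rw [h.mul _ (hr _) _ (hKM p.2.2), hr', (h.ker _ (hKM p.2.2)).2 p.2.2, add_zero]
  refine Prod.ext (Subtype.ext this) (Subtype.ext ?_)
  simp only [this, inv_mul_cancel_left]

end SecH

theorem eq_of_half {G : Type*} [Group G] [Finite G] {X Y : Subgroup G} (h : X ≤ Y)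
    (hc : Nat.card Y < 2 * Nat.card X) : Y ≤ X := by
  have h1 : X.relIndex Y * Nat.card X = Nat.card Y := by
    rw [← Nat.card_congr (Subgroup.subgroupOfEquivOfLe h).toEquiv]
    exact (X.subgroupOf Y).index_mul_card
  by_contra hne
  have h2 : X.relIndex Y ≠ 1 := fun e => hne (Subgroup.relIndex_eq_one.1 e)
  have h3 : X.relIndex Y ≠ 0 := Subgroup.index_ne_zero_of_finite
  have h4 : 2 ≤ X.relIndex Y := by omega
  nlinarith

section Frame

variable {G V K : Type*} [Group G] [AddCommGroup V] [DistribMulAction G V] [Field K]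
  [Module K V] {σ : G →* RingAut K} {U To E : Subgroup G}

theorem Str.lin (h : Str G V K σ U To E) {g : G} (hg : σ g = 1) (c : K) (v : V) :
    g • c • v = c • g • v := by
  rw [h.semi, hg]; rfl

theorem Str.comm_U (h : Str G V K σ U To E) {g : G} (hg : σ g = 1) {u : G} (hu : u ∈ U) :
    Commute u g := by
  obtain ⟨c, hc⟩ := h.Usc u hu
  rw [← commutatorElement_eq_one_iff_commute]
  refine h.faith _ fun x => ?_
  rw [commutatorElement_def, mul_smul, mul_smul, mul_smul, hc, ← h.lin hg, ← hc, smul_inv_smul,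
    smul_inv_smul]

theorem Str.U_fix (h : Str G V K σ U To E) {u : G} (hu : u ∈ U) {v : V} (hv : v ≠ 0)
    (e : u • v = v) : u = 1 := by
  obtain ⟨c, hc⟩ := h.Usc u hu
  have : c = 1 := smul_left_injective K hv (by
    change c • v = (1 : K) • v
    rw [← hc, e, one_smul])
  exact h.faith u fun x => by rw [hc, this, one_smul]

theorem Str.σ_U (h : Str G V K σ U To E) {u : G} (hu : u ∈ U) : σ u = 1 := by
  refine h.σU u fun w hw => ?_
  obtain ⟨c, hc⟩ := h.Usc u hu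
  obtain ⟨d, hd⟩ := h.Usc w hw
  change Commute u w
  rw [← commutatorElement_eq_one_iff_commute]
  refine h.faith _ fun x => ?_
  have : ∀ y : V, u • w • y = w • u • y := fun y => by
    rw [hc, hd, hd, hc, smul_comm]
  rw [commutatorElement_def, mul_smul, mul_smul, mul_smul, this, smul_inv_smul, smul_inv_smul]

theorem Str.mem_T (h : Str G V K σ U To E) {t : G} (ht : t ∈ To ⊔ E) :
    ∃ a ∈ To, ∃ b ∈ E, t = a * b := by
  have := h.En
  rw [← SetLike.mem_coe, Subgroup.mul_normal] at ht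
  obtain ⟨a, ha, b, hb, rfl⟩ := ht
  exact ⟨a, ha, b, hb, rfl⟩

theorem Str.σ_T (h : Str G V K σ U To E) {t : G} (ht : t ∈ To ⊔ E) : σ t = 1 := by
  obtain ⟨a, ha, b, hb, rfl⟩ := h.mem_T ht
  rw [map_mul, h.σT a ha, h.σE b hb, mul_one]

theorem Str.T_normal (h : Str G V K σ U To E) : (To ⊔ E).Normal := by
  have := h.Ton
  have := h.En
  infer_instance

theorem Str.comm_T (h : Str G V K σ U To E) {s t : G} (hs : s ∈ To ⊔ E) (ht : t ∈ To ⊔ E) :
    ⁅s, t⁆ ∈ U := by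
  have := h.Un
  rw [← QuotientGroup.eq_one_iff]
  change QuotientGroup.mk' U ⁅s, t⁆ = 1
  rw [map_commutatorElement, commutatorElement_eq_one_iff_commute]
  obtain ⟨a, ha, b, hb, rfl⟩ := h.mem_T hs
  obtain ⟨c, hc, d, hd, rfl⟩ := h.mem_T ht
  have key : ∀ x y : G, ⁅x, y⁆ ∈ U → Commute (QuotientGroup.mk' U x) (QuotientGroup.mk' U y) := by
    intro x y e
    rw [← commutatorElement_eq_one_iff_commute, ← map_commutatorElement]
    exact (QuotientGroup.eq_one_iff _).2 e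
  rw [map_mul, map_mul]
  exact ((key _ _ (h.commT a ha c hc)).mul_right ((h.comm a ha d hd).map _)).mul_left
    (((h.comm c hc b hb).symm.map _).mul_right (key _ _ (h.commE b hb d hd)))

theorem Str.conj_mem_U (h : Str G V K σ U To E) {s t : G} (hs : s ∈ To ⊔ E) (ht : t ∈ To ⊔ E) :
    t⁻¹ * (s⁻¹ * t * s) ∈ U := by
  have := h.comm_T ((To ⊔ E).inv_mem ht) ((To ⊔ E).inv_mem hs)
  rw [commutatorElement_def, inv_inv, inv_inv] at this
  simpa only [mul_assoc] using this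

variable (K) in
/-- The common eigenspace of `D` containing `u₀`. -/
def V0 (D : Subgroup G) (u₀ : V) : Set V := {v | ∀ d ∈ D, ∀ a : K, d • u₀ = a • u₀ → d • v = a • v}

theorem self_mem_V0 (D : Subgroup G) (u₀ : V) : u₀ ∈ V0 K D u₀ := fun _ _ _ e => e

theorem zero_mem_V0 (D : Subgroup G) (u₀ : V) : (0 : V) ∈ V0 K D u₀ := fun _ _ _ _ => by simp

theorem add_mem_V0 {D : Subgroup G} {u₀ v w : V} (hv : v ∈ V0 K D u₀) (hw : w ∈ V0 K D u₀) :
    v + w ∈ V0 K D u₀ := fun d hd a e => by rw [smul_add, smul_add, hv d hd a e, hw d hd a e]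

theorem Str.smul_mem_V0 (h : Str G V K σ U To E) {D : Subgroup G} (hD : D ≤ To ⊔ E) {u₀ v : V}
    (hv : v ∈ V0 K D u₀) (c : K) : c • v ∈ V0 K D u₀ := fun d hd a e => by
  rw [h.lin (h.σ_T (hD hd)), hv d hd a e, smul_comm]

theorem Str.cent_mem_V0 (h : Str G V K σ U To E) {D : Subgroup G} {u₀ v : V}
    (hv : v ∈ V0 K D u₀) {c : G} (hc : σ c = 1) (hcD : c ∈ Subgroup.centralizer (D : Set G)) :
    c • v ∈ V0 K D u₀ := fun d hd a e => by
  rw [← mul_smul, Subgroup.mem_centralizer_iff.1 hcD d hd, mul_smul, hv d hd a e, h.lin hc]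

theorem Str.norm_mem_V0 (h : Str G V K σ U To E) {D : Subgroup G} {u₀ v : V}
    (hv : v ∈ V0 K D u₀) {g : G} (hg : g • u₀ = u₀) (hgD : ∀ d ∈ D, g⁻¹ * d * g ∈ D) :
    g • v ∈ V0 K D u₀ := fun d hd a e => by
  have h1 := hv _ (hgD d hd) (σ g⁻¹ a) (by
    rw [mul_smul, mul_smul, hg, e, h.semi, inv_smul_eq_iff.2 hg.symm])
  rw [mul_smul, mul_smul, inv_smul_eq_iff, h.semi, ← RingAut.mul_apply, ← map_mul,
    mul_inv_cancel, map_one] at h1
  exact h1

/-- **The frame lemma.** -/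
theorem Str.frame (h : Str G V K σ U To E) {D : Subgroup G} (hD : D ≤ To ⊔ E) {u₀ : V}
    (hu₀ : u₀ ≠ 0) (hsc : ∀ d ∈ D, ∃ a : K, d • u₀ = a • u₀) {ι ι' : Type*} [Fintype ι]
    [Fintype ι'] (s : ι → G) (z : ι → V) (s' : ι' → G) (z' : ι' → V) (hs : ∀ i, s i ∈ To ⊔ E)
    (hs' : ∀ i, s' i ∈ To ⊔ E) (hz : ∀ i, z i ∈ V0 K D u₀) (hz' : ∀ i, z' i ∈ V0 K D u₀)
    (inj : ∀ i j, (s i)⁻¹ * s j ∈ Subgroup.centralizer (D : Set G) → i = j)
    (inj' : ∀ i j, (s' i)⁻¹ * s' j ∈ Subgroup.centralizer (D : Set G) → i = j)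
    (e : ∑ i, s i • z i = ∑ i, s' i • z' i) (i : ι) (j : ι')
    (hij : (s i)⁻¹ * s' j ∈ Subgroup.centralizer (D : Set G)) : s i • z i = s' j • z' j := by
  classical
  have hex : ∀ (t : (To ⊔ E : Subgroup G)) (d : D), ∃ a : K, ∀ v ∈ V0 K D u₀,
      d.1 • t.1 • v = a • t.1 • v := by
    intro t d
    obtain ⟨a, ha⟩ := hsc d d.2
    obtain ⟨c, hc⟩ := h.Usc _ (h.conj_mem_U t.2 (hD d.2))
    refine ⟨c * a, fun v hv => ?_⟩
    have h1 := hc v
    rw [mul_smul, inv_smul_eq_iff, mul_smul, mul_smul, inv_smul_eq_iff,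
      h.lin (h.σ_T (hD d.2)), hv d d.2 a ha] at h1
    rw [h1, h.lin (h.σ_T t.2), h.lin (h.σ_T t.2), mul_smul]
  choose c hc using hex
  have hne : ∀ t : G, t • u₀ ≠ 0 := fun t e => hu₀ ((smul_eq_zero_iff_eq t).1 e)
  let χ : (To ⊔ E : Subgroup G) → D →* K := fun t =>
    { toFun := c t
      map_one' := smul_left_injective K (hne t) (by
        change c t 1 • t.1 • u₀ = (1 : K) • t.1 • u₀
        rw [← hc t 1 u₀ (self_mem_V0 D u₀)]; simp)
      map_mul' := fun a b => smul_left_injective K (hne t) (by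
        change c t (a * b) • t.1 • u₀ = (c t a * c t b) • t.1 • u₀
        rw [← hc t _ u₀ (self_mem_V0 D u₀), Subgroup.coe_mul, mul_smul,
          hc t b u₀ (self_mem_V0 D u₀), h.lin (h.σ_T (hD a.2)), hc t a u₀ (self_mem_V0 D u₀),
          mul_comm, mul_smul]) }
  have hχ : ∀ t t' : (To ⊔ E : Subgroup G),
      χ t = χ t' ↔ t.1⁻¹ * t'.1 ∈ Subgroup.centralizer (D : Set G) := by
    intro t t'
    constructor
    · intro e
      rw [Subgroup.mem_centralizer_iff]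
      intro d hd
      have e1 : c t ⟨d, hd⟩ = c t' ⟨d, hd⟩ := DFunLike.congr_fun e ⟨d, hd⟩
      have h1 : (d⁻¹ * (t.1⁻¹ * d * t))⁻¹ * (d⁻¹ * (t'.1⁻¹ * d * t')) = 1 := by
        refine h.U_fix (U.mul_mem (U.inv_mem (h.conj_mem_U t.2 (hD hd)))
          (h.conj_mem_U t'.2 (hD hd))) hu₀ ?_
        rw [mul_smul, inv_smul_eq_iff]
        simp only [mul_smul]
        rw [hc t ⟨d, hd⟩ u₀ (self_mem_V0 D u₀), hc t' ⟨d, hd⟩ u₀ (self_mem_V0 D u₀),
          h.lin (h.σ_T ((To ⊔ E).inv_mem t.2)), h.lin (h.σ_T ((To ⊔ E).inv_mem t'.2)),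
          inv_smul_smul, inv_smul_smul, e1]
      rw [inv_mul_eq_one, mul_right_inj] at h1
      have h2 := (h.comm_U (h.σ_T ((To ⊔ E).mul_mem t'.2 ((To ⊔ E).inv_mem t.2)))
        (h.conj_mem_U t.2 (hD hd))).eq
      have h3 := (h.comm_U (h.σ_T (hD hd)) (h.conj_mem_U t.2
        ((To ⊔ E).mul_mem t'.2 ((To ⊔ E).inv_mem t.2)))).eq
      have h4 : d * (t'.1 * t.1⁻¹) = t'.1 * t.1⁻¹ * d := by
        calc d * (t'.1 * t.1⁻¹) = t'.1 * (t'.1⁻¹ * d * t') * t.1⁻¹ := by group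
          _ = t'.1 * t.1⁻¹ * d := by rw [← h1]; group
      calc d * (t.1⁻¹ * t'.1)
          = d * (t'.1 * t.1⁻¹) * ((t'.1 * t.1⁻¹)⁻¹ * (t.1⁻¹ * (t'.1 * t.1⁻¹) * t)) := by group
        _ = t.1⁻¹ * t'.1 * d := by rw [h4, mul_assoc, ← h3]; group
    · intro e
      refine MonoidHom.ext fun d => smul_left_injective K (hne t') ?_
      change c t d • t'.1 • u₀ = c t' d • t'.1 • u₀
      rw [← hc t' d u₀ (self_mem_V0 D u₀)]
      have := hc t d _ (h.cent_mem_V0 (self_mem_V0 D u₀)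
        (h.σ_T ((To ⊔ E).mul_mem ((To ⊔ E).inv_mem t.2) t'.2)) e)
      rw [← mul_smul t.1, mul_inv_cancel_left] at this
      exact this.symm
  have key := eig_indep (ι := ι ⊕ ι') (fun d : D => DistribSMul.toAddMonoidHom V d.1)
    (Sum.elim (fun i => χ ⟨s i, hs i⟩) fun j => χ ⟨s' j, hs' j⟩)
    (Sum.elim (fun i => s i • z i) fun j => -(s' j • z' j)) (by
      rintro (a | a) d
      · exact hc ⟨s a, hs a⟩ d _ (hz a)
      · change d.1 • -(s' a • z' a) = c ⟨s' a, hs' a⟩ d • -(s' a • z' a)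
        rw [smul_neg, smul_neg, hc ⟨s' a, hs' a⟩ d _ (hz' a)]) (by
      rw [Fintype.sum_sum_type]
      simp [e]) (χ ⟨s i, hs i⟩)
  rw [show Finset.univ.filter (fun k => Sum.elim (fun i => χ ⟨s i, hs i⟩)
      (fun j => χ ⟨s' j, hs' j⟩) k = χ ⟨s i, hs i⟩) = {Sum.inl i, Sum.inr j} from ?_,
    Finset.sum_pair (by simp)] at key
  · exact add_neg_eq_zero.1 key
  ext (a | a)
  · simp only [Finset.mem_filter, Finset.mem_univ, true_and, Sum.elim_inl, hχ, Finset.mem_insert,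
      Sum.inl.injEq, Finset.mem_singleton, reduceCtorEq, or_false]
    exact ⟨inj a i, fun e => by rw [e, inv_mul_cancel]; exact Subgroup.one_mem _⟩
  · simp only [Finset.mem_filter, Finset.mem_univ, true_and, Sum.elim_inr, hχ, Finset.mem_insert,
      Sum.inr.injEq, Finset.mem_singleton, reduceCtorEq, false_or]
    refine ⟨fun e => inj' a j ?_, fun e => ?_⟩
    · simpa [mul_assoc] using Subgroup.mul_mem _ e hij
    · rw [e]
      simpa using Subgroup.inv_mem _ hij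

end Frame

end Cfsg.Agent.H12.RO
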