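import Cfsg.Agent.H12.RO6

/-!
Bases of linear groups, part 7: the main construction of a base from colourings.
-/

set_option autoImplicit false

namespace Cfsg.Agent.H12.RO

open MulAction
open scoped commutatorElement

universe u

variable {G V K : Type*} [Group G] [AddCommGroup V] [DistribMulAction G V] [Field K]
  [Module K V] {σ : G →* RingAut K} {U To E : Subgroup G}

/-- The elements of `To ⊔ E` having `u₀` as an eigenvector with eigenvalue of odd order. -/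
def Str.Dg (h : Str G V K σ U To E) (u₀ : V) : Subgroup G where
  carrier := {d | d ∈ To ⊔ E ∧ ∃ a : K, (∃ m, Odd m ∧ a ^ m = 1) ∧ d • u₀ = a • u₀}
  mul_mem' := by
    rintro a b ⟨ha, x, ⟨m, hm, hx⟩, e⟩ ⟨hb, y, ⟨n, hn, hy⟩, e'⟩
    refine ⟨mul_mem ha hb, x * y, ⟨m * n, hm.mul hn, ?_⟩, ?_⟩
    · rw [mul_pow, pow_mul, hx, mul_comm m, pow_mul y, hy]; simp
    · rw [mul_smul, e', h.lin (h.σ_T ha), e, mul_comm, mul_smul]
  one_mem' := ⟨one_mem _, 1, ⟨1, odd_one, one_pow _⟩, by simp⟩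
  inv_mem' := by
    rintro a ⟨ha, x, ⟨m, hm, hx⟩, e⟩
    have hx0 : x ≠ 0 := by
      rintro rfl
      rw [zero_pow hm.pos.ne'] at hx
      exact zero_ne_one hx
    refine ⟨inv_mem ha, x⁻¹, ⟨m, hm, by rw [inv_pow, hx, inv_one]⟩, ?_⟩
    rw [inv_smul_eq_iff, h.lin (h.σ_T ha), e, smul_smul, inv_mul_cancel₀ hx0, one_smul]

/-- centraliser of `Dg` -/
abbrev Str.Cg (h : Str G V K σ U To E) (u₀ : V) : Subgroup G :=
  Subgroup.centralizer (h.Dg u₀ : Set G)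

/-- eigenspace of `Dg` -/
abbrev Str.Vg (h : Str G V K σ U To E) (u₀ : V) : Set V := V0 K (h.Dg u₀) u₀

/-- `u₀` has maximal `Dg`. -/
def Str.IsMax (h : Str G V K σ U To E) (u₀ : V) : Prop :=
  u₀ ≠ 0 ∧ ∀ v : V, v ≠ 0 → h.Dg u₀ ≤ h.Dg v → h.Dg v ≤ h.Dg u₀

variable (h : Str G V K σ U To E) {u₀ : V}

theorem Str.exists_isMax [Finite G] [Nontrivial V] : ∃ u₀, h.IsMax u₀ := by
  obtain ⟨v, hv⟩ := exists_ne (0 : V)
  obtain ⟨_, ⟨u₀, hu₀, rfl⟩, hmax⟩ := (wellFounded_gt (α := Subgroup G)).has_min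
    {D | ∃ v, v ≠ 0 ∧ h.Dg v = D} ⟨_, v, hv, rfl⟩
  refine ⟨u₀, hu₀, fun v hv hle => ?_⟩
  by_contra hne
  exact hmax _ ⟨v, hv, rfl⟩ (lt_of_le_not_ge hle hne)

theorem Str.D_le (u₀ : V) : h.Dg u₀ ≤ To ⊔ E := fun _ hd => hd.1

theorem Str.D_sc (u₀ : V) : ∀ d ∈ h.Dg u₀, ∃ a : K, d • u₀ = a • u₀ := by
  rintro d ⟨-, a, -, e⟩
  exact ⟨a, e⟩

theorem Str.D_le_of_mem {v : V} (hv : v ∈ h.Vg u₀) : h.Dg u₀ ≤ h.Dg v := by
  intro d hd
  obtain ⟨h1, a, h2, e⟩ := hd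
  exact ⟨h1, a, h2, hv d ⟨h1, a, h2, e⟩ a e⟩

variable {h}

theorem Str.IsMax.mem (hm : h.IsMax u₀) {v : V} (hv : v ∈ h.Vg u₀) (hv0 : v ≠ 0) {c : G}
    (hc : c ∈ To ⊔ E) {a : K} (ha : ∃ m, Odd m ∧ a ^ m = 1) (e : c • v = a • v) : c ∈ h.Dg u₀ :=
  hm.2 v hv0 (h.D_le_of_mem hv) ⟨hc, a, ha, e⟩

theorem Str.IsMax.D_eq (hm : h.IsMax u₀) {v : V} (hv : v ∈ h.Vg u₀) (hv0 : v ≠ 0) :
    h.Dg v = h.Dg u₀ := le_antisymm (hm.2 v hv0 (h.D_le_of_mem hv)) (h.D_le_of_mem hv)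

theorem Str.IsMax.of_mem (hm : h.IsMax u₀) {v : V} (hv : v ∈ h.Vg u₀) (hv0 : v ≠ 0) :
    h.IsMax v := ⟨hv0, fun w hw hle => by
  rw [hm.D_eq hv hv0] at hle ⊢
  exact hm.2 w hw hle⟩

theorem Str.IsMax.V_eq (hm : h.IsMax u₀) {v : V} (hv : v ∈ h.Vg u₀) (hv0 : v ≠ 0) :
    h.Vg v = h.Vg u₀ := by
  unfold Str.Vg
  rw [hm.D_eq hv hv0]
  ext w
  constructor
  · intro hw d hd a e
    exact hw d hd a (hv d hd a e)
  · intro hw d hd a e
    obtain ⟨b, hb⟩ := h.D_sc u₀ d hd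
    have : a = b := smul_left_injective K hv0 (e.symm.trans (hv d hd b hb))
    rw [this]
    exact hw d hd b hb

theorem Str.IsMax.fix (hm : h.IsMax u₀) {v : V} (hv : v ∈ h.Vg u₀) (hv0 : v ≠ 0) {c : G}
    (hc : c ∈ To ⊔ E) (e : c • v = v) : c ∈ h.Dg u₀ ∧ ∀ w ∈ h.Vg u₀, c • w = w := by
  have h1 := hm.mem hv hv0 hc (a := 1) ⟨1, odd_one, one_pow _⟩ (by rw [e, one_smul])
  refine ⟨h1, fun w hw => ?_⟩
  obtain ⟨b, hb⟩ := h.D_sc u₀ c h1
  have : b = 1 := smul_left_injective K hv0 (by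
    change b • v = (1 : K) • v
    rw [← hv c h1 b hb, e, one_smul])
  rw [hw c h1 b hb, this, one_smul]

variable (h)

theorem Str.D_conj {g : G} (hg : g • u₀ = u₀) {d : G} (hd : d ∈ h.Dg u₀) :
    g * d * g⁻¹ ∈ h.Dg u₀ := by
  obtain ⟨h1, a, ⟨m, hm, ha⟩, e⟩ := hd
  refine ⟨h.T_normal.conj_mem d h1 g, σ g a, ⟨m, hm, by rw [← map_pow, ha, map_one]⟩, ?_⟩
  rw [mul_smul, mul_smul, inv_smul_eq_iff.2 hg.symm, e, h.semi, hg]

theorem Str.C_conj {g : G} (hg : g • u₀ = u₀) {c : G} (hc : c ∈ h.Cg u₀) :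
    g * c * g⁻¹ ∈ h.Cg u₀ := by
  rw [Subgroup.mem_centralizer_iff] at hc ⊢
  intro d hd
  have := hc _ (h.D_conj (inv_smul_eq_iff.2 hg.symm) hd)
  rw [inv_inv] at this
  calc d * (g * c * g⁻¹) = g * (g⁻¹ * d * g * c) * g⁻¹ := by group
    _ = g * c * g⁻¹ * d := by rw [this]; group

theorem Str.V_conj {g : G} (hg : g • u₀ = u₀) {v : V} (hv : v ∈ h.Vg u₀) : g • v ∈ h.Vg u₀ :=
  h.norm_mem_V0 hv hg fun d hd => by
    simpa using h.D_conj (inv_smul_eq_iff.2 hg.symm) hd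

theorem Str.U_le_C (u₀ : V) : U ≤ h.Cg u₀ := fun _ hu =>
  Subgroup.mem_centralizer_iff.2 fun _ hd => (h.comm_U (h.σ_T hd.1) hu).symm

theorem Str.C_V {c : G} (hc : c ∈ To ⊔ E) (hc' : c ∈ h.Cg u₀) {v : V} (hv : v ∈ h.Vg u₀) :
    c • v ∈ h.Vg u₀ := h.cent_mem_V0 hv (h.σ_T hc) hc'

theorem Str.parts (h : Str G V K σ U To E) {t e : G} (ht : t ∈ To) (he : e ∈ E) {X : Subgroup G} (hx : t * e ∈ X) :
    t ∈ X ∧ e ∈ X := by
  obtain ⟨n, ⟨j, hj⟩, -, hn⟩ := h.expo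
  have h4 : e ^ 4 = 1 := by
    rw [show 4 = 2 * 2 by rfl, pow_mul]
    exact h.EU _ (E.pow_mem he 2) (h.sqE e he)
  have : (t * e) ^ (n * n) = e := by
    rw [(h.comm t ht e he).mul_pow, pow_mul, hn t ht, one_pow, one_mul, hj,
      show (2 * j + 1) * (2 * j + 1) = 4 * (j * j + j) + 1 by ring, pow_succ, pow_mul, h4]
    simp
  have h1 : e ∈ X := this ▸ X.pow_mem hx _
  exact ⟨by simpa using X.mul_mem hx (X.inv_mem h1), h1⟩

theorem Str.exists_secT (u₀ : V) {G : Type u} [Group G] [DistribMulAction G V]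
    {σ : G →* RingAut K} {U To E : Subgroup G} (h : Str G V K σ U To E) (T' : Subgroup G)
    [hT : T'.Normal] (hle : T' ≤ To ⊔ E) :
    ∃ (N : Type u) (_ : AddCommGroup N) (_ : DistribMulAction (stabilizer G u₀) N) (π : G → N),
      IsSecH (stabilizer G u₀) (h.Cg u₀ ⊓ T') T' π :=
  exists_secH _ _ _ (fun a ha b hb => ⟨h.U_le_C u₀ (h.comm_T (hle ha) (hle hb)),
    T'.mul_mem (T'.mul_mem (T'.mul_mem ha hb) (T'.inv_mem ha)) (T'.inv_mem hb)⟩) inf_le_right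
    (fun g hg a ha => ⟨h.C_conj hg ha.1, hT.conj_mem a ha.2 g⟩) fun g _ a ha => hT.conj_mem a ha g

/-- If `g` fixes more than three quarters of the frame it centralises the factor. -/
theorem Str.cent_of_good [Finite G] (h : Str G V K σ U To E) (hu₀ : u₀ ≠ 0) (T' : Subgroup G) [hT : T'.Normal]
    (hle : T' ≤ To ⊔ E) (hZ : ∀ t ∈ T', (∀ s ∈ T', Commute t s) → t ∈ U) (g : G)
    (hgood : 4 * Set.ncard {s | s ∈ T' ∧ (s⁻¹ * (g * s * g⁻¹)) • u₀ ≠ u₀} < Nat.card T') :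
    ∀ s ∈ T', Commute g s := by
  let B := {s | s ∈ T' ∧ (s⁻¹ * (g * s * g⁻¹)) • u₀ ≠ u₀}
  have hψ : ∀ s ∈ T', s⁻¹ * (g * s * g⁻¹) ∈ T' := fun s hs =>
    T'.mul_mem (T'.inv_mem hs) (hT.conj_mem s hs g)
  have hhalf : ∀ (X : Subgroup G) (B' : Set G), B'.ncard ≤ 2 * B.ncard →
      (∀ t ∈ T', t ∉ B' → t ∈ X) → T' ≤ X := by
    intro X B' h1 h2
    refine (eq_of_half (X := X ⊓ T') inf_le_right ?_).trans inf_le_left
    have h3 : (T' : Set G) ⊆ (X ⊓ T' : Subgroup G) ∪ B' := by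
      intro t ht
      by_cases hb : t ∈ B'
      · exact Or.inr hb
      · exact Or.inl ⟨h2 t ht hb, ht⟩
    have h4 := (Set.ncard_le_ncard h3).trans (Set.ncard_union_le _ _)
    rw [← Nat.card_coe_set_eq, ← Nat.card_coe_set_eq] at h4
    change 4 * B.ncard < _ at hgood
    change Nat.card T' ≤ Nat.card (X ⊓ T' : Subgroup G) + _ at h4
    omega
  have h1 : ∀ s ∈ T', s ∉ B → Commute g s := by
    intro s hs hsB
    have hs0 : (s⁻¹ * (g * s * g⁻¹)) • u₀ = u₀ := by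
      by_contra e
      exact hsB ⟨hs, e⟩
    have h2 : T' ≤ Subgroup.centralizer {s⁻¹ * (g * s * g⁻¹)} := by
      refine hhalf _ (B ∪ (fun t => s⁻¹ * t) '' B) ?_ fun t ht htB => ?_
      · refine (Set.ncard_union_le _ _).trans ?_
        have := Set.ncard_image_le (f := fun t => s⁻¹ * t) (s := B)
        omega
      rw [Set.mem_union, not_or] at htB
      have ht0 : (t⁻¹ * (g * t * g⁻¹)) • u₀ = u₀ := by
        by_contra e
        exact htB.1 ⟨ht, e⟩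
      have hst0 : ((s * t)⁻¹ * (g * (s * t) * g⁻¹)) • u₀ = u₀ := by
        by_contra e
        exact htB.2 ⟨s * t, ⟨T'.mul_mem hs ht, e⟩, by simp⟩
      rw [show (s * t)⁻¹ * (g * (s * t) * g⁻¹) =
        t⁻¹ * (s⁻¹ * (g * s * g⁻¹)) * t * (t⁻¹ * (g * t * g⁻¹)) by group, mul_smul, ht0] at hst0
      have h3 := h.U_fix (h.conj_mem_U (hle ht) (hle (hψ s hs))) hu₀ (by
        rw [mul_smul, hst0, inv_smul_eq_iff, hs0])
      rw [Subgroup.mem_centralizer_singleton_iff]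
      rw [inv_mul_eq_one] at h3
      conv_lhs => rw [h3]
      group
    have h3 := h.U_fix (hZ _ (hψ s hs) fun t ht =>
      (Subgroup.mem_centralizer_singleton_iff.1 (h2 ht)).symm) hu₀ hs0
    rw [inv_mul_eq_one, eq_mul_inv_iff_mul_eq] at h3
    exact h3.symm
  have h4 : T' ≤ Subgroup.centralizer {g} := hhalf _ B (by omega) fun t ht htB =>
    Subgroup.mem_centralizer_singleton_iff.2 (h1 t ht htB).symm
  exact fun s hs => (Subgroup.mem_centralizer_singleton_iff.1 (h4 hs)).symm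

/-- Colouring data for a factor `T'`. -/
structure Str.ColData (u₀ : V) (T' : Subgroup G) (β : Type) (X : Set V) (N : Type*)
    [AddCommGroup N] [DistribMulAction (stabilizer G u₀) N] (κ : Type) where
  π : G → N
  sec : IsSecH (stabilizer G u₀) (h.Cg u₀ ⊓ T') T' π
  col : N → Option κ
  vec : κ → β → V
  small : 4 * Set.ncard {x | x ≠ 0 ∧ col x = none} < Nat.card N
  rigid : ∀ g : stabilizer G u₀, (∀ x, x ≠ 0 → col (g • x) = col x) → ∀ x : N, g • x = x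
  mem : ∀ a b, vec a b ∈ X
  sep : ∀ e ∈ T', e ∈ h.Cg u₀ → ∀ a a', (∀ b, e • vec a b = vec a' b) → a = a'
  nz : ∀ a, ∃ b, vec a b ≠ 0

variable {h}

/-- the component vectors -/
def Str.ColData.z {T' : Subgroup G} {β : Type} {X : Set V} {N : Type*}
    [AddCommGroup N] [DistribMulAction (stabilizer G u₀) N] {κ : Type}
    (c : h.ColData u₀ T' β X N κ) (x : N) (b : β) : V :=
  match c.col x with
  | none => 0
  | some a => c.vec a b

theorem Str.ColData.factor [Finite G] (hm : h.IsMax u₀) {T' : Subgroup G} [hT : T'.Normal]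
    (hle : T' ≤ To ⊔ E) (hZ : ∀ t ∈ T', (∀ s ∈ T', Commute t s) → t ∈ U)
    {β : Type} {X : Set V} (hX : X ⊆ h.Vg u₀) {N : Type*}
    [AddCommGroup N] [DistribMulAction (stabilizer G u₀) N] {κ : Type}
    (c : h.ColData u₀ T' β X N κ) (r : N → G) (hr : ∀ x, r x ∈ T') (hr' : ∀ x, c.π (r x) = x)
    (g : stabilizer G u₀) (hgX : ∀ v ∈ X, g.1 • v = v)
    (hgC : ∀ e ∈ T', e ∈ h.Cg u₀ → g.1 • e • u₀ = e • u₀)
    (hcomp : ∀ x, x ≠ 0 → ∀ b, g.1 • r x • c.z x b = r (g • x) • c.z (g • x) b) :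
    ∀ s ∈ T', Commute g.1 s := by
  have hg0 : g.1 • u₀ = u₀ := g.2
  have hgi : g.1⁻¹ • u₀ = u₀ := inv_smul_eq_iff.2 hg0.symm
  have hzX : ∀ x b, g.1⁻¹ • c.z x b = c.z x b := by
    intro x b
    rw [inv_smul_eq_iff]
    unfold Str.ColData.z
    split
    · simp
    · exact (hgX _ (c.mem _ _)).symm
  have he : ∀ x, (r (g • x))⁻¹ * (g.1 * r x * g.1⁻¹) ∈ h.Cg u₀ ⊓ T' := fun x => by
    rw [← c.sec.eq_iff (hr _) (hT.conj_mem _ (hr x) _), c.sec.conj g _ (hr x), hr', hr']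
  have he' : ∀ x, x ≠ 0 → ∀ b, ((r (g • x))⁻¹ * (g.1 * r x * g.1⁻¹)) • c.z x b = c.z (g • x) b := by
    intro x hx b
    rw [mul_smul, mul_smul, mul_smul, hzX, hcomp x hx, inv_smul_smul]
  have hcol : ∀ x, x ≠ 0 → c.col (g • x) = c.col x := by
    intro x hx
    have h1 := he' x hx
    unfold Str.ColData.z at h1
    rcases h2 : c.col x with _ | a <;> rcases h3 : c.col (g • x) with _ | a' <;>
      simp only [h2, h3] at h1
    · rfl
    · obtain ⟨b, hb⟩ := c.nz a'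
      exact absurd ((h1 b).symm.trans (smul_zero _)) hb
    · obtain ⟨b, hb⟩ := c.nz a
      exact absurd ((smul_eq_zero_iff_eq _).1 (h1 b)) hb
    · rw [c.sep _ (he x).2 (he x).1 a a' h1]
  have hid := c.rigid g hcol
  refine h.cent_of_good hm.1 T' hle hZ g.1 ?_
  have hsub : {s | s ∈ T' ∧ (s⁻¹ * (g.1 * s * g.1⁻¹)) • u₀ ≠ u₀} ⊆
      {s | s ∈ T' ∧ c.π s ∈ {x | x ≠ 0 ∧ c.col x = none}} := by
    rintro s ⟨hs, hs'⟩
    refine ⟨hs, ?_⟩
    by_contra hne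
    apply hs'
    rw [mul_smul, mul_smul, mul_smul, hgi, inv_smul_eq_iff]
    by_cases hx : c.π s = 0
    · exact hgC s hs ((c.sec.ker s hs).1 hx).1
    obtain ⟨a, ha⟩ : ∃ a, c.col (c.π s) = some a :=
      Option.ne_none_iff_exists'.1 fun e => hne ⟨hx, e⟩
    obtain ⟨b, hb⟩ := c.nz a
    have h1 := he' _ hx b
    have h2 := he (c.π s)
    rw [hid] at h1 h2
    unfold Str.ColData.z at h1
    simp only [ha] at h1
    have h3 := (hm.fix (hX (c.mem a b)) hb (hle h2.2) h1).2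
    have h4 : (r (c.π s))⁻¹ * s ∈ h.Cg u₀ ⊓ T' := (c.sec.eq_iff (hr _) hs).1 (hr' _)
    have h5 := h3 _ (h.C_V (hle h4.2) h4.1 (self_mem_V0 _ _))
    rw [mul_smul, mul_smul, mul_smul, inv_smul_eq_iff,
      inv_smul_eq_iff.2 (hgC _ h4.2 h4.1).symm, mul_smul, smul_inv_smul] at h5
    exact h5
  have h6 := Set.ncard_le_ncard hsub
  rw [c.sec.card_pre inf_le_right] at h6
  have h7 := c.sec.card_pre inf_le_right Set.univ
  simp only [Set.mem_univ, and_true, Set.ncard_univ] at h7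
  have h8 : Nat.card T' = Nat.card N * Nat.card (h.Cg u₀ ⊓ T' : Subgroup G) := h7
  have h9 : 0 < Nat.card (h.Cg u₀ ⊓ T' : Subgroup G) := Nat.card_pos
  have := c.small
  rw [h8]
  nlinarith

theorem Str.mem_C_of_To (h : Str G V K σ U To E) {t : G} (ht : t ∈ To)
    (hc : ∀ d ∈ h.Dg u₀, d ∈ To → Commute d t) : t ∈ h.Cg u₀ := by
  rw [Subgroup.mem_centralizer_iff]
  intro d hd
  obtain ⟨a, ha, b, hb, rfl⟩ := h.mem_T hd.1
  exact (hc a (h.parts ha hb hd).1 ha).mul_left (h.comm t ht b hb).symm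

theorem Str.mem_C_of_E (h : Str G V K σ U To E) {t : G} (ht : t ∈ E)
    (hc : ∀ d ∈ h.Dg u₀, d ∈ E → Commute d t) : t ∈ h.Cg u₀ := by
  rw [Subgroup.mem_centralizer_iff]
  intro d hd
  obtain ⟨a, ha, b, hb, rfl⟩ := h.mem_T hd.1
  exact (h.comm a ha t ht).mul_left (hc b (h.parts ha hb hd).2 hb)

theorem Str.Z_To (h : Str G V K σ U To E) : ∀ t ∈ To, (∀ s ∈ To, Commute t s) → t ∈ U :=
  fun t ht hc => h.cent t (h.σT t ht) hc (h.comm t ht)

theorem Str.Z_E (h : Str G V K σ U To E) : ∀ t ∈ E, (∀ s ∈ E, Commute t s) → t ∈ U :=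
  fun t ht hc => h.cent t (h.σE t ht) (fun s hs => (h.comm s hs t ht).symm) hc

/-- **The main construction.** -/
theorem Str.IsMax.base [Finite G] (hm : h.IsMax u₀) {β : Type} (y₀ : β → V)
    (hy₀ : ∀ b, y₀ b ∈ h.Vg u₀) {X : Set V} (hX : X ⊆ h.Vg u₀)
    (H0 : ∀ g : G, g • u₀ = u₀ → (∀ b, g • y₀ b = y₀ b) → σ g = 1 ∧
      (∀ e ∈ To, e ∈ h.Cg u₀ → g • e • u₀ = e • u₀) ∧
      (∀ e ∈ E, e ∈ h.Cg u₀ → g • e • u₀ = e • u₀) ∧ ∀ v ∈ X, g • v = v)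
    {N₁ N₂ : Type*} [AddCommGroup N₁] [DistribMulAction (stabilizer G u₀) N₁] [AddCommGroup N₂]
    [DistribMulAction (stabilizer G u₀) N₂] {κ₁ κ₂ : Type} (c₁ : h.ColData u₀ To β X N₁ κ₁)
    (c₂ : h.ColData u₀ E β X N₂ κ₂) :
    ∃ y : β → V, ∀ g : G, g • u₀ = u₀ → (∀ b, g • y b = y b) → g = 1 := by
  classical
  have := h.Ton
  have := h.En
  have := c₁.sec.finite
  have := c₂.sec.finite
  choose r₁ hr₁ hr₁' using c₁.sec.surj
  choose r₂ hr₂ hr₂' using c₂.sec.surj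
  let ι := Option ({x : N₁ // x ≠ 0} ⊕ {x : N₂ // x ≠ 0})
  let _ : Fintype ι := Fintype.ofFinite ι
  let s : ι → G := fun i => i.elim 1 (Sum.elim (fun x => r₁ x.1) fun x => r₂ x.1)
  let z : β → ι → V := fun b i => i.elim (y₀ b) (Sum.elim (fun x => c₁.z x.1 b) fun x => c₂.z x.1 b)
  have hs : ∀ i, s i ∈ To ⊔ E := by
    rintro (_ | x | x)
    · exact one_mem _
    · exact Subgroup.mem_sup_left (hr₁ _)
    · exact Subgroup.mem_sup_right (hr₂ _)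
  have hz : ∀ b i, z b i ∈ h.Vg u₀ := by
    rintro b (_ | x | x)
    · exact hy₀ b
    · change c₁.z x.1 b ∈ _
      unfold Str.ColData.z
      split
      · exact zero_mem_V0 _ _
      · exact hX (c₁.mem _ _)
    · change c₂.z x.1 b ∈ _
      unfold Str.ColData.z
      split
      · exact zero_mem_V0 _ _
      · exact hX (c₂.mem _ _)
  have n1 : ∀ x : {x : N₁ // x ≠ 0}, r₁ x.1 ∉ h.Cg u₀ := fun x e =>
    x.2 ((hr₁' x.1).symm.trans ((c₁.sec.ker _ (hr₁ _)).2 ⟨e, hr₁ _⟩))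
  have n2 : ∀ x : {x : N₂ // x ≠ 0}, r₂ x.1 ∉ h.Cg u₀ := fun x e =>
    x.2 ((hr₂' x.1).symm.trans ((c₂.sec.ker _ (hr₂ _)).2 ⟨e, hr₂ _⟩))
  have inj : ∀ i j, (s i)⁻¹ * s j ∈ h.Cg u₀ → i = j := by
    rintro (_ | x | x) (_ | y | y) e
    · rfl
    · exact absurd (by simpa [s] using e) (n1 y)
    · exact absurd (by simpa [s] using e) (n2 y)
    · exact absurd (by simpa [s] using e) (n1 x)
    · have : x.1 = y.1 := by
        rw [← hr₁' x.1, ← hr₁' y.1, c₁.sec.eq_iff (hr₁ _) (hr₁ _)]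
        exact ⟨e, To.mul_mem (To.inv_mem (hr₁ _)) (hr₁ _)⟩
      rw [Subtype.ext this]
    · exact absurd (h.parts (To.inv_mem (hr₁ _)) (hr₂ _) e).2 (n2 y)
    · exact absurd (by simpa [s] using e) (n2 x)
    · have e' : (r₁ y.1)⁻¹ * r₂ x.1 ∈ h.Cg u₀ := by simpa [s] using Subgroup.inv_mem _ e
      exact absurd (h.parts (To.inv_mem (hr₁ _)) (hr₂ _) e').2 (n2 x)
    · have : x.1 = y.1 := by
        rw [← hr₂' x.1, ← hr₂' y.1, c₂.sec.eq_iff (hr₂ _) (hr₂ _)]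
        exact ⟨e, E.mul_mem (E.inv_mem (hr₂ _)) (hr₂ _)⟩
      rw [Subtype.ext this]
  refine ⟨fun b => ∑ i, s i • z b i, fun g hg hy => ?_⟩
  have key : ∀ b i j, (s i)⁻¹ * (g * s j * g⁻¹) ∈ h.Cg u₀ → s i • z b i = g • s j • z b j := by
    intro b i j hij
    have := h.frame (h.D_le u₀) hm.1 (h.D_sc u₀) s (z b) (fun j => g * s j * g⁻¹)
      (fun j => g • z b j) hs (fun j => h.T_normal.conj_mem _ (hs j) g) (hz b)
      (fun j => h.V_conj hg (hz b j)) inj (fun i j e => inj i j (by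
        simpa [mul_assoc] using h.C_conj (inv_smul_eq_iff.2 hg.symm) e)) (by
        have hy' : g • ∑ i, s i • z b i = ∑ i, s i • z b i := hy b
        refine hy'.symm.trans ?_
        rw [Finset.smul_sum]
        simp [mul_smul]) i j hij
    simpa [mul_smul] using this
  obtain ⟨h1, h2, h3, h4⟩ := H0 g hg fun b => by
    simpa [s, z] using (key b none none (by simpa [s] using Subgroup.one_mem _)).symm
  have h5 := c₁.factor hm le_sup_left h.Z_To hX r₁ hr₁ hr₁' ⟨g, hg⟩ h4 h2 fun x hx b =>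
    (key b (some (Sum.inl ⟨(⟨g, hg⟩ : stabilizer G u₀) • x, (smul_ne_zero_iff_ne _).2 hx⟩))
      (some (Sum.inl ⟨x, hx⟩)) (by
        refine ((c₁.sec.eq_iff (hr₁ _) (h.Ton.conj_mem _ (hr₁ x) _)).1 ?_).1
        rw [c₁.sec.conj ⟨g, hg⟩ _ (hr₁ x), hr₁', hr₁'])).symm
  have h6 := c₂.factor hm le_sup_right h.Z_E hX r₂ hr₂ hr₂' ⟨g, hg⟩ h4 h3 fun x hx b =>
    (key b (some (Sum.inr ⟨(⟨g, hg⟩ : stabilizer G u₀) • x, (smul_ne_zero_iff_ne _).2 hx⟩))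
      (some (Sum.inr ⟨x, hx⟩)) (by
        refine ((c₂.sec.eq_iff (hr₂ _) (h.En.conj_mem _ (hr₂ x) _)).1 ?_).1
        rw [c₂.sec.conj ⟨g, hg⟩ _ (hr₂ x), hr₂', hr₂'])).symm
  exact h.U_fix (h.cent g h1 h5 h6) hm.1 hg

end Cfsg.Agent.H12.RO
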