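import Cfsg.Agent.H12.RO7

/-!
Bases of linear groups, part 8: local structure at a maximal eigenvector.
-/

set_option autoImplicit false

namespace Cfsg.Agent.H12.RO

open MulAction Polynomial
open scoped commutatorElement

universe u

theorem exists_eig {K V : Type*} [Field K] [AddCommGroup V] [Module K V] (T : Module.End K V)
    (S : Submodule K V) (hS : ∀ v ∈ S, T v ∈ S) (l : Multiset K) (u : V) (hu : u ∈ S)
    (hu0 : u ≠ 0) (h : aeval T (l.map fun a => X - C a).prod u = 0) :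
    ∃ a ∈ l, ∃ v ∈ S, v ≠ 0 ∧ T v = a • v := by
  induction l using Multiset.induction_on generalizing u with
  | empty => simp [hu0] at h
  | cons a l ih =>
    by_cases e : T u - a • u = 0
    · exact ⟨a, Multiset.mem_cons_self _ _, u, hu, hu0, sub_eq_zero.1 e⟩
    obtain ⟨b, hb, hv⟩ := ih _ (S.sub_mem (hS u hu) (S.smul_mem a hu)) e (by
      rw [Multiset.map_cons, Multiset.prod_cons, mul_comm, map_mul] at h
      simpa using h)
    exact ⟨b, Multiset.mem_cons_of_mem hb, hv⟩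

variable {G V K : Type*} [Group G] [AddCommGroup V] [DistribMulAction G V] [Field K]
  [Module K V] {σ : G →* RingAut K} {U To E : Subgroup G}

/-- a linear element as an endomorphism -/
def Str.toEnd (h : Str G V K σ U To E) (g : G) (hg : σ g = 1) : Module.End K V where
  toFun v := g • v
  map_add' := smul_add g
  map_smul' c v := h.lin hg c v

theorem Str.toEnd_pow (h : Str G V K σ U To E) (g : G) (hg : σ g = 1) (n : ℕ) (v : V) :
    (h.toEnd g hg ^ n) v = g ^ n • v := by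
  induction n with
  | zero => simp
  | succ n ih => rw [pow_succ', Module.End.mul_apply, ih, pow_succ', mul_smul]; rfl

/-- the eigenspace as a subspace -/
def Str.Vs (h : Str G V K σ U To E) (u₀ : V) : Submodule K V where
  carrier := h.Vg u₀
  add_mem' := add_mem_V0
  zero_mem' := zero_mem_V0 _ _
  smul_mem' c _ hv := h.smul_mem_V0 (h.D_le u₀) hv c

variable {h : Str G V K σ U To E} {u₀ : V}

theorem Str.IsMax.To_D (hm : h.IsMax u₀) {t : G} (ht : t ∈ To) (hc : t ∈ h.Cg u₀) :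
    t ∈ h.Dg u₀ := by
  classical
  obtain ⟨n, hodd, hsq, hn⟩ := h.expo
  have hpr : ∀ r : ℕ, r.Prime → Odd r → ∀ t ∈ To, t ∈ h.Cg u₀ → t ^ r = 1 → t ∈ h.Dg u₀ := by
    intro r hr hro t ht hc htr
    have hsc : ∀ u ∈ U, u ^ r = 1 → ∃ c : K, c ^ r = 1 ∧ ∀ v : V, u • v = c • v := by
      intro u hu hur
      obtain ⟨c, hc⟩ := h.Usc u hu
      refine ⟨c, smul_left_injective K hm.1 ?_, hc⟩
      have : ∀ k : ℕ, u ^ k • u₀ = c ^ k • u₀ := by
        intro k
        induction k with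
        | zero => simp
        | succ k ih => rw [pow_succ', mul_smul, ih, hc, pow_succ', mul_smul]
      change c ^ r • u₀ = (1 : K) • u₀
      rw [← this, hur, one_smul, one_smul]
    by_cases hU : t ∈ U
    · obtain ⟨c, h1, h2⟩ := hsc t hU htr
      exact ⟨Subgroup.mem_sup_left ht, c, ⟨r, hro, h1⟩, h2 _⟩
    obtain ⟨s, hs, hts⟩ : ∃ s ∈ To, ¬ Commute t s := by
      by_contra hh
      push Not at hh
      exact hU (h.Z_To t ht hh)
    have hu := h.commT t ht s hs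
    obtain ⟨ζ, h1, h2⟩ := hsc _ hu (comm_pow_eq_one (h.comm_U (h.σT s hs) hu)
      (h.comm_U (h.σT t ht) hu) (by rw [htr]; exact Commute.one_left _))
    have h3 : ζ ≠ 1 := by
      rintro rfl
      exact hts (commutatorElement_eq_one_iff_commute.1 (h.faith _ fun x => by rw [h2, one_smul]))
    have := Fact.mk hr
    have h4 : IsPrimitiveRoot ζ r := orderOf_eq_prime h1 h3 ▸ IsPrimitiveRoot.orderOf ζ
    obtain ⟨a, ha, v, hv, hv0, e⟩ := exists_eig (h.toEnd t (h.σT t ht)) (h.Vs u₀)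
      (fun v hv => h.C_V (Subgroup.mem_sup_left ht) hc hv) (nthRootsFinset r (1 : K)).1 u₀
      (self_mem_V0 _ _) hm.1 (by
        have := X_pow_sub_one_eq_prod hr.pos h4
        unfold Finset.prod at this
        rw [← this]
        simp [h.toEnd_pow, htr])
    exact hm.mem hv hv0 (Subgroup.mem_sup_left ht)
      ⟨r, hro, (mem_nthRootsFinset hr.pos 1).1 ha⟩ e
  have key : ∀ m : ℕ, Odd m → Squarefree m → ∀ t ∈ To, t ∈ h.Cg u₀ → t ^ m = 1 → t ∈ h.Dg u₀ := by
    intro m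
    induction m using induction_on_primes with
    | zero => intro h0; simp at h0
    | one =>
      intro _ _ t _ _ e
      rw [pow_one] at e
      rw [e]; exact one_mem _
    | prime_mul p a hp ih =>
      intro h1 h2 t ht hc e
      rw [Nat.odd_mul] at h1
      rw [Nat.squarefree_mul_iff] at h2
      have h3 := ih h1.2 h2.2.2 _ (To.pow_mem ht p) (Subgroup.pow_mem _ hc p) (by rw [← pow_mul, e])
      have h4 := hpr p hp h1.1 _ (To.pow_mem ht a) (Subgroup.pow_mem _ hc a) (by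
        rw [← pow_mul, mul_comm, e])
      have h5 : t = (t ^ p) ^ Nat.gcdA p a * (t ^ a) ^ Nat.gcdB p a := by
        rw [← zpow_natCast, ← zpow_natCast, ← zpow_mul, ← zpow_mul, ← zpow_add,
          ← Nat.gcd_eq_gcd_ab, h2.1]
        simp
      rw [h5]
      exact Subgroup.mul_mem _ (Subgroup.zpow_mem _ h3 _) (Subgroup.zpow_mem _ h4 _)
  exact key n hodd hsq t ht hc (hn t ht)

theorem Str.E_pm (h : Str G V K σ U To E) {e : G} (he : e ∈ E) (hu : e ∈ U) :
    e = 1 ∨ ∀ v : V, e • v = -v := by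
  obtain ⟨c, hc⟩ := h.Usc e hu
  by_cases h1 : c = -1
  · exact Or.inr fun v => by rw [hc, h1, neg_one_smul]
  refine Or.inl (h.faith _ fun v => ?_)
  have h2 : (c * c) • v = v := by rw [mul_smul, ← hc, ← hc, ← mul_smul, ← sq, h.EU e he hu, one_smul]
  have h3 : (c + 1) • (e • v - v) = 0 := by
    rw [hc, smul_sub, smul_smul, add_mul, add_smul, add_smul, h2]; simp [add_comm]
  exact sub_eq_zero.1 ((smul_eq_zero.1 h3).resolve_left fun e => h1 (eq_neg_of_add_eq_zero_left e))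

theorem Str.E_sq (h : Str G V K σ U To E) {e : G} (he : e ∈ E) :
    e ^ 2 = 1 ∨ ∀ v : V, e • e • v = -v :=
  (h.E_pm (E.pow_mem he 2) (h.sqE e he)).imp id fun h1 v => by rw [← h1, sq, mul_smul]

theorem Str.E_comm (h : Str G V K σ U To E) {a b : G} (ha : a ∈ E) (hb : b ∈ E) :
    Commute a b ∨ ∀ v : V, a • b • v = -(b • a • v) := by
  refine (h.E_pm (E.mul_mem (E.mul_mem (E.mul_mem ha hb) (E.inv_mem ha)) (E.inv_mem hb))
    (h.commE a ha b hb)).imp commutatorElement_eq_one_iff_commute.1 fun h1 v => ?_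
  rw [← h1]
  simp [mul_smul]

theorem Str.exists_z (h : Str G V K σ U To E) (hE : ¬ E ≤ U) :
    ∃ z ∈ E, z ∈ U ∧ z ≠ 1 ∧ ∀ v : V, z • v = -v := by
  by_contra hh
  refine hE fun t ht => h.Z_E t ht fun s hs => ?_
  have h1 := E.mul_mem (E.mul_mem (E.mul_mem ht hs) (E.inv_mem ht)) (E.inv_mem hs)
  by_contra hc
  have h2 : ⁅t, s⁆ ≠ 1 := fun e => hc (commutatorElement_eq_one_iff_commute.1 e)
  exact hh ⟨_, h1, h.commE t ht s hs, h2, (h.E_pm h1 (h.commE t ht s hs)).resolve_left h2⟩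

theorem Str.two_ne (h : Str G V K σ U To E) (hE : ¬ E ≤ U) : (2 : K) ≠ 0 := by
  obtain ⟨z, -, -, h1, h2⟩ := h.exists_z hE
  intro h0
  refine h1 (h.faith _ fun v => ?_)
  rw [h2, neg_eq_iff_add_eq_zero, ← two_smul K, h0, zero_smul]

theorem Str.IsMax.invol (hm : h.IsMax u₀) {e : G} (he : e ∈ E) (hc : e ∈ h.Cg u₀)
    (h2 : e ^ 2 = 1) : (∀ w ∈ h.Vg u₀, e • w = w) ∨ ∀ w ∈ h.Vg u₀, e • w = -w := by
  have hT : e ∈ To ⊔ E := Subgroup.mem_sup_right he
  by_cases h0 : u₀ + e • u₀ = 0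
  swap
  · refine Or.inl (hm.fix (add_mem_V0 (self_mem_V0 _ _) (h.C_V hT hc (self_mem_V0 _ _))) h0 hT
      ?_).2
    rw [smul_add, ← mul_smul, ← sq, h2, one_smul, add_comm]
  by_cases hE : E ≤ U
  · rcases h.E_pm he (hE he) with rfl | h3
    · exact Or.inl fun w _ => one_smul _ _
    · exact Or.inr fun w _ => h3 w
  obtain ⟨z, hz, -, -, hz'⟩ := h.exists_z hE
  have := (hm.fix (self_mem_V0 _ _) hm.1 (Subgroup.mem_sup_right (E.mul_mem hz he)) (by
    rw [mul_smul, hz', neg_eq_iff_add_eq_zero, add_comm, h0])).2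
  exact Or.inr fun w hw => by
    have h3 := this w hw
    rw [mul_smul, hz'] at h3
    exact neg_eq_iff_eq_neg.1 h3

/-! ### the `F₂` model -/

theorem Str.comm_mul_iff (h : Str G V K σ U To E) {a b c : G} (ha : a ∈ E) (hb : b ∈ E)
    (hc : c ∈ E) : Commute (a * b) c ↔ (Commute a c ↔ Commute b c) := by
  by_cases h1 : Commute a c
  · simp only [h1, true_iff]
    exact ⟨fun e => by simpa using h1.inv_left.mul_left e, h1.mul_left⟩
  by_cases h2 : Commute b c
  · simp only [h1, h2, iff_true, iff_false]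
    exact fun e => h1 (by simpa using e.mul_left h2.inv_left)
  simp only [h1, h2, iff_true]
  rw [← commutatorElement_eq_one_iff_commute]
  refine h.faith _ fun v => ?_
  rw [commutatorElement_def, mul_smul, mul_smul, mul_smul, mul_smul,
    (h.E_comm hb hc).resolve_left h2, smul_neg, (h.E_comm ha hc).resolve_left h1]
  simp [mul_smul]

theorem Str.sq_mul_iff (h : Str G V K σ U To E) {a b : G} (ha : a ∈ E) (hb : b ∈ E) :
    (a * b) ^ 2 = 1 ↔ ((a ^ 2 = 1 ↔ b ^ 2 = 1) ↔ Commute a b) := by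
  have hne : ∀ x : G, x ^ 2 = 1 → ∀ v : V, x • x • v = v := fun x hx v => by
    rw [← mul_smul, ← sq, hx, one_smul]
  by_cases h1 : Commute a b
  · simp only [h1, iff_true, h1.mul_pow]
    by_cases h2 : a ^ 2 = 1
    · simp [h2]
    by_cases h3 : b ^ 2 = 1
    · simp [h3]
    simp only [h2, h3, iff_true]
    refine h.faith _ fun v => ?_
    rw [sq, sq, mul_smul, mul_smul, mul_smul, (h.E_sq ha).resolve_left h2,
      (h.E_sq hb).resolve_left h3, neg_neg]
  have h4 := (h.E_comm hb ha).resolve_left fun e => h1 e.symm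
  have h5 : ∀ v : V, (a * b) ^ 2 • v = -(a • a • b • b • v) := fun v => by
    rw [sq, mul_smul, mul_smul, mul_smul, h4, smul_neg]
  have h6 : ¬ ∀ v : V, -v = v := fun e => h1 (by
    rw [← commutatorElement_eq_one_iff_commute]
    refine h.faith _ fun v => ?_
    rw [commutatorElement_def, mul_smul, mul_smul, mul_smul, ← e (a • _), ← h4]
    simp)
  simp only [h1, iff_false]
  constructor
  · intro e h7
    refine h6 fun v => ?_
    have h8 := h5 v
    rw [e, one_smul] at h8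
    by_cases h2 : a ^ 2 = 1
    · rw [hne a h2, hne b (h7.1 h2)] at h8
      exact h8.symm
    · rw [(h.E_sq ha).resolve_left h2, (h.E_sq hb).resolve_left (fun e => h2 (h7.2 e)),
        neg_neg] at h8
      exact h8.symm
  · intro h7
    refine h.faith _ fun v => ?_
    rw [h5]
    by_cases h2 : a ^ 2 = 1
    · rw [hne a h2, (h.E_sq hb).resolve_left (fun e => h7 ⟨fun _ => e, fun _ => h2⟩), neg_neg]
    · have h3 : b ^ 2 = 1 := by
        by_contra e
        exact h7 ⟨fun e' => absurd e' h2, fun e' => absurd e' e⟩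
      rw [(h.E_sq ha).resolve_left h2, hne b h3, neg_neg]

/-- `W = E U / U` with its forms. -/
structure Str.F2 (h : Str G V K σ U To E) (W : Type*) [AddCommGroup W] [Module (ZMod 2) W] [DistribMulAction G W] where
  π : G → W
  sec : IsSec (U ⊓ E) E π
  b : LinearMap.BilinForm (ZMod 2) W
  hb : ∀ x ∈ E, ∀ y ∈ E, b (π x) (π y) = 0 ↔ Commute x y
  Q : W → ZMod 2
  hQ : ∀ x ∈ E, Q (π x) = 0 ↔ x ^ 2 = 1

theorem zmod2_add (x y z : ZMod 2) : x = y + z ↔ (x = 0 ↔ (y = 0 ↔ z = 0)) := by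
  revert x y z; decide

theorem zmod2_eq (x y : ZMod 2) : x = y ↔ (x = 0 ↔ y = 0) := by
  revert x y; decide

theorem Str.exists_F2 {G : Type u} [Group G] [DistribMulAction G V] {σ : G →* RingAut K}
    {U To E : Subgroup G} (h : Str G V K σ U To E) :
    ∃ (W : Type u) (_ : AddCommGroup W) (_ : Module (ZMod 2) W) (_ : DistribMulAction G W),
      Nonempty (h.F2 W) := by
  classical
  have := h.Un
  have := h.En
  obtain ⟨W, _, _, π, hπ⟩ := exists_sec (U ⊓ E) E (Subgroup.commutator_le.2 fun a ha b hb =>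
    ⟨h.commE a ha b hb, E.mul_mem (E.mul_mem (E.mul_mem ha hb) (E.inv_mem ha)) (E.inv_mem hb)⟩)
  choose r hr hr' using hπ.surj
  have h2 : ∀ x : W, 2 • x = 0 := fun x => by
    rw [← hr' x, ← hπ.pow (hr x), hπ.ker _ (E.pow_mem (hr x) 2)]
    exact ⟨h.sqE _ (hr x), E.pow_mem (hr x) 2⟩
  let _ : Module (ZMod 2) W := AddCommGroup.zmodModule h2
  have hrep : ∀ x ∈ E, ∃ u ∈ E, u ∈ U ∧ r (π x) = x * u := fun x hx =>
    ⟨x⁻¹ * r (π x), E.mul_mem (E.inv_mem hx) (hr _), ((hπ.eq_iff hx (hr _)).1 (hr' _).symm).1,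
      by group⟩
  have hc : ∀ x ∈ E, ∀ y ∈ E, Commute (r (π x)) y ↔ Commute x y := by
    intro x hx y hy
    obtain ⟨u, hu, hu', e⟩ := hrep x hx
    rw [e, h.comm_mul_iff hx hu hy]
    simp [h.comm_U (h.σE y hy) hu']
  let f : W → W → ZMod 2 := fun x y => if Commute (r x) (r y) then 0 else 1
  have hf : ∀ x ∈ E, ∀ y ∈ E, f (π x) (π y) = 0 ↔ Commute x y := by
    intro x hx y hy
    simp only [f, ite_eq_left_iff, one_ne_zero, imp_false, not_not]
    rw [hc x hx _ (hr _), Commute.symm_iff, hc y hy x hx, Commute.symm_iff]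
  have hs : ∀ x y, f x y = f y x := fun x y => by simp only [f, Commute.symm_iff (a := r x)]
  have ha : ∀ x y z, f (x + y) z = f x z + f y z := by
    intro x y z
    rw [← hr' x, ← hr' y, ← hr' z, ← hπ.mul _ (hr x) _ (hr y), zmod2_add,
      hf _ (E.mul_mem (hr x) (hr y)) _ (hr z), hf _ (hr x) _ (hr z), hf _ (hr y) _ (hr z),
      h.comm_mul_iff (hr x) (hr y) (hr z)]
  have hm : ∀ (c : ZMod 2) x z, f (c • x) z = c • f x z := by
    intro c x z
    have : c = 0 ∨ c = 1 := by revert c; decide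
    rcases this with rfl | rfl
    · have := ha 0 0 z
      simp only [add_zero, left_eq_add] at this
      simp [this]
    · simp
  refine ⟨W, _, inferInstance, inferInstance, ⟨π, hπ, LinearMap.mk₂ (ZMod 2) f ha hm
    (fun x y z => by rw [hs, ha, hs y, hs z]) (fun c x z => by rw [hs, hm, hs z]), hf,
    fun x => if r x ^ 2 = 1 then 0 else 1, fun x hx => ?_⟩⟩
  simp only [ite_eq_left_iff, one_ne_zero, imp_false, not_not]
  obtain ⟨u, hu, hu', e⟩ := hrep x hx
  rw [e, h.sq_mul_iff hx hu]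
  simp [(h.comm_U (h.σE x hx) hu').symm, h.EU u hu hu']

section F2

variable {W : Type*} [AddCommGroup W] [Module (ZMod 2) W] [DistribMulAction G W] (F : h.F2 W)

theorem Str.F2.alt (x : W) : F.b x x = 0 := by
  obtain ⟨a, ha, rfl⟩ := F.sec.surj x
  exact (F.hb a ha a ha).2 (Commute.refl _)

theorem Str.F2.symm (x y : W) : F.b x y = F.b y x := by
  obtain ⟨a, ha, rfl⟩ := F.sec.surj x
  obtain ⟨c, hc, rfl⟩ := F.sec.surj y
  rw [zmod2_eq, F.hb a ha c hc, F.hb c hc a ha, Commute.symm_iff]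

theorem Str.F2.nd {x : W} (hx : ∀ y, F.b x y = 0) : x = 0 := by
  obtain ⟨a, ha, rfl⟩ := F.sec.surj x
  exact (F.sec.ker a ha).2 ⟨h.Z_E a ha fun s hs => (F.hb a ha s hs).1 (hx _), ha⟩

theorem Str.F2.nondeg : F.b.Nondegenerate :=
  ⟨fun _ hx => F.nd hx, fun _ hx => F.nd fun y => by rw [F.symm, hx]⟩

theorem Str.F2.refl : F.b.IsRefl := fun x y e => by rw [F.symm, e]

theorem Str.F2.b_smul (g : G) (x y : W) : F.b (g • x) (g • y) = F.b x y := by
  obtain ⟨a, ha, rfl⟩ := F.sec.surj x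
  obtain ⟨c, hc, rfl⟩ := F.sec.surj y
  rw [← F.sec.conj g a ha, ← F.sec.conj g c hc, zmod2_eq, F.hb a ha c hc,
    F.hb _ (h.En.conj_mem a ha g) _ (h.En.conj_mem c hc g), Commute.conj_iff]

theorem Str.F2.Q_smul (g : G) (x : W) : F.Q (g • x) = F.Q x := by
  obtain ⟨a, ha, rfl⟩ := F.sec.surj x
  rw [← F.sec.conj g a ha, zmod2_eq, F.hQ a ha, F.hQ _ (h.En.conj_mem a ha g), conj_pow,
    conj_eq_one_iff]

theorem Str.F2.Q_add (x y : W) : F.Q (x + y) = F.Q x + F.Q y + F.b x y := by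
  obtain ⟨a, ha, rfl⟩ := F.sec.surj x
  obtain ⟨c, hc, rfl⟩ := F.sec.surj y
  rw [← F.sec.mul a ha c hc, zmod2_add, F.hQ _ (E.mul_mem ha hc), h.sq_mul_iff ha hc,
    ← F.hQ a ha, ← F.hQ c hc, ← F.hb a ha c hc]
  generalize F.Q (F.π a) = x
  generalize F.Q (F.π c) = y
  generalize F.b (F.π a) (F.π c) = z
  revert x y z
  decide

/-- the image of a subgroup -/
def Str.F2.img (D : Subgroup G) : Submodule (ZMod 2) W :=
  AddSubgroup.toZModSubmodule 2
    { carrier := {x | ∃ d ∈ D, d ∈ E ∧ F.π d = x}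
      add_mem' := by
        rintro _ _ ⟨a, ha, ha', rfl⟩ ⟨b, hb, hb', rfl⟩
        exact ⟨a * b, D.mul_mem ha hb, E.mul_mem ha' hb', F.sec.mul a ha' b hb'⟩
      zero_mem' := ⟨1, D.one_mem, E.one_mem, F.sec.one⟩
      neg_mem' := by
        rintro _ ⟨a, ha, ha', rfl⟩
        exact ⟨a⁻¹, D.inv_mem ha, E.inv_mem ha', F.sec.inv ha'⟩ }

theorem Str.F2.mem_img {D : Subgroup G} {x : W} :
    x ∈ F.img D ↔ ∃ d ∈ D, d ∈ E ∧ F.π d = x := Iff.rfl

include F in
/-- double centraliser -/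
theorem Str.F2.dbl [Finite G] (D : Subgroup G) {c : G} (hc : c ∈ E)
    (hcc : ∀ e ∈ E, (∀ d ∈ D, d ∈ E → Commute d e) → Commute e c) :
    ∃ d ∈ D, d ∈ E ∧ d⁻¹ * c ∈ U := by
  have := F.sec.finite
  have h1 : F.π c ∈ F.b.orthogonal (F.b.orthogonal (F.img D)) := by
    intro x hx
    obtain ⟨e, he, rfl⟩ := F.sec.surj x
    exact (F.hb e he c hc).2 (hcc e he fun d hd hd' =>
      (F.hb d hd' e he).1 (hx _ ⟨d, hd, hd', rfl⟩))
  rw [LinearMap.BilinForm.orthogonal_orthogonal F.nondeg F.refl] at h1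
  obtain ⟨d, hd, hd', e⟩ := h1
  exact ⟨d, hd, hd', ((F.sec.eq_iff hd' hc).1 e).1⟩

end F2

theorem Str.D_fix (h : Str G V K σ U To E) (hu₀ : u₀ ≠ 0) {d : G} (hd : d ∈ h.Dg u₀) (hE : d ∈ E) :
    d • u₀ = u₀ := by
  obtain ⟨-, a, ⟨m, ⟨j, hj⟩, ha⟩, e⟩ := hd
  have h4 : d ^ 4 = 1 := by
    rw [show 4 = 2 * 2 by rfl, pow_mul]
    exact h.EU _ (E.pow_mem hE 2) (h.sqE d hE)
  have hp : ∀ k : ℕ, d ^ k • u₀ = a ^ k • u₀ := by
    intro k
    induction k with
    | zero => simp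
    | succ k ih => rw [pow_succ', mul_smul, ih, h.lin (h.σE d hE), e, smul_smul, pow_succ]
  have h5 : a ^ 4 = 1 := smul_left_injective K hu₀ (by
    change a ^ 4 • u₀ = (1 : K) • u₀
    rw [← hp, h4, one_smul, one_smul])
  have : a ^ (m * m) = a := by
    rw [hj, show (2 * j + 1) * (2 * j + 1) = 4 * (j * j + j) + 1 by ring, pow_succ, pow_mul, h5]
    simp
  rw [e, ← this, pow_mul, ha, one_pow, one_smul]

/-- Quaternion data. -/
structure Str.Quat (h : Str G V K σ U To E) (u₁ : V) (c c' : G) (α β : K) : Prop where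
  max : h.IsMax u₁
  cE : c ∈ E
  cC : c ∈ h.Cg u₁
  c'E : c' ∈ E
  c'C : c' ∈ h.Cg u₁
  sq : c ^ 2 ≠ 1
  sq' : c' ^ 2 ≠ 1
  anti : ¬ Commute c c'
  fα : ∀ τ : RingAut K, τ α = α
  fβ : ∀ τ : RingAut K, τ β = β
  β0 : β ≠ 0
  eig : α • c • u₁ + β • c' • u₁ = u₁

theorem exists_sq_add_sq (K : Type*) [Field K] [Finite K] :
    ∃ α β : K, (∀ τ : RingAut K, τ α = α) ∧ (∀ τ : RingAut K, τ β = β) ∧ β ≠ 0 ∧
      α ^ 2 + β ^ 2 = -1 := by
  obtain ⟨p, hp⟩ := CharP.exists K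
  have : NeZero p := ⟨(CharP.char_ne_zero_of_finite K p)⟩
  obtain ⟨a, b, hab⟩ := CharP.sq_add_sq K p (-1)
  by_cases h0 : (b : K) = 0
  · refine ⟨b, a, fun τ => map_natCast τ b, fun τ => map_natCast τ a, fun e => ?_, ?_⟩
    · simp [h0, e] at hab
    · rw [add_comm]; simpa using hab
  · exact ⟨a, b, fun τ => map_natCast τ a, fun τ => map_natCast τ b, h0, by simpa using hab⟩

theorem Str.not_le_of_not_comm (h : Str G V K σ U To E) {a b : G} (ha : a ∈ E) (hb : b ∈ E)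
    (hc : ¬ Commute a b) : ¬ E ≤ U := fun e => hc (h.comm_U (h.σE b hb) (e ha))

theorem eq_zero_of_eq_neg (h2 : (2 : K) ≠ 0) {v : V} (e : v = -v) : v = 0 := by
  rw [eq_neg_iff_add_eq_zero, ← two_smul K] at e
  exact (smul_eq_zero.1 e).resolve_left h2

theorem Str.IsMax.invol_comm (hm : h.IsMax u₀) {e c : G} (he : e ∈ E) (heC : e ∈ h.Cg u₀)
    (h2 : e ^ 2 = 1) (hc : c ∈ E) (hcC : c ∈ h.Cg u₀) : Commute e c := by
  by_contra hcc
  have h4 := (h.E_comm he hc).resolve_left hcc u₀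
  have h5 := h.two_ne (h.not_le_of_not_comm he hc hcc)
  have h6 := h.C_V (Subgroup.mem_sup_right hc) hcC (self_mem_V0 _ _)
  apply hm.1
  rw [← smul_eq_zero_iff_eq c]
  apply eq_zero_of_eq_neg h5
  rcases hm.invol he heC h2 with h3 | h3
  · rwa [h3 _ h6, h3 _ (self_mem_V0 _ _)] at h4
  · rw [h3 _ h6, h3 _ (self_mem_V0 _ _), smul_neg] at h4
    exact neg_injective h4

theorem Str.IsMax.C_eq (hm : h.IsMax u₀) {v : V} (hv : v ∈ h.Vg u₀) (hv0 : v ≠ 0) :
    h.Cg v = h.Cg u₀ := by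
  unfold Str.Cg
  rw [hm.D_eq hv hv0]

theorem Str.IsMax.cases {G : Type u} [Group G] [Finite G] [Finite K] [DistribMulAction G V]
    {σ : G →* RingAut K} {U To E : Subgroup G} {h : Str G V K σ U To E} {u₀ : V}
    (hm : h.IsMax u₀) : (∀ e ∈ E, e ∈ h.Cg u₀ → e ^ 2 = 1) ∨
      ∃ u₁ c c' α β, h.Quat u₁ c c' α β := by
  rw [or_iff_not_imp_left]
  intro hh
  push Not at hh
  obtain ⟨c, hc, hcC, hc2⟩ := hh
  obtain ⟨W, _, _, _, ⟨F⟩⟩ := h.exists_F2
  obtain ⟨c', hc', hc'C, hcc⟩ : ∃ c₁ ∈ E, c₁ ∈ h.Cg u₀ ∧ ¬ Commute c₁ c := by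
    by_contra hh
    push Not at hh
    obtain ⟨d, hd, hdE, hu⟩ := F.dbl (h.Dg u₀) hc fun e he hd => hh e he (h.mem_C_of_E he hd)
    have h1 := h.D_fix hm.1 hd hdE
    have h2 : c • c • u₀ = u₀ := by
      have e : c = d * (d⁻¹ * c) := by group
      rcases h.E_pm (E.mul_mem (E.inv_mem hdE) hc) hu with h3 | h3
      · rw [h3, mul_one] at e
        rw [e, h1, h1]
      · have h4 : c • u₀ = -u₀ := by rw [e, mul_smul, h3, smul_neg, h1]
        rw [h4, smul_neg, h4, neg_neg]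
    exact hc2 (h.U_fix (h.sqE c hc) hm.1 (by rw [sq, mul_smul, h2]))
  have hc'2 : c' ^ 2 ≠ 1 := fun e => hcc (hm.invol_comm hc' hc'C e hc hcC)
  obtain ⟨α, β, hα, hβ, hβ0, hαβ⟩ := exists_sq_add_sq K
  have hmem : ∀ v ∈ h.Vg u₀, α • c • v + β • c' • v ∈ h.Vg u₀ := fun v hv =>
    add_mem_V0 (h.smul_mem_V0 (h.D_le _) (h.C_V (Subgroup.mem_sup_right hc) hcC hv) _)
      (h.smul_mem_V0 (h.D_le _) (h.C_V (Subgroup.mem_sup_right hc') hc'C hv) _)
  by_cases h0 : u₀ + (α • c • u₀ + β • c' • u₀) = 0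
  · refine ⟨u₀, c, c', -α, -β, hm, hc, hcC, hc', hc'C, hc2, hc'2, fun e => hcc e.symm,
      fun τ => by rw [map_neg, hα], fun τ => by rw [map_neg, hβ], neg_ne_zero.2 hβ0, ?_⟩
    rw [neg_smul, neg_smul, ← neg_add, neg_eq_iff_add_eq_zero, add_comm, h0]
  have h1 := add_mem_V0 (self_mem_V0 (K := K) _ _) (hmem _ (self_mem_V0 _ _))
  refine ⟨_, c, c', α, β, hm.of_mem h1 h0, hc, by rwa [hm.C_eq h1 h0], hc', by rwa [hm.C_eq h1 h0],
    hc2, hc'2, fun e => hcc e.symm, hα, hβ, hβ0, ?_⟩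
  simp only [smul_add, h.lin (h.σE c hc), h.lin (h.σE c' hc'), (h.E_sq hc).resolve_left hc2,
    (h.E_sq hc').resolve_left hc'2, (h.E_comm hc' hc).resolve_left hcc]
  generalize c • c' • u₀ = x
  generalize c • u₀ = y
  generalize c' • u₀ = z
  linear_combination (norm := module) (-hαβ) • u₀

section Quat

variable {u₁ : V} {c c' : G} {α β : K} (q : h.Quat u₁ c c' α β)
include q

theorem Str.Quat.two : (2 : K) ≠ 0 := h.two_ne (h.not_le_of_not_comm q.cE q.c'E q.anti)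

theorem Str.Quat.cc (v : V) : c • c • v = -v := (h.E_sq q.cE).resolve_left q.sq v

theorem Str.Quat.cc' (v : V) : c • c' • v = -(c' • c • v) :=
  (h.E_comm q.cE q.c'E).resolve_left q.anti v

theorem Str.Quat.c'u : c' • u₁ = β⁻¹ • u₁ + (-(β⁻¹ * α)) • c • u₁ := by
  have := q.eig
  have h1 := mul_inv_cancel₀ q.β0
  generalize c • u₁ = y at this ⊢
  generalize c' • u₁ = z at this ⊢
  linear_combination (norm := module) β⁻¹ • this - h1 • z

theorem Str.Quat.indep {a b : K} (e : a • u₁ + b • c • u₁ = 0) : a = 0 ∧ b = 0 := by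
  by_cases hb : b = 0
  · rw [hb, zero_smul, add_zero] at e
    exact ⟨(smul_eq_zero.1 e).resolve_right q.max.1, hb⟩
  exfalso
  have h1 := mul_inv_cancel₀ hb
  have h2 : c • u₁ = (-(b⁻¹ * a)) • u₁ := by
    generalize c • u₁ = y at e ⊢
    linear_combination (norm := module) b⁻¹ • e - h1 • y
  have h3 := q.c'u
  rw [h2, smul_smul, ← add_smul] at h3
  have h4 := q.cc' u₁
  rw [h2, h.lin (h.σE _ q.c'E), h3, h.lin (h.σE _ q.cE), h2, smul_comm] at h4
  have h5 := eq_zero_of_eq_neg q.two h4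
  rw [← h3, ← h.lin (h.σE _ q.c'E), ← h2, smul_eq_zero_iff_eq, smul_eq_zero_iff_eq] at h5
  exact q.max.1 h5

theorem Str.Quat.act {e : G} (he : e ∈ E) (heC : e ∈ h.Cg u₁) :
    ∃ d, (d = 1 ∨ d = c ∨ d = c' ∨ d = c * c') ∧
      ((∀ w ∈ h.Vg u₁, e • w = d • w) ∨ ∀ w ∈ h.Vg u₁, e • w = -(d • w)) := by
  have key : ∀ d ∈ E, d ∈ h.Cg u₁ → (d⁻¹ * e) ^ 2 = 1 →
      ((∀ w ∈ h.Vg u₁, e • w = d • w) ∨ ∀ w ∈ h.Vg u₁, e • w = -(d • w)) := by
    intro d hd hdC h2
    refine (q.max.invol (E.mul_mem (E.inv_mem hd) he)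
      (Subgroup.mul_mem _ (Subgroup.inv_mem _ hdC) heC) h2).imp (fun h3 w hw => ?_) fun h3 w hw => ?_
    · have := h3 w hw
      rwa [mul_smul, inv_smul_eq_iff] at this
    · have := h3 w hw
      rwa [mul_smul, inv_smul_eq_iff, smul_neg] at this
  have key2 : ∀ d ∈ E, d ^ 2 ≠ 1 → e ^ 2 ≠ 1 → Commute d e → (d⁻¹ * e) ^ 2 = 1 := by
    intro d hd h1 h2 h3
    rw [h.sq_mul_iff (E.inv_mem hd) he]
    simp [h1, h2, h3]
  by_cases h1 : e ^ 2 = 1
  · exact ⟨1, Or.inl rfl, key 1 E.one_mem (one_mem _) (by simpa using h1)⟩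
  by_cases h2 : Commute c e
  · exact ⟨c, by simp, key c q.cE q.cC (key2 c q.cE q.sq h1 h2)⟩
  by_cases h3 : Commute c' e
  · exact ⟨c', by simp, key c' q.c'E q.c'C (key2 c' q.c'E q.sq' h1 h3)⟩
  refine ⟨c * c', by simp, key _ (E.mul_mem q.cE q.c'E) (Subgroup.mul_mem _ q.cC q.c'C)
    (key2 _ (E.mul_mem q.cE q.c'E) ?_ h1 ?_)⟩
  · rw [Ne, h.sq_mul_iff q.cE q.c'E]
    simp [q.sq, q.sq', q.anti]
  · rw [h.comm_mul_iff q.cE q.c'E he]
    simp [h2, h3]

theorem Str.Quat.coord {e : G} (he : e ∈ E) (heC : e ∈ h.Cg u₁) :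
    ∃ a b : K, (∀ τ : RingAut K, τ a = a) ∧ e • u₁ = a • u₁ + b • c • u₁ := by
  obtain ⟨d, hd, h1⟩ := q.act he heC
  obtain ⟨a, b, h2, h3⟩ : ∃ a b : K, (∀ τ : RingAut K, τ a = a) ∧
      d • u₁ = a • u₁ + b • c • u₁ := by
    rcases hd with rfl | rfl | rfl | rfl
    · exact ⟨1, 0, fun τ => map_one τ, by simp⟩
    · exact ⟨0, 1, fun τ => map_zero τ, by simp⟩
    · exact ⟨_, _, fun τ => by rw [map_inv₀, q.fβ], q.c'u⟩
    · refine ⟨β⁻¹ * α, β⁻¹, fun τ => by rw [map_mul, map_inv₀, q.fβ, q.fα], ?_⟩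
      rw [mul_smul, q.c'u, smul_add, h.lin (h.σE _ q.cE), h.lin (h.σE _ q.cE), q.cc]
      generalize c • u₁ = y
      module
  rcases h1 with h1 | h1
  · exact ⟨a, b, h2, by rw [h1 _ (self_mem_V0 _ _), h3]⟩
  · refine ⟨-a, -b, fun τ => by rw [map_neg, h2], ?_⟩
    rw [h1 _ (self_mem_V0 _ _), h3]
    generalize c • u₁ = y
    module

theorem Str.Quat.sub {g : G} (hg : g • u₁ = u₁) {s : K} (e : g • c • u₁ = c • u₁ + s • u₁) :
    (∀ τ : RingAut K, τ s = s) ∧ (s = 0 ∨ s ^ 2 = -2) := by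
  have he := h.En.conj_mem c q.cE g
  have heC := h.C_conj hg q.cC
  have h1 : (g * c * g⁻¹) • u₁ = c • u₁ + s • u₁ := by
    rw [mul_smul, mul_smul, inv_smul_eq_iff.2 hg.symm, e]
  have h2 : (g * c * g⁻¹) ^ 2 ≠ 1 := by
    rw [conj_pow, Ne, conj_eq_one_iff]; exact q.sq
  generalize g * c * g⁻¹ = x at he heC h1 h2
  constructor
  · obtain ⟨a, b, h3, h4⟩ := q.coord he heC
    have := (q.indep (a := a - s) (b := b - 1) (by
      rw [h1] at h4
      generalize c • u₁ = y at h4 ⊢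
      linear_combination (norm := module) -h4)).1
    rwa [← sub_eq_zero.1 this]
  have h3 := (h.E_sq he).resolve_left h2 u₁
  rw [h1, smul_add, h.lin (h.σE _ he), h1] at h3
  rcases h.E_comm he q.cE with h4 | h4
  · rw [← mul_smul, h4.eq, mul_smul, h1, smul_add, q.cc, h.lin (h.σE _ q.cE)] at h3
    have := (q.indep (a := s ^ 2) (b := 2 * s) (by
      generalize c • u₁ = y at h3 ⊢
      linear_combination (norm := module) h3)).2
    exact Or.inl ((mul_eq_zero.1 this).resolve_left q.two)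
  · rw [h4, h1, smul_add, q.cc, h.lin (h.σE _ q.cE)] at h3
    have := (q.indep (a := s ^ 2 + 2) (b := 0) (by
      generalize c • u₁ = y at h3 ⊢
      linear_combination (norm := module) h3)).1
    exact Or.inr (eq_neg_of_add_eq_zero_left this)

theorem Str.Quat.kill [Finite G] (h3 : (3 : K) = 0 → (3 : ℕ).Coprime (Nat.card G)) {g : G}
    (hg : g • u₁ = u₁) {l : K} (e : g • (l • u₁ + c • u₁) = l • u₁ + c • u₁) : σ g l = l := by
  have key : ∀ k : ℕ, g ^ k • c • u₁ = c • u₁ + (l - σ (g ^ k) l) • u₁ := by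
    intro k
    have h1 : g ^ k • u₁ = u₁ := (stabilizer G u₁).pow_mem hg k
    have h2 : g ^ k • (l • u₁ + c • u₁) = l • u₁ + c • u₁ := (stabilizer G _).pow_mem e k
    rw [smul_add, h.semi, h1] at h2
    generalize g ^ k • c • u₁ = x at h2 ⊢
    generalize c • u₁ = y at h2 ⊢
    linear_combination (norm := module) h2
  have h1 := q.sub hg (by simpa using key 1)
  have h2 : ∀ k : ℕ, l - σ (g ^ k) l = k * (l - σ g l) := by
    intro k
    induction k with
    | zero => simp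
    | succ k ih =>
      have := h1.1 (σ (g ^ k))
      rw [map_sub] at this
      rw [pow_succ, map_mul, RingAut.mul_apply]
      push_cast
      linear_combination ih + this
  by_cases h0 : (3 : K) = 0
  · have h4 := h2 3
    rw [Nat.cast_ofNat, h0, zero_mul, sub_eq_zero] at h4
    obtain ⟨m, hm⟩ := exists_pow_eq_self_of_coprime
      ((h3 h0).of_dvd_right (orderOf_dvd_natCard g))
    have h5 : ∀ k : ℕ, σ ((g ^ 3) ^ k) l = l := by
      intro k
      induction k with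
      | zero => simp
      | succ k ih => rw [pow_succ, map_mul, RingAut.mul_apply, ← h4, ih]
    rw [← hm, h5]
  have h4 := (q.sub ((stabilizer G u₁).pow_mem hg 2) (key 2)).2
  rw [h2] at h4
  rcases h1.2 with h5 | h5
  · exact (sub_eq_zero.1 h5).symm
  exfalso
  rcases h4 with h4 | h4
  · have h6 : l - σ g l = 0 := (mul_eq_zero.1 h4).resolve_left (by simpa using q.two)
    rw [h6] at h5
    exact q.two (by linear_combination h5)
  · refine mul_ne_zero q.two h0 ?_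
    push_cast at h4
    linear_combination 4 * h5 - h4

theorem Str.Quat.fixA {g : G} (hg : g • u₁ = u₁) (hσ : σ g = 1) (hc : g • c • u₁ = c • u₁) :
    ∀ e ∈ E, e ∈ h.Cg u₁ → g • e • u₁ = e • u₁ := by
  intro e he heC
  obtain ⟨a, b, -, h4⟩ := q.coord he heC
  rw [h4, smul_add, h.lin hσ, h.lin hσ, hg, hc]

end Quat

end Cfsg.Agent.H12.RO
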