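import Cfsg.Agent.H46.UDefs
import Cfsg.Agent.H15.BSW3
import Cfsg.Agent.H15.CN1
import Cfsg.Agent.H29.Klein

/-! The basic facts on an involution with centraliser `A₅ × 2 × O`. -/

set_option autoImplicit false

namespace Cfsg.Agent.H12.S94

open Subgroup Cfsg.Agent.H46.S94 Cfsg.Agent.H29
open scoped commutatorElement

universe u

local instance factTwoS94Base : Fact (Nat.Prime 2) := ⟨Nat.prime_two⟩

variable {X : Type u} [Group X] {t σ : X} {Λ O Z P : Subgroup X}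

theorem one_of_pow {x : X} {m n : ℕ} (h : Nat.Coprime m n) (h1 : x ^ m = 1) (h2 : x ^ n = 1) :
    x = 1 := by
  have := Nat.dvd_gcd (orderOf_dvd_of_pow_eq_one h1) (orderOf_dvd_of_pow_eq_one h2)
  rwa [h, Nat.dvd_one, orderOf_eq_one_iff] at this

variable (h : A5C t σ Λ O Z)
include h

theorem pow_L {l : X} (hl : l ∈ Λ) : l ^ 2 = 1 ∨ l ^ 3 = 1 ∨ l ^ 5 = 1 := by
  obtain ⟨e⟩ := h.iso
  have k : ∀ n, e ⟨l, hl⟩ ^ n = 1 → l ^ n = 1 := fun n e' =>
    congrArg Subtype.val (e.injective (by rw [map_pow, e', map_one]) : (⟨l, hl⟩ : Λ) ^ n = 1)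
  exact (H15.a5_pow (e ⟨l, hl⟩)).imp (k 2) (Or.imp (k 3) (k 5))

theorem card_L : Nat.card Λ = 60 := by
  obtain ⟨e⟩ := h.iso
  rw [Nat.card_congr e.toEquiv, Nat.card_eq_fintype_card]
  have := two_mul_card_alternatingGroup (α := Fin 5)
  rw [Fintype.card_perm, Fintype.card_fin] at this
  have h5 : Nat.factorial 5 = 120 := rfl
  omega

/-- the `2`-elements of `Λ` -/
theorem sq_L {l : X} (hl : l ∈ Λ) {n : ℕ} (e : l ^ 2 ^ n = 1) : l * l = 1 := by
  rcases pow_L h hl with k | k | k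
  · rwa [pow_two] at k
  · rw [one_of_pow (Nat.Coprime.pow_left n (by norm_num)) e k, one_mul]
  · rw [one_of_pow (Nat.Coprime.pow_left n (by norm_num)) e k, one_mul]

theorem sq_Z {z : X} (hz : z ∈ Z) : z * z = 1 :=
  sq_L h (h.ZL hz) (n := 2) (congrArg Subtype.val (h.cZ ▸ pow_card_eq_one' : (⟨z, hz⟩ : Z) ^ 4 = 1))

theorem comm_Z {y z : X} (hy : y ∈ Z) (hz : z ∈ Z) : y * z = z * y := by
  have i : ∀ x ∈ Z, x⁻¹ = x := fun x hx => inv_eq_of_mul_eq_one_right (sq_Z h hx)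
  rw [← i _ (mul_mem hy hz), mul_inv_rev, i y hy, i z hz]

theorem s_cube : σ ^ 3 = 1 := h.so ▸ pow_orderOf_eq_one σ

theorem s_ne : σ ≠ 1 := fun e => by simpa [e] using h.so

/-- `σ` has no fixed point on the involutions of `Λ` -/
theorem fpf_L {z : X} (hz : z ∈ Λ) (zz : z * z = 1) (e : σ * z = z * σ) : z = 1 := by
  have c : Commute σ z := e
  have z2 : z ^ 2 = 1 := by rw [pow_two, zz]
  rcases pow_L h (mul_mem h.sL hz) with k | k | k <;> rw [c.mul_pow] at k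
  · rw [z2, mul_one] at k
    exact absurd (one_of_pow (by norm_num) k (s_cube h)) (s_ne h)
  · rw [s_cube h, one_mul] at k
    exact one_of_pow (by norm_num) z2 k
  · have k2 := congrArg (· ^ 2) k
    simp only [one_pow] at k2
    rw [(c.pow_pow 5 5).mul_pow, ← pow_mul z, mul_comm 5 2, pow_mul z, z2, one_pow, mul_one,
      ← pow_mul] at k2
    exact absurd (one_of_pow (by norm_num) k2 (s_cube h)) (s_ne h)

theorem fpf_Z {z : X} (hz : z ∈ Z) (e : σ * z = z * σ) : z = 1 := fpf_L h (h.ZL hz) (sq_Z h hz) e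

theorem center_L {l : X} (hl : l ∈ Λ) (e : ∀ x ∈ Λ, x * l = l * x) : l = 1 := by
  obtain ⟨f⟩ := h.iso
  have := f.isSimpleGroup
  rcases (inferInstance : (center Λ).Normal).eq_bot_or_eq_top with k | k
  · have : (⟨l, hl⟩ : Λ) ∈ center Λ := mem_center_iff.2 fun x => Subtype.ext (e x x.2)
    rw [k, mem_bot] at this
    exact congrArg Subtype.val this
  · have : Finite Z := Nat.finite_of_card_ne_zero (by rw [h.cZ]; norm_num)
    have : Nontrivial Z := Finite.one_lt_card_iff_nontrivial.1 (by rw [h.cZ]; norm_num)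
    obtain ⟨⟨z, hz⟩, z1⟩ := exists_ne (1 : Z)
    exact absurd (Subtype.ext (fpf_Z h hz (congrArg Subtype.val
      (mem_center_iff.1 (k ▸ mem_top _ : (⟨z, h.ZL hz⟩ : Λ) ∈ center Λ) ⟨σ, h.sL⟩)))) z1

variable [Finite X]

/-- `σ` is irreducible on `Z` -/
theorem irr {W : Subgroup X} (hW : σ ∈ normalizer (W : Set X)) {w : X} (hw : w ∈ W) (hz : w ∈ Z)
    (w1 : w ≠ 1) : Z ≤ W := by
  have m := (mem_normalizer_iff.1 h.sZ w).1 hz
  have kp : KPair w (σ * w * σ⁻¹) := ⟨w1, fun e => w1 (conj_eq_one_iff.1 e), fun e =>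
    w1 (fpf_Z h hz (mul_inv_eq_iff_eq_mul.1 e.symm)), sq_Z h hz, sq_Z h m, comm_Z h hz m⟩
  have := eq_of_le_of_card_ge (klein_le_iff.2 ⟨hz, m⟩ : _ ≤ Z) (by rw [kp.card, h.cZ])
  exact this ▸ klein_le_iff.2 ⟨hw, (mem_normalizer_iff.1 hW w).1 hw⟩

/-- `Z` is a Sylow subgroup of `Λ` -/
theorem syl_L {Q : Subgroup X} (hQ : IsPGroup 2 Q) (hZ : Z ≤ Q) : Q ⊓ Λ = Z := by
  refine (eq_of_le_of_card_ge (le_inf hZ h.ZL) ?_).symm
  obtain ⟨n, e⟩ := IsPGroup.iff_card.1 (hQ.to_inf_left (K := Λ))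
  have := card_dvd_of_le (inf_le_right : Q ⊓ Λ ≤ Λ)
  rw [card_L h, e] at this
  rw [e, h.cZ]
  by_contra hn
  have h3 : 3 ≤ n := by
    by_contra h3
    exact hn (Nat.pow_le_pow_right two_pos (by omega : n ≤ 2))
  exact absurd ((pow_dvd_pow 2 h3).trans this) (by norm_num)

omit [Finite X] in
/-- the `2`-elements of `C(t)` -/
theorem two_cen {c : X} (hc : c * t = t * c) {n : ℕ} (e : c ^ 2 ^ n = 1) : c ∈ Λ ∨ c * t ∈ Λ := by
  obtain ⟨l, hl, o, ho, k⟩ := h.cen c hc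
  have lo : Commute l o := h.OC ho l hl
  have e1 : (l * o) ^ 2 ^ (n + 1) = 1 := by
    rcases k with rfl | rfl
    · rw [pow_succ, pow_mul, e, one_pow]
    · have c1 : Commute (l * o) t := Commute.mul_left (h.Lt l hl) (h.Ot o ho)
      have e2 : (l * o * t) ^ 2 ^ (n + 1) = 1 := by
        rw [mul_assoc, h.Ot o ho, ← mul_assoc, pow_succ, pow_mul, e, one_pow]
      rwa [c1.mul_pow, pow_succ' 2, pow_mul t, pow_two t, h.tt, one_pow, mul_one, ← pow_succ'] at e2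
  rw [lo.mul_pow] at e1
  have e2 : o ^ 2 ^ (n + 1) = 1 := center_L h
    (by rw [eq_inv_of_mul_eq_one_right e1]; exact inv_mem (pow_mem hl _))
    fun x hx => h.OC (pow_mem ho _) x hx
  have e3 : o = 1 := one_of_pow (Nat.Coprime.pow_left _ (Nat.coprime_two_left.2 h.odd)) e2
    (congrArg Subtype.val (pow_card_eq_one' : (⟨o, ho⟩ : O) ^ Nat.card O = 1))
  rcases k with rfl | rfl
  · left; rwa [e3, mul_one]
  · right; rwa [e3, mul_one, mul_assoc, h.tt, mul_one]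

omit [Finite X] in
theorem two_t : IsPGroup 2 (zpowers t) := IsPGroup.of_card (n := 1) (by
  rw [Nat.card_zpowers, pow_one]; exact orderOf_eq_prime (by rw [pow_two, h.tt]) h.t1)

/-- a `2`-subgroup over `Z⟨t⟩` -/
theorem cen_of_two {Q : Subgroup X} (hQ : IsPGroup 2 Q) (hZ : Z ≤ Q) (ht : t ∈ Q) {c : X}
    (hc : c ∈ Q) (e : c * t = t * c) : c ∈ Z ∨ c * t ∈ Z := by
  obtain ⟨n, k⟩ := hQ ⟨c, hc⟩
  exact (two_cen h e (congrArg Subtype.val k)).imp (fun m => syl_L h hQ hZ ▸ ⟨hc, m⟩)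
    fun m => syl_L h hQ hZ ▸ ⟨mul_mem hc ht, m⟩

variable (iv : IV t σ Z P)
include iv

omit [Finite X] in
theorem two_sup : IsPGroup 2 (P ⊔ zpowers t : Subgroup X) :=
  IsPGroup.to_sup_of_normal_left' iv.two (two_t h) (zpowers_le.2 iv.tN)

/-- `C_P(t) = Z` -/
theorem cen_P {c : X} (hc : c ∈ P) (e : c * t = t * c) : c ∈ Z :=
  (cen_of_two h (two_sup h iv) (iv.ZP.trans le_sup_left) (mem_sup_right (mem_zpowers t))
    (mem_sup_left hc) e).resolve_right fun m => iv.tP ((mul_mem_cancel_left hc).1 (iv.ZP m))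

theorem inf_cen : P ⊓ centralizer {t} = Z :=
  le_antisymm (fun _ hc => cen_P h iv hc.1 (mem_centralizer_singleton_iff.1 hc.2))
    fun z hz => ⟨iv.ZP hz, mem_centralizer_singleton_iff.2 (h.Lt z (h.ZL hz))⟩

/-- a non-trivial invariant subgroup of `P` contains `Z` -/
theorem Z_le {Q : Subgroup X} (hQ : Q ≤ P) (h1 : Q ≠ ⊥) (ht : t ∈ normalizer (Q : Set X))
    (hs : σ ∈ normalizer (Q : Set X)) : Z ≤ Q := by
  obtain ⟨z, hz, z1, e⟩ := H15.exists_central_of_isPGroup (iv.two.to_le hQ) (two_t h)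
    (zpowers_le.2 ht) h1
  exact irr h hs hz (cen_P h iv (hQ hz) (e t (mem_zpowers t)).symm) z1

/-- `Z ≤ Z(P)` -/
theorem Z_cen : Z ≤ centralizer (P : Set X) := by
  have n : normalizer (P : Set X) ≤ normalizer ((P ⊓ centralizer (P : Set X) : Subgroup X) : Set X) :=
    fun g hg => mem_normalizer_fintype fun y hy => ⟨(mem_normalizer_iff.1 hg y).1 hy.1,
      fun p hp => by
        calc p * (g * y * g⁻¹) = g * (g⁻¹ * p * g⁻¹⁻¹ * y) * g⁻¹ := by group
          _ = _ := by rw [hy.2 _ ((mem_normalizer_iff.1 (inv_mem hg) p).1 hp)]; group⟩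
  obtain ⟨z, hz, z1, e⟩ := H15.exists_central_of_isPGroup iv.two iv.two le_normalizer fun e => by
    have := h.cZ
    rw [show Z = ⊥ from le_bot_iff.1 (e ▸ iv.ZP), card_bot] at this
    exact absurd this (by norm_num)
  exact (Z_le h iv inf_le_left (fun k => z1 (mem_bot.1 (k ▸ mem_inf.2 ⟨hz, mem_centralizer_iff.2 e⟩))) (n iv.tN)
    (n iv.sN)).trans inf_le_right

/-- `C_P(σ) = 1` -/
theorem fpf_P {x : X} (hx : x ∈ P) (e : σ * x = x * σ) : x = 1 := by
  by_contra x1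
  have ts : t * σ = σ * t := (h.Lt σ h.sL).symm
  have n : ∀ g ∈ normalizer (P : Set X), g * σ = σ * g →
      g ∈ normalizer ((P ⊓ centralizer {σ} : Subgroup X) : Set X) := fun g hg k =>
    mem_normalizer_fintype fun y hy => ⟨(mem_normalizer_iff.1 hg y).1 hy.1,
      mem_centralizer_singleton_iff.2 (by
        calc g * y * g⁻¹ * σ = g * (y * σ) * g⁻¹ := by
              rw [mul_assoc (g * y), (Commute.inv_left k).eq]; group
          _ = g * σ * y * g⁻¹ := by rw [mem_centralizer_singleton_iff.1 hy.2]; group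
          _ = _ := by rw [k]; group)⟩
  have := Z_le h iv (Q := P ⊓ centralizer {σ}) inf_le_left
    (fun k => x1 (mem_bot.1 (k ▸ ⟨hx, mem_centralizer_singleton_iff.2 e.symm⟩))) (n t iv.tN ts)
    (n σ iv.sN rfl)
  have h4 := h.cZ
  rw [show Z = ⊥ from eq_bot_iff.2 fun z hz =>
    fpf_Z h hz (mem_centralizer_singleton_iff.1 (this hz).2).symm, card_bot] at h4
  exact absurd h4 (by norm_num)

end Cfsg.Agent.H12.S94
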