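import Cfsg.Agent.H46.J1Defs
import Cfsg.Agent.H46.TRedC
import Cfsg.Agent.H46.TRed1
import Cfsg.Agent.H8.S94Pb1

/-! A standard subgroup of type `J₁`: the piece `JT2c`. -/

set_option autoImplicit false
open scoped Pointwise commutatorElement
open Subgroup

namespace Cfsg.Agent.H12.S94T
open Cfsg.Agent.H8 Cfsg.Agent.H23.D2 Cfsg.Agent.H46.S94
open Cfsg.Agent.H83 (cj mem_cj card_cj isPGroup_cj isPGroup_sup)
open Cfsg.Agent.H98.S94 (mem_Tt relIndex_Tt)

universe u

local notation "C[" A "]" => Subgroup.centralizer (SetLike.coe A)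
local notation "N[" A "]" => Subgroup.normalizer (SetLike.coe A)

variable {Γ : Type} [Group Γ] {G : Type u} [Group G] [Finite G] {φ : Γ →* G} {t : G}
  {O : Subgroup G} {z σ ρ : Γ} {V L : Subgroup Γ}

/-- `2`-subgroups of `C(t)` have order at most 16 -/
theorem card16 (jf : J1F z σ ρ V L) (cx : Cx φ t O) {R : Subgroup G} (hR : IsPGroup 2 R)
    (hc : R ≤ centralizer {t}) : Nat.card R ≤ 16 := by
  have := jf.base.fin
  have : Fact (Nat.Prime 2) := ⟨Nat.prime_two⟩
  have c : ∀ x ∈ R, x * t = t * x := fun x hx => mem_centralizer_singleton_iff.1 (hc hx)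
  obtain ⟨θ, hθ⟩ := exists_autHom cx.inj
  let ψ : R →* MulAut Γ := θ.comp (inclusion fun x hx => cx.NJ x (c x hx))
  have hψ : ∀ (x : R) a, φ (ψ x a) = x * φ a * (x : G)⁻¹ := fun x a => hθ _ a
  have h1 : Nat.card ψ.ker ≤ 2 := by
    have k : ∀ x : ψ.ker, ((x : R) : G) = 1 ∨ ((x : R) : G) = t := fun x => by
      obtain ⟨n, e⟩ := hR x
      refine cx.two_cent (c _ x.1.2) (mem_C_range.2 fun a => ?_) (n := n)
        (by simpa using congrArg Subtype.val e)
      have := hψ x a
      rw [MonoidHom.mem_ker.1 x.2, MulAut.one_apply] at this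
      exact (mul_inv_eq_iff_eq_mul.1 this.symm).symm
    let f : ψ.ker → ({1, t} : Set G) := fun x => ⟨((x : R) : G), k x⟩
    have inj : Function.Injective f := fun a b e => by
      have := congrArg Subtype.val e
      exact Subtype.ext (Subtype.ext this)
    refine (Nat.card_le_card_of_injective f inj).trans ?_
    rw [Nat.card_coe_set_eq, Set.ncard_pair cx.t1.symm]
  have h2 : Nat.card ψ.range ≤ 8 := by
    have d1 : Nat.card (MulAut Γ) ∣ 175560 := jf.card ▸
      card_dvd_of_surjective (MulAut.conj : Γ →* MulAut Γ) fun α => by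
        obtain ⟨a, e⟩ := jf.inn α
        exact ⟨a, e.symm⟩
    obtain ⟨k, hk⟩ := IsPGroup.iff_card.1 (hR.of_surjective ψ.rangeRestrict ψ.rangeRestrict_surjective)
    have d2 := (card_subgroup_dvd_card ψ.range).trans d1
    rw [hk] at d2 ⊢
    by_contra n
    have : 4 ≤ k := by
      by_contra m
      have : k ≤ 3 := by omega
      exact n (Nat.pow_le_pow_right two_pos this)
    exact absurd ((pow_dvd_pow 2 this).trans d2) (by norm_num)
  rw [← ψ.ker.card_mul_index, index_ker]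
  exact Nat.mul_le_mul h1 h2

theorem card16' (jf : J1F z σ ρ V L) (cx : Cx φ t O) {R : Subgroup G} (hR : IsPGroup 2 R) (g : G) :
    Nat.card (R ⊓ centralizer {g * t * g⁻¹} : Subgroup G) ≤ 16 := by
  generalize hy : g * t * g⁻¹ = y
  have h2 := card16 jf cx (isPGroup_cj (hR.to_inf_left (K := centralizer {y})) g⁻¹)
    fun x hx => by
      have := mem_centralizer_singleton_iff.1 (mem_cj.1 hx).2
      rw [mem_centralizer_singleton_iff]
      calc x * t = g⁻¹ * (g⁻¹⁻¹ * x * g⁻¹ * y) * g := by rw [← hy]; group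
        _ = t * x := by rw [this, ← hy]; group
  rwa [card_cj] at h2

theorem cenQ (jf : J1F z σ ρ V L) (cx : Cx φ t O) {Q : Subgroup G} (hQ : IsPGroup 2 Q)
    (le : St1 (V.map φ) t ≤ Q) {x : G} (hx : x ∈ Q) (c : x * t = t * x) :
    x ∈ St1 (V.map φ) t := by
  have tC : t ∈ C[V.map φ] := mem_C.2 (by rintro _ ⟨v, -, rfl⟩; exact cx.AC v)
  have h1 := card_eq_card_mul_relIndex (le_sup_left : V.map φ ≤ St1 (V.map φ) t)
  rw [relIndex_Tt cx.tt (C_le_N tC) (by rintro ⟨v, -, e⟩; exact cx.tA jf.base v e),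
    card_map_of_injective cx.inj, jf.cV] at h1
  have h2 := card16 jf cx (hQ.to_inf_left (K := centralizer {t})) inf_le_right
  refine (eq_of_le_of_card_ge (K := Q ⊓ centralizer {t}) (le_inf le (sup_le ?_ ?_))
    (h2.trans h1.ge)).ge ⟨hx, mem_centralizer_singleton_iff.2 c⟩
  · rintro _ ⟨v, -, rfl⟩
    exact mem_centralizer_singleton_iff.2 (cx.AC v)
  · exact zpowers_le.2 (mem_centralizer_singleton_iff.2 rfl)

omit [Finite G] in
/-- powers of `σ` act without fixed points on `V` -/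
theorem fpfV (jf : J1F z σ ρ V L) {d : ℕ} (d0 : 0 < d) (d7 : d < 7) {v : Γ} (hv : v ∈ V)
    (c : Commute v (σ ^ d)) : v = 1 := by
  have := jf.base.fin
  by_contra v1
  obtain ⟨m, hm⟩ := exists_pow_eq_self_of_coprime (x := σ) (n := d)
    (by rw [jf.so]; exact (Nat.coprime_of_lt_prime d0.ne' d7 (by norm_num)).symm)
  have c1 : Commute v σ := hm ▸ c.pow_right m
  obtain ⟨i, e⟩ := jf.tr v hv v1
  have ez : z = v := by
    calc z = (σ ^ i)⁻¹ * v * σ ^ i := by rw [← e]; group
      _ = v := by rw [mul_assoc, (c1.pow_right i).eq]; group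
  have k : ∀ w : V, (w : Γ) = 1 ∨ (w : Γ) = v := fun w => by
    by_cases w1 : (w : Γ) = 1
    · exact .inl w1
    obtain ⟨j, e⟩ := jf.tr w w.2 w1
    exact .inr (by rw [← e, ez, ← (c1.pow_right j).eq]; group)
  let f : V → ({1, v} : Set Γ) := fun x => ⟨x, k x⟩
  have inj : Function.Injective f := fun a b e => by
    have := congrArg Subtype.val e
    exact Subtype.ext this
  have := Nat.card_le_card_of_injective f inj
  rw [Nat.card_coe_set_eq, Set.ncard_pair (Ne.symm v1), jf.cV] at this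
  omega

omit [Finite G] in
theorem com_of {a b r : G} (e : a⁻¹ * (r * a * r⁻¹) = b⁻¹ * (r * b * r⁻¹)) :
    Commute (a * b⁻¹) r := by
  change _ = _
  calc a * b⁻¹ * r = a * (b⁻¹ * (r * b * r⁻¹)) * r * b⁻¹ := by group
    _ = r * (a * b⁻¹) := by rw [← e]; group

theorem lang {H : Subgroup G} {r : G} (hr : r ∈ N[H]) (f : ∀ x ∈ H, Commute x r → x = 1) {y : G}
    (hy : y ∈ H) : ∃ a ∈ H, a⁻¹ * (r * a * r⁻¹) = y := by
  let g : H → H := fun a => ⟨(a : G)⁻¹ * (r * a * r⁻¹), mul_mem (inv_mem a.2) (norm_conj hr a.2)⟩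
  have inj : Function.Injective g := fun a b e => Subtype.ext (mul_inv_eq_one.1
    (f _ (mul_mem a.2 (inv_mem b.2)) (com_of (congrArg Subtype.val e))))
  obtain ⟨a, ha⟩ := Finite.injective_iff_surjective.1 inj ⟨y, hy⟩
  exact ⟨a, a.2, congrArg Subtype.val ha⟩

/-- **JT2c** -/
theorem jt2c : JT2cStmt.{u} := by
  intro Γ _ G _ _ φ F t O T P z σ ρ V L c tf pk nab hd cP
  have : Fact (Nat.Prime 2) := ⟨Nat.prime_two⟩
  have jf := c.jf
  have cx := c.cx
  have ti := cx.tinv
  have WP : V.map φ ≤ P := tf.VT.trans pk.TP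
  have cW : Nat.card (V.map φ) = 8 := by rw [card_map_of_injective cx.inj, jf.cV]
  have cT : Nat.card T = 64 := by
    have := card_eq_card_mul_relIndex pk.TP
    rw [pk.idx, cP] at this
    omega
  have cS : Nat.card (St1 P t) = 1024 := by
    rw [card_eq_card_mul_relIndex (le_sup_left : P ≤ St1 P t), relIndex_Tt cx.tt pk.tN pk.tP, cP]
  have tS : t ∈ St1 P t := mem_sup_right (mem_zpowers t)
  have S2 : IsPGroup 2 (St1 P t) := IsPGroup.of_card (n := 10) cS
  have ES : St1 (V.map φ) t ≤ St1 P t := sup_le_sup_right WP _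
  have br : ∀ x ∈ P, ∀ y ∈ P, x * y * x⁻¹ * y⁻¹ ∈ V.map φ := fun x hx y hy =>
    hd (commutator_mem_commutator hx hy)
  have nP : ∀ g, g * t * g⁻¹ ∉ P := fun g hg => by
    have h1 := H8.S94Pb1.card_le (E := P) (y := g * t * g⁻¹) (Z := V.map φ)
      (fun w hw x hx => (mem_C.1 (pk.cV hx) w hw).symm) fun x hx => br _ hg x hx
    have h2 := card16' jf cx pk.two g
    rw [cP, cW] at h1
    omega
  have st : ∀ d : ℕ, Commute (φ σ ^ d) t := fun d => Commute.pow_left (cx.AC σ) d
  have fP : ∀ d, 0 < d → d < 7 → ∀ x ∈ P, Commute x (φ σ ^ d) → x = 1 := fun d d0 d7 x hx e => by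
    by_contra x1
    obtain ⟨w, w1, w2, -, w3, w4⟩ := H46.TRed1.central_inv (S := St1 P t ⊓ centralizer {φ σ ^ d})
      (N := P) S2.to_inf_left (fun a ha n hn => norm_conj
        ((sup_le le_normalizer (zpowers_le.2 pk.tN) : St1 P t ≤ N[P]) ha.1) hn)
      ⟨mem_sup_left hx, mem_centralizer_singleton_iff.2 e⟩ hx x1
    have m := cenQ jf cx S2 ES w1.1
      (w4 t ⟨tS, mem_centralizer_singleton_iff.2 (st d).symm⟩).symm
    obtain ⟨v, hv, rfl⟩ := (mem_Tt cx.tt (C_le_N (mem_C.2 (by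
      rintro _ ⟨v, -, rfl⟩; exact cx.AC v))) m).resolve_right
      fun k => pk.tP ((P.mul_mem_cancel_left w2).1 (WP k))
    have e1 : φ (v * σ ^ d) = φ (σ ^ d * v) := by
      rw [map_mul, map_mul, map_pow]
      exact mem_centralizer_singleton_iff.1 w1.2
    exact w3 (by rw [fpfV jf d0 d7 hv (cx.inj e1), map_one])
  have key : ∀ d, 0 < d → d < 7 → ∀ x ∈ P, x⁻¹ * (φ σ ^ d * x * (φ σ ^ d)⁻¹) ∈ T → x ∈ T :=
    fun d d0 d7 x hx m => by
      obtain ⟨a, ha, e⟩ := lang (pow_mem tf.sN d) (fun y hy => fP d d0 d7 y (pk.TP hy)) m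
      rwa [← mul_inv_eq_one.1 (fP d d0 d7 _ (mul_mem (pk.TP ha) (inv_mem hx)) (com_of e))]
  have cos : ∀ x ∈ P, x ∉ T → ∀ a ∈ P, a ∈ T ∨
      ∃ i : ℕ, (φ σ ^ i * x * (φ σ ^ i)⁻¹)⁻¹ * a ∈ T := fun x hx xT a ha => by
    let e : Option (Fin 7) → P := fun o => o.elim 1 fun i =>
      ⟨φ σ ^ (i : ℕ) * x * (φ σ ^ (i : ℕ))⁻¹, norm_conj (pow_mem pk.sN i) hx⟩
    let f : Option (Fin 7) → P ⧸ T.subgroupOf P := fun o => e o
    have k0 : ∀ i : Fin 7, f none ≠ f (some i) := fun i h => by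
      have h1 : (1 : G)⁻¹ * (φ σ ^ (i : ℕ) * x * (φ σ ^ (i : ℕ))⁻¹) ∈ T :=
        mem_subgroupOf.1 (QuotientGroup.eq.1 h)
      have := norm_conj' (pow_mem tf.sN (i : ℕ)) h1
      exact xT (by simpa only [inv_one, one_mul, mul_assoc, inv_mul_cancel, mul_one,
        inv_mul_cancel_left] using this)
    have k1 : ∀ i j : Fin 7, i < j → f (some i) ≠ f (some j) := fun i j l h => by
      have h1 : (φ σ ^ (i : ℕ) * x * (φ σ ^ (i : ℕ))⁻¹)⁻¹ *
          (φ σ ^ (j : ℕ) * x * (φ σ ^ (j : ℕ))⁻¹) ∈ T := mem_subgroupOf.1 (QuotientGroup.eq.1 h)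
      obtain ⟨d, hd⟩ := Nat.exists_eq_add_of_lt (show (i : ℕ) < j from l)
      have := norm_conj' (pow_mem tf.sN (i : ℕ)) h1
      refine xT (key (d + 1) (by omega) (by omega) x hx ?_)
      rw [hd, add_assoc, pow_add] at this
      convert this using 1
      group
    have inj : Function.Injective f := by
      rintro (_ | i) (_ | j) h
      · rfl
      · exact absurd h (k0 j)
      · exact absurd h.symm (k0 i)
      · rcases lt_trichotomy i j with l | l | l
        · exact absurd h (k1 i j l)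
        · rw [l]
        · exact absurd h.symm (k1 j i l)
    obtain ⟨o, ho⟩ := (inj.bijective_of_nat_card_le (by
      change T.relIndex P ≤ _
      rw [pk.idx]; simp)).2 ((⟨a, ha⟩ : P) : P ⧸ T.subgroupOf P)
    have h1 := QuotientGroup.eq.1 ho
    rcases o with _ | i
    · left
      have h2 : (1 : G)⁻¹ * a ∈ T := h1
      simpa using h2
    · exact .inr ⟨i, h1⟩
  have cj2 : ∀ g, g * t * g⁻¹ * (g * t * g⁻¹) = 1 := fun g => by
    rw [conj_mul, cx.tt, mul_one, mul_inv_cancel]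
  have inT : ∀ g, g * t * g⁻¹ ∈ St1 P t → g * t * g⁻¹ * t ∈ T := fun g hg => by
    by_contra xT
    have hx := (mem_Tt cx.tt pk.tN hg).resolve_left (nP g)
    have h16 := card16' jf cx S2 g
    have yy := cj2 g
    generalize g * t * g⁻¹ = y at *
    have m0 : ∀ p ∈ P, p * y * p⁻¹ * y⁻¹ ∈ T := fun p hp => by
      have := mul_mem (tf.VT (br p hp _ hx)) (norm_conj (pk.nT hx) (pk.br p hp))
      have tt : ∀ w, t * (t * w) = w := fun w => by rw [← mul_assoc, cx.tt, one_mul]
      simpa only [mul_assoc, mul_inv_rev, inv_mul_cancel_left, ti, tt] using this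
    have m1 : ∀ q ∈ St1 P t, q * y * q⁻¹ * y⁻¹ ∈ T := fun q hq => by
      rcases mem_Tt cx.tt pk.tN hq with k | k
      · exact m0 q k
      · convert m0 _ (mul_mem k (inv_mem hx)) using 1
        group
    let f : St1 P t ⧸ (centralizer {y}).subgroupOf (St1 P t) → T := fun q =>
      ⟨q.out * y * (q.out : G)⁻¹ * y⁻¹, m1 _ q.out.2⟩
    have inj : Function.Injective f := fun a b e => by
      have e1 : a.out * y * (a.out : G)⁻¹ = b.out * y * (b.out : G)⁻¹ :=
        mul_right_cancel (congrArg Subtype.val e)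
      rw [← a.out_eq', ← b.out_eq', QuotientGroup.eq, mem_subgroupOf,
        mem_centralizer_singleton_iff]
      change (a.out : G)⁻¹ * b.out * y = y * ((a.out : G)⁻¹ * b.out)
      calc _ = (a.out : G)⁻¹ * (b.out * y * (b.out : G)⁻¹) * b.out := by group
        _ = _ := by rw [← e1]; group
    have h1 := card_eq_card_mul_relIndex (inf_le_left : St1 P t ⊓ centralizer {y} ≤ St1 P t)
    rw [cS, inf_relIndex_left] at h1
    have sur := (inj.bijective_of_nat_card_le (by
      rw [cT]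
      change _ ≤ (centralizer {y}).relIndex (St1 P t)
      by_contra n
      have := Nat.mul_le_mul h16 (show (centralizer {y}).relIndex (St1 P t) ≤ 63 by omega)
      omega)).2
    have i1 : ∀ u ∈ T, u * y * (u * y) = 1 := fun u hu => by
      obtain ⟨q, hq⟩ := sur ⟨u, hu⟩
      rw [← show _ = u from congrArg Subtype.val hq, inv_mul_cancel_right, conj_mul, yy, mul_one,
        mul_inv_cancel]
    have i2 : ∀ a ∈ P, a * t * (a * t) = 1 := fun a ha => by
      rcases cos _ hx xT a ha with k | ⟨i, k⟩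
      · obtain ⟨p, -, e⟩ := pk.tr a k
        rw [← e, cj2]
      · have := i1 _ (norm_conj (pk.nT hx) (norm_conj' (pow_mem tf.sN i) k))
        generalize hr : φ σ ^ i = r at *
        have e : r * t = t * r := hr ▸ st i
        have e2 : y * t * (r⁻¹ * ((r * (y * t) * r⁻¹)⁻¹ * a) * r) * (y * t)⁻¹ * y =
            r⁻¹ * (a * t) * r := by
          calc _ = r⁻¹ * a * (r * t⁻¹) := by group
            _ = _ := by rw [ti, e]; group
        rw [e2] at this
        calc _ = r * (r⁻¹ * (a * t) * r * (r⁻¹ * (a * t) * r)) * r⁻¹ := by group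
          _ = 1 := by rw [this]; group
    have i3 : ∀ a ∈ P, t * a * t = a⁻¹ := fun a ha =>
      eq_inv_of_mul_eq_one_right (by rw [← i2 a ha]; group)
    refine nab fun a ha b hb => ?_
    have := i3 _ (mul_mem (inv_mem ha) (inv_mem hb))
    rw [show t * (a⁻¹ * b⁻¹) * t = t * a⁻¹ * t * (t * b⁻¹ * t) by
      simp only [mul_assoc]; rw [← mul_assoc t t, cx.tt, one_mul], i3 _ (inv_mem ha),
      i3 _ (inv_mem hb)] at this
    simpa using this
  have syl : IsSylowIn 2 (St1 P t) ⊤ :=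
    isSylowIn_of_maximal le_top S2 fun Q hQ _ hle => by
      by_contra hn
      obtain ⟨g, ⟨gQ, gN⟩, gS⟩ := SetLike.exists_of_lt (lt_inf_normalizer_of_lt hQ ⟨hle, hn⟩)
      obtain ⟨x, hx, e⟩ := pk.tr _ (inT g (norm_conj gN tS))
      rw [mul_assoc _ t t, cx.tt, mul_one] at e
      have m : x⁻¹ * g ∈ St1 (V.map φ) t := cenQ jf cx hQ (ES.trans hle)
        (Q.mul_mem (Q.inv_mem (hle (mem_sup_left hx))) gQ) (by
          calc x⁻¹ * g * t = x⁻¹ * (g * t * g⁻¹) * g := by group
            _ = t * (x⁻¹ * g) := by rw [← e]; group)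
      exact gS ((mul_mem_cancel_left (inv_mem (mem_sup_left hx))).1 (ES m))
  obtain ⟨K, n0, i0, t0⟩ := H87.thompson_transfer_involution
    (H87.odd_index_sylow syl.toSylowTop) (relIndex_Tt cx.tt pk.tN pk.tP)
    ((pow_two t).trans cx.tt) nP
  have tF : t ∉ F := fun m => by
    rcases H46.TRedC.as_cases c.as K with e | e
    · rw [e, index_bot] at i0
      have := card_le_card_group P
      omega
    · exact t0 (e m)
  have PF : P ≤ F := fun x hx => by
    obtain ⟨a, -, rfl⟩ := lang pk.sN (fun y hy e => fP 1 one_pos (by norm_num) y hy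
      (by rwa [pow_one])) hx
    have m : φ σ ∈ F := c.AF ⟨σ, rfl⟩
    simpa only [mul_assoc, inv_inv] using mul_mem (c.as.normal.conj_mem _ m a⁻¹) (inv_mem m)
  have := c.as.normal
  have h := syl.inf_of_le_normalizer (N := F) (by rw [normalizer_eq_top])
  rwa [top_inf_eq, show St1 P t ⊓ F = P from le_antisymm (fun q hq =>
    (mem_Tt cx.tt pk.tN hq.1).resolve_right fun k => tF ((F.mul_mem_cancel_left hq.2).1 (PF k)))
    (le_inf le_sup_left PF)] at h

end Cfsg.Agent.H12.S94T
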