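import Cfsg.Agent.H12.S94Base
import Cfsg.Agent.S2933

/-! A maximal invariant `2`-subgroup. -/

set_option autoImplicit false

namespace Cfsg.Agent.H12.S94

open Subgroup Cfsg.Agent.H46.S94
open scoped commutatorElement

universe u

theorem p5a (pa1 : PA1Stmt.{u}) (pa2 : PA2Stmt.{u}) : P5aStmt.{u} := by
  intro X _ _ t σ Λ O Z D h iv ⟨d, hd, d4⟩
  obtain ⟨P, ⟨hD, hP⟩, hm⟩ := (wellFounded_gt (α := Subgroup X)).has_min
    {P | D ≤ P ∧ IV t σ Z P} ⟨D, le_rfl, iv⟩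
  refine ⟨P, hD, hP, ?_⟩
  have tZ : t ∈ centralizer (Z : Set X) := fun z hz => h.Lt z (h.ZL hz)
  have n4 : ¬ ∀ x ∈ P, x ^ 2 = 1 := fun e => by
    have := orderOf_dvd_of_pow_eq_one (e d (hD hd))
    rw [d4] at this
    exact absurd this (by norm_num)
  have hc : ⁅Z, zpowers σ⁆ = Z := by
    have le : ⁅Z, zpowers σ⁆ ≤ Z := commutator_le.2 fun z hz s hs => by
      rw [commutatorElement_def, mul_assoc, mul_assoc, ← mul_assoc s]
      exact mul_mem hz ((mem_normalizer_iff.1 (zpowers_le.2 h.sZ hs) _).1 (inv_mem hz))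
    have : Nontrivial Z := Finite.one_lt_card_iff_nontrivial.1 (by rw [h.cZ]; norm_num)
    obtain ⟨⟨z, hz⟩, z1⟩ := exists_ne (1 : Z)
    have m := commutator_mem_commutator hz (mem_zpowers σ)
    refine le_antisymm le (irr h (mem_normalizer_fintype fun y hy => ?_) m (le m) fun e =>
      z1 (Subtype.ext (fpf_Z h hz (commutatorElement_eq_one_iff_mul_comm.1 e).symm)))
    have e2 : σ * y * σ⁻¹ = y * ⁅y⁻¹, σ⁆ := by rw [commutatorElement_def]; group
    rw [e2]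
    exact mul_mem hy (commutator_mem_commutator (inv_mem (le hy)) (mem_zpowers σ))
  rcases S2933.result P Z hP.two (le_inf hP.ZP (Z_cen h hP))
    ⟨h.cZ, fun v hv => by rw [pow_two, sq_Z h hv]⟩ t σ
    (orderOf_eq_prime (by rw [pow_two, h.tt]) h.t1) h.so
    ⟨centralizer_le_normalizer _ tZ, hP.tN⟩ ⟨h.sZ, hP.sN⟩ (h.Lt σ h.sL).symm tZ hc (inf_cen h hP) with
    k | ⟨n, n1, k⟩ | ⟨F, _, _, c, k⟩ | ⟨F, _, _, c, k⟩
  · exact absurd k.2 n4
  · have n2 : 2 ≤ n := by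
      by_contra hn
      obtain rfl : n = 1 := by omega
      obtain ⟨e⟩ := k
      refine n4 fun x hx => congrArg Subtype.val (e.injective ?_ : (⟨x, hx⟩ : P) ^ 2 = 1)
      rw [map_pow, map_one]
      generalize e ⟨x, hx⟩ = y
      revert y
      decide
    obtain ⟨Q, hQ, lt⟩ := pa2 X t σ Λ O Z P n h hP k n2 (pa1 X t σ Λ O Z P n h hP k n2)
    exact absurd lt (hm Q ⟨hD.trans lt.le, hQ⟩)
  · exact Or.inl ⟨F, _, _, c, default, k _⟩
  · exact Or.inr ⟨F, _, _, c, default, k _⟩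

end Cfsg.Agent.H12.S94
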