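import Cfsg.Agent.H46.SOn

/-!
# The group `4³` in the O'Nan group: an element of order 16 and the Fano plane
-/

set_option autoImplicit false
set_option maxRecDepth 200000

namespace Cfsg.Agent.H12.OnB

open Subgroup Cfsg.Agent.H44 Cfsg.Agent.H59 Cfsg.Agent.H59.On Cfsg.Agent.H46.S95
  Cfsg.Agent.H46.S95.On

theorem norm_closure {G : Type*} [Group G] [Finite G] {S : Set G} {p : G}
    (h : ∀ x ∈ S, p * x * p⁻¹ ∈ Subgroup.closure S) :
    p ∈ normalizer (Subgroup.closure S : Set G) :=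
  mem_normalizer_fintype fun x hx => by
    induction hx using closure_induction with
    | mem x hx => exact h x hx
    | one => simp
    | mul x y _ _ hx hy => rw [← conj_mul]; exact mul_mem hx hy
    | inv x _ hx => rw [← conj_inv]; exact inv_mem hx

/-- the power of a word -/
def pw (l : List ℕ) (m : ℕ) : List ℕ := (List.replicate m l).flatten

/-- the elements of `B` -/
def bw (n : ℕ) : List ℕ :=
  pw [3, 7, 3, 8] (n % 4) ++ (pw [4, 7, 4, 8] (n / 4 % 4) ++ pw [3, 7, 4] (n / 16 % 4))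

/-- the conjugate of a word -/
noncomputable def cw (u l : List ℕ) : List ℕ := u ++ (l ++ invW iv u)

theorem ev_pw (l : List ℕ) (m : ℕ) : ev ν (pw l m) = ev ν l ^ m := ev_replicate ν l m

theorem ev_cw (u l : List ℕ) : ev ν (cw u l) = ev ν u * ev ν l * (ev ν u)⁻¹ := by
  rw [cw, ev_append, ev_append, ev_inv, mul_assoc]

theorem bw_mem (n : ℕ) : ev ν (bw n) ∈ B := by
  rw [bw, ev_append, ev_append, ev_pw, ev_pw, ev_pw]
  exact mul_mem (pow_mem (mem_wgen ν _ (by simp)) _)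
    (mul_mem (pow_mem (mem_wgen ν _ (by simp)) _) (pow_mem (mem_wgen ν _ (by simp)) _))

theorem memB {b : Γ} (hb : b ∈ B) : ∃ n ∈ List.range 64, b = ev ν (bw n) := by
  have key : allL (fun s => allL (fun n => allL (fun t => anyL (fun m => eqB (t ++ bw n) (bw m))
      [(n + 1) % 64, (n + 61) % 64, (n + 3) % 64, (n + 63) % 64, (n + 4) % 64, (n + 52) % 64,
        (n + 12) % 64, (n + 60) % 64, (n + 16) % 64, (n + 48) % 64]) [s, invW iv s])
      (List.range 64)) [[3, 7, 3, 8], [4, 7, 4, 8], [3, 7, 4]] = true := by decide +kernel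
  have k : ∀ s ∈ [[3, 7, 3, 8], [4, 7, 4, 8], [3, 7, 4]], ∀ n ∈ List.range 64,
      ∀ t ∈ [s, invW iv s], ∃ m ∈ List.range 64, ev ν t * ev ν (bw n) = ev ν (bw m) :=
    fun s hs n hn t ht => by
      obtain ⟨m, hm, e⟩ := anyL_iff.1 (allL_iff.1 (allL_iff.1 (allL_iff.1 key s hs) n hn) t ht)
      refine ⟨m, ?_, by rw [← ev_append]; exact ko.eq _ _ e⟩
      simp only [List.mem_cons, List.not_mem_nil, or_false] at hm
      rw [List.mem_range]
      omega
  induction hb using closure_induction_left with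
  | one => exact ⟨0, by simp, rfl⟩
  | mul_left x hx y _ ih =>
    obtain ⟨s, hs, rfl⟩ := hx
    obtain ⟨n, hn, rfl⟩ := ih
    exact k s hs n hn s (by simp)
  | inv_mul_cancel x hx y _ ih =>
    obtain ⟨s, hs, rfl⟩ := hx
    obtain ⟨n, hn, rfl⟩ := ih
    rw [← ev_inv]
    exact k s hs n hn _ (by simp)

theorem normB (u : List ℕ) (L : List ℕ) (h : allL (fun s => anyL (fun n => eqB (cw u s) (bw n)) L)
    [[3, 7, 3, 8], [4, 7, 4, 8], [3, 7, 4]] = true) : ev ν u ∈ normalizer (B : Set Γ) :=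
  norm_closure (by
    rintro _ ⟨s, hs, rfl⟩
    obtain ⟨n, -, e⟩ := anyL_iff.1 (allL_iff.1 h s hs)
    rw [← ev_cw, ko.eq _ _ e]
    exact bw_mem n)

/-- the words -/
def wσ : List ℕ := [2, 3, 4, 3, 8, 2, 7, 2, 3, 4, 3, 2, 5, 4, 3, 4, 8, 5, 7, 5, 4, 3, 4, 5]
def wρ : List ℕ := [2, 3, 4, 3, 2, 8, 2, 3, 4, 3, 7, 2]
def wp : List ℕ := [7, 5, 4, 3, 4, 5, 8, 5, 4, 3, 4, 7, 5]
def wζ : List ℕ := [3, 7, 3, 8]

theorem nσ : ev ν wσ ∈ normalizer (B : Set Γ) := normB _ (List.range 64) (by decide +kernel)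
theorem nρ : ev ν wρ ∈ normalizer (B : Set Γ) := normB _ (List.range 64) (by decide +kernel)
theorem np : ev ν wp ∈ normalizer (B : Set Γ) := normB _ (List.range 64) (by decide +kernel)
theorem nf : ev ν [4] ∈ normalizer (B : Set Γ) := normB _ (List.range 64) (by decide +kernel)

theorem normL (u : List ℕ) (h : allL (fun s => anyL (eqB (cw u s))
    [[1], cw wσ [1], [1] ++ cw wσ [1]]) [[1], cw wσ [1]] = true) :
    ev ν u ∈ normalizer (Subgroup.closure {ν 1, σ * ν 1 * σ⁻¹} : Set Γ) := by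
  have e1 : ev ν [1] = ν 1 := ev_single ν 1
  have e2 : ev ν (cw wσ [1]) = σ * ν 1 * σ⁻¹ := by rw [ev_cw, e1]; rfl
  have m1 : ν 1 ∈ Subgroup.closure {ν 1, σ * ν 1 * σ⁻¹} := subset_closure (by simp)
  have m2 : σ * ν 1 * σ⁻¹ ∈ Subgroup.closure {ν 1, σ * ν 1 * σ⁻¹} := subset_closure (by simp)
  have k : ∀ s ∈ [[1], cw wσ [1]],
      ev ν u * ev ν s * (ev ν u)⁻¹ ∈ Subgroup.closure {ν 1, σ * ν 1 * σ⁻¹} := fun s hs => by
    obtain ⟨t, ht, e⟩ := anyL_iff.1 (allL_iff.1 h s hs)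
    rw [← ev_cw, ko.eq _ _ e]
    simp only [List.mem_cons, List.not_mem_nil, or_false] at ht
    rcases ht with rfl | rfl | rfl
    · rwa [e1]
    · rwa [e2]
    · rw [ev_append, e1, e2]; exact mul_mem m1 m2
  refine norm_closure ?_
  rintro _ (rfl | rfl)
  · have := k [1] (by simp)
    rwa [e1] at this
  · have := k (cw wσ [1]) (by simp)
    rwa [e2] at this

theorem obs (hb : BVS) (hr : RDS) : OBS := by
  obtain ⟨bv, ox, -⟩ := hb
  have e1 : ev ν [1] = ν 1 := ev_single ν 1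
  have eζ : ev ν wζ = ζ := rfl
  have eσ : ev ν wσ = σ := rfl
  have mz : ∀ x ∈ zpowers (ν 1), x = 1 ∨ x = ν 1 := by
    rintro _ ⟨k, rfl⟩
    have h2 : ν 1 ^ (2 : ℤ) = 1 := by rw [zpow_two, bv.zz]
    rcases Int.even_or_odd' k with ⟨i, rfl | rfl⟩
    · left; show ν 1 ^ (2 * i) = 1; rw [zpow_mul, h2, one_zpow]
    · right; show ν 1 ^ (2 * i + 1) = ν 1; rw [zpow_add, zpow_mul, h2, one_zpow, one_mul, zpow_one]
  refine ⟨⟨bv, ox, fun α hα => hr.1.rc.cen α (hα _ ?_) hα, ev ν wρ, nρ, ev ν [4], nf, ?_, ?_, ?_,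
    ?_, fun b hb e => ?_⟩, ⟨bv, ox, nσ, ?_, ?_, ?_, fun v hv => ?_, ?_, fun v hv h => ?_⟩⟩
  · rw [mem_centralizer_singleton_iff, ← bv.sq, mul_assoc]
  · rw [← eζ, ← ev_append, ← ev_append]
    exact ko.eq _ _ (by decide +kernel)
  · rw [← ev_append, ko.eq ([4] ++ [4]) [] (by decide +kernel)]
    exact one_mem _
  · rw [← e1, ← ev_cw, ← ev_cw, ← ev_append]
    exact ko.eq _ _ (by decide +kernel)
  · rw [← eζ, ← ev_cw, ← ev_cw, ← ev_append, ← ev_append]
    intro h
    rcases mz _ h with h | h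
    · exact ko.ne _ [] (by decide +kernel) h
    · exact ko.ne _ [1] (by decide +kernel) (h.trans e1.symm)
  · have key : allL (fun n => bO (bN (eqB (cw [4] (bw n ++ bw n)) (bw n ++ bw n)))
        (bO (eqB (bw n ++ cw [4] (bw n)) []) (eqB (bw n ++ cw [4] (bw n)) [1])))
        (List.range 64) = true := by decide +kernel
    obtain ⟨n, hn, rfl⟩ := memB hb
    rw [← ev_cw, ← ev_append]
    rcases bO_iff.1 (allL_iff.1 key n hn) with h | h
    · exact absurd (by rw [ev_cw, ev_append, e]) (ko.ne _ _ h)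
    · rcases bO_iff.1 h with h | h
      · rw [ko.eq _ _ h]; exact one_mem _
      · rw [ko.eq _ _ h, e1]; exact mem_zpowers _
  · rw [← eσ, ← ev_pw]
    exact ko.eq _ [] (by decide +kernel)
  · rw [← eσ, ← e1, ← ev_append, ← ev_append]
    exact ko.ne _ _ (by decide +kernel)
  · rw [← eσ, ← e1, ← ev_pw, ← ev_cw, ← ev_cw, ← ev_append]
    exact ko.eq _ _ (by decide +kernel)
  · have key : allL (fun n => bO (bN (eqB (bw n ++ bw n) [])) (bO (eqB (bw n) [])
        (anyL (fun i => eqB (bw n) (cw (pw wσ i) [1])) (List.range 7))))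
        (List.range 64) = true := by decide +kernel
    obtain ⟨h1, h2⟩ := (bv.mem v).1 hv
    obtain ⟨n, hn, rfl⟩ := memB h1
    rcases bO_iff.1 (allL_iff.1 key n hn) with h | h
    · exact absurd (by rw [ev_append, h2]; rfl) (ko.ne _ _ h)
    · rcases bO_iff.1 h with h | h
      · exact Or.inl (ko.eq _ _ h)
      · obtain ⟨i, -, h⟩ := anyL_iff.1 h
        exact Or.inr ⟨i, by rw [ko.eq _ _ h, ev_cw, ev_pw, e1, eσ]⟩
  · rw [← eσ, ← eζ, ← ev_pw, ← ev_cw, ← ev_cw, ← ev_append, ← ev_append]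
    exact ko.ne _ [] (by decide +kernel)
  · have key : allL (fun n => bO (bN (eqB (bw n ++ bw n) [])) (bO (eqB (bw n) [])
        (bO (bN (eqB (wρ ++ bw n) (bw n ++ wρ))) (bN (eqB (wp ++ bw n) (bw n ++ wp))))))
        (List.range 64) = true := by decide +kernel
    obtain ⟨h1, h2⟩ := (bv.mem v).1 hv
    obtain ⟨n, hn, rfl⟩ := memB h1
    rcases bO_iff.1 (allL_iff.1 key n hn) with k | k
    · exact absurd (by rw [ev_append, h2]; rfl) (ko.ne _ _ k)
    · rcases bO_iff.1 k with k | k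
      · exact ko.eq _ _ k
      · rcases bO_iff.1 k with k | k
        · exact absurd (by rw [ev_append, ev_append, h _ nρ (normL _ (by decide +kernel))])
            (ko.ne _ _ k)
        · exact absurd (by rw [ev_append, ev_append, h _ np (normL _ (by decide +kernel))])
            (ko.ne _ _ k)

end Cfsg.Agent.H12.OnB
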