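import Mathlib
import Cfsg.Agent.H12.Burnside
import Cfsg.Agent.H12.Jordan
import Cfsg.Agent.H23.CyclicTop
import Cfsg.Agent.H2.SchurZassenhaus
import Cfsg.Agent.H53.PSolv

/-!
# Schur's bound for `p`-groups with a rational character, and `p`-solvable linear groups
-/

set_option autoImplicit false

namespace Cfsg.Agent.H12

open Cfsg Cfsg.Agent.H11
open scoped ComplexConjugate Pointwise

universe u

variable {G : Type u} [Group G] [Finite G]

theorem apply_pow_eq_of_rat {χ : G → ℂ} (hχ : IsCharacter G χ) {x : G} {q : ℚ} (hq : χ x = q)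
    {k : ℕ} (hk : k.Coprime (Nat.card G)) : χ (x ^ k) = χ x := by
  obtain ⟨σ, hσ⟩ := exists_ringEquiv_character_pow (G := G) hk
  rw [← hσ χ hχ, hq, map_ratCast]

/-- A character that is constant on the generators of the cyclic `p`-group `⟨x⟩ ≠ 1` has
`χ x ≥ - χ 1 / (p - 1)`. -/
theorem nonneg_of_forall_pow_eq {χ : G → ℂ} (hχ : IsCharacter G χ) {p : ℕ} (hp : p.Prime) {x : G}
    (hx : p ∣ orderOf x) (h : ∀ k, ¬ p ∣ k → χ (x ^ k) = χ x) :
    0 ≤ (χ 1).re + (p - 1) * (χ x).re := by
  obtain ⟨n, μ, -, h2, h3⟩ := IsCharacter_exists_eigenvalues hχ x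
  have ho := orderOf_pos x
  have e1 : ∑ i ∈ Finset.range p, ∑ l ∈ Finset.range p, χ (x ^ (i + (orderOf x - 1) * l)) =
      ((∑ j, ‖∑ i ∈ Finset.range p, μ j ^ i‖ ^ 2 : ℝ) : ℂ) := by
    simp only [h3]
    push_cast
    simp only [← Complex.mul_conj', map_sum, map_pow, conj_eq_pow_of_pow_eq_one ho (h2 _),
      Finset.sum_mul_sum, ← pow_mul, ← pow_add]
    rw [Finset.sum_congr rfl fun i _ => Finset.sum_comm, Finset.sum_comm]
  have e2 : ∀ i ∈ Finset.range p, ∑ l ∈ Finset.range p, χ (x ^ (i + (orderOf x - 1) * l)) =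
      χ 1 + (p - 1) * χ x := fun i hi => by
    rw [← Finset.add_sum_erase _ _ hi, Finset.sum_congr rfl fun l hl => h _ fun hd => by
      obtain ⟨hl1, hl2⟩ := Finset.mem_erase.1 hl
      have h4 : i + (orderOf x - 1) * l + l = i + orderOf x * l := by
        obtain ⟨o, ho'⟩ : ∃ o, orderOf x = o + 1 := ⟨_, (Nat.sub_add_cancel ho).symm⟩
        rw [ho', Nat.add_sub_cancel]
        ring
      have h5 : l ≡ i [MOD p] := by
        have h6 := ((Nat.modEq_zero_iff_dvd.2 hd).add_right l).symm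
        rw [h4, zero_add] at h6
        exact h6.trans (by simpa using (Nat.modEq_zero_iff_dvd.2 (hx.mul_right l)).add_left i)
      exact hl1 (Nat.ModEq.eq_of_lt_of_lt h5 (Finset.mem_range.1 hl2) (Finset.mem_range.1 hi)),
      Finset.sum_const, Finset.card_erase_of_mem hi, Finset.card_range, nsmul_eq_mul,
      Nat.cast_sub hp.one_le, Nat.cast_one]
    congr 2
    rw [show i + (orderOf x - 1) * i = orderOf x * i by
      obtain ⟨o, ho'⟩ : ∃ o, orderOf x = o + 1 := ⟨_, (Nat.sub_add_cancel ho).symm⟩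
      rw [ho', Nat.add_sub_cancel]
      ring, pow_mul, pow_orderOf_eq_one, one_pow]
  rw [Finset.sum_congr rfl e2, Finset.sum_const, Finset.card_range, nsmul_eq_mul] at e1
  have e3 := congrArg Complex.re e1
  rw [Complex.ofReal_re] at e3
  simp only [Complex.mul_re, Complex.natCast_re, Complex.natCast_im, Complex.add_re,
    Complex.sub_re, Complex.one_re, Complex.sub_im, Complex.one_im, zero_mul, sub_zero,
    sub_self] at e3
  have hp' : (0 : ℝ) < p := by exact_mod_cast hp.pos
  refine (mul_nonneg_iff_of_pos_left hp').1 ?_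
  have e4 : 0 ≤ ∑ j, ‖∑ i ∈ Finset.range p, μ j ^ i‖ ^ 2 := Finset.sum_nonneg fun _ _ => sq_nonneg _
  rw [← e3] at e4
  simpa using e4

/-- Schur, Blichfeldt: the order of a `p`-group with a faithful rational character. -/
theorem index_charKer_dvd_of_rat {p : ℕ} (hp : p.Prime) (hG : IsPGroup p G) {χ : G → ℂ}
    (hχ : IsCharacter G χ) (hrat : ∀ x, ∃ q : ℚ, χ x = q) {n : ℕ} (hn : χ 1 = n) :
    (charKer χ).index ∣ p ^ (n / (p - 1)) * (n / (p - 1)).factorial := by
  classical
  have := Fact.mk hp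
  have := Fintype.ofFinite G
  set r := n / (p - 1) with hr
  have hval : ∀ x, x ∉ charKer χ → ∃ t ∈ Finset.Icc 1 r, χ x = n - p * t := fun x hx => by
    obtain ⟨q, hq⟩ := hrat x
    obtain ⟨z, hz⟩ := exists_int_of_isIntegral_rat (hq ▸ IsCharacter_isIntegral hχ x)
    have hz' : χ x = z := by rw [hq, hz, Rat.cast_intCast]
    obtain ⟨j, hj⟩ := hG x
    obtain ⟨s, hs, h1⟩ := IsCharacter_exists_pow_prime_pow_eq hχ hp j x
    rw [hj, hn, hz'] at h1
    have hp0 : (p : ℂ) ≠ 0 := by exact_mod_cast hp.ne_zero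
    have h2 := int_dvd_of_isIntegral_div (a := z ^ p ^ j - n) (b := p)
      (by exact_mod_cast hp.ne_zero) (by
        convert hs using 1
        push_cast
        rw [h1]
        field_simp
        ring)
    have h3 : (p : ℤ) ∣ n - z := by
      rw [← ZMod.intCast_zmod_eq_zero_iff_dvd] at h2 ⊢
      push_cast at h2 ⊢
      rw [ZMod.pow_card_pow] at h2
      linear_combination -h2
    obtain ⟨t, ht⟩ := h3
    have h4 := re_apply_lt hχ (mt (mem_charKer_iff hχ).2 hx)
    obtain ⟨a, ha⟩ := hG.exists_card_eq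
    obtain ⟨b, hb⟩ := IsPGroup.iff_orderOf.1 hG x
    have h5 := nonneg_of_forall_pow_eq hχ hp (x := x) (by
      rw [hb]
      refine dvd_pow_self p fun h => hx ?_
      rw [h, pow_zero, orderOf_eq_one_iff] at hb
      rw [hb]
      exact one_mem _) fun k hk => apply_pow_eq_of_rat hχ hq
        (ha ▸ Nat.Coprime.pow_right _ ((Nat.Prime.coprime_iff_not_dvd hp).2 hk).symm)
    rw [hz', hn, Complex.natCast_re, Complex.intCast_re] at h4 h5
    have h4' : z < n := by exact_mod_cast h4
    have h5' : 0 ≤ (n : ℤ) + (p - 1) * z := by exact_mod_cast h5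
    have hp1 : (1 : ℤ) < p := by exact_mod_cast hp.one_lt
    have ht0 : 0 < t := by nlinarith
    obtain ⟨t, rfl⟩ := Int.eq_ofNat_of_zero_le ht0.le
    refine ⟨t, Finset.mem_Icc.2 ⟨by omega, ?_⟩, ?_⟩
    · rw [hr, Nat.le_div_iff_mul_le (by have := hp.one_lt; omega)]
      have : (t : ℤ) * (p - 1) ≤ n := by nlinarith
      have h6 : ((t * (p - 1) : ℕ) : ℤ) ≤ n := by
        rw [Nat.cast_mul, Nat.cast_sub hp.one_le]
        exact this
      exact_mod_cast h6
    · rw [hz']
      exact_mod_cast (show z = n - p * t by omega)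
  have hf : IsGeneralizedCharacter G
      (∏ t ∈ Finset.Icc 1 r, (χ - (((n : ℤ) - p * t : ℤ) : ℂ) • fun _ => 1)) :=
    Finset.prod_induction _ (IsGeneralizedCharacter G) (fun _ _ => isGen_mul) isGen_one
      fun t _ => isGen_sub (isGen_of_isCharacter hχ) (isGen_intCast_smul isGen_one _)
  obtain ⟨m, hm⟩ := exists_int_classInner hf isGen_one
  rw [classInner_one_right, ← Finset.sum_filter_add_sum_filter_not _ (· ∈ charKer χ),
    Finset.sum_eq_zero (s := Finset.univ.filter fun x => ¬ x ∈ charKer χ) fun x hx => by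
      obtain ⟨t, ht, h⟩ := hval x (Finset.mem_filter.1 hx).2
      rw [Finset.prod_apply]
      exact Finset.prod_eq_zero ht (by simp [h]),
    Finset.sum_congr rfl (g := fun _ => ((p ^ r * r.factorial : ℕ) : ℂ)) fun x hx => by
      rw [Finset.prod_apply, ← Finset.prod_Ico_id_eq_factorial, Finset.Ico_add_one_right_eq_Icc,
        Finset.prod_congr rfl (g := fun t => ((p * t : ℕ) : ℂ)) fun t _ => by
          simp [apply_eq_of_mem_charKer (Finset.mem_filter.1 hx).2, hn],
        ← Nat.cast_prod, Finset.prod_mul_distrib, Finset.prod_const, Nat.card_Icc]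
      rfl,
    add_zero, Finset.sum_const, nsmul_eq_mul, ← Fintype.card_subtype, ← Nat.card_eq_fintype_card,
    ← (charKer χ).card_mul_index, Nat.cast_mul, mul_inv, mul_mul_mul_comm,
    inv_mul_cancel₀ (card_ne_zero _), one_mul,
    inv_mul_eq_iff_eq_mul₀ (by exact_mod_cast Subgroup.FiniteIndex.index_ne_zero)] at hm
  exact Int.natCast_dvd_natCast.1 ⟨m, by exact_mod_cast hm⟩

theorem factorization_le_of_dvd_pow_mul_factorial {p n a : ℕ} (hp : p.Prime)
    (h : a ∣ p ^ (n / (p - 1)) * (n / (p - 1)).factorial) :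
    a.factorization p ≤ ∑ i ∈ Finset.range (n + 1), n / ((p - 1) * p ^ i) := by
  have h0 : p ^ (n / (p - 1)) * (n / (p - 1)).factorial ≠ 0 :=
    mul_ne_zero (pow_ne_zero _ hp.ne_zero) (Nat.factorial_ne_zero _)
  refine ((Nat.factorization_le_iff_dvd (ne_zero_of_dvd_ne_zero h0 h) h0).2 h p).trans_eq ?_
  rw [Nat.factorization_mul (pow_ne_zero _ hp.ne_zero) (Nat.factorial_ne_zero _),
    Finsupp.add_apply, hp.factorization_pow, Finsupp.single_eq_same,
    Nat.factorization_factorial hp (b := n + 1) (Nat.lt_succ_of_le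
      ((Nat.log_le_self _ _).trans (Nat.div_le_self _ _))), Finset.range_eq_Ico,
    Finset.sum_eq_sum_Ico_succ_bot (Nat.succ_pos n)]
  simp [Nat.div_div_eq_div_mul]

/-- A `p`-rational character is rational on `p`-elements. -/
theorem exists_rat_of_mem_adjoin {χ : G → ℂ} (hχ : IsCharacter G χ) {p r : ℕ} (hp : p.Prime)
    (hr : 0 < r) (hpr : ¬ p ∣ r) {x : G} {j : ℕ} (hx : x ^ p ^ j = 1)
    (h : χ x ∈ IntermediateField.adjoin ℚ
      ({Complex.exp (2 * Real.pi * Complex.I / r)} : Set ℂ)) : ∃ q : ℚ, χ x = q := by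
  refine exists_rat_of_forall_ringEquiv (IsCharacter_isIntegral hχ x).tower_top.isAlgebraic
    fun σ => ?_
  obtain ⟨m, hm, hσ⟩ := exists_pow_of_ringHom σ.toRingHom (pow_pos hp.pos j)
  have hco : (p ^ j).Coprime r := Nat.Coprime.pow_left _ ((Nat.Prime.coprime_iff_not_dvd hp).2 hpr)
  obtain ⟨K, h1, h2⟩ := Nat.chineseRemainder hco m 1
  obtain ⟨τ, hτ⟩ := exists_ringEquiv_pow (n := p ^ j * r) (m := K)
    (Nat.mul_pos (pow_pos hp.pos j) hr) (Nat.Coprime.mul_right
      (by rw [Nat.Coprime, h1.gcd_eq]; exact hm) (by rw [Nat.Coprime, h2.gcd_eq]; simp))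
  have e1 : σ (χ x) = χ (x ^ m) := IsCharacter_map_eq_pow hχ σ.toRingHom _ m hσ x hx
  have e2 : τ (χ x) = χ (x ^ K) := IsCharacter_map_eq_pow hχ τ.toRingHom _ K hτ x
    (by rw [pow_mul, hx, one_pow])
  have hζ := (Complex.isPrimitiveRoot_exp r hr.ne').pow_eq_one
  have e3 : τ (χ x) = χ x := by
    have : IntermediateField.adjoin ℚ ({Complex.exp (2 * Real.pi * Complex.I / r)} : Set ℂ) ≤
        IntermediateField.fixedField (Subgroup.zpowers (τ.toRatAlgEquiv)) := by
      rw [IntermediateField.le_iff_le, Subgroup.zpowers_le,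
        IntermediateField.mem_fixingSubgroup_iff]
      intro y hy
      induction hy using IntermediateField.adjoin_induction with
      | mem y hy =>
        rw [Set.mem_singleton_iff.1 hy]
        refine (hτ _ (by rw [mul_comm (p ^ j), pow_mul, hζ, one_pow])).trans ?_
        conv_rhs => rw [← pow_one (Complex.exp _)]
        exact pow_eq_pow_of_modEq h2 hζ
      | algebraMap y => exact AlgEquiv.commutes _ y
      | add a b _ _ ha hb => rw [map_add, ha, hb]
      | inv a _ ha => rw [map_inv₀, ha]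
      | mul a b _ _ ha hb => rw [map_mul, ha, hb]
    exact this h ⟨_, Subgroup.mem_zpowers _⟩
  rw [e1, ← e3, e2, pow_eq_pow_of_modEq h1 hx]

/-- Over a normal Hall subgroup `K` every character can be replaced by one with the same
restriction to `K` that is rational on the elements of order prime to `|K|`. -/
theorem exists_rat_of_hall (K : Subgroup G) [hK : K.Normal] (hcop : (Nat.card K).Coprime K.index)
    {φ : G → ℂ} (hφ : IsCharacter G φ) : ∃ ψ, IsCharacter G ψ ∧ (∀ k ∈ K, ψ k = φ k) ∧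
      ∀ s, (orderOf s).Coprime (Nat.card K) → ∃ q : ℚ, ψ s = q := by
  classical
  have := Fintype.ofFinite G
  refine isCharacter_induction (P := fun φ => ∃ ψ, IsCharacter G ψ ∧ (∀ k ∈ K, ψ k = φ k) ∧
    ∀ s, (orderOf s).Coprime (Nat.card K) → ∃ q : ℚ, ψ s = q) ?_ (fun φ hφ => ?_)
    (fun φ φ' _ _ h1 h2 => ?_) hφ
  · exact ⟨0, isCharacter_zero, fun _ _ => rfl, fun _ _ => ⟨0, by simp⟩⟩
  · obtain ⟨U, hKU, η, hη, rfl, hprim⟩ := H14.exists_primOver K hφ
    obtain ⟨θ, e, hθ, he⟩ := hprim.homog hη (K.subgroupOf U) le_rfl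
    have he0 : (e : ℂ) ≠ 0 := fun h => irr_apply_one_ne_zero hη (by simpa [h] using congrFun he 1)
    have hcard : Nat.card (K.subgroupOf U) = Nat.card K := H2.card_subgroupOf_of_le hKU
    have hcop' : (Nat.card (K.subgroupOf U)).Coprime (K.subgroupOf U).index :=
      hcard ▸ hcop.coprime_dvd_right (Subgroup.relIndex_dvd_index_of_normal K U)
    obtain ⟨χ, h1, h2⟩ := H23.exists_canonical hcop' ⟨θ, hθ⟩ fun s _ g g' h => by
      refine mul_left_cancel₀ he0 ?_
      have e1 : η g = e * θ g := congrFun he g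
      have e2 : η g' = e * θ g' := congrFun he g'
      rw [← e1, ← e2, h, isClassFunction_of_irr hη]
    refine ⟨indFun U ((e : ℂ) • χ.1), H14.IsCharacter.indFun U
      (isCharacter_natCast_smul (irr_isCharacter χ) e), fun k hk => ?_, fun s hs => ?_⟩
    · rw [H14.indFun_apply', H14.indFun_apply']
      refine congrArg _ (Finset.sum_congr rfl fun x _ => ?_)
      have h3 := hK.conj_mem k hk x
      rw [H14.extendByZero_of_mem _ _ (hKU h3), H14.extendByZero_of_mem _ _ (hKU h3)]
      exact (congrArg ((e : ℂ) * ·) (h1 ⟨⟨_, hKU h3⟩, h3⟩)).trans (congrFun he ⟨⟨_, hKU h3⟩, h3⟩).symm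
    · have h3 : ∀ x : G, ∃ z : ℤ, extendByZero U ((e : ℂ) • χ.1) (x * s * x⁻¹) = z := fun x => by
        by_cases h : x * s * x⁻¹ ∈ U
        · obtain ⟨z, hz⟩ := H23.canonical_apply_int hcop' ⟨θ, hθ⟩ χ.2 h1 h2 (s := ⟨_, h⟩) (by
            refine orderOf_dvd_iff_pow_eq_one.1 (Nat.Coprime.dvd_of_dvd_mul_left (m := Nat.card K) ?_ ?_)
            · rwa [Subgroup.orderOf_mk, ← MulAut.conj_apply, MulEquiv.orderOf_eq]
            · rw [← hcard, Subgroup.card_mul_index]
              exact orderOf_dvd_natCard _)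
          exact ⟨e * z, by rw [H14.extendByZero_of_mem _ _ h, Pi.smul_apply, hz]; simp⟩
        · exact ⟨0, by rw [H14.extendByZero_of_not_mem _ _ h]; simp⟩
      choose z hz using h3
      exact ⟨(Nat.card U : ℚ)⁻¹ * ∑ x, z x, by rw [H14.indFun_apply']; simp [hz]⟩
  · obtain ⟨ψ, h3, h4, h5⟩ := h1
    obtain ⟨ψ', h3', h4', h5'⟩ := h2
    refine ⟨ψ + ψ', isCharacter_add h3 h3', fun k hk => by simp [h4 k hk, h4' k hk], fun s hs => ?_⟩
    obtain ⟨q, hq⟩ := h5 s hs
    obtain ⟨q', hq'⟩ := h5' s hs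
    exact ⟨q + q', by simp [hq, hq']⟩

/-- The Frattini argument for a complement of a solvable normal Hall subgroup `O` of `L ⊴ G`. -/
theorem exists_complement_normalizer_sup (O L : Subgroup G) [hO : O.Normal] [L.Normal] (hOL : O ≤ L)
    (hsolv : Group.IsSolvable O) (hcop : (Nat.card O).Coprime (O.relIndex L)) :
    ∃ K : Subgroup G, O ⊔ K = L ∧ Nat.card K = O.relIndex L ∧
      Subgroup.normalizer (K : Set G) ⊔ O = ⊤ := by
  have hcop' : (Nat.card (O.subgroupOf L)).Coprime (O.subgroupOf L).index := by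
    rwa [H2.card_subgroupOf_of_le hOL]
  obtain ⟨K, hK⟩ := Subgroup.exists_right_complement'_of_coprime hcop'
  refine ⟨K.map L.subtype, ?_, ?_, eq_top_iff.2 fun g _ => ?_⟩
  · conv_rhs => rw [← L.range_subtype, MonoidHom.range_eq_map, ← hK.sup_eq_top, Subgroup.map_sup,
      Subgroup.map_subgroupOf_eq_of_le hOL]
  · rw [Subgroup.card_map_of_injective L.subtype_injective, ← hK.symm.index_eq_card]
    rfl
  · have h1 := H2.isComplement'_map_of_coprime (f := (MulAut.conjNormal g : MulAut L).toMonoidHom)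
      (MulAut.conjNormal g).surjective hK (by rwa [← hK.symm.index_eq_card])
    have h2 : (O.subgroupOf L).map (MulAut.conjNormal g : MulAut L).toMonoidHom =
        O.subgroupOf L := by
      refine Subgroup.eq_of_le_of_card_ge ?_
        (Subgroup.card_map_of_injective (MulAut.conjNormal g).injective).ge
      rintro _ ⟨x, hx, rfl⟩
      exact hO.conj_mem _ hx g
    rw [h2] at h1
    obtain ⟨o, ho, h3⟩ := H2.schurZassenhaus_conj' _ hcop' K _
      (Or.inl (H2.isSolvable_subgroupOf L hsolv)) hK h1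
    rw [← mul_inv_cancel_left (o : G) g, sup_comm]
    refine Subgroup.mul_mem_sup ho (Subgroup.mem_normalizer_fintype ?_)
    rintro _ ⟨k, hk, rfl⟩
    have h4 : MulAut.conjNormal g k ∈ MulAut.conj o • K := h3 ▸ ⟨k, hk, rfl⟩
    refine ⟨_, H2.mem_conj_smul_iff.1 h4, ?_⟩
    simp [mul_assoc]

/-- The `p`-part of `|G : O_p(G)|` for a `p`-solvable linear group. -/
theorem factorization_index_pCore_le {χ : G → ℂ} (hχ : IsCharacter G χ) (hker : charKer χ = ⊥)
    {n : ℕ} (hn : χ 1 = n) {p : ℕ} (hp : p.Prime) (hsolv : IsPSolvable p G) :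
    ((pCore p G).index).factorization p ≤ ∑ i ∈ Finset.range (n + 1), n / ((p - 1) * p ^ i) := by
  have := Fact.mk hp
  set O := pCore p G with hO
  set π := QuotientGroup.mk' O with hπ
  have hC := H53.centralizer_pPrimeCore_le (H53.isPSolvable_quotient hsolv O)
    (H3.pCore_quotient_pCore p G)
  have hOp := H3.pCore_isPGroup p G
  have hOL : O ≤ (pPrimeCore p (G ⧸ O)).comap π := fun x hx => by
    rw [Subgroup.mem_comap, show π x = 1 from (QuotientGroup.eq_one_iff x).2 hx]
    exact one_mem _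
  have hidx : O.relIndex ((pPrimeCore p (G ⧸ O)).comap π) = Nat.card (pPrimeCore p (G ⧸ O)) := by
    rw [← H3.card_map_mk', Subgroup.map_comap_eq_self_of_surjective (QuotientGroup.mk'_surjective O)]
  have := hOp.isNilpotent
  obtain ⟨K, hK1, hK2, hK3⟩ := exists_complement_normalizer_sup O _ hOL inferInstance (by
    obtain ⟨a, ha⟩ := hOp.exists_card_eq
    rw [ha, hidx]
    exact (H3.pPrimeCore_coprime p _).symm.pow_left _)
  have hKp : (Nat.card K).Coprime p := by
    rw [hK2, hidx]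
    exact H3.pPrimeCore_coprime p _
  set N := Subgroup.normalizer (K : Set G) with hN
  obtain ⟨S⟩ : Nonempty (Sylow p N) := inferInstance
  set P := (S : Subgroup N).map N.subtype with hP
  have hPp : IsPGroup p P := S.2.map _
  have hPN : P ≤ N := Subgroup.map_subtype_le _
  have hPi : ¬ p ∣ P.relIndex N := by
    rw [Subgroup.relIndex, Subgroup.subgroupOf,
      Subgroup.comap_map_eq_self_of_injective N.subtype_injective]
    exact S.not_dvd_index
  have hKn : (K.subgroupOf (K ⊔ P)).Normal :=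
    Subgroup.normal_subgroupOf_of_le_normalizer (sup_le Subgroup.le_normalizer hPN)
  have hcard : Nat.card (K.subgroupOf (K ⊔ P)) = Nat.card K := H2.card_subgroupOf_of_le le_sup_left
  obtain ⟨b, hb⟩ := hPp.exists_card_eq
  obtain ⟨ψ, h1, h2, h3⟩ := exists_rat_of_hall (K.subgroupOf (K ⊔ P)) (by
    rw [hcard]
    refine (hKp.pow_right b).coprime_dvd_right (Nat.dvd_of_mul_dvd_mul_left
      (k := Nat.card K) Nat.card_pos ?_)
    rw [← hb, ← hcard, Subgroup.card_mul_index, hcard, sup_comm, mul_comm]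
    exact H3.card_sup_dvd_of_le_normalizer hPN) (isCharacter_restrict hχ (K ⊔ P))
  have h4 := index_charKer_dvd_of_rat hp hPp (isCharacter_comp h1 (Subgroup.inclusion le_sup_right))
    (fun x => h3 _ (by
      obtain ⟨c, hc⟩ := IsPGroup.iff_orderOf.1 hPp x
      rw [hcard, orderOf_injective _ (Subgroup.inclusion_injective _), hc]
      exact hKp.symm.pow_left _)) (n := n) (by rw [map_one, h2 1 (one_mem _)]; exact hn)
  have h5 : charKer (fun x : P => ψ (Subgroup.inclusion le_sup_right x)) ≤ O.subgroupOf P :=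
    fun x hx => by
      rw [charKer_comp h1, Subgroup.mem_comap] at hx
      have hnorm := charKer_normal (isClassFunction_of_isCharacter h1)
      have h6 : ∀ k ∈ K, k * x = x * k := fun k hk => by
        set k' : ↥(K ⊔ P) := ⟨k, Subgroup.mem_sup_left hk⟩
        set x' : ↥(K ⊔ P) := Subgroup.inclusion le_sup_right x
        have h7 : k' * x' * k'⁻¹ * x'⁻¹ ∈ charKer ψ := mul_mem (hnorm.conj_mem _ hx _) (inv_mem hx)
        have h8 : k' * x' * k'⁻¹ * x'⁻¹ ∈ K.subgroupOf (K ⊔ P) := by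
          rw [show k' * x' * k'⁻¹ * x'⁻¹ = k' * (x' * k'⁻¹ * x'⁻¹) by group]
          exact mul_mem hk (hKn.conj_mem _ (inv_mem hk) _)
        have h9 := apply_eq_of_mem_charKer h7
        rw [h2 _ h8, h2 1 (one_mem _)] at h9
        have h10 := (mem_charKer_iff hχ).2 h9
        rw [hker, Subgroup.mem_bot] at h10
        have h11 : k * x * k⁻¹ * (x : G)⁻¹ = 1 := h10
        rwa [mul_inv_eq_one, mul_inv_eq_iff_eq_mul] at h11
      have h7 : π x ∈ pPrimeCore p (G ⧸ O) := hC fun y hy => by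
        obtain ⟨y, rfl⟩ := QuotientGroup.mk'_surjective O y
        have h8 : y ∈ O ⊔ K := hK1 ▸ hy
        obtain ⟨o, ho, k, hk, rfl⟩ := Subgroup.mem_sup_of_normal_left.1 h8
        rw [map_mul, show QuotientGroup.mk' O o = 1 from (QuotientGroup.eq_one_iff o).2 ho, one_mul,
          ← map_mul, ← map_mul, h6 k hk]
      rw [Subgroup.mem_subgroupOf, ← QuotientGroup.eq_one_iff, ← orderOf_eq_one_iff]
      obtain ⟨c, hc⟩ := IsPGroup.iff_orderOf.1 hPp x
      refine Nat.eq_one_of_dvd_coprimes ((H3.pPrimeCore_coprime p (G ⧸ O)).pow_right c)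
        (Subgroup.orderOf_dvd_natCard _ h7) ?_
      rw [← hc, ← Subgroup.orderOf_coe]
      exact orderOf_map_dvd π _
  have h6 : O.index ∣ p ^ (n / (p - 1)) * (n / (p - 1)).factorial * P.relIndex N := by
    rw [← Subgroup.relIndex_top_right, ← hK3, Subgroup.relIndex_sup_right]
    refine Dvd.dvd.trans ?_ (Nat.mul_dvd_mul_right ((Subgroup.index_dvd_of_le h5).trans h4) _)
    have := index_dvd_relIndex_mul_index (O.subgroupOf N) (P.subgroupOf N)
    rwa [Subgroup.relIndex_subgroupOf hPN] at this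
  have h7 : ordProj[p] O.index ∣ p ^ (n / (p - 1)) * (n / (p - 1)).factorial :=
    (Nat.Coprime.pow_left _ ((Nat.Prime.coprime_iff_not_dvd hp).2 hPi)).dvd_of_dvd_mul_right
      ((Nat.ordProj_dvd _ _).trans h6)
  simpa [hp.factorization_pow] using factorization_le_of_dvd_pow_mul_factorial hp h7

end Cfsg.Agent.H12
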