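import Mathlib
import Cfsg.Agent.H88.PrimPart
import Cfsg.Agent.H89.SpDefs

/-! The primitive parts of `q ^ e - 1` which divide the least common multiple of the sporadic
orders. -/

set_option autoImplicit false

namespace Cfsg.Agent.H12.SpN

open Cfsg.Agent.H89.Sp Polynomial

/-- the product of the prime powers -/
def pp (l : List (ℕ × ℕ)) : ℕ := (l.map fun x => x.1 ^ x.2).prod

/-- the primes which are `1` modulo `e` -/
def Bl (e : ℕ) : List (ℕ × ℕ) := fac.filter fun x => (x.1 - 1) % e == 0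

theorem pp_cons (x : ℕ × ℕ) (l : List (ℕ × ℕ)) : pp (x :: l) = x.1 ^ x.2 * pp l := by
  simp [pp]

theorem dvd_filter (P : ℕ × ℕ → Bool) : ∀ (l : List (ℕ × ℕ)), (∀ x ∈ l, x.1.Prime) → ∀ m, m ∣ pp l →
    (∀ x ∈ l, x.1 ∣ m → P x = true) → m ∣ pp (l.filter P)
  | [], _, _, h, _ => h
  | x :: l, hl, m, h, hP => by
    rw [pp_cons] at h
    obtain ⟨y, z, hy, hz, rfl⟩ := (Nat.dvd_mul).1 h
    have ih := dvd_filter P l (fun w hw => hl w (List.mem_cons_of_mem _ hw)) z hz
      fun w hw e => hP w (List.mem_cons_of_mem _ hw) (e.mul_left _)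
    by_cases hx : P x = true
    · rw [List.filter_cons_of_pos hx, pp_cons]; exact mul_dvd_mul hy ih
    · rw [List.filter_cons_of_neg hx]
      obtain ⟨i, -, rfl⟩ := (Nat.dvd_prime_pow (hl x List.mem_cons_self)).1 hy
      rcases i with _ | i
      · simpa using ih
      · exact absurd (hP x List.mem_cons_self ((dvd_pow_self _ i.succ_ne_zero).mul_right _)) hx

/-- test all divisors -/
def chk (t : ℕ → Bool) : List (ℕ × ℕ) → ℕ → Bool
  | [], acc => t acc
  | x :: l, acc => (List.range (x.2 + 1)).all fun i => chk t l (acc * x.1 ^ i)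

theorem chk_sound (t : ℕ → Bool) : ∀ (l : List (ℕ × ℕ)), (∀ x ∈ l, x.1.Prime) → ∀ acc m,
    chk t l acc = true → m ∣ pp l → t (acc * m) = true
  | [], _, acc, m, h, hm => by
    rw [Nat.dvd_one.1 hm, mul_one]; exact h
  | x :: l, hl, acc, m, h, hm => by
    rw [pp_cons] at hm
    obtain ⟨y, z, hy, hz, rfl⟩ := (Nat.dvd_mul).1 hm
    obtain ⟨i, hi, rfl⟩ := (Nat.dvd_prime_pow (hl x List.mem_cons_self)).1 hy
    rw [← mul_assoc]
    exact chk_sound t l (fun w hw => hl w (List.mem_cons_of_mem _ hw)) _ z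
      (List.all_eq_true.1 h i (List.mem_range.2 (by omega))) hz

theorem fac_prime : ∀ x ∈ fac, x.1.Prime := by
  simp only [fac, List.mem_cons, List.not_mem_nil, or_false, forall_eq_or_imp, forall_eq]
  norm_num

theorem fac_le : ∀ x ∈ fac, x.1 ≤ 71 := by decide

theorem Bl_prime (e : ℕ) : ∀ x ∈ Bl e, x.1.Prime := fun x hx => fac_prime x (List.mem_filter.1 hx).1

theorem ord_dvd {q e r : ℕ} (hq : 2 ≤ q) (he : 3 ≤ e) (hr : r.Prime) (h : r ∣ q ^ e - 1)
    (hc : ∀ j, 1 ≤ j → j < e → r.Coprime (q ^ j - 1)) : e ∣ r - 1 := by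
  have : Fact r.Prime := ⟨hr⟩
  have k : ∀ j, r ∣ q ^ j - 1 ↔ (q : ZMod r) ^ j = 1 := fun j => by
    rw [← ZMod.natCast_eq_zero_iff, Nat.cast_sub (Nat.one_le_pow _ _ (by omega)), sub_eq_zero]
    push_cast
    rfl
  have h1 := (k e).1 h
  have h0 : (q : ZMod r) ≠ 0 := fun e0 => by
    rw [e0, zero_pow (by omega)] at h1; exact zero_ne_one h1
  have h2 := orderOf_dvd_of_pow_eq_one h1
  have h3 : orderOf (q : ZMod r) ≠ 0 := fun e0 => by
    rw [e0] at h2; have := Nat.eq_zero_of_zero_dvd h2; omega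
  have h4 : orderOf (q : ZMod r) = e := by
    by_contra hn
    have h5 := Nat.le_of_dvd (by omega) h2
    exact (Nat.Prime.coprime_iff_not_dvd hr).1 (hc _ (by omega) (by omega))
      ((k _).2 (pow_orderOf_eq_one _))
  exact h4 ▸ ZMod.orderOf_dvd_card_sub_one h0

theorem dvd_B {q e m : ℕ} (hq : 2 ≤ q) (he : 3 ≤ e) (h : m ∣ q ^ e - 1)
    (hc : ∀ j, 1 ≤ j → j < e → m.Coprime (q ^ j - 1)) (hN : m ∣ N0) : m ∣ pp (Bl e) :=
  dvd_filter _ fac fac_prime m hN fun x hx hm => by
    rw [beq_iff_eq]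
    exact Nat.mod_eq_zero_of_dvd (ord_dvd hq he (fac_prime x hx) (hm.trans h)
      fun j a b => (hc j a b).coprime_dvd_left hm)

theorem B_big {e : ℕ} (he : 71 ≤ e) : pp (Bl e) = 1 := by
  have : Bl e = [] := List.filter_eq_nil_iff.2 fun x hx h => by
    rw [beq_iff_eq] at h
    have h1 := fac_le x hx
    have h2 := (fac_prime x hx).two_le
    rw [Nat.mod_eq_of_lt (by omega)] at h
    omega
  rw [this]; rfl

/-- check of one pair -/
def ok (q e : ℕ) : Bool :=
  let m := H88.primCand q e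
  (q ^ e - 1) % m == 0 && (List.range (e - 1)).all (fun i => Nat.gcd m (q ^ (i + 1) - 1) == 1) &&
    (N0 % m != 0 || LP.contains (q, e))

/-- check of one exponent -/
def row (e : ℕ) : Bool :=
  let f := ((List.range e).filter (fun i => Nat.gcd e i == 1)).length
  let T := e * pp (Bl e)
  e == 3 || e == 4 || e == 6 || (decide (T ≤ 200 ^ f) && (List.range 201).all fun q =>
    decide (q < 2) || decide (T ≤ (q - 1) ^ f) || ok q e)

theorem row_all : (List.range 68).all (fun i => row (i + 3)) = true := by decide +kernel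

/-- integer square root by bits -/
def isq (n : ℕ) : ℕ → ℕ → ℕ
  | 0, x => x
  | i + 1, x => if (x + 2 ^ i) * (x + 2 ^ i) ≤ n then isq n i (x + 2 ^ i) else isq n i x

/-- the root of `n`, if there is one, passes the test `t` -/
def rt (t : ℕ → Bool) (n : ℕ) : Bool :=
  let s := isq n 32 0
  decide (s * s ≤ n) && decide (n < (s + 1) * (s + 1)) && (s * s != n || t s)

theorem rt_sound {t : ℕ → Bool} {s : ℕ} (h : rt t (s * s) = true) : t s = true := by
  simp only [rt, Bool.and_eq_true, decide_eq_true_eq, Bool.or_eq_true, bne_iff_ne] at h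
  generalize isq (s * s) 32 0 = x at h
  obtain ⟨⟨h1, h2⟩, h3⟩ := h
  have e : x = s := by
    have a := Nat.mul_self_le_mul_self_iff.1 h1
    have b := Nat.mul_self_lt_mul_self_iff.1 h2
    omega
  subst e
  exact h3.resolve_left (fun h => h rfl)

theorem chk3 : chk (fun m => (List.range 3).all fun g =>
    rt (fun s => decide (s < 5) || LP.contains ((s - 1) / 2, 3)) (4 * ((g + 1) * m) - 3)) (Bl 3) 1 = true := by
  decide +kernel

theorem chk4 : chk (fun m => (List.range 4).all fun g =>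
    rt (fun s => decide (s < 2) || LP.contains (s, 4)) ((g + 1) * m - 1)) (Bl 4) 1 = true := by
  decide +kernel

theorem chk6 : chk (fun m => (List.range 6).all fun g =>
    rt (fun s => decide (s < 3) || LP.contains ((s + 1) / 2, 6)) (4 * ((g + 1) * m) - 3)) (Bl 6) 1 = true := by
  decide +kernel

theorem cof {m e n : ℕ} (h : m ∣ n) (h0 : 0 < n) (hle : n ≤ e * m) : ∃ g, g < e ∧ (g + 1) * m = n := by
  obtain ⟨g, rfl⟩ := h
  have hm : 0 < m := Nat.pos_of_mul_pos_right h0
  have hg : 0 < g := Nat.pos_of_mul_pos_left h0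
  rw [mul_comm e] at hle
  have := Nat.le_of_mul_le_mul_left hle hm
  exact ⟨g - 1, by omega, by rw [Nat.sub_add_cancel hg, mul_comm]⟩

theorem num : NumStmt := by
  intro q e hq he H
  by_cases h71 : 71 ≤ e
  · obtain ⟨m, h1, h2, h3⟩ := H88.exists_large_primitive hq he fun h => by
      have : ∀ x ∈ H88.primExc, x.2 ≤ 20 := by decide
      have := this _ h
      simp only at this
      omega
    have := dvd_B hq he h1 h2 (H m h1 h2)
    rw [B_big h71, Nat.dvd_one] at this
    omega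
  obtain ⟨m, h1, h2, h3⟩ := H88.exists_primitive_part hq he
  have hB := dvd_B hq he h1 h2 (H m h1 h2)
  have h4 := List.all_eq_true.1 row_all (e - 3) (List.mem_range.2 (by omega))
  rw [show e - 3 + 3 = e by omega] at h4
  simp only [row, ← H88.totient_eq_length, Bool.and_eq_true, decide_eq_true_eq, List.all_eq_true,
    List.mem_range, Bool.or_eq_true, beq_iff_eq] at h4
  obtain ⟨p, rfl⟩ : ∃ p, q = p + 1 := ⟨q - 1, by omega⟩
  rcases h4 with ((rfl | rfl) | rfl) | h4
  · have e1 : ((cyclotomic 3 ℤ).eval ((p + 1 : ℕ) : ℤ)).natAbs = p * p + 3 * p + 3 := by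
      rw [cyclotomic_three]
      have : eval ((p + 1 : ℕ) : ℤ) (X ^ 2 + X + 1) = ((p * p + 3 * p + 3 : ℕ) : ℤ) := by
        simp; ring
      rw [this, Int.natAbs_natCast]
    have e2 : (p + 1) ^ 3 - 1 = (p * p + 3 * p + 3) * ((p + 1) ^ 1 - 1) := by
      rw [pow_one, Nat.add_sub_cancel, Nat.sub_eq_iff_eq_add (Nat.one_le_pow _ _ (by omega))]; ring
    rw [e1] at h3
    rw [e2] at h1
    obtain ⟨g, hg, e3⟩ := cof ((h2 1 le_rfl (by omega)).dvd_of_dvd_mul_right h1) (by omega) h3
    have h5 := List.all_eq_true.1 (chk_sound _ _ (Bl_prime 3) 1 m chk3 hB) g (List.mem_range.2 hg)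
    rw [one_mul, e3, show 4 * (p * p + 3 * p + 3) - 3 = (2 * p + 3) * (2 * p + 3) by
      rw [Nat.sub_eq_iff_eq_add (by omega)]; ring] at h5
    have h6 := rt_sound h5
    simp only [Bool.or_eq_true, decide_eq_true_eq, List.contains_iff_mem] at h6
    rw [show (2 * p + 3 - 1) / 2 = p + 1 by omega] at h6
    exact h6.resolve_left (by omega)
  · have e1 : ((cyclotomic 4 ℤ).eval ((p + 1 : ℕ) : ℤ)).natAbs = p * p + 2 * p + 2 := by
      have c4 : cyclotomic 4 ℤ = X ^ 2 + 1 := by
        have := cyclotomic_prime_pow_eq_geom_sum (R := ℤ) (n := 1) Nat.prime_two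
        simpa [Finset.sum_range_succ, add_comm] using this
      rw [c4]
      have : eval ((p + 1 : ℕ) : ℤ) (X ^ 2 + 1) = ((p * p + 2 * p + 2 : ℕ) : ℤ) := by
        simp; ring
      rw [this, Int.natAbs_natCast]
    have e2 : (p + 1) ^ 4 - 1 = (p * p + 2 * p + 2) * ((p + 1) ^ 2 - 1) := by
      rw [show (p + 1) ^ 2 - 1 = p * p + 2 * p by
        rw [Nat.sub_eq_iff_eq_add (Nat.one_le_pow _ _ (by omega))]; ring,
        Nat.sub_eq_iff_eq_add (Nat.one_le_pow _ _ (by omega))]; ring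
    rw [e1] at h3
    rw [e2] at h1
    obtain ⟨g, hg, e3⟩ := cof ((h2 2 (by omega) (by omega)).dvd_of_dvd_mul_right h1) (by omega) h3
    have h5 := List.all_eq_true.1 (chk_sound _ _ (Bl_prime 4) 1 m chk4 hB) g (List.mem_range.2 hg)
    rw [one_mul, e3, show p * p + 2 * p + 2 - 1 = (p + 1) * (p + 1) by
      rw [Nat.sub_eq_iff_eq_add (by omega)]; ring] at h5
    have h6 := rt_sound h5
    simp only [Bool.or_eq_true, decide_eq_true_eq, List.contains_iff_mem] at h6
    exact h6.resolve_left (by omega)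
  · have e1 : ((cyclotomic 6 ℤ).eval ((p + 1 : ℕ) : ℤ)).natAbs = p * p + p + 1 := by
      rw [cyclotomic_six]
      have : eval ((p + 1 : ℕ) : ℤ) (X ^ 2 - X + 1) = ((p * p + p + 1 : ℕ) : ℤ) := by
        simp; ring
      rw [this, Int.natAbs_natCast]
    have e2 : ((p + 1) ^ 6 - 1) * p = (p * p + p + 1) * ((p + 1) ^ 3 - 1) * ((p + 1) ^ 2 - 1) := by
      rw [show (p + 1) ^ 2 - 1 = p * p + 2 * p by
        rw [Nat.sub_eq_iff_eq_add (Nat.one_le_pow _ _ (by omega))]; ring,
        show (p + 1) ^ 3 - 1 = p * p * p + 3 * (p * p) + 3 * p by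
        rw [Nat.sub_eq_iff_eq_add (Nat.one_le_pow _ _ (by omega))]; ring,
        show (p + 1) ^ 6 - 1 = p ^ 6 + 6 * p ^ 5 + 15 * p ^ 4 + 20 * p ^ 3 + 15 * p ^ 2 + 6 * p by
        rw [Nat.sub_eq_iff_eq_add (Nat.one_le_pow _ _ (by omega))]; ring]
      ring
    rw [e1] at h3
    have h1' := h1.mul_right p
    rw [e2] at h1'
    obtain ⟨g, hg, e3⟩ := cof ((h2 3 (by omega) (by omega)).dvd_of_dvd_mul_right
      ((h2 2 (by omega) (by omega)).dvd_of_dvd_mul_right h1')) (by omega) h3
    have h5 := List.all_eq_true.1 (chk_sound _ _ (Bl_prime 6) 1 m chk6 hB) g (List.mem_range.2 hg)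
    rw [one_mul, e3, show 4 * (p * p + p + 1) - 3 = (2 * p + 1) * (2 * p + 1) by
      rw [Nat.sub_eq_iff_eq_add (by omega)]; ring] at h5
    have h6 := rt_sound h5
    simp only [Bool.or_eq_true, decide_eq_true_eq, List.contains_iff_mem] at h6
    rw [show (2 * p + 1 + 1) / 2 = p + 1 by omega] at h6
    exact h6.resolve_left (by omega)
  · have h5 := sub_one_pow_totient_lt_natAbs_cyclotomic_eval (n := e) (q := p + 1) (by omega) (by omega)
    have h6 : e * m ≤ e * pp (Bl e) := Nat.mul_le_mul_left _ (Nat.le_of_dvd (by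
      refine List.prod_pos fun x hx => ?_
      obtain ⟨y, hy, rfl⟩ := List.mem_map.1 hx
      exact pow_pos (Bl_prime e y hy).pos _) hB)
    have h7 := (h5.trans_le h3).trans_le h6
    have h8 : p + 1 < 201 := by
      by_contra hc
      exact absurd (h4.1.trans (Nat.pow_le_pow_left (by omega) _)) (not_le.2 h7)
    rcases h4.2 _ h8 with (h9 | h9) | h9
    · omega
    · exact absurd h9 (not_le.2 h7)
    · simp only [ok, Bool.and_eq_true, beq_iff_eq, List.all_eq_true, List.mem_range,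
        Bool.or_eq_true, bne_iff_ne, List.contains_iff_mem] at h9
      refine h9.2.resolve_left fun hn => hn (Nat.mod_eq_zero_of_dvd
        (H _ (Nat.dvd_of_mod_eq_zero h9.1.1) fun i hi hie => ?_))
      have := h9.1.2 (i - 1) (by omega)
      rwa [show i - 1 + 1 = i by omega] at this

end Cfsg.Agent.H12.SpN
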