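import Mathlib
import Cfsg.Agent.H12.Mult
import Cfsg.Agent.H11.Isometry
import Cfsg.Agent.H14.InduceChar
import Cfsg.Agent.H13.Elementary

/-!
# Characters of small degree when all nonidentity elements of a Sylow subgroup `P` have the same
centralizer (Brauer–Leonard, Feit)
-/

set_option autoImplicit false

namespace Cfsg.Agent.H12

open Cfsg Cfsg.Agent.H11
open scoped Classical ComplexConjugate

universe u

/-- The local data: `P` central in `C`, `C ∖ ker τ` a T.I. set with normalizer `N`, and `N / C`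
acting without fixed points on `P`. -/
structure UC (G : Type u) [Group G] where
  P : Subgroup G
  C : Subgroup G
  N : Subgroup G
  hPC : P ≤ C
  hCN : C ≤ N
  cen : ∀ c ∈ C, ∀ x ∈ P, c * x = x * c
  τ : C →* P
  τsurj : ∀ y : P, ∃ x : P, τ ⟨x, hPC x.2⟩ = y
  κ : N →* MulAut C
  hκ : ∀ n c, (κ n c : G) = n * c * (n : G)⁻¹
  τκ : ∀ n c, τ c = 1 → τ (κ n c) = 1
  ti : ∀ c : C, τ c ≠ 1 → ∀ g : G, g * c * g⁻¹ ∈ C → g ∈ N
  hN : ∀ n ∈ N, ∀ x ∈ P, n * x * n⁻¹ ∈ P
  free : ∀ n ∈ N, ∀ x ∈ P, x ≠ 1 → n * x = x * n → n ∈ C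

namespace UC

variable {G : Type u} [Group G] (U : UC G)

/-- Irreducible characters of `C` nontrivial on `P`. -/
def Good (η : U.C → ℂ) : Prop :=
  IsIrrCharacter U.C η ∧ ∃ x : U.C, (x : G) ∈ U.P ∧ η x ≠ η 1

/-- Conjugation of functions on `C` by elements of `N`. -/
def cj (η : U.C → ℂ) (n : U.N) : U.C → ℂ := fun c => η (U.κ n c)

/-- `N`-conjugacy of functions on `C`. -/
def Rel (η η' : U.C → ℂ) : Prop := ∃ n, U.cj η' n = η

/-- The linear character of `C` belonging to a linear character of `P`. -/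
def lin (μ : U.P →* ℂˣ) : U.C → ℂ := fun c => (μ (U.τ c) : ℂ)

variable {U}

theorem cj_cj (η : U.C → ℂ) (n m : U.N) : U.cj (U.cj η n) m = U.cj η (n * m) := by
  funext c
  simp [cj]

theorem cj_one (η : U.C → ℂ) : U.cj η 1 = η := by
  funext c
  simp [cj]

theorem Rel.refl (η : U.C → ℂ) : U.Rel η η := ⟨1, cj_one η⟩

theorem Rel.symm {η η' : U.C → ℂ} (h : U.Rel η η') : U.Rel η' η := by
  obtain ⟨n, rfl⟩ := h
  exact ⟨n⁻¹, by rw [cj_cj, mul_inv_cancel, cj_one]⟩

theorem Rel.trans {η η' η'' : U.C → ℂ} (h : U.Rel η η') (h' : U.Rel η' η'') : U.Rel η η'' := by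
  obtain ⟨n, rfl⟩ := h
  obtain ⟨m, rfl⟩ := h'
  exact ⟨m * n, (cj_cj _ _ _).symm⟩

theorem isIrr_cj {η : U.C → ℂ} (hη : IsIrrCharacter U.C η) (n : U.N) :
    IsIrrCharacter U.C (U.cj η n) := isIrrCharacter_comp_mulEquiv hη (U.κ n)

theorem Good.cj {η : U.C → ℂ} (hη : U.Good η) (n : U.N) : U.Good (U.cj η n) := by
  obtain ⟨h1, x, hx, h2⟩ := hη
  refine ⟨isIrr_cj h1 n, U.κ n⁻¹ x, ?_, ?_⟩
  · rw [U.hκ]
    exact U.hN _ (n⁻¹).2 _ hx
  · simpa [UC.cj] using h2

theorem Good.ne_one {η : U.C → ℂ} (hη : U.Good η) : η ≠ fun _ => 1 := by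
  rintro rfl
  obtain ⟨-, x, -, h⟩ := hη
  exact h rfl

theorem cj_eq_self_of_mem {η : U.C → ℂ} (hη : IsClassFunction U.C η) {n : U.N}
    (hn : (n : G) ∈ U.C) : U.cj η n = η := by
  funext c
  rw [← hη c ⟨n, hn⟩, cj]
  congr 1
  exact Subtype.ext (U.hκ n c)

theorem isIrr_lin (μ : U.P →* ℂˣ) : IsIrrCharacter U.C (U.lin μ) :=
  isIrrCharacter_monoidHom (μ.comp U.τ)

theorem lin_one (μ : U.P →* ℂˣ) : U.lin μ 1 = 1 := by simp [lin]

theorem lin_of_ker (μ : U.P →* ℂˣ) {c : U.C} (hc : U.τ c = 1) : U.lin μ c = 1 := by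
  simp [lin, hc]

theorem eq_of_lin_eq {μ ν : U.P →* ℂˣ}
    (h : ∀ x : U.C, (x : G) ∈ U.P → U.lin μ x = U.lin ν x) : μ = ν := by
  ext y
  obtain ⟨x, rfl⟩ := U.τsurj y
  exact h _ x.2

theorem good_lin {μ : U.P →* ℂˣ} (hμ : μ ≠ 1) : U.Good (U.lin μ) := by
  refine ⟨isIrr_lin μ, ?_⟩
  by_contra! h
  exact hμ (eq_of_lin_eq fun x hx => by rw [h x hx, lin_one]; simp [lin])

variable [Fintype G]

theorem apply_mul_of_mem {η : U.C → ℂ} (hη : IsIrrCharacter U.C η) {x : U.C} (hx : (x : G) ∈ U.P)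
    (c : U.C) : η (x * c) = η x * η c / η 1 :=
  apply_mul_of_mem_charCenter (irr_apply_one_ne_zero hη) (center_le_charCenter hη
    (Subgroup.mem_center_iff.2 fun c => Subtype.ext (U.cen c c.2 x hx))) c

theorem apply_ne_zero_of_mem {η : U.C → ℂ} (hη : IsIrrCharacter U.C η) {x : U.C}
    (hx : (x : G) ∈ U.P) : η x ≠ 0 := fun h => by
  have := apply_mul_of_mem hη hx x⁻¹
  rw [mul_inv_cancel, h, zero_mul, zero_div] at this
  exact irr_apply_one_ne_zero hη this

theorem Good.mem_of_cj_eq {η : U.C → ℂ} (hη : U.Good η) {n : U.N} (h : U.cj η n = η) :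
    (n : G) ∈ U.C := by
  by_contra hn
  obtain ⟨h1, z, hz, h2⟩ := hη
  let f : U.P → U.P := fun x => ⟨(x : G)⁻¹ * (n * x * (n : G)⁻¹),
    mul_mem (inv_mem x.2) (U.hN _ n.2 _ x.2)⟩
  have hf : Function.Injective f := fun x y hxy => by
    have e : (x : G)⁻¹ * (n * x * (n : G)⁻¹) = (y : G)⁻¹ * (n * y * (n : G)⁻¹) :=
      congrArg Subtype.val hxy
    by_contra hne
    refine hn (U.free _ n.2 (y * (x : G)⁻¹) (mul_mem y.2 (inv_mem x.2))
      (fun h => hne (Subtype.ext (mul_inv_eq_one.1 h).symm)) ?_)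
    calc (n : G) * (y * (x : G)⁻¹)
        = y * ((y : G)⁻¹ * (n * y * (n : G)⁻¹)) * n * (x : G)⁻¹ := by group
      _ = y * ((x : G)⁻¹ * (n * x * (n : G)⁻¹)) * n * (x : G)⁻¹ := by rw [e]
      _ = _ := by group
  obtain ⟨x, hx⟩ := Finite.injective_iff_surjective.1 hf ⟨z, hz⟩
  have e : z = (⟨x, U.hPC x.2⟩ : U.C)⁻¹ * U.κ n ⟨x, U.hPC x.2⟩ := by
    refine Subtype.ext ?_
    rw [Subgroup.coe_mul, U.hκ]
    exact (congrArg Subtype.val hx).symm
  have e2 : η (U.κ n ⟨x, U.hPC x.2⟩) = η ⟨x, U.hPC x.2⟩ := congrFun h _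
  refine h2 ?_
  rw [e, apply_mul_of_mem h1 (inv_mem x.2), e2, ← apply_mul_of_mem h1 (inv_mem x.2),
    inv_mul_cancel]

theorem Good.card_fiber {η : U.C → ℂ} (hη : U.Good η) (n₀ : U.N) :
    (Finset.univ.filter fun n => U.cj η n = U.cj η n₀).card = Nat.card U.C := by
  rw [Nat.card_eq_fintype_card, ← Finset.card_univ]
  symm
  refine Finset.card_bij (fun c _ => (⟨c, U.hCN c.2⟩ : U.N) * n₀) (fun c _ => ?_)
    (fun c _ d _ h => ?_) fun n hn => ?_
  · rw [Finset.mem_filter, ← cj_cj, cj_eq_self_of_mem (isClassFunction_of_irr hη.1) c.2]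
    exact ⟨Finset.mem_univ _, rfl⟩
  · exact Subtype.ext (congrArg (fun n : U.N => (n : G)) (mul_right_cancel h))
  · have h1 : U.cj η (n * n₀⁻¹) = η := by
      rw [← cj_cj, (Finset.mem_filter.1 hn).2, cj_cj, mul_inv_cancel, cj_one]
    exact ⟨⟨_, hη.mem_of_cj_eq h1⟩, Finset.mem_univ _, inv_mul_cancel_right n n₀⟩

variable (U) in
/-- The index `e = |N : C|`. -/
noncomputable def e : ℕ := U.C.relIndex U.N

theorem card_mul_e : Nat.card U.C * U.e = Nat.card U.N := by
  rw [e, ← Subgroup.relIndex_bot_left, ← Subgroup.relIndex_bot_left,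
    Subgroup.relIndex_mul_relIndex _ _ _ bot_le U.hCN]

theorem e_pos : 0 < U.e := Nat.pos_of_ne_zero Subgroup.FiniteIndex.index_ne_zero

theorem Good.card_orbit {η : U.C → ℂ} (hη : U.Good η) :
    (Finset.univ.image (U.cj η)).card = U.e := by
  have h1 := Finset.card_le_mul_card_image (f := U.cj η) Finset.univ (Nat.card U.C) fun b hb => by
    obtain ⟨n, -, rfl⟩ := Finset.mem_image.1 hb
    exact (hη.card_fiber n).le
  have h2 := Finset.mul_card_image_le_card (f := U.cj η) Finset.univ (Nat.card U.C) fun b hb => by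
    obtain ⟨n, -, rfl⟩ := Finset.mem_image.1 hb
    exact (hη.card_fiber n).ge
  rw [Finset.card_univ, ← Nat.card_eq_fintype_card, ← card_mul_e] at h1 h2
  exact Nat.eq_of_mul_eq_mul_left Nat.card_pos (le_antisymm h2 h1)

theorem Good.card_le_e {η : U.C → ℂ} (hη : U.Good η) {ι : Type*} (s : Finset ι)
    (f : ι → U.C → ℂ) (hf : Set.InjOn f s) (h : ∀ i ∈ s, U.Rel (f i) η) : s.card ≤ U.e := by
  rw [← hη.card_orbit]
  exact Finset.card_le_card_of_injOn f (fun i hi => by
    obtain ⟨n, hn⟩ := h i hi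
    exact Finset.mem_coe.2 (Finset.mem_image.2 ⟨n, Finset.mem_univ _, hn⟩)) hf

variable (U) in
/-- The inner product of the functions induced to `N`. -/
noncomputable def s (η η' : U.C → ℂ) : ℂ :=
  (Nat.card U.C : ℂ)⁻¹ * ∑ n : U.N, classInner η (U.cj η' n)

theorem s_sub_sub (a b c d : U.C → ℂ) :
    U.s (a - b) (c - d) = U.s a c - U.s a d - U.s b c + U.s b d := by
  have : ∀ n, U.cj (c - d) n = U.cj c n - U.cj d n := fun _ => rfl
  simp only [s, this, classInner_sub_left, classInner_sub_right, Finset.sum_sub_distrib]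
  ring

theorem s_one_one : U.s (fun _ => 1) (fun _ => 1) = U.e := by
  have : ∀ n, U.cj (fun _ => 1) n = fun _ => 1 := fun _ => rfl
  simp only [s, this, classInner_one_one, Finset.sum_const, Finset.card_univ, nsmul_eq_mul,
    mul_one]
  rw [← Nat.card_eq_fintype_card, ← card_mul_e, Nat.cast_mul,
    inv_mul_cancel_left₀ (card_ne_zero _)]

theorem s_one_right {η : U.C → ℂ} (hη : U.Good η) : U.s η (fun _ => 1) = 0 := by
  have : ∀ n, U.cj (fun _ => 1) n = fun _ => 1 := fun _ => rfl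
  simp only [s, this, classInner_irr_of_ne hη.1 isIrrCharacter_one hη.ne_one,
    Finset.sum_const_zero, mul_zero]

theorem s_of_not_rel {η η' : U.C → ℂ} (hη : IsIrrCharacter U.C η) (hη' : IsIrrCharacter U.C η')
    (h : ¬ U.Rel η η') : U.s η η' = 0 := by
  rw [s, Finset.sum_eq_zero fun n _ => classInner_irr_of_ne hη (isIrr_cj hη' n)
    fun h' => h ⟨n, h'.symm⟩, mul_zero]

theorem s_one_left {η : U.C → ℂ} (hη : U.Good η) : U.s (fun _ => 1) η = 0 :=
  s_of_not_rel isIrrCharacter_one hη.1 fun ⟨n, hn⟩ => (hη.cj n).ne_one hn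

theorem s_of_rel {η η' : U.C → ℂ} (hη' : U.Good η') (h : U.Rel η η') : U.s η η' = 1 := by
  obtain ⟨n₀, rfl⟩ := h
  rw [s, Finset.sum_congr rfl fun n _ => classInner_irr (isIrr_cj hη'.1 n₀) (isIrr_cj hη'.1 n)]
  simp only [eq_comm (a := U.cj η' n₀)]
  rw [← Finset.sum_filter, Finset.sum_const, hη'.card_fiber, nsmul_eq_mul, mul_one,
    inv_mul_cancel₀ (card_ne_zero _)]

theorem classInner_ind_ind {φ : U.C → ℂ} (hφ : ∀ c, U.τ c = 1 → φ c = 0) (φ' : U.C → ℂ) :
    classInner (indFun U.C φ) (indFun U.C φ') = U.s φ φ' := by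
  rw [H14.classInner_indFun_left _ _ (H14.indFun_isClassFunction _ _), s,
    ← classInner_sum_right, ← Complex.conj_conj (Nat.card U.C : ℂ)⁻¹, ← classInner_smul_right,
    classInner_def, classInner_def]
  congr 1
  refine Finset.sum_congr rfl fun c _ => ?_
  by_cases hc : U.τ c = 1
  · simp [hφ c hc]
  congr 2
  rw [H14.indFun_apply', Pi.smul_apply, Finset.sum_apply, smul_eq_mul, map_inv₀, map_natCast]
  congr 1
  symm
  refine Finset.sum_of_injOn (fun n : U.N => (n : G)) Subtype.val_injective.injOn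
    (fun _ _ => Finset.mem_univ _) (fun g _ hg => ?_) fun n _ => ?_
  · exact H14.extendByZero_of_not_mem _ _ fun h => hg ⟨⟨g, U.ti c hc g h⟩, by simp, rfl⟩
  · rw [← U.hκ, H14.extendByZero_coe]
    rfl

theorem mult_cj {ψ : G → ℂ} (hψ : IsClassFunction G ψ) (η : U.C → ℂ) (n : U.N) :
    mult (fun c : U.C => ψ c) (U.cj η n) = mult (fun c : U.C => ψ c) η := by
  rw [mult, mult, ← classInner_comp_mulEquiv (U.κ n) (fun c : U.C => ψ c) η]
  congr 3
  funext c
  rw [U.hκ, hψ]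

theorem mult_eq_of_rel {ψ : G → ℂ} (hψ : IsClassFunction G ψ) {η η' : U.C → ℂ}
    (h : U.Rel η η') : mult (fun c : U.C => ψ c) η = mult (fun c : U.C => ψ c) η' := by
  obtain ⟨n, rfl⟩ := h
  exact mult_cj hψ _ n

theorem classInner_ind_sub {ψ : G → ℂ} (hψ : IsCharacter G ψ) {η η' : U.C → ℂ}
    (hη : IsCharacter U.C η) (hη' : IsCharacter U.C η') :
    classInner (indFun U.C (η - η')) ψ =
      mult (fun c : U.C => ψ c) η - mult (fun c : U.C => ψ c) η' := by
  have h := isCharacter_restrict hψ U.C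
  rw [H14.classInner_indFun_left _ _ (isClassFunction_of_isCharacter hψ), classInner_sub_left,
    mult_cast h hη, mult_cast h hη', classInner_comm_of_isCharacter h hη,
    classInner_comm_of_isCharacter h hη']

/-- The difference of a constituent and a non-constituent of `ψ_C` that agree on `ker τ` induces to
`ψ - ξ`. -/
theorem exists_ind_sub_eq {ψ : G → ℂ} (hψ : IsIrrCharacter G ψ) {η η' : U.C → ℂ} (hη : U.Good η)
    (hη' : U.Good η') (hk : ∀ c, U.τ c = 1 → η c = η' c)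
    (h1 : mult (fun c : U.C => ψ c) η ≠ 0) (h0 : mult (fun c : U.C => ψ c) η' = 0) :
    mult (fun c : U.C => ψ c) η = 1 ∧
      ∃ ξ, IsIrrCharacter G ξ ∧ ψ ≠ ξ ∧ indFun U.C (η - η') = ψ - ξ := by
  have hn : ¬ U.Rel η η' := fun h =>
    h1 ((mult_eq_of_rel (isClassFunction_of_irr hψ) h).trans h0)
  obtain ⟨α, β, hα, hβ, hne, h⟩ := exists_sub_of_classInner_self_eq_two
    (H14.IsGeneralizedCharacter.indFun U.C (isGen_sub (isGen_of_irr hη.1) (isGen_of_irr hη'.1)))
    (by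
      rw [classInner_ind_ind (fun c hc => by simp [hk c hc]), s_sub_sub, s_of_rel hη (Rel.refl _),
        s_of_rel hη' (Rel.refl _), s_of_not_rel hη.1 hη'.1 hn,
        s_of_not_rel hη'.1 hη.1 fun h => hn h.symm]
      norm_num)
    (by rw [H14.indFun_one, Pi.sub_apply, hk 1 (map_one _), sub_self, mul_zero])
  have h2 := classInner_ind_sub (isCharacter_of_irr hψ) (isCharacter_of_irr hη.1)
    (isCharacter_of_irr hη'.1)
  rw [h, h0, classInner_sub_left, classInner_irr hα hψ, classInner_irr hβ hψ] at h2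
  by_cases hαψ : α = ψ
  · subst hαψ
    rw [if_pos rfl, if_neg hne.symm] at h2
    exact ⟨by exact_mod_cast (by simpa using h2.symm :
      (mult (fun c : U.C => α c) η : ℂ) = 1), β, hβ, hne, h⟩
  · exfalso
    rw [if_neg hαψ] at h2
    split_ifs at h2
    · have : ((mult (fun c : U.C => ψ c) η + 1 : ℕ) : ℂ) = 0 := by
        push_cast
        linear_combination -h2
      exact Nat.succ_ne_zero _ (Nat.cast_eq_zero.1 this)
    · exact h1 (by simpa using h2.symm)

omit [Fintype G] in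
theorem classInner_sub_sub_irr {H : Type u} [Group H] [Fintype H] {ψ ξ ξ' : H → ℂ}
    (hψ : IsIrrCharacter H ψ) (hξ : IsIrrCharacter H ξ) (hξ' : IsIrrCharacter H ξ') (h : ψ ≠ ξ)
    (h' : ψ ≠ ξ') : classInner (ψ - ξ) (ψ - ξ') = if ξ = ξ' then 2 else 1 := by
  rw [classInner_sub_left, classInner_sub_right, classInner_sub_right, classInner_irr_self hψ,
    classInner_irr_of_ne hψ hξ' h', classInner_irr_of_ne hξ hψ h.symm, classInner_irr hξ hξ']
  split_ifs <;> norm_num

theorem card_hom : Nat.card (U.P →* ℂˣ) = Nat.card U.P := by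
  rw [card_monoidHom_eq_index_commutator, (commutator_eq_bot_iff_center_eq_top _).2
    (eq_top_iff.2 fun x _ => Subgroup.mem_center_iff.2 fun y =>
      Subtype.ext (U.cen y (U.hPC y.2) x x.2)), Subgroup.index_bot]

/-- The key estimate: a nonprincipal irreducible character that is nontrivial on `P` and contains
the principal character of `C` has degree at least about `|P| - e`. -/
theorem card_add_mult_le {ψ : G → ℂ} (hψ : IsIrrCharacter G ψ) (h1 : ψ ≠ fun _ => 1)
    (hP : ∃ η, U.Good η ∧ mult (fun c : U.C => ψ c) η ≠ 0)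
    (ho : mult (fun c : U.C => ψ c) (fun _ => 1) ≠ 0) (he : U.e ^ 2 + 2 ≤ Nat.card U.P) :
    Nat.card U.P + mult (fun c : U.C => ψ c) (fun _ => 1) ≤ charDegree ψ + U.e + 1 := by
  have hψc := isClassFunction_of_irr hψ
  have hψC := isCharacter_restrict (isCharacter_of_irr hψ) U.C
  set a : (U.C → ℂ) → ℕ := mult (fun c : U.C => ψ c) with ha
  have : Finite (U.P →* ℂˣ) := Nat.finite_of_card_ne_zero (by rw [card_hom]; omega)
  have := Fintype.ofFinite (U.P →* ℂˣ)
  have hcard : Fintype.card (U.P →* ℂˣ) = Nat.card U.P := by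
    rw [← Nat.card_eq_fintype_card, card_hom]
  -- the choice of `η₀` and `ν`
  obtain ⟨η₀, ν, hη₀, ha₀, hν, hνk, hν'⟩ : ∃ η₀ ν, U.Good η₀ ∧ a η₀ ≠ 0 ∧ U.Good ν ∧
      (∀ c, U.τ c = 1 → ν c = 1) ∧
      (ν = η₀ ∨ (a ν = 0 ∧ ∀ μ, ¬ U.Rel ν (η₀ * U.lin μ))) := by
    by_cases h : ∃ η, U.Good η ∧ a η ≠ 0 ∧ ∀ c, U.τ c = 1 → η c = 1
    · obtain ⟨η, h1, h2, h3⟩ := h
      exact ⟨η, η, h1, h2, h1, h3, Or.inl rfl⟩
    · obtain ⟨η₀, h1, h2⟩ := hP
      have : Nontrivial (U.P →* ℂˣ) := Fintype.one_lt_card_iff_nontrivial.1 (by omega)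
      obtain ⟨μ, hμ⟩ := exists_ne (1 : U.P →* ℂˣ)
      refine ⟨η₀, U.lin μ, h1, h2, good_lin hμ, fun c => lin_of_ker μ, Or.inr ⟨?_, ?_⟩⟩
      · by_contra h3
        exact h ⟨_, good_lin hμ, h3, fun c => lin_of_ker μ⟩
      · intro μ' h3
        obtain ⟨n, hn⟩ := h3.symm
        refine h ⟨η₀, h1, h2, fun c hc => ?_⟩
        have := congrFun hn c
        rw [cj, lin_of_ker μ (U.τκ n c hc), Pi.mul_apply, lin_of_ker μ' hc, mul_one] at this
        exact this.symm
  set f : (U.P →* ℂˣ) → U.C → ℂ := fun μ => η₀ * U.lin μ with hf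
  have hfirr : ∀ μ, IsIrrCharacter U.C (f μ) := fun μ =>
    isIrrCharacter_mul_linear hη₀.1 (isCharacter_of_irr (isIrr_lin μ)) (lin_one μ)
  have hfk : ∀ μ c, U.τ c = 1 → η₀ c = f μ c := fun μ c hc => by
    simp only [hf, Pi.mul_apply, lin_of_ker μ hc, mul_one]
  have hfinj : Function.Injective f := fun μ μ' h => eq_of_lin_eq fun x hx =>
    mul_left_cancel₀ (apply_ne_zero_of_mem hη₀.1 hx) (congrFun h x)
  set M := Finset.univ.filter fun μ => U.Good (f μ) with hM
  have hMc : Nat.card U.P ≤ M.card + 1 := by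
    rw [← hcard, ← Finset.card_univ,
      ← Finset.card_filter_add_card_filter_not (s := Finset.univ) fun μ => U.Good (f μ)]
    refine Nat.add_le_add_left (Finset.card_le_one.2 fun μ hμ μ' hμ' => ?_) _
    have h2 : ∀ μ, ¬ U.Good (f μ) → ∀ x : U.C, (x : G) ∈ U.P → η₀ x * U.lin μ x = η₀ 1 :=
      fun μ hμ x hx => by
        by_contra h
        exact hμ ⟨hfirr μ, x, hx, by simpa [hf, lin_one] using h⟩
    exact eq_of_lin_eq fun x hx => mul_left_cancel₀ (apply_ne_zero_of_mem hη₀.1 hx)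
      ((h2 μ (Finset.mem_filter.1 hμ).2 x hx).trans (h2 μ' (Finset.mem_filter.1 hμ').2 x hx).symm)
  set Z := M.filter fun μ => a (f μ) = 0 with hZ
  set W := M.filter fun μ => ¬ a (f μ) = 0 with hW
  have hZW : Z.card + W.card = M.card := Finset.card_filter_add_card_filter_not _
  have hZg : ∀ μ ∈ Z, U.Good (f μ) ∧ a (f μ) = 0 := fun μ hμ =>
    ⟨(Finset.mem_filter.1 (Finset.mem_filter.1 hμ).1).2, (Finset.mem_filter.1 hμ).2⟩
  have hWg : ∀ μ ∈ W, U.Good (f μ) ∧ a (f μ) ≠ 0 := fun μ hμ =>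
    ⟨(Finset.mem_filter.1 (Finset.mem_filter.1 hμ).1).2, (Finset.mem_filter.1 hμ).2⟩
  have hdeg : a (fun _ => 1) + W.card ≤ charDegree ψ := by
    have h2 := sum_mult_le_deg hψC (insert (fun _ => 1) (W.image f)) (fun η hη => by
      rcases Finset.mem_insert.1 hη with rfl | hη
      · exact isIrrCharacter_one
      · obtain ⟨μ, -, rfl⟩ := Finset.mem_image.1 hη
        exact hfirr μ)
    rw [Finset.sum_insert (fun h => by
      obtain ⟨μ, hμ, h⟩ := Finset.mem_image.1 h
      exact (hWg μ hμ).1.ne_one h), Finset.sum_image hfinj.injOn] at h2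
    refine le_trans (Nat.add_le_add_left ?_ _) h2
    rw [Finset.card_eq_sum_ones]
    exact Finset.sum_le_sum fun μ hμ => Nat.one_le_iff_ne_zero.2 (hWg μ hμ).2
  by_contra hcon
  have hZe : U.e < Z.card := by omega
  obtain ⟨μ₁, hμ₁⟩ : Z.Nonempty := Finset.card_pos.1 (by omega)
  obtain ⟨μ₂, hμ₂, h12⟩ : ∃ μ₂ ∈ Z, ¬ U.Rel (f μ₂) (f μ₁) := by
    by_contra! h
    exact absurd ((hZg μ₁ hμ₁).1.card_le_e Z f hfinj.injOn h) (by omega)
  have hnr : ∀ {η η'}, a η ≠ 0 → a η' = 0 → ¬ U.Rel η η' := fun h h' hr =>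
    h ((mult_eq_of_rel hψc hr).trans h')
  have hξ : ∀ μ, ∃ ξ, μ ∈ Z → IsIrrCharacter G ξ ∧ ψ ≠ ξ ∧ indFun U.C (η₀ - f μ) = ψ - ξ :=
    fun μ => by
      by_cases hμ : μ ∈ Z
      · obtain ⟨-, ξ, h⟩ := exists_ind_sub_eq hψ hη₀ (hZg μ hμ).1 (hfk μ) ha₀ (hZg μ hμ).2
        exact ⟨ξ, fun _ => h⟩
      · exact ⟨0, fun h => absurd h hμ⟩
  choose ξ hξ using hξ
  have ha₁ : a η₀ = 1 :=
    (exists_ind_sub_eq hψ hη₀ (hZg μ₁ hμ₁).1 (hfk μ₁) ha₀ (hZg μ₁ hμ₁).2).1
  have hWe : W.card ≤ U.e := hη₀.card_le_e W f hfinj.injOn fun μ hμ => by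
    by_contra hr
    obtain ⟨-, ξ', h2, h3, h4⟩ := exists_ind_sub_eq hψ (hWg μ hμ).1 (hZg μ₂ hμ₂).1
      (fun c hc => (hfk μ c hc).symm.trans (hfk μ₂ c hc)) (hWg μ hμ).2 (hZg μ₂ hμ₂).2
    obtain ⟨h5, h6, h7⟩ := hξ μ₁ hμ₁
    have h8 := classInner_sub_sub_irr hψ h5 h2 h6 h3
    rw [← h4, ← h7, classInner_ind_ind (fun c hc => by simp [hfk μ₁ c hc]), s_sub_sub,
      s_of_not_rel hη₀.1 (hfirr μ) (fun h => hr h.symm),
      s_of_not_rel hη₀.1 (hfirr μ₂) (hnr ha₀ (hZg μ₂ hμ₂).2),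
      s_of_not_rel (hfirr μ₁) (hfirr μ) (fun h => hnr (hWg μ hμ).2 (hZg μ₁ hμ₁).2 h.symm),
      s_of_not_rel (hfirr μ₁) (hfirr μ₂) (fun h => h12 h.symm)] at h8
    split_ifs at h8 <;> norm_num at h8
  have hX : U.e ≤ (Z.image ξ).card := by
    have h2 := Finset.card_le_mul_card_image (f := ξ) Z U.e fun b hb => by
      obtain ⟨μ, hμ, rfl⟩ := Finset.mem_image.1 hb
      refine (hZg μ hμ).1.card_le_e _ f hfinj.injOn fun μ' hμ' => ?_
      obtain ⟨hμ', h3⟩ := Finset.mem_filter.1 hμ'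
      by_contra hr
      obtain ⟨h5, h6, h7⟩ := hξ μ hμ
      obtain ⟨h5', h6', h7'⟩ := hξ μ' hμ'
      have h8 := classInner_sub_sub_irr hψ h5' h5 h6' h6
      rw [← h7, ← h7', classInner_ind_ind (fun c hc => by simp [hfk μ' c hc]), s_sub_sub,
        s_of_rel hη₀ (Rel.refl _), s_of_not_rel hη₀.1 (hfirr μ) (hnr ha₀ (hZg μ hμ).2),
        s_of_not_rel (hfirr μ') hη₀.1 (fun h => hnr ha₀ (hZg μ' hμ').2 h.symm),
        s_of_not_rel (hfirr μ') (hfirr μ) hr, if_pos h3] at h8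
      norm_num at h8
    by_contra hlt
    have h3 : (Z.image ξ).card + 1 ≤ U.e := by omega
    have h4 := Nat.mul_le_mul_left U.e h3
    nlinarith
  have hΓ := card_lt_of_degree_zero
    (H14.IsGeneralizedCharacter.indFun U.C (isGen_sub isGen_one (isGen_of_irr hν.1)))
    (by rw [H14.indFun_one, Pi.sub_apply, hνk 1 (map_one _), sub_self, mul_zero])
    (insert (fun _ => 1) (Z.image ξ)) (Finset.insert_nonempty _ _) (fun χ hχ => by
      rcases Finset.mem_insert.1 hχ with rfl | hχ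
      · refine ⟨isIrrCharacter_one, 1, one_ne_zero, ?_⟩
        rw [H14.classInner_indFun_left _ _ (isClassFunction_const _), classInner_sub_left,
          classInner_one_one, classInner_irr_of_ne hν.1 isIrrCharacter_one hν.ne_one]
        simp
      · obtain ⟨μ, hμ, rfl⟩ := Finset.mem_image.1 hχ
        obtain ⟨h5, h6, h7⟩ := hξ μ hμ
        refine ⟨h5, a fun _ => 1, ho, ?_⟩
        rw [show ξ μ = ψ - indFun U.C (η₀ - f μ) by rw [h7]; abel, classInner_sub_right,
          classInner_ind_sub (isCharacter_of_irr hψ) isCharacter_one (isCharacter_of_irr hν.1),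
          classInner_ind_ind (fun c hc => by simp [hνk c hc]), s_sub_sub, s_one_left hη₀,
          s_one_left (hZg μ hμ).1]
        rcases hν' with rfl | ⟨h8, h9⟩
        · rw [s_of_rel hη₀ (Rel.refl _), s_of_not_rel hη₀.1 (hfirr μ) (hnr ha₀ (hZg μ hμ).2),
            ← ha, ha₁]
          simp
        · rw [s_of_not_rel hν.1 hη₀.1 (fun h => hnr ha₀ h8 h.symm),
            s_of_not_rel hν.1 (hfirr μ) (h9 μ), ← ha, h8]
          simp)
    (n := U.e + 1) (by
      rw [classInner_ind_ind (fun c hc => by simp [hνk c hc]), s_sub_sub, s_one_one,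
        s_one_left hν, s_one_right hν, s_of_rel hν (Rel.refl _)]
      simp)
  rw [Finset.card_insert_of_notMem (fun h => by
    obtain ⟨μ, hμ, h⟩ := Finset.mem_image.1 h
    obtain ⟨-, -, h7⟩ := hξ μ hμ
    have h8 := congrArg (classInner · fun _ => 1) h7
    simp only [h] at h8
    rw [H14.classInner_indFun_left _ _ (isClassFunction_const _), classInner_sub_left,
      classInner_sub_left, classInner_one_one,
      classInner_irr_of_ne hη₀.1 isIrrCharacter_one hη₀.ne_one,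
      classInner_irr_of_ne (hfirr μ) isIrrCharacter_one (hZg μ hμ).1.ne_one,
      classInner_irr_of_ne hψ isIrrCharacter_one h1] at h8
    norm_num at h8)] at hΓ
  omega

theorem exists_good {ψ : G → ℂ} (hψ : IsCharacter G ψ) (h : ¬ U.P ≤ charKer ψ) :
    ∃ η, U.Good η ∧ mult (fun c : U.C => ψ c) η ≠ 0 := by
  have hψC := isCharacter_restrict hψ U.C
  by_contra! hcon
  refine h fun x hx => ?_
  have : (⟨x, U.hPC hx⟩ : U.C) ∈ charKer fun c : U.C => ψ c := by
    rw [mem_charKer_iff_forall_constituent hψC]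
    intro η hη h'
    rw [mem_charKer_irr_iff hη]
    by_contra h''
    exact (mult_ne_zero_iff hψC (isCharacter_of_irr hη)).2 h' (hcon η ⟨hη, _, hx, h''⟩)
  rw [mem_charKer_iff hψC] at this
  exact (mem_charKer_iff hψ).2 this

/-- If `P` lies in the kernel of no nonprincipal irreducible character, a nonprincipal irreducible
character of degree less than `√(|P| - 1)` stays irreducible on `C`, and `N = C`. -/
theorem isIrr_res (hker : ∀ ψ, IsIrrCharacter G ψ → ψ ≠ (fun _ => 1) → ¬ U.P ≤ charKer ψ)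
    {χ : G → ℂ} (hχ : IsIrrCharacter G χ) (h1 : χ ≠ fun _ => 1)
    (hdeg : charDegree χ ^ 2 + 1 < Nat.card U.P) :
    IsIrrCharacter U.C (fun c : U.C => χ c) ∧ U.e = 1 := by
  have hχ' := isCharacter_of_irr hχ
  have hχC := isCharacter_restrict hχ' U.C
  obtain ⟨η₀, hη₀, h₀⟩ := exists_good hχ' (hker χ hχ h1)
  have hO : ∀ η ∈ Finset.univ.image (U.cj η₀),
      IsIrrCharacter U.C η ∧ mult (fun c : U.C => χ c) η ≠ 0 := fun η hη => by
    obtain ⟨n, -, rfl⟩ := Finset.mem_image.1 hη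
    exact ⟨isIrr_cj hη₀.1 n, (mult_cj (isClassFunction_of_irr hχ) _ n).trans_ne h₀⟩
  have he1 : U.e ≤ charDegree χ := by
    rw [← hη₀.card_orbit, Finset.card_eq_sum_ones]
    exact (Finset.sum_le_sum fun η hη => Nat.one_le_iff_ne_zero.2 (hO η hη).2).trans
      (sum_mult_le_deg hχC _ fun η hη => (hO η hη).1)
  have he2 : U.e ≤ mult (fun c : U.C => χ c) (fun c : U.C => χ c) := by
    rw [← hη₀.card_orbit, Finset.card_eq_sum_ones]
    exact (Finset.sum_le_sum fun η hη => Nat.one_le_iff_ne_zero.2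
      (mul_ne_zero (hO η hη).2 (hO η hη).2)).trans (sum_mult_sq_le hχC _ fun η hη => (hO η hη).1)
  have he : U.e ^ 2 + 2 ≤ Nat.card U.P := by
    have := Nat.pow_le_pow_left he1 2
    omega
  have hθ : IsCharacter G (χ * fun g => conj (χ g)) := isCharacter_mul hχ' (isCharacter_conj hχ')
  set θ := χ * fun g => conj (χ g) with hθdef
  have e1 : classInner θ (fun _ => 1) = 1 :=
    (classInner_eq_mul_conj_one χ χ).symm.trans (classInner_irr_self hχ)
  have hθ1 := isCharacter_sub_irr hθ isIrrCharacter_one (e1.trans_ne one_ne_zero)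
  have hd : charDegree (θ - fun _ => 1) + 1 = charDegree χ ^ 2 := by
    have : ((charDegree (θ - fun _ => 1) + 1 : ℕ) : ℂ) = (charDegree χ ^ 2 : ℕ) := by
      push_cast
      rw [H24.deg_cast hθ1, H24.deg_cast hχ', hθdef]
      simp [conj_apply_one hχ', sq]
    exact_mod_cast this
  have hw : mult (fun c : U.C => (θ - fun _ => 1 : G → ℂ) c) (fun _ => 1) + 1 =
      mult (fun c : U.C => χ c) (fun c : U.C => χ c) := by
    have : ((mult (fun c : U.C => (θ - fun _ => 1 : G → ℂ) c) (fun _ => 1) + 1 : ℕ) : ℂ) =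
        mult (fun c : U.C => χ c) (fun c : U.C => χ c) := by
      rw [Nat.cast_add, mult_cast (isCharacter_restrict hθ1 U.C) isCharacter_one,
        mult_cast hχC hχC, classInner_eq_mul_conj_one (fun c : U.C => χ c),
        show (fun c : U.C => (θ - fun _ => 1 : G → ℂ) c) =
          ((fun c : U.C => χ c) * fun c : U.C => conj (χ c)) - fun _ => 1 from rfl,
        classInner_sub_left, classInner_one_one]
      simp
    exact_mod_cast this
  have := Fintype.ofFinite (IrrCharacter G)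
  have hw0 : mult (fun c : U.C => (θ - fun _ => 1 : G → ℂ) c) (fun _ => 1) = 0 := by
    by_contra hne
    have hs := mult_res_eq_sum hθ1 U.C (isCharacter_one (G := U.C))
    have hs' := deg_eq_sum_mult hθ1
    obtain ⟨ψ₀, -, h₀⟩ := Finset.exists_ne_zero_of_sum_ne_zero (hs ▸ hne)
    have hψ1 : ψ₀.1 ≠ fun _ => 1 := fun h => left_ne_zero_of_mul h₀ (mult_eq (n := 0) (by
      rw [h, classInner_sub_left, e1, classInner_one_one]
      simp))
    have h2 := card_add_mult_le ψ₀.2 hψ1 (exists_good (irr_isCharacter ψ₀) (hker _ ψ₀.2 hψ1))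
      (right_ne_zero_of_mul h₀) he
    rw [← Finset.add_sum_erase _ _ (Finset.mem_univ ψ₀)] at hs hs'
    have h3 : ∑ ψ ∈ Finset.univ.erase ψ₀, mult (θ - fun _ => 1) ψ.1 *
        mult (fun c : U.C => ψ.1 c) (fun _ => 1) ≤
        ∑ ψ ∈ Finset.univ.erase ψ₀, mult (θ - fun _ => 1) ψ.1 * charDegree ψ.1 :=
      Finset.sum_le_sum fun ψ _ => Nat.mul_le_mul_left _ (by
        simpa [H24.deg_res] using
          sum_mult_le_deg (isCharacter_restrict (irr_isCharacter ψ) U.C) {fun _ => 1}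
          (by simpa using isIrrCharacter_one))
    obtain ⟨m, hm⟩ := Nat.exists_eq_succ_of_ne_zero (left_ne_zero_of_mul h₀)
    rw [hm] at hs hs'
    have h4 : mult (fun c : U.C => ψ₀.1 c) (fun _ => 1) ≤ charDegree ψ₀.1 := by nlinarith
    have h5 := Nat.mul_le_mul_left m h4
    rw [Nat.succ_mul] at hs hs'
    omega
  have := U.e_pos
  refine ⟨isIrrCharacter_of_classInner_self hχC ?_, by omega⟩
  rw [← mult_cast hχC hχC, ← hw, hw0]
  simp

end UC

section Star

variable {G : Type u} [Group G] [Finite G] {p : ℕ} [hp : Fact p.Prime] (P : Sylow p G)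
  (hstar : ∀ x ∈ (P : Subgroup G), x ≠ 1 →
    Subgroup.centralizer ({x} : Set G) = Subgroup.centralizer ((P : Subgroup G) : Set G))
include hstar

omit [Finite G] hp in
theorem le_centralizer_of_star :
    (P : Subgroup G) ≤ Subgroup.centralizer ((P : Subgroup G) : Set G) := fun x hx => by
  by_cases h : x = 1
  · rw [h]
    exact one_mem _
  · rw [← hstar x hx h, Subgroup.mem_centralizer_singleton_iff]

theorem exists_uc : ∃ U : UC G, U.P = P ∧ U.C = Subgroup.centralizer ((P : Subgroup G) : Set G) ∧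
    U.N = Subgroup.normalizer ((P : Subgroup G) : Set G) := by
  have hPC := le_centralizer_of_star P hstar
  set C := Subgroup.centralizer ((P : Subgroup G) : Set G) with hC
  have hcen : ∀ c ∈ C, ∀ x ∈ (P : Subgroup G), c * x = x * c := fun c hc x hx => (hc x hx).symm
  have : IsMulCommutative P := ⟨⟨fun a b => Subtype.ext (hcen a (hPC a.2) b b.2)⟩⟩
  set m := (P : Subgroup G).relIndex C with hm
  have hmp : (Nat.card P).Coprime m := by
    obtain ⟨k, hk⟩ := P.2.exists_card_eq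
    rw [hk]
    exact Nat.Coprime.pow_left _ ((Nat.Prime.coprime_iff_not_dvd hp.out).2 fun h =>
      P.not_dvd_index (h.trans (Subgroup.relIndex_dvd_index_of_le hPC)))
  open scoped IsMulCommutative in
  let τ : C →* P := MonoidHom.transfer (Subgroup.subgroupOfEquivOfLe hPC).toMonoidHom
  have hτ : ∀ c : C, (τ c : G) = (c : G) ^ m := fun c => by
    rw [MonoidHom.transfer_eq_pow _ c fun k g₀ h => by
      have h1 : g₀ * (g₀⁻¹ * c ^ k * g₀) = (g₀⁻¹ * c ^ k * g₀) * g₀ :=
        Subtype.ext (hcen g₀ g₀.2 _ h)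
      rw [← mul_assoc, mul_left_inj, mul_inv_cancel_left] at h1
      exact h1.symm]
    rfl
  have hpow : ∀ c ∈ C, c ^ m ∈ (P : Subgroup G) := fun c hc => hτ ⟨c, hc⟩ ▸ (τ ⟨c, hc⟩).2
  have hsurj : ∀ y ∈ (P : Subgroup G), ∃ x ∈ (P : Subgroup G), x ^ m = y := fun y hy => by
    obtain ⟨x, hx⟩ := (powCoprime hmp).surjective ⟨y, hy⟩
    exact ⟨x, x.2, congrArg Subtype.val hx⟩
  have hNC : Subgroup.normalizer ((P : Subgroup G) : Set G) ≤ Subgroup.normalizer (C : Set G) :=
    fun n hn => Subgroup.mem_normalizer_fintype fun c hc x hx => by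
      have h1 : n⁻¹ * x * n ∈ (P : Subgroup G) := (Subgroup.mem_normalizer_iff''.1 hn x).1 hx
      calc x * (n * c * n⁻¹) = n * ((n⁻¹ * x * n) * c) * n⁻¹ := by group
        _ = n * (c * (n⁻¹ * x * n)) * n⁻¹ := by rw [hc _ h1]
        _ = _ := by group
  refine ⟨⟨P, C, Subgroup.normalizer ((P : Subgroup G) : Set G), hPC,
    Subgroup.centralizer_le_normalizer _, hcen, τ, fun y => ?_,
    C.normalizerMonoidHom.comp (Subgroup.inclusion hNC), fun _ _ => rfl, fun n c hc => ?_,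
    fun c hc g hg => ?_, fun n hn x hx => (Subgroup.mem_normalizer_iff.1 hn x).1 hx,
    fun n _ x hx h1 h => ?_⟩, rfl, rfl, rfl⟩
  · obtain ⟨x, hx, h⟩ := hsurj y y.2
    exact ⟨⟨x, hx⟩, Subtype.ext ((hτ _).trans h)⟩
  · refine Subtype.ext ((hτ _).trans ?_)
    change ((n : G) * c * (n : G)⁻¹) ^ m = 1
    rw [conj_pow, ← hτ, hc]
    simp
  · have hx : (c : G) ^ m ≠ 1 := fun h => hc (Subtype.ext ((hτ c).trans h))
    have hx' : (g * c * g⁻¹) ^ m ≠ 1 := by
      rw [conj_pow]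
      simpa using hx
    refine Subgroup.mem_normalizer_fintype fun y hy => ?_
    obtain ⟨y, hy', rfl⟩ := hsurj y hy
    rw [← conj_pow]
    refine hpow _ ?_
    rw [← hstar _ (hpow _ hg) hx', Subgroup.mem_centralizer_singleton_iff, conj_pow,
      conj_mul, conj_mul, hcen _ (hPC hy') _ (hpow c c.2)]
  · rw [← hstar x hx h1, Subgroup.mem_centralizer_singleton_iff]
    exact h

/-- Brauer–Leonard, Feit: the alternative for an irreducible character of small degree. -/
theorem exists_normal_or_of_star {χ : G → ℂ} (hχ : IsIrrCharacter G χ) (h1 : χ ≠ fun _ => 1)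
    (hdeg : charDegree χ ^ 2 + 1 < Nat.card P) :
    (∃ K : Subgroup G, K.Normal ∧ K ≠ ⊤ ∧ (P : Subgroup G) ≤ K) ∨
      ((∃ N : Subgroup G, N.Normal ∧ N.index = Nat.card P) ∧ charDegree χ = 1) := by
  have := Fintype.ofFinite G
  refine or_iff_not_imp_left.2 fun h => ?_
  obtain ⟨U, h2, h3, h4⟩ := exists_uc P hstar
  obtain ⟨h5, h6⟩ := U.isIrr_res (fun ψ hψ hψ1 hP => h ⟨_, charKer_normal
    (isClassFunction_of_irr hψ), fun h => hψ1 (irr_eq_one_of_charKer_eq_top hψ h), h2 ▸ hP⟩)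
    hχ h1 (h2 ▸ hdeg)
  refine ⟨?_, ?_⟩
  · rw [UC.e, Subgroup.relIndex_eq_one, h3, h4] at h6
    have hc := MonoidHom.ker_transferSylow_isComplement' P h6
    exact ⟨_, inferInstance, hc.symm.index_eq_card⟩
  · have h7 : charCenter χ = ⊤ := by
      by_contra h7
      refine h ⟨_, charCenter_normal (isClassFunction_of_irr hχ), h7, fun x hx => ?_⟩
      have hx' : x ∈ U.P := h2 ▸ hx
      have h8 := center_le_charCenter h5 (x := ⟨x, U.hPC hx'⟩)
        (Subgroup.mem_center_iff.2 fun c => Subtype.ext (U.cen c c.2 x hx'))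
      rw [mem_charCenter_iff (isCharacter_of_irr h5)] at h8
      exact (mem_charCenter_iff (isCharacter_of_irr hχ)).2 h8
    have h8 := degree_sq_le_index_of_le_charCenter hχ h7.ge (H24.irr_deg hχ)
    rw [Subgroup.index_top] at h8
    have := H24.deg_pos hχ
    nlinarith

end Star

theorem sylow_normal_of_star_aux {p : ℕ} [hp : Fact p.Prime] (m : ℕ) :
    ∀ (G : Type u) [Group G] [Finite G], Nat.card G = m → ∀ P : Sylow p G,
      (∀ x ∈ (P : Subgroup G), x ≠ 1 →
        Subgroup.centralizer ({x} : Set G) = Subgroup.centralizer ((P : Subgroup G) : Set G)) →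
      ∀ χ : G → ℂ, IsCharacter G χ → charKer χ = ⊥ → charDegree χ ^ 2 + 1 < Nat.card P →
        (P : Subgroup G).Normal := by
  induction m using Nat.strong_induction_on with
  | _ m ih =>
  intro G _ _ hm P hstar χ hχ hker hdeg
  have := Fintype.ofFinite G
  by_cases h : ∃ K : Subgroup G, K.Normal ∧ K ≠ ⊤ ∧ (P : Subgroup G) ≤ K
  · obtain ⟨K, hK, hKt, hPK⟩ := h
    have h1 : charKer (fun x : K => χ x) = ⊥ := by
      have := charKer_comp hχ K.subtype
      rw [hker, MonoidHom.comap_bot, Subgroup.ker_subtype] at this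
      exact this
    have h2 := ih _ (hm ▸ H13.card_lt_of_ne_top hKt) K rfl (P.subtype hPK) (fun x hx hx1 => by
      ext y
      have h3 := SetLike.ext_iff.1 (hstar x hx fun h => hx1 (Subtype.ext h)) (y : G)
      rw [Subgroup.mem_centralizer_singleton_iff, Subgroup.mem_centralizer_iff] at h3 ⊢
      exact ⟨fun h z hz => Subtype.ext (h3.1 (congrArg Subtype.val h) z hz),
        fun h => Subtype.ext (h3.2 fun z hz => congrArg Subtype.val (h ⟨z, hPK hz⟩ hz))⟩)
      _ (isCharacter_restrict hχ K) h1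
      (hdeg.trans_eq (Nat.card_congr (Subgroup.subgroupOfEquivOfLe hPK).toEquiv).symm)
    have := Sylow.characteristic_of_normal (P.subtype hPK) h2
    have h3 := ConjAct.normal_of_characteristic_of_normal (H := K)
      (K := (P.subtype hPK : Subgroup K))
    rwa [Sylow.coe_subtype, Subgroup.subgroupOf_map_subtype, inf_eq_left.2 hPK] at h3
  · have h1 : commutator G ≤ charKer χ := fun g hg => by
      rw [mem_charKer_iff_forall_constituent hχ]
      intro ψ hψ hψ'
      refine (H24.deg_eq_one_iff_commutator_le hψ).1 ?_ hg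
      by_cases h2 : ψ = fun _ => 1
      · rw [h2, H24.deg_one]
      · have := Nat.pow_le_pow_left (H24.deg_le_of_inner_ne_zero hχ hψ hψ') 2
        exact ((exists_normal_or_of_star P hstar hψ h2 (by omega)).resolve_left h).2
    exact Subgroup.Normal.of_commutator_le _ ((h1.trans hker.le).trans bot_le)

end Cfsg.Agent.H12
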