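import Cfsg.Agent.H96.VbDefs

/-! Critical subgroups of `U T` inside `Q`: the central involutions lie in `V`. -/

set_option autoImplicit false
set_option linter.unusedSimpArgs false
set_option linter.unnecessarySeqFocus false
set_option linter.unusedSectionVars false
set_option linter.unusedTactic false
set_option linter.unreachableTactic false

namespace Cfsg.Agent.H12.Vb

open Cfsg.Agent.H39 Cfsg.Agent.H15.O8 Cfsg.Agent.H96.VB Subgroup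
open scoped commutatorElement

universe u

variable {K : Type u} [Field K] [Finite K] {T : H39.Tits K}

omit [Finite K] in
theorem x4_comm (c : K) (g : U T) : g * x4 T c = x4 T c * g := cZ _ (by o8s) g

omit [Finite K] in
theorem x4_mem {P : Subgroup (U T)} (h : Cr P) (c : K) : x4 T c ∈ P :=
  h.cent fun x _ => (x4_comm c x).symm

theorem comm_eq {G : Type*} [Group G] {a x z : G} (h : a * x = z * (x * a)) : ⁅a, x⁆ = z := by
  rw [commutatorElement_def, h]; group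

/-- a root group `b` acting on the central involutions by transvections, and `y4 1` -/
theorem offk {P : Subgroup (U T)} (h : Cr P) (b : K → U T) (f : U T → K) (w : U T)
    (M : Subgroup (U T)) (badd : ∀ k l, b k * b l = b (k + l)) (b0 : b 0 = 1) (hM : z0 P ≤ M)
    (fadd : ∀ x ∈ M, ∀ y ∈ M, f (x⁻¹ * y) = f x + f y)
    (cm : ∀ c, ∀ x ∈ M, ⁅b c, x⁆ = x4 T (c * f x)) (hw : w ∈ z0 P) (fw : f w = 1)
    (nb : ∀ c, ∀ p ∈ P, ⁅b c, p⁆ ∈ P) (nt : ∀ p ∈ P, ⁅y4 T 1, p⁆ ∈ P)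
    (st : b 1 * y4 T 1 = y4 T 1 * b 1) (tP : ∀ c, w * (b c * y4 T 1) ≠ b c * y4 T 1 * w) :
    False := by
  have := T.charP
  have : Finite (U T) := Finite.of_equiv _ coordEquiv.symm
  have bi : ∀ k, (b k)⁻¹ = b k := fun k =>
    inv_eq_of_mul_eq_one_right (by rw [badd, CharTwo.add_self_eq_zero, b0])
  have x0 : x4 T 0 = 1 := rfl
  have bc : ∀ k, b k ∈ centralizer (z0 P : Set (U T)) → k = 0 := fun k hk => by
    have e := cm k w (hM hw)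
    rw [commutatorElement_eq_one_iff_mul_comm.2 (hk w hw).symm, fw, mul_one] at e
    exact (congrArg U.a4 e).symm
  let B : Subgroup (U T) :=
    { carrier := Set.range b
      one_mem' := ⟨0, b0⟩
      mul_mem' := by rintro _ _ ⟨k, rfl⟩ ⟨l, rfl⟩; exact ⟨_, (badd k l).symm⟩
      inv_mem' := by rintro _ ⟨k, rfl⟩; exact ⟨k, (bi k).symm⟩ }
  obtain ⟨_, ⟨c, rfl⟩, hc⟩ := h.off (z0 P) B K f b (b 1) (y4 T 1) ch_z0 z0_le_centralizer
    (fun x hx => hx.2.1) (by rintro _ ⟨k, rfl⟩; exact mem_normalizer_of_comm (nb k))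
    (by
      rintro _ ⟨k, rfl⟩ d - x hx
      rw [cm k x (hM hx)]
      exact commutatorElement_eq_one_iff_mul_comm.2 (x4_comm _ d))
    (by
      rintro x hx y hy e _ ⟨k, rfl⟩
      rw [cm k _ (mul_mem (inv_mem (hM hx)) (hM hy)), fadd x (hM hx) y (hM hy), e,
        CharTwo.add_self_eq_zero, mul_zero, x0])
    (fun k => ⟨k, rfl⟩)
    (fun k l e => by
      rw [bi, badd] at e
      exact CharTwo.add_eq_zero.1 (bc _ e))
    ⟨1, rfl⟩ (by rw [badd, CharTwo.add_self_eq_zero, b0]; exact one_mem _)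
    (fun e => one_ne_zero (bc _ e)) (mem_normalizer_of_comm nt)
    (by rw [show y4 T 1 * y4 T 1 = x4 T 1 by ext <;> o8s <;> o8ring T]; exact x4_mem h 1)
    (by rw [commutatorElement_eq_one_iff_mul_comm.2 st]; exact one_mem _)
    (fun e => tP 0 (by rw [b0, one_mul]; exact hw.2.2 _ e)) (fun e => tP 1 (hw.2.2 _ e))
    (y4 T 1) (mem_normalizer_of_comm nt)
  rw [bi] at hc
  exact tP c (hc w hw)

theorem x7s : X7Stmt T := by
  intro P h hP hY nb nt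
  refine offk h (x2 T) U.a7 (x7 T 1) (Y T) (fun k l => by ext <;> o8s <;> o8ring T) rfl hY ?_ ?_
    (h.mem_z0 (sqY _ (by o8s)) fun x hx => ?_) rfl nb nt (by ext <;> o8s <;> o8ring T) ?_
  · rintro x ⟨h1, h2, h3, h4, h5, h6, h7⟩ y ⟨k1, k2, k3, k4, k5, k6, k7⟩
    o8s; simp only [h1, h2, h3, h4, h5, h6, h7, k1, k2, k3, k4, k5, k6, k7]; o8ring T
  · rintro c x ⟨h1, h2, h3, h4, h5, h6, h7⟩
    refine comm_eq ?_
    ext <;> o8s <;> (try simp only [h1, h2, h3, h4, h5, h6, h7]) <;> o8ring T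
  · exact (mem_centralizer_singleton_iff.1 ((c7 1 one_ne_zero).ge (hP hx))).symm
  · intro c e
    have := ((c7 1 one_ne_zero).le (mem_centralizer_singleton_iff.2 e.symm)).2.2.2
    o8s at this
    o8g T

/-- the centralizer of `x1 t` -/
theorem c1 {t : K} (ht : t ≠ 0) {g : U T} (hg : g ∈ Q T) (h : x1 T t * g = g * x1 T t) :
    g.b4 = 0 ∧ g.b6 = 0 ∧ g.a6 = 0 ∧ g.a7 = 0 := by
  obtain ⟨a1, b2, a2, a3, b4, a4, a5, b6, a6, a7, b8, a8⟩ := g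
  obtain ⟨rfl : b8 = 0, rfl : a8 = 0⟩ := hg
  replace h := coords h
  o8s at h ⊢
  have h1' := T.θ_ne_zero.2 ht
  obtain rfl : a7 = 0 := T.θ_eq_zero.1 (by o8g T)
  obtain rfl : b6 = 0 := T.θ_eq_zero.1 (by o8g T)
  obtain rfl : b4 = 0 := by o8g T
  o8g T

/-- `X₁ X₂ X₃ X₄ X₅` -/
def M1 (T : H39.Tits K) : Subgroup (U T) where
  carrier := {g | g.b2 = 0 ∧ g.b4 = 0 ∧ g.b6 = 0 ∧ g.a6 = 0 ∧ g.a7 = 0 ∧ g.b8 = 0 ∧ g.a8 = 0}
  one_mem' := by simp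
  mul_mem' := fun {g k} ⟨h0, h1, h2, h3, h4, h5, h6⟩ ⟨k0, k1, k2, k3, k4, k5, k6⟩ => by
    simp [U.mul_b2, U.mul_b4, U.mul_b6, U.mul_a6, U.mul_a7, U.mul_b8, U.mul_a8, *]
  inv_mem' := fun {g} ⟨h0, h1, h2, h3, h4, h5, h6⟩ => by
    simp [U.inv_b2, U.inv_b4, U.inv_b6, U.inv_a6, U.inv_a7, U.inv_b8, U.inv_a8, *]

omit [Finite K] in
theorem mem_M1 {g : U T} : g ∈ M1 T ↔
    g.b2 = 0 ∧ g.b4 = 0 ∧ g.b6 = 0 ∧ g.a6 = 0 ∧ g.a7 = 0 ∧ g.b8 = 0 ∧ g.a8 = 0 := Iff.rfl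

theorem rep1' (v : U T) (h : v ∈ M1 T) (h0 : v.a1 ≠ 0) : ∃ k, k * v * k⁻¹ = x1 T v.a1 := by
  have k1 : ∀ v ∈ M1 T, v.a1 ≠ 0 → v.a3 = 0 → v.a5 = 0 → ∃ k, k * v * k⁻¹ = x1 T v.a1 := by
    rintro v ⟨h1, h2, h3, h4, h5, h6, h7⟩ h0 h8 h9
    refine ⟨x6 T (v.a4 / v.a1) * y4 T (v.a2 / v.a1), ?_⟩
    ext <;> o8s <;> (try simp only [h1, h2, h3, h4, h5, h6, h7, h8, h9]) <;> o8g T
  have k2 : ∀ v ∈ M1 T, v.a1 ≠ 0 → v.a5 = 0 → ∃ k, k * v * k⁻¹ = x1 T v.a1 := by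
    rintro v ⟨h1, h2, h3, h4, h5, h6, h7⟩ h0 h8
    obtain ⟨t, ht⟩ := θ_surj (T := T) (v.a3 / v.a1)
    have e : (y6 T t * v * (y6 T t)⁻¹).a1 = v.a1 := by o8s
    refine conj_trans rfl (e ▸ k1 _ ?_ (e ▸ h0) ?_ ?_) <;> (try rw [mem_M1]) <;>
      o8s <;> simp only [h1, h2, h3, h4, h5, h6, h7, h8, ht] <;> o8g T
  obtain ⟨h1, h2, h3, h4, h5, h6, h7⟩ := h
  obtain ⟨t, ht⟩ := θ_surj (T := T) (v.a5 / v.a1)
  have e : (x7 T t * v * (x7 T t)⁻¹).a1 = v.a1 := by o8s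
  refine conj_trans rfl (e ▸ k2 _ ?_ (e ▸ h0) ?_) <;> (try rw [mem_M1]) <;>
    o8s <;> simp only [h1, h2, h3, h4, h5, h6, h7, ht] <;> o8g T

/-- an involution outside `E` is conjugate to `x1 t` -/
theorem rep1 (v : U T) (h : v * v = 1) (hE : v ∉ E T) :
    ∃ k, k * v * k⁻¹ = x1 T v.a1 := by
  obtain ⟨u, hu, ⟨q1, q2⟩, ⟨h1, h2, h3, h4, h5, -, -⟩, -⟩ := invS v h hE
  have e : (u * v * u⁻¹).a1 = v.a1 := by o8s; o8ring T
  refine conj_trans rfl (e ▸ rep1' _ ?_ (fun k => hE (e.symm.trans k)))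
  generalize u * v * u⁻¹ = y at *
  o8s at h1 h2 h3 h4 h5
  rw [mem_M1]
  o8g T

omit [Finite K] in
theorem wlog {P : Subgroup (U T)} (h : Cr P) (hQ : P ≤ Q T) {v : U T} (hv : v ∈ z0 P) (k : U T) :
    ∃ P' : Subgroup (U T), Cr P' ∧ P' ≤ Q T ∧ k * v * k⁻¹ ∈ z0 P' := by
  obtain ⟨P', h1, h2⟩ := h.conj k
  have h3 : ∀ g ∈ P', k⁻¹ * g * k ∈ P := fun g hg => (h2 _).1 (by simpa [mul_assoc] using hg)
  refine ⟨P', h1, fun g hg => ?_, (h2 v).2 hv.1, conj_sq hv.2.1 k, fun g hg => ?_⟩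
  · simpa [mul_assoc] using nQ.conj_mem _ (hQ (h3 g hg)) k
  · calc k * v * k⁻¹ * g = k * (v * (k⁻¹ * g * k)) * k⁻¹ := by group
      _ = _ := by rw [hv.2.2 _ (h3 g hg)]; group

theorem case7 {P : Subgroup (U T)} (h : Cr P) (hQ : P ≤ Q T) {a : K} (ha : a ≠ 0)
    (hv : x7 T a ∈ z0 P) : False := by
  have hP : P ≤ Td T := fun g hg => (c7 a ha).le (mem_centralizer_singleton_iff.2 (hv.2.2 g hg).symm)
  have hR : R7 T ≤ P := fun r hr => h.cent fun g hg => by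
    obtain ⟨h1, h2, h3, h4, h5, h6, h7, h8⟩ := mem_R7.1 hr
    obtain ⟨k1, k2, k3, k4⟩ := hP hg
    obtain ⟨k5, k6⟩ := hQ hg
    ext <;> o8s <;> (try simp only [h1, h2, h3, h4, h5, h6, h7, h8, k1, k2, k3, k4, k5, k6]) <;>
      o8ring T
  refine x7s P h hP (fun g hg => ?_) (fun c g hg => hR ?_) fun g hg => hR ?_
  · obtain ⟨k1, k2, k3, k4⟩ := hP hg.1
    obtain ⟨k5, k6⟩ := hQ hg.1
    have := congrArg U.a6 hg.2.1
    o8s at this
    simp only [k1, k2, k3, k4, k5, k6] at this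
    exact ⟨k1, k2, k3, k4, nrm_eq_zero (T := T) (by o8g T), k5, k6⟩
  all_goals
    obtain ⟨k1, k2, k3, k4⟩ := hP hg
    obtain ⟨k5, k6⟩ := hQ hg
    rw [mem_R7, commutatorElement_def]
    o8s; simp only [k1, k2, k3, k4, k5, k6]
    refine ⟨?_, ?_, ?_, ?_, ?_, ?_, ?_, ?_⟩ <;> o8ring T

theorem case1 {P : Subgroup (U T)} (h : Cr P) (hQ : P ≤ Q T) {a : K} (ha : a ≠ 0)
    (hv : x1 T a ∈ z0 P) : False := by
  have hP := fun g hg => c1 ha (hQ hg) (hv.2.2 g hg)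
  have hR : ∀ r ∈ M1 T, r.a5 = 0 → ∀ g ∈ P, r * g = g * r := fun r hr h8 g hg => by
    obtain ⟨h1, h2, h3, h4, h5, h6, h7⟩ := hr
    obtain ⟨k1, k2, k3, k4⟩ := hP g hg
    obtain ⟨k5, k6⟩ := hQ hg
    ext <;> o8s <;> (try simp only [h1, h2, h3, h4, h5, h6, h7, h8, k1, k2, k3, k4, k5, k6]) <;>
      o8ring T
  have cm : ∀ c, ∀ g ∈ Q T, ⁅x6 T c, g⁆ = x4 T (c * g.a1) := by
    rintro c x ⟨h1, h2⟩
    refine comm_eq ?_
    ext <;> o8s <;> (try simp only [h1, h2]) <;> o8ring T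
  refine offk h (x6 T) U.a1 (x1 T 1) (Q T) (fun k l => by ext <;> o8s <;> o8ring T) rfl
    (fun g hg => hQ hg.1) (fun x _ y _ => by o8s; o8ring T) cm
    (h.mem_z0 (by ext <;> o8s <;> o8ring T) (hR _ (by rw [mem_M1]; o8s) rfl)) rfl
    (fun c g hg => cm c g (hQ hg) ▸ x4_mem h _) (fun g hg => h.cent (hR _ ?_ ?_))
    (by ext <;> o8s <;> o8ring T) fun c e => ?_
  · obtain ⟨k1, k2, k3, k4⟩ := hP g hg
    obtain ⟨k5, k6⟩ := hQ hg
    rw [mem_M1, commutatorElement_def]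
    o8s; simp only [k1, k2, k3, k4, k5, k6]
    refine ⟨?_, ?_, ?_, ?_, ?_, ?_, ?_⟩ <;> o8ring T
  · obtain ⟨k1, k2, k3, k4⟩ := hP g hg
    obtain ⟨k5, k6⟩ := hQ hg
    rw [commutatorElement_def]
    o8s; simp only [k1, k2, k3, k4, k5, k6]
    o8ring T
  · have := (c1 one_ne_zero (by o8s) e).1
    o8s at this
    o8g T

theorem qb : QbStmt T := by
  intro P h hQ v hv
  by_contra hV
  by_cases hE : v ∈ E T
  · have hY := (invQ v hE (hQ hv.1) hv.2.1).resolve_left hV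
    obtain ⟨k, hk⟩ := rep7 v hY hV
    obtain ⟨P', h1, h2, h3⟩ := wlog h hQ hv k
    obtain ⟨k1, k2, k3, k4, k5, k6, k7⟩ := hY
    exact case7 h1 h2 (fun e => hV ⟨k1, k2, k4, k5, e, k6, k7⟩) (hk ▸ h3)
  · obtain ⟨k, hk⟩ := rep1 v hv.2.1 hE
    obtain ⟨P', h1, h2, h3⟩ := wlog h hQ hv k
    exact case1 h1 h2 hE (hk ▸ h3)

end Cfsg.Agent.H12.Vb
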