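import Cfsg.Agent.H56.ZCKit

/-!
The step `C1bStmt`: a good element with a small block centre does not commute modulo the centre
with its conjugates by a point it moves.
-/

set_option autoImplicit false

namespace Cfsg.Agent.H12.ZcB

open Subgroup Cfsg.Agent.H56.FS Cfsg.Agent.H56.ZC
open scoped commutatorElement

universe u

variable {G : Type u} [Group G]

/-- the subgroup `{1, z}` -/
def K2 (z : G) (hz : z * z = 1) : Subgroup G where
  carrier := {c | c = 1 ∨ c = z}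
  one_mem' := Or.inl rfl
  mul_mem' := by
    rintro a b (ha | ha) (hb | hb)
    · left; rw [ha, hb, one_mul]
    · right; rw [ha, hb, one_mul]
    · right; rw [ha, hb, mul_one]
    · left; rw [ha, hb, hz]
  inv_mem' := by
    rintro a (ha | ha)
    · left; rw [ha, inv_one]
    · right; rw [ha]; exact inv_eq_of_mul_eq_one_right hz

theorem mem_K2 {z c : G} {hz : z * z = 1} : c ∈ K2 z hz ↔ c = 1 ∨ c = z := Iff.rfl

theorem K2_le {z : G} {hz : z * z = 1} (hc : z ∈ center G) : K2 z hz ≤ center G := by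
  rintro c (h | h) <;> rw [h]
  · exact one_mem _
  · exact hc

theorem sq_mul {x y : G} (hc : ⁅y, x⁆ ∈ center G) :
    (x * y) * (x * y) = ⁅y, x⁆ * ((x * x) * (y * y)) := by
  have := mem_center_iff.1 hc x
  calc (x * y) * (x * y) = (x * ⁅y, x⁆) * (x * y * y) := by
        rw [commutatorElement_def]; group
    _ = _ := by rw [this]; group

theorem pair_eq {z x y : G} (hz : z ∈ center G) (z2 : z * z = 1) (sx : x * x = z) (sy : y * y = z)
    (c : ⁅y, x⁆ ∈ K2 z z2) (n : (x * y) * (x * y) ≠ 1) :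
    ⁅y, x⁆ = z ∧ (x * y) * (x * y) = z := by
  have e := sq_mul (K2_le hz c)
  rw [sx, sy, z2, mul_one] at e
  rcases c with c | c
  · exact (n (e.trans c)).elim
  · exact ⟨c, e.trans c⟩

theorem seven {z x1 x2 x3 : G} (hz : z ∈ center G) (z2 : z * z = 1)
    (s1 : x1 * x1 ∈ K2 z z2) (s2 : x2 * x2 ∈ K2 z z2) (s3 : x3 * x3 ∈ K2 z z2)
    (c21 : ⁅x2, x1⁆ ∈ K2 z z2) (c31 : ⁅x3, x1⁆ ∈ K2 z z2) (c32 : ⁅x3, x2⁆ ∈ K2 z z2)
    (n1 : x1 * x1 ≠ 1) (n2 : x2 * x2 ≠ 1) (n3 : x3 * x3 ≠ 1)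
    (n12 : (x1 * x2) * (x1 * x2) ≠ 1) (n13 : (x1 * x3) * (x1 * x3) ≠ 1)
    (n23 : (x2 * x3) * (x2 * x3) ≠ 1) : (x1 * x2 * x3) * (x1 * x2 * x3) = 1 := by
  have e1 := s1.resolve_left n1
  have e2 := s2.resolve_left n2
  have e3 := s3.resolve_left n3
  have p12 := pair_eq hz z2 e1 e2 c21 n12
  have p13 := pair_eq hz z2 e1 e3 c31 n13
  have p23 := pair_eq hz z2 e2 e3 c32 n23
  have c : ⁅x3, x1 * x2⁆ = 1 := by
    have : ⁅x3, x1 * x2⁆ = ⁅x3, x1⁆ * (x1 * ⁅x3, x2⁆ * x1⁻¹) := by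
      simp only [commutatorElement_def]; group
    rw [this, p13.1, p23.1, mem_center_iff.1 hz x1, mul_inv_cancel_right, z2]
  rw [sq_mul (by rw [c]; exact one_mem _), c, p12.2, e3, z2, one_mul]

theorem norm_Ce {g x : G} (hc : ⁅g, x⁆ ∈ center G) : g ∈ normalizer (Ce x : Set G) := by
  rw [← cj_eq_iff, cj_Ce]
  have e : g * x * g⁻¹ = ⁅g, x⁆ * x := by rw [commutatorElement_def]; group
  rw [e]
  ext y
  have := mem_center_iff.1 hc y
  rw [mem_Ce, mem_Ce, ← mul_assoc, this, mul_assoc, mul_assoc, mul_left_cancel_iff]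

theorem comm_split {u t v : G} (hu : u * t = t * u) (hv : v * t = t * v) :
    ⁅u * t, v * t⁆ = ⁅u, v⁆ := by
  simp only [commutatorElement_def]
  calc u * t * (v * t) * (u * t)⁻¹ * (v * t)⁻¹ = u * (t * v) * u⁻¹ * (v * t)⁻¹ := by group
    _ = u * v * (t * u⁻¹ * t⁻¹) * v⁻¹ := by rw [← hv]; group
    _ = _ := by
      have : t * u⁻¹ * t⁻¹ = u⁻¹ := by
        calc t * u⁻¹ * t⁻¹ = u⁻¹ * (u * t) * u⁻¹ * t⁻¹ := by group
          _ = _ := by rw [hu]; group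
      rw [this]

variable {p : ℕ} {D : Set (Subgroup G)}

theorem dd_eq {d u : G} {Y L : Subgroup G} (hY : Y ≤ L) (hu : u ∈ L)
    (ht : u⁻¹ * d ∈ centralizer (L : Set G)) {b : G} (hb : b ∈ Y) :
    ⁅d, b * d * b⁻¹⁆ = ⁅u, b * u * b⁻¹⁆ := by
  have h1 := ht u hu
  have h2 := ht b (hY hb)
  have h3 := ht _ (mul_mem (mul_mem (hY hb) hu) (inv_mem (hY hb)))
  have e1 : d = u * (u⁻¹ * d) := by group
  have e2 : b * d * b⁻¹ = (b * u * b⁻¹) * (u⁻¹ * d) := by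
    calc b * d * b⁻¹ = b * u * ((u⁻¹ * d) * b⁻¹) := by group
      _ = b * u * b⁻¹ * ((b * (u⁻¹ * d)) * b⁻¹) := by group
      _ = _ := by rw [h2]; group
  rw [e2]
  conv_lhs => rw [e1]
  simpa using comm_split h1 h3

theorem cj_ZZ (hinv : ∀ A ∈ D, ∀ g : G, cj g A ∈ D) {g e : G} {X : Subgroup G}
    (he : e ∈ ZZ D X) : g * e * g⁻¹ ∈ ZZ D (cj g X) := by
  refine ⟨cj_RR hinv g X ▸ conj_mem_cj he.1, fun y hy => ?_⟩
  have hy' : y ∈ cj g (LL D X) := by rw [cj_LL hinv]; exact hy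
  have := he.2 _ (mem_cj.1 hy')
  calc y * (g * e * g⁻¹) = g * (g⁻¹ * y * g * e) * g⁻¹ := by group
    _ = _ := by rw [this]; group

theorem conj_center {g z : G} (hz : g * z * g⁻¹ ∈ center G) : z ∈ center G := by
  have := (inferInstance : (center G).Normal).conj_mem _ hz g⁻¹
  simpa [mul_assoc] using this

theorem gz_cj (hinv : ∀ A ∈ D, ∀ g : G, cj g A ∈ D) {d : G} (hd : Gz D d) (g : G) :
    Gz D (g * d * g⁻¹) := by
  refine ⟨fun h => hd.1 (conj_center h), ?_⟩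
  rw [← cj_Ce, ← cj_RR hinv]
  exact conj_mem_cj hd.2

theorem big_cj (hinv : ∀ A ∈ D, ∀ g : G, cj g A ∈ D) {d g : G} (hb : Big D (g * d * g⁻¹)) :
    Big D d := by
  obtain ⟨e, he, e1, e2⟩ := hb
  have h1 := cj_ZZ hinv (g := g⁻¹) he
  rw [cj_Ce] at h1
  have h2 : g⁻¹ * (g * d * g⁻¹) * g⁻¹⁻¹ = d := by group
  rw [h2] at h1
  refine ⟨_, h1, fun h => e1 (conj_center h), fun h => e2 (conj_center (g := g⁻¹) ?_)⟩
  have : g⁻¹ * (g * d * g⁻¹ * e) * g⁻¹⁻¹ = d * (g⁻¹ * e * g⁻¹⁻¹) := by group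
  rwa [this]

theorem Ce_ne {d : G} (hd : d ∉ center G) : Ce d ≠ ⊤ := fun e =>
  hd (mem_center_iff.2 fun g => mem_Ce.1 (e ▸ mem_top g))

theorem mem_E {d : G} (hd : Gz D d) : d ∈ Ez D d := ⟨hd.2, le_Ce_iff.1 (LL_le _)⟩

/-- the final contradiction inside one block -/
theorem core [Finite G] (h : Fx p D) {X A : Subgroup G} (hX : Sv D X) (hA : A ∈ D) (hAX : A ≤ X)
    {z t u : G} (hz : z ∈ center G) (z2 : z * z = 1) (hu : u ∈ RR D X) (hAt : A ≤ Ce t)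
    (ht : t ∈ normalizer (LL D X : Set G)) (htu : u * t = t * u) (tt : t * t ∈ center G)
    (uu : u * u ∈ K2 z z2) (tE : ∀ e ∈ ZZ D X, ⁅t, e⁆ ∈ K2 z z2) (hne : ¬ LL D X ≤ Ce t) :
    ∃ y ∈ RR D X, u * (y⁻¹ * (t * y * t⁻¹)) ∈ ZZ D X := by
  by_contra hcon
  push Not at hcon
  have tR : ∀ x ∈ RR D X, t * x * t⁻¹ ∈ RR D X := fun x hx =>
    (mem_normalizer_iff.1 (norm_RR X ht) x).1 hx
  have nR : ∀ x ∈ RR D X, x⁻¹ * (t * x * t⁻¹) ∈ RR D X := fun x hx =>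
    mul_mem (inv_mem hx) (tR x hx)
  have nS : ∀ x ∈ RR D X, ⁅t, x⁻¹ * (t * x * t⁻¹)⁆ ∈ ZZ D X := fun x hx => by
    have e := mem_center_iff.1 tt x
    have : ⁅t, x⁻¹ * (t * x * t⁻¹)⁆ = ((x⁻¹ * (t * x * t⁻¹)) * (x⁻¹ * (t * x * t⁻¹)))⁻¹ := by
      rw [commutatorElement_def]
      calc _ = t * x⁻¹ * t⁻¹ * ((t * t) * x) * (t * t)⁻¹ * (x⁻¹ * (t * x * t⁻¹))⁻¹ := by group
        _ = _ := by rw [← e]; group
    rw [this]
    exact inv_mem (h.sq X hX _ (nR x hx))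
  have cK : ∀ x ∈ RR D X, ∀ y ∈ RR D X, ⁅t, y⁆ ∈ ZZ D X →
      ⁅x⁻¹ * (t * x * t⁻¹), y⁆ ∈ K2 z z2 := fun x hx y hy hty => by
    rw [h.t1 X hX t ht x hx y hy hty]
    exact tE _ (h.cm X hX x hx y hy)
  have bR : ∀ b ∈ A, ∀ x ∈ RR D X, b * x * b⁻¹ ∈ RR D X := fun b hb x hx =>
    (mem_normalizer_iff.1 (LL_le_norm_RR X (le_LL hA hAX hb)) x).1 hx
  have bn : ∀ b ∈ A, ∀ x : G, b * (x⁻¹ * (t * x * t⁻¹)) * b⁻¹ =
      (b * x * b⁻¹)⁻¹ * (t * (b * x * b⁻¹) * t⁻¹) := fun b hb x => by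
    have e := mem_Ce.1 (hAt hb)
    calc _ = b * x⁻¹ * b⁻¹ * (b * t) * x * (b * t)⁻¹ := by group
      _ = _ := by rw [e]; group
  have sK : ∀ x ∈ RR D X, (x⁻¹ * (t * x * t⁻¹)) * (x⁻¹ * (t * x * t⁻¹)) ∈ K2 z z2 := fun x hx => by
    refine (closure_le (K2 z z2)).2 ?_
      (h.uc X hX A hA hAX _ (nR x hx) (h.sq2 X hX A hA hAX _ (nR x hx)))
    rintro _ ⟨b, hb, rfl⟩
    refine cK x hx _ (bR b hb _ (nR x hx)) ?_
    rw [bn b hb]
    exact nS _ (bR b hb x hx)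
  obtain ⟨x, hx, hn⟩ : ∃ x ∈ RR D X, x⁻¹ * (t * x * t⁻¹) ∉ ZZ D X := by
    by_contra hc
    push Not at hc
    exact hne ((h.t2 X hX A hA hAX t hAt ht).2 hc)
  obtain ⟨b, hb, b1, -⟩ := h.toBs2.exists_gen hA
  have hx' := bR b hb x hx
  have uS : ⁅t, u⁆ ∈ ZZ D X := by
    rw [commutatorElement_eq_one_iff_mul_comm.2 htu.symm]; exact one_mem _
  have ne := h.nc X hX A hA hAX b hb b1 _ (nR x hx) hn
  rw [bn b hb] at ne
  set x' := b * x * b⁻¹ with hx'def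
  have rn := nR x hx
  have rn' := nR x' hx'
  have hn' : x'⁻¹ * (t * x' * t⁻¹) ∉ ZZ D X := fun e =>
    ne (commutatorElement_eq_one_iff_mul_comm.2 (ZZ_comm e (RR_le X rn)))
  have hnn : (x⁻¹ * (t * x * t⁻¹)) * (x'⁻¹ * (t * x' * t⁻¹)) ∉ ZZ D X := fun e => by
    have := ZZ_comm e (RR_le X rn)
    rw [mul_assoc (x⁻¹ * (t * x * t⁻¹)) (x'⁻¹ * (t * x' * t⁻¹)), mul_left_cancel_iff] at this
    exact ne (commutatorElement_eq_one_iff_mul_comm.2 this)
  have h0 : u ∉ ZZ D X := fun e => hcon 1 (one_mem _) (by simpa using e)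
  have h3 : u * (x⁻¹ * (t * x * t⁻¹)) * (x'⁻¹ * (t * x' * t⁻¹)) ∉ ZZ D X := fun e => by
    refine hcon (x * x') (mul_mem hx hx') ?_
    have c := h.cm X hX _ (inv_mem hx') _ rn
    have c' := ZZ_comm c (RR_le X hu)
    have : u * ((x * x')⁻¹ * (t * (x * x') * t⁻¹)) =
        (u * ⁅x'⁻¹, x⁻¹ * (t * x * t⁻¹)⁆) * (x⁻¹ * (t * x * t⁻¹)) * (x'⁻¹ * (t * x' * t⁻¹)) := by
      rw [commutatorElement_def]; group
    rw [this, c', mul_assoc, mul_assoc, ← mul_assoc u]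
    exact mul_mem c e
  exact h.an' X hX _ (mul_mem (mul_mem hu rn) rn') h3
    (seven hz z2 uu (sK x hx) (sK x' hx') (cK x hx u hu uS) (cK x' hx' u hu uS)
      (cK x' hx' _ rn (nS x hx)) (h.an' X hX _ hu h0) (h.an' X hX _ rn hn) (h.an' X hX _ rn' hn')
      (h.an' X hX _ (mul_mem hu rn) (hcon x hx)) (h.an' X hX _ (mul_mem hu rn') (hcon x' hx'))
      (h.an' X hX _ (mul_mem rn rn') hnn))

theorem c1b (c : C1aStmt.{u}) : C1bStmt.{u} := by
  intro G _ _ p D h d hd nb Y hY hYd a ha a1 hc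
  have svd := h.sol _ (Ce_ne hd.1)
  have d2 : d * d = 1 := h.e2 _ svd d (mem_E hd)
  have dZ : d * d ∈ center G := by rw [d2]; exact one_mem _
  have fix : ∀ A ∈ D, cj d A = A → A ≤ Ce d := fun A hA e =>
    le_Ce_iff.2 (h.eps A hA (cj_eq_iff.1 e))
  -- the commutator is not trivial
  have z1 : ⁅d, a * d * a⁻¹⁆ ≠ 1 := by
    obtain ⟨u, hu, hu', ht⟩ := h.tr d dZ Y hY fun e => hYd (fix Y hY e)
    rw [dd_eq le_sup_left (LL_le _ (RR_le _ hu)) ht ha]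
    exact h.nc _ (h.toCl2.sol_pair hY (h.inv Y hY d)) Y hY le_sup_left a ha a1 u hu hu'
  have hd' := gz_cj h.inv hd a
  have nb' : ¬ Big D (a * d * a⁻¹) := fun e => nb (big_cj h.inv e)
  generalize a * d * a⁻¹ = d' at hc z1 hd' nb'
  have t' := Ce_ne hd'.1
  have sv := h.sol _ t'
  have d2' : d' * d' = 1 := h.e2 _ sv d' (mem_E hd')
  have i' : d'⁻¹ = d' := inv_eq_of_mul_eq_one_right d2'
  set z := ⁅d, d'⁆ with hz
  have z2 : z * z = 1 := by
    have e := mem_center_iff.1 hc d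
    have i : d⁻¹ = d := inv_eq_of_mul_eq_one_right d2
    calc z * z = d⁻¹ * (d * z) * z := by group
      _ = d⁻¹ * z * d * z := by rw [e]; group
      _ = d⁻¹ * (d * d' * d⁻¹ * d'⁻¹) * (d * d) * d' * d⁻¹ * d'⁻¹ := by
        rw [hz, commutatorElement_def]; group
      _ = d' * (d⁻¹ * d⁻¹) * d'⁻¹ := by rw [d2]; group
      _ = 1 := by rw [i, d2]; group
  have zi : z⁻¹ = z := inv_eq_of_mul_eq_one_right z2
  have zc : ⁅d', d⁆ = z := by rw [← commutatorElement_inv, ← hz, zi]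
  have nd : d ∈ normalizer (Ce d' : Set G) := norm_Ce hc
  have ndL : d ∈ normalizer (LL D (Ce d') : Set G) := norm_LL h.inv _ nd
  have nd' : d' ∈ normalizer (Bk D d : Set G) := norm_LL h.inv _ (norm_Ce (zc ▸ hc))
  have dL : d' ∈ LL D (Ce d') := RR_le _ hd'.2
  have ncm : d' ∉ Ce d := fun e => z1 (commutatorElement_eq_one_iff_mul_comm.2 (mem_Ce.1 e).symm)
  have nofix : ∀ A ∈ D, A ≤ Ce d' → cj d A ≠ A := fun A hA hAd e =>
    ncm (h.n1 d hd _ t' A hA hAd (fix A hA e) ndL dL)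
  have small : ∀ e ∈ Ez D d', e ∈ center G ∨ d' * e ∈ center G := fun e he => by
    by_contra hne
    push Not at hne
    exact nb' ⟨e, he, hne.1, hne.2⟩
  obtain ⟨A, hA, hAd⟩ := exists_pt_of_RR (D := D) (X := Ce d') fun e =>
    hd'.1 (by
      have : d' = 1 := mem_bot.1 (e ▸ hd'.2)
      rw [this]; exact one_mem _)
  have hA' := h.inv A hA d
  have hL : A ⊔ cj d A ≤ Ce d' := sup_le hAd (cj_le_of_norm nd hAd)
  have svL := h.toCl2.sol_pair hA hA'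
  obtain ⟨u, hu, hu', ht⟩ := h.tr d dZ A hA (nofix A hA hAd)
  have uL : u ∈ A ⊔ cj d A := LL_le _ (RR_le _ hu)
  have uR : u ∈ RR D (Ce d') := RR_mono hL hu
  set t := u⁻¹ * d with htdef
  have dt : d = u * t := by rw [htdef]; group
  have ut : u * t = t * u := ht u uL
  have ZL : ZZ D (A ⊔ cj d A) ≤ center G := by
    refine (h.uu A hA _ hA' u hu hu').trans ((closure_le _).2 ?_)
    rintro _ ⟨w, hw, hwu, rfl⟩
    refine (small _ (h.sq _ sv w (RR_mono hL hw))).resolve_right fun e => ncm ?_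
    have wt : Commute w t := ht w (LL_le _ (RR_le _ hw))
    have wd : Commute (w * w) d := by
      have : Commute w d := dt ▸ hwu.mul_right wt
      exact this.mul_left this
    have e' : Commute (d' * (w * w)) d := (mem_center_iff.1 e d).symm
    have : d' = d' * (w * w) * (w * w)⁻¹ := by group
    rw [mem_Ce, this]
    exact (e'.mul_left wd.inv_left).eq
  have uK : u * u ∈ K2 z z2 := by
    refine (closure_le (K2 z z2)).2 ?_
      (h.uc _ svL A hA le_sup_left u hu (h.sq2 _ svL A hA le_sup_left u hu))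
    rintro _ ⟨b, hb, rfl⟩
    have e := dd_eq le_sup_left uL ht hb
    have m1 : ⁅d, b * d * b⁻¹⁆ ∈ center G := by
      rw [e]
      exact ZL (h.cm _ svL u hu _
        ((mem_normalizer_iff.1 (LL_le_norm_RR _ (le_LL hA le_sup_left hb)) u).1 hu))
    have m2 : ⁅b * d * b⁻¹, d⁆ ∈ center G := by
      rw [← commutatorElement_inv]; exact inv_mem m1
    have m3 : ⁅b * d * b⁻¹, d⁆ ∈ K2 z z2 := by
      by_cases m : ⁅b * d * b⁻¹, d⁆ = 1
      · exact Or.inl m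
      · exact Or.inr ((c G p D h d hd nb _ (norm_LL h.inv _ (norm_Ce m2)) d' nd' m
          (zc ▸ z1)).trans zc)
    rw [SetLike.mem_coe, ← e, ← commutatorElement_inv]
    exact inv_mem m3
  have tt : t * t ∈ center G := by
    have : t * t = (u * u)⁻¹ := by
      refine (inv_eq_of_mul_eq_one_right ?_).symm
      calc u * u * (t * t) = u * (u * t) * t := by group
        _ = u * (t * u) * t := by rw [ut]
        _ = (u * t) * (u * t) := by group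
        _ = 1 := by rw [← dt, d2]
    rw [this]
    exact inv_mem (K2_le hc uK)
  have tE' : ∀ e ∈ Ez D d', ⁅d, e⁆ ∈ center G → ⁅t, e⁆ = ⁅d, e⁆ := fun e he hce => by
    have e1 := ZZ_comm he (RR_le _ uR)
    have e2 := mem_center_iff.1 hce u⁻¹
    calc ⁅t, e⁆ = (u⁻¹ * ⁅d, e⁆) * (e * u) * e⁻¹ := by
          rw [htdef]; simp only [commutatorElement_def]; group
      _ = _ := by rw [e2, ← e1]; group
  have tE : ∀ e ∈ Ez D d', ⁅t, e⁆ ∈ K2 z z2 := fun e he => by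
    rcases small e he with hs | hs
    · exact Or.inl (commutatorElement_eq_one_iff_mul_comm.2 (mem_center_iff.1 hs t))
    · have : ⁅d, e⁆ = z := by
        have e1 := mem_center_iff.1 hs d⁻¹
        calc ⁅d, e⁆ = d * d'⁻¹ * (d' * e * d⁻¹) * (d' * e)⁻¹ * d' := by
              rw [commutatorElement_def]; group
          _ = d * d'⁻¹ * d⁻¹ * d' := by rw [← e1]; group
          _ = z := by rw [hz, commutatorElement_def, i']
      rw [tE' e he (this ▸ hc), this]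
      exact Or.inr rfl
  have hne : ¬ LL D (Ce d') ≤ Ce t := fun e => by
    have := tE' d' (mem_E hd') hc
    rw [commutatorElement_eq_one_iff_mul_comm.2 (mem_Ce.1 (e dL)).symm] at this
    exact z1 this.symm
  have At : A ≤ Ce t := le_Ce_iff.2 fun x hx => ht x (mem_sup_left hx)
  obtain ⟨y, hy, hyE⟩ := core h sv hA hAd hc z2 uR At
    (mul_mem (inv_mem (le_normalizer (RR_le _ uR))) ndL) ut tt uK tE hne
  refine nofix (cj y A) (h.inv A hA y) (cj_le_of_mem (LL_le _ (RR_le _ hy)) hAd) ?_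
  have e1 : d * y = y * ((⁅y⁻¹, u⁆ * (u * (y⁻¹ * (t * y * t⁻¹)))) * t) := by
    rw [commutatorElement_def]
    conv_lhs => rw [dt]
    group
  have e2 : ⁅y⁻¹, u⁆ * (u * (y⁻¹ * (t * y * t⁻¹))) ∈ centralizer (A : Set G) := fun x hx =>
    ZZ_comm (mul_mem (h.cm _ sv _ (inv_mem hy) u uR) hyE) (le_LL hA hAd hx)
  rw [cj_cj, e1, ← cj_cj, cj_of_cent (mul_mem e2 (le_Ce_iff.1 At))]

end Cfsg.Agent.H12.ZcB
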